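import Groth.Agent.Lib.Helper29.QCohQcqs
import Mathlib.AlgebraicGeometry.Sites.SmallAffineZariski
/-!
# Morphisms of `O_S`-modules from data on the affine opens
-/
universe u
open CategoryTheory CategoryTheory.Limits AlgebraicGeometry Opposite TopologicalSpace
open AlgebraicGeometry.Scheme.AffineZariskiSite
open Groth.Agent.Lib.Helper29.QCoh

namespace Groth.Agent.Lib.Helper3

variable {S : Scheme.{u}}

/-- Two sections of an `O_S`-module agreeing on all affine opens are equal. -/
theorem section_ext_aff (N : S.Modules) {U : S.Opens} (s t : Γ(N, U))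
    (h : ∀ (V : S.Opens) (_ : IsAffineOpen V) (hVU : V ≤ U), res N hVU s = res N hVU t) :
    s = t := by
  rw [← sub_eq_zero]
  refine eq_zero_of_res_cover_eq_zero N
    (fun V : {V : S.affineOpens // V.1 ≤ U} => V.1.1) (fun V => V.2) ?_ (s - t) ?_
  · intro x hx
    obtain ⟨_, ⟨V, hV : IsAffineOpen V, rfl⟩, hxV, hVU⟩ :=
      S.isBasis_affineOpens.exists_subset_of_mem_open hx U.isOpen
    exact Opens.mem_iSup.mpr ⟨⟨⟨V, hV⟩, hVU⟩, hxV⟩
  · intro V
    rw [map_sub, sub_eq_zero]
    exact h V.1.1 V.1.2 V.2

/-- The underlying sheaf of abelian groups of an `O_S`-module. -/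
noncomputable def abSheaf (N : S.Modules) : TopCat.Sheaf AddCommGrpCat.{u} S.carrier :=
  ⟨N.presheaf, N.isSheaf⟩

/-- Two morphisms of modules agreeing on the affine opens are equal. -/
theorem modulesHom_ext_aff {E N : S.Modules} {f g : E ⟶ N}
    (h : ∀ (U : S.Opens) (_ : IsAffineOpen U) (m : Γ(E, U)), f.app U m = g.app U m) : f = g := by
  refine Scheme.Modules.hom_ext _ _ fun U => ?_
  ext m
  refine section_ext_aff N _ _ fun V hV hVU => ?_
  have h1 : res N hVU (f.app U m) = f.app V (res E hVU m) := (app_res f hVU m).symm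
  have h2 : res N hVU (g.app U m) = g.app V (res E hVU m) := (app_res g hVU m).symm
  rw [h1, h2, h V hV]

/-- Affine-local data for a morphism of modules. -/
structure AffHomData (E N : S.Modules) where
  t : ∀ (U : S.Opens) (_ : IsAffineOpen U), Γ(E, U) →+ Γ(N, U)
  res_t : ∀ (U : S.Opens) (hU : IsAffineOpen U) (f : Γ(S, U)) (m : Γ(E, U)),
    res N (S.basicOpen_le f) (t U hU m) =
      t (S.basicOpen f) (hU.basicOpen f) (res E (S.basicOpen_le f) m)
  t_smul : ∀ (U : S.Opens) (hU : IsAffineOpen U) (r : Γ(S, U)) (m : Γ(E, U)),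
    t U hU (r • m) = r • t U hU m

namespace AffHomData

variable {E N : S.Modules} (D : AffHomData E N)

/-- The natural transformation on the affine site. -/
noncomputable def nat : (toOpensFunctor S).op ⋙ E.presheaf ⟶ (toOpensFunctor S).op ⋙ N.presheaf where
  app W := AddCommGrpCat.ofHom (D.t W.unop.1 W.unop.2)
  naturality W W' i := by
    obtain ⟨W⟩ := W
    obtain ⟨W'⟩ := W'
    obtain ⟨f, hf⟩ := i.unop.le
    obtain rfl : W' = ⟨S.basicOpen f, W.2.basicOpen f⟩ := Subtype.ext hf.symm
    ext m
    exact (D.res_t W.1 W.2 f m).symm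

/-- The extension to a morphism of presheaves of abelian groups. -/
noncomputable def presheafHom : E.presheaf ⟶ N.presheaf :=
  Functor.IsCoverDense.restrictHomEquivHom (G := toOpensFunctor S)
    (K := Opens.grothendieckTopology S) (ℱ := E.presheaf) (ℱ' := abSheaf N) D.nat

theorem presheafHom_app (U : S.Opens) (hU : IsAffineOpen U) (m : Γ(E, U)) :
    D.presheafHom.app (op U) m = D.t U hU m := by
  have h := NatTrans.congr_app ((Functor.IsCoverDense.restrictHomEquivHom (G := toOpensFunctor S)
    (K := Opens.grothendieckTopology S) (ℱ := E.presheaf)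
    (ℱ' := abSheaf N)).symm_apply_apply D.nat) (op (⟨U, hU⟩ : S.AffineZariskiSite))
  exact congrArg (fun k => k.hom m) h

theorem presheafHom_res {U V : S.Opens} (h : V ≤ U) (m : Γ(E, U)) :
    res N h (D.presheafHom.app (op U) m) = D.presheafHom.app (op V) (res E h m) :=
  (congrArg (fun k => k.hom m) (D.presheafHom.naturality (homOfLE h).op)).symm

theorem presheafHom_smul (U : S.Opens) (r : Γ(S, U)) (m : Γ(E, U)) :
    D.presheafHom.app (op U) (r • m) = r • D.presheafHom.app (op U) m := by
  refine section_ext_aff N _ _ fun V hV hVU => ?_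
  rw [presheafHom_res, res_smul, res_smul, presheafHom_res, presheafHom_app D V hV,
    presheafHom_app D V hV, D.t_smul]

/-- The morphism of modules attached to affine-local data. -/
noncomputable def hom : E ⟶ N :=
  (⟨PresheafOfModules.homMk D.presheafHom (fun W r m => D.presheafHom_smul W.unop r m)⟩ :
    SheafOfModules.Hom (R := S.ringCatSheaf) E N)

theorem hom_app (U : S.Opens) (hU : IsAffineOpen U) (m : Γ(E, U)) :
    D.hom.app U m = D.t U hU m :=
  D.presheafHom_app U hU m

end AffHomData

end Groth.Agent.Lib.Helper3
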