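import Groth.Agent.Lib.Helper29.QCohQcqs
import Groth.Agent.Lib.Helper29.QCohExact
import Groth.Agent.Lib.Helper29.QCohBasic
universe u
open CategoryTheory CategoryTheory.Limits AlgebraicGeometry Opposite TopologicalSpace
open Groth.Agent.Lib.Helper29.QCoh

namespace Groth.Agent.Lib.Helper3
variable {X : Scheme.{u}}

theorem isUnit_germ_of_mem_basicOpen' {U : X.Opens} (r : Γ(X, U)) (x : X) (hx : x ∈ U)
    (hxr : x ∈ X.basicOpen r) : IsUnit (X.presheaf.germ U x hx r) :=
  (Scheme.mem_basicOpen _ _ _ hx).mp hxr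

/-- A morphism of quasi-coherent modules which is bijective on sections over an affine open is
bijective on the stalks at the points of this open. -/
theorem stalkMap_bijective_of_app_bijective {M N : X.Modules} [M.IsQuasicoherent]
    [N.IsQuasicoherent] (φ : M ⟶ N) {U : X.Opens} (hU : IsAffineOpen U)
    (hφ : Function.Bijective (φ.app U)) (x : X) (hx : x ∈ U) :
    Function.Bijective (stalkMap φ x) := by
  constructor
  · rw [injective_iff_map_eq_zero]
    intro t ht
    obtain ⟨r, m, hr, hrm⟩ := exists_smul_germ_eq M hU x hx t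
    have h1 : N.presheaf.germ U x hx (φ.app U m) = 0 := by
      rw [← stalkMap_germ, ← hrm, stalkMap_smul, ht, smul_zero]
    obtain ⟨r', hr', h2⟩ := exists_smul_eq_zero_of_germ_eq_zero N hU x hx _ h1
    have h3 : r' • m = 0 := by
      apply hφ.1
      rw [Scheme.Modules.Hom.app_smul, h2, map_zero]
    have h4 : M.presheaf.germ U x hx m = 0 := by
      have := congrArg (M.presheaf.germ U x hx) h3
      rw [germ_smul, map_zero] at this
      exact (isUnit_germ_of_mem_basicOpen' r' x hx hr').smul_eq_zero.mp this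
    rw [h4] at hrm
    exact (isUnit_germ_of_mem_basicOpen' r x hx hr).smul_eq_zero.mp hrm
  · intro t'
    obtain ⟨r, n, hr, hrn⟩ := exists_smul_germ_eq N hU x hx t'
    obtain ⟨m, rfl⟩ := hφ.2 n
    obtain ⟨u, hu⟩ := (isUnit_germ_of_mem_basicOpen' r x hx hr).exists_left_inv
    refine ⟨u • M.presheaf.germ U x hx m, ?_⟩
    rw [stalkMap_smul, stalkMap_germ, ← hrn, smul_smul, hu, one_smul]

end Groth.Agent.Lib.Helper3
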