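import Groth.Agent.Lib.Helper29.QCohQcqs
import Groth.Agent.Lib.Helper29.QCohCrit
import Mathlib.Algebra.Category.ModuleCat.Presheaf.Submodule
/-!
# Subsheaves of a sheaf of modules on a scheme, given by families of submodules of sections

`SubSh F`: a family of submodules `carrier T ⊆ Γ(F, T)` stable under restriction and local.
`SubSh.toModules`: the associated `O_X`-module with its monomorphism `SubSh.ι` to `F`.
-/
universe u v
open CategoryTheory CategoryTheory.Limits AlgebraicGeometry Opposite TopologicalSpace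
open Groth.Agent.Lib.Helper29.QCoh

namespace Groth.Agent.Lib.Helper3

variable {X : Scheme.{u}}

/-- A subsheaf of an `O_X`-module, as a family of submodules of sections. -/
structure SubSh (F : X.Modules) where
  carrier : ∀ T : X.Opens, Submodule Γ(X, T) Γ(F, T)
  res_mem : ∀ {T T' : X.Opens} (h : T' ≤ T) {s : Γ(F, T)}, s ∈ carrier T → res F h s ∈ carrier T'
  local_mem : ∀ (T : X.Opens) (s : Γ(F, T)),
    (∀ x ∈ T, ∃ (T' : X.Opens) (h : T' ≤ T), x ∈ T' ∧ res F h s ∈ carrier T') → s ∈ carrier T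

namespace SubSh

variable {F : X.Modules} (N : SubSh F)

/-- The associated family of submodules of the underlying presheaf of modules. -/
def toSubmodule : PresheafOfModules.Submodule F.val where
  obj T := N.carrier T.unop
  map {T T'} f := fun s hs => N.res_mem (leOfHom f.unop) hs

/-- The underlying presheaf of modules. -/
noncomputable def toPresheafOfModules : PresheafOfModules X.ringCatSheaf.obj :=
  N.toSubmodule.toPresheafOfModules

theorem isSheaf : Presheaf.IsSheaf (Opens.grothendieckTopology X) N.toPresheafOfModules.presheaf := by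
  change TopCat.Presheaf.IsSheaf (N.toPresheafOfModules.presheaf : TopCat.Presheaf Ab X)
  rw [TopCat.Presheaf.isSheaf_iff_isSheafUniqueGluing]
  intro ι U sf hsf
  have hc : ∀ i j, res F (inf_le_left : U i ⊓ U j ≤ U i) (sf i).1 =
      res F (inf_le_right : U i ⊓ U j ≤ U j) (sf j).1 := by
    intro i j
    exact congrArg Subtype.val (hsf i j)
  obtain ⟨s, hs⟩ := exists_gluing F U (iSup U) (fun i => le_iSup U i) le_rfl (fun i => (sf i).1) hc
  have hsN : s ∈ N.carrier (iSup U) := by
    apply N.local_mem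
    intro x hx
    obtain ⟨i, hi⟩ := Opens.mem_iSup.mp hx
    exact ⟨U i, le_iSup U i, hi, by rw [hs i]; exact (sf i).2⟩
  refine ⟨⟨s, hsN⟩, ?_, ?_⟩
  · intro i
    apply Subtype.ext
    exact hs i
  · intro t ht
    apply Subtype.ext
    have h0 : (show Γ(F, iSup U) from t.1) - s = 0 := by
      refine eq_zero_of_res_cover_eq_zero F U (fun i => le_iSup U i) le_rfl _ (fun i => ?_)
      rw [map_sub, hs i]
      exact sub_eq_zero.mpr (congrArg Subtype.val (ht i))
    exact sub_eq_zero.mp h0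

/-- The `O_X`-module associated to a subsheaf. -/
noncomputable def toModules : X.Modules :=
  (⟨N.toPresheafOfModules, N.isSheaf⟩ : SheafOfModules X.ringCatSheaf)

/-- The inclusion of a subsheaf. -/
noncomputable def ι : N.toModules ⟶ F :=
  (⟨N.toSubmodule.ι⟩ : SheafOfModules.Hom (R := X.ringCatSheaf) N.toModules F)

/-- Sections of the subsheaf from sections of `F` lying in the carrier. -/
def mkSec (T : X.Opens) (s : Γ(F, T)) (hs : s ∈ N.carrier T) : Γ(N.toModules, T) :=
  (⟨s, hs⟩ : N.carrier T)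

theorem ι_app_mkSec (T : X.Opens) (s : Γ(F, T)) (hs : s ∈ N.carrier T) :
    N.ι.app T (N.mkSec T s hs) = s := rfl

theorem ι_app_mem (T : X.Opens) (t : Γ(N.toModules, T)) : N.ι.app T t ∈ N.carrier T :=
  (show N.carrier T from t).2

theorem ι_app_injective (T : X.Opens) : Function.Injective (N.ι.app T) := by
  intro a b hab
  exact Subtype.ext (a1 := (show N.carrier T from a)) (a2 := (show N.carrier T from b)) hab

theorem exists_of_mem (T : X.Opens) (s : Γ(F, T)) (hs : s ∈ N.carrier T) :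
    ∃ t : Γ(N.toModules, T), N.ι.app T t = s := ⟨N.mkSec T s hs, rfl⟩

instance : Mono N.ι := (mono_iff_app_injective N.ι).mpr fun T => N.ι_app_injective T

/-- Infimum of a family of subsheaves. -/
noncomputable def iInf {ι : Sort*} (N : ι → SubSh F) : SubSh F where
  carrier T := ⨅ i, (N i).carrier T
  res_mem := fun {T T'} h {s} hs => by
    rw [Submodule.mem_iInf] at hs ⊢
    exact fun i => (N i).res_mem h (hs i)
  local_mem T s h := by
    rw [Submodule.mem_iInf]
    intro i
    apply (N i).local_mem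
    intro x hx
    obtain ⟨T', h', hx', hm⟩ := h x hx
    exact ⟨T', h', hx', (Submodule.mem_iInf _).mp hm i⟩

theorem mem_iInf {ι : Sort*} (N : ι → SubSh F) (T : X.Opens) (s : Γ(F, T)) :
    s ∈ (iInf N).carrier T ↔ ∀ i, s ∈ (N i).carrier T := Submodule.mem_iInf _

/-- `N` is saturated with respect to the open `O`: membership is tested on the intersection
with `O`. -/
def IsSat (N : SubSh F) (O : X.Opens) : Prop :=
  ∀ (T : X.Opens) (s : Γ(F, T)),
    res F (inf_le_left : T ⊓ O ≤ T) s ∈ N.carrier (T ⊓ O) → s ∈ N.carrier T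

/-- Gluing lemma: the infimum of a pairwise compatible family of saturated subsheaves agrees
with each member on its own open. -/
theorem iInf_carrier_eq {ι : Sort*} (N : ι → SubSh F) (O : ι → X.Opens)
    (hsat : ∀ i, IsSat (N i) (O i))
    (hcompat : ∀ i j (T : X.Opens), T ≤ O i → T ≤ O j → (N i).carrier T = (N j).carrier T)
    (i : ι) (T : X.Opens) (hT : T ≤ O i) : (iInf N).carrier T = (N i).carrier T := by
  apply le_antisymm
  · intro s hs
    exact (mem_iInf N T s).mp hs i
  · intro s hs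
    rw [mem_iInf]
    intro j
    apply hsat j
    rw [← hcompat i j (T ⊓ O j) (inf_le_left.trans hT) inf_le_right]
    exact (N i).res_mem _ hs

theorem isSat_iInf {ι : Sort*} (N : ι → SubSh F) (O : ι → X.Opens)
    (hsat : ∀ i, IsSat (N i) (O i)) : IsSat (iInf N) (⨆ i, O i) := by
  intro T s hs
  rw [mem_iInf] at hs ⊢
  intro i
  apply hsat i
  have hle : T ⊓ O i ≤ T ⊓ ⨆ i, O i := inf_le_inf_left T (le_iSup O i)
  have := (N i).res_mem hle (hs i)
  rwa [res_res] at this

/-- Localization property of `N` on the (affine) open `T`: sections over a basic open `D(f)` are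
fractions of sections over `T`. -/
def IsQCOn (N : SubSh F) (T : X.Opens) : Prop :=
  ∀ (f : Γ(X, T)) (s : Γ(F, X.basicOpen f)), s ∈ N.carrier (X.basicOpen f) →
    ∃ (n : ℕ) (m : Γ(F, T)), m ∈ N.carrier T ∧
      (X.presheaf.map (homOfLE (X.basicOpen_le f)).op f) ^ n • s = res F (X.basicOpen_le f) m

theorem isQuasicoherent_toModules [F.IsQuasicoherent] (N : SubSh F) {ι : Type u}
    (U : ι → X.Opens) (hcov : IsOpenCover U) (haff : ∀ i, IsAffineOpen (U i))
    (h : ∀ i, N.IsQCOn (U i)) : N.toModules.IsQuasicoherent := by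
  refine isQuasicoherent_of_localizing N.toModules U hcov haff ?_ ?_
  · intro i f s
    obtain ⟨n, m, hm, heq⟩ := h i f (N.ι.app _ s) (N.ι_app_mem _ s)
    refine ⟨n, N.mkSec _ m hm, ?_⟩
    apply N.ι_app_injective
    rw [Scheme.Modules.Hom.app_smul, app_res, ι_app_mkSec]
    exact heq
  · intro i f m hres
    have h0 : res F (X.basicOpen_le f) (N.ι.app _ m) = 0 := by
      rw [← app_res, hres, map_zero]
    obtain ⟨n, hn⟩ := exists_pow_smul_eq_zero F (haff i) f _ h0
    refine ⟨n, ?_⟩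
    apply N.ι_app_injective
    rw [Scheme.Modules.Hom.app_smul, hn, map_zero]

theorem isFiniteType_toModules (N : SubSh F) [N.toModules.IsQuasicoherent] {ι : Type u}
    (U : ι → X.Opens) (hcov : IsOpenCover U) (haff : ∀ i, IsAffineOpen (U i))
    (hfg : ∀ i, (N.carrier (U i)).FG) : N.toModules.IsFiniteType := by
  refine isFiniteType_of_module_finite N.toModules U hcov haff (fun i => ?_)
  have h1 : Module.Finite Γ(X, U i) (N.carrier (U i)) := Module.Finite.iff_fg.mpr (hfg i)
  exact h1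

/-- The preimage under `η : F ⟶ F₁` of the image of a monomorphism `φ : G₁ ⟶ F₁`. -/
noncomputable def pre {F₁ G₁ : X.Modules} (η : F ⟶ F₁) (φ : G₁ ⟶ F₁) [Mono φ] : SubSh F where
  carrier T := Submodule.comap (appₗ η T) (LinearMap.range (appₗ φ T))
  res_mem := fun {T T'} h {s} hs => by
    obtain ⟨g, hg⟩ := hs
    refine ⟨res G₁ h g, ?_⟩
    change φ.app T' (res G₁ h g) = η.app T' (res F h s)
    rw [app_res, app_res]
    exact congrArg _ hg
  local_mem T s h := by
    have hinj := (mono_iff_app_injective φ).mp inferInstance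
    choose T' hT' hx g hg using fun x : T => h x.1 x.2
    have hg' : ∀ x : T, φ.app (T' x) (g x) = η.app (T' x) (res F (hT' x) s) := hg
    have hc : ∀ x y : T, res G₁ (inf_le_left : T' x ⊓ T' y ≤ T' x) (g x) =
        res G₁ (inf_le_right : T' x ⊓ T' y ≤ T' y) (g y) := by
      intro x y
      apply hinj
      rw [app_res, app_res, hg' x, hg' y, ← app_res, ← app_res, res_res, res_res]
    have hcov : T ≤ iSup T' := fun x hxT => Opens.mem_iSup.mpr ⟨⟨x, hxT⟩, hx ⟨x, hxT⟩⟩
    obtain ⟨g₀, hg₀⟩ := exists_gluing G₁ T' T hT' hcov g hc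
    refine ⟨g₀, ?_⟩
    change φ.app T g₀ = η.app T s
    have h0 : φ.app T g₀ - η.app T s = 0 := by
      refine eq_zero_of_res_cover_eq_zero F₁ T' hT' hcov _ (fun x => ?_)
      rw [map_sub, ← app_res, ← app_res, hg₀ x, hg' x, sub_self]
    exact sub_eq_zero.mp h0

theorem mem_pre {F₁ G₁ : X.Modules} (η : F ⟶ F₁) (φ : G₁ ⟶ F₁) [Mono φ] (T : X.Opens)
    (s : Γ(F, T)) : s ∈ (pre η φ).carrier T ↔ ∃ g : Γ(G₁, T), φ.app T g = η.app T s := Iff.rfl

theorem isQCOn_pre {F₁ G₁ : X.Modules} (η : F ⟶ F₁) (φ : G₁ ⟶ F₁) [Mono φ]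
    [F.IsQuasicoherent] [F₁.IsQuasicoherent] [G₁.IsQuasicoherent]
    {T : X.Opens} (hT : IsAffineOpen T) : (pre η φ).IsQCOn T := by
  intro f s hs
  obtain ⟨g, hg⟩ := hs
  have hg' : φ.app _ g = η.app _ s := hg
  obtain ⟨a, s₀, hs₀⟩ := exists_pow_smul_eq_res F hT f s
  obtain ⟨b, g₀, hg₀⟩ := exists_pow_smul_eq_res G₁ hT f g
  set f' := X.presheaf.map (homOfLE (X.basicOpen_le f)).op f with hf'
  have hd : res F₁ (X.basicOpen_le f) (η.app T (f ^ b • s₀) - φ.app T (f ^ a • g₀)) = 0 := by
    rw [map_sub, ← app_res, ← app_res, res_smul, res_smul, ← hs₀, ← hg₀, map_pow, map_pow,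
      Scheme.Modules.Hom.app_smul, Scheme.Modules.Hom.app_smul, Scheme.Modules.Hom.app_smul,
      Scheme.Modules.Hom.app_smul, hg', smul_smul, smul_smul, mul_comm, sub_self]
  obtain ⟨c, hc⟩ := exists_pow_smul_eq_zero F₁ hT f _ hd
  refine ⟨a + (b + c), f ^ (b + c) • s₀, ⟨f ^ (a + c) • g₀, ?_⟩, ?_⟩
  · change φ.app T (f ^ (a + c) • g₀) = η.app T (f ^ (b + c) • s₀)
    rw [smul_sub, sub_eq_zero, ← Scheme.Modules.Hom.app_smul, ← Scheme.Modules.Hom.app_smul,
      smul_smul, smul_smul, ← pow_add, ← pow_add] at hc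
    rw [add_comm a c, add_comm b c]
    exact hc.symm
  · rw [res_smul, ← hs₀, map_pow, smul_smul, ← pow_add, add_comm (b + c) a]

end SubSh

/-! ### Subsheaf generated by sections over an open -/

/-- The span of the restrictions to `T ≤ V` of a set of sections over `V`. -/
noncomputable def spanRes (F : X.Modules) {V : X.Opens} (S : Set Γ(F, V)) (T : X.Opens) (h : T ≤ V) :
    Submodule Γ(X, T) Γ(F, T) :=
  Submodule.span Γ(X, T) (res F h '' S)

theorem res_mem_spanRes (F : X.Modules) {V : X.Opens} (S : Set Γ(F, V)) {T₁ T₂ : X.Opens}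
    (h₁ : T₁ ≤ V) (h : T₂ ≤ T₁) {t : Γ(F, T₁)} (ht : t ∈ spanRes F S T₁ h₁) :
    res F h t ∈ spanRes F S T₂ (h.trans h₁) := by
  induction ht using Submodule.span_induction with
  | mem t ht =>
    obtain ⟨m, hm, rfl⟩ := ht
    rw [res_res]
    exact Submodule.subset_span ⟨m, hm, rfl⟩
  | zero => rw [map_zero]; exact Submodule.zero_mem _
  | add a b _ _ ha hb => rw [map_add]; exact Submodule.add_mem _ ha hb
  | smul r a _ ha => rw [res_smul]; exact Submodule.smul_mem _ _ ha

theorem spanRes_fg (F : X.Modules) {V : X.Opens} (S : Set Γ(F, V)) (hS : S.Finite) (T : X.Opens)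
    (h : T ≤ V) : (spanRes F S T h).FG :=
  Submodule.fg_span (hS.image _)

/-- Clearing denominators: a section over `D(f)` in the span of the restrictions of `S` is a
fraction of a section over `T` in the span of the restrictions of `S`. -/
theorem exists_pow_smul_eq_res_of_mem_spanRes (F : X.Modules) {V : X.Opens} (S : Set Γ(F, V))
    {T : X.Opens} (hT : IsAffineOpen T) (hTV : T ≤ V) (f : Γ(X, T))
    {u : Γ(F, X.basicOpen f)} (hu : u ∈ spanRes F S (X.basicOpen f) ((X.basicOpen_le f).trans hTV)) :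
    ∃ (n : ℕ) (m : Γ(F, T)), m ∈ spanRes F S T hTV ∧
      (X.presheaf.map (homOfLE (X.basicOpen_le f)).op f) ^ n • u = res F (X.basicOpen_le f) m := by
  set f' := X.presheaf.map (homOfLE (X.basicOpen_le f)).op f with hf'
  induction hu using Submodule.span_induction with
  | mem t ht =>
    obtain ⟨m, hm, rfl⟩ := ht
    refine ⟨0, res F hTV m, Submodule.subset_span ⟨m, hm, rfl⟩, ?_⟩
    rw [pow_zero, one_smul, res_res]
  | zero => exact ⟨0, 0, Submodule.zero_mem _, by rw [smul_zero, map_zero]⟩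
  | add a b _ _ ha hb =>
    obtain ⟨n₁, m₁, hm₁, e₁⟩ := ha
    obtain ⟨n₂, m₂, hm₂, e₂⟩ := hb
    refine ⟨n₁ + n₂, f ^ n₂ • m₁ + f ^ n₁ • m₂,
      Submodule.add_mem _ (Submodule.smul_mem _ _ hm₁) (Submodule.smul_mem _ _ hm₂), ?_⟩
    rw [map_add, res_smul, res_smul, ← e₁, ← e₂, map_pow, map_pow, smul_add, smul_smul, smul_smul,
      ← pow_add, ← pow_add, add_comm n₂ n₁]
  | smul r a _ ha =>
    obtain ⟨n, m, hm, e⟩ := ha
    have hloc := hT.isLocalization_basicOpen f
    obtain ⟨⟨b, ⟨_, k, rfl⟩⟩, hb⟩ := IsLocalization.surj (Submonoid.powers f) r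
    have hb' : r * f' ^ k = X.presheaf.map (homOfLE (X.basicOpen_le f)).op b := by
      have := hb
      simp only [RingHom.algebraMap_toAlgebra, map_pow] at this
      exact this
    refine ⟨k + n, b • m, Submodule.smul_mem _ _ hm, ?_⟩
    rw [res_smul, ← e, ← hb', smul_smul, smul_smul, pow_add]
    congr 1
    ring

namespace SubSh

variable {F : X.Modules}

/-- The subsheaf of `F` of sections which, on `V`, are locally in the span of the restrictions
of the sections in `S`. It is saturated with respect to `V`. -/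
noncomputable def genSub (V : X.Opens) (S : Set Γ(F, V)) : SubSh F where
  carrier T :=
    { carrier := {s | ∀ x ∈ T ⊓ V, ∃ (T' : X.Opens) (h₁ : T' ≤ T) (h₂ : T' ≤ V), x ∈ T' ∧
        res F h₁ s ∈ spanRes F S T' h₂}
      add_mem' := by
        intro a b ha hb x hx
        obtain ⟨T₁, h₁, h₁', hx₁, hm₁⟩ := ha x hx
        obtain ⟨T₂, h₂, h₂', hx₂, hm₂⟩ := hb x hx
        refine ⟨T₁ ⊓ T₂, inf_le_left.trans h₁, inf_le_left.trans h₁', ⟨hx₁, hx₂⟩, ?_⟩
        rw [map_add]
        refine Submodule.add_mem _ ?_ ?_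
        · have := res_mem_spanRes F S h₁' (inf_le_left : T₁ ⊓ T₂ ≤ T₁) hm₁
          rwa [res_res] at this
        · have := res_mem_spanRes F S h₂' (inf_le_right : T₁ ⊓ T₂ ≤ T₂) hm₂
          rwa [res_res] at this
      zero_mem' := by
        intro x hx
        exact ⟨T ⊓ V, inf_le_left, inf_le_right, hx, by rw [map_zero]; exact Submodule.zero_mem _⟩
      smul_mem' := by
        intro r a ha x hx
        obtain ⟨T₁, h₁, h₁', hx₁, hm₁⟩ := ha x hx
        refine ⟨T₁, h₁, h₁', hx₁, ?_⟩
        rw [res_smul]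
        exact Submodule.smul_mem _ _ hm₁ }
  res_mem := fun {T T₂} h {s} hs => by
    intro x hx
    obtain ⟨T₁, h₁, h₁', hx₁, hm₁⟩ := hs x ⟨h hx.1, hx.2⟩
    refine ⟨T₁ ⊓ T₂, inf_le_right, inf_le_left.trans h₁', ⟨hx₁, hx.1⟩, ?_⟩
    have := res_mem_spanRes F S h₁' (inf_le_left : T₁ ⊓ T₂ ≤ T₁) hm₁
    rwa [res_res, ← res_res F h (inf_le_right : T₁ ⊓ T₂ ≤ T₂)] at this
  local_mem T s h := by
    intro x hx
    obtain ⟨T₁, h₁, hx₁, hm⟩ := h x hx.1
    obtain ⟨T', h', h'', hx', hm'⟩ := hm x ⟨hx₁, hx.2⟩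
    refine ⟨T', h'.trans h₁, h'', hx', ?_⟩
    rwa [res_res] at hm'

theorem isSat_genSub (V : X.Opens) (S : Set Γ(F, V)) : IsSat (genSub V S) V := by
  intro T s hs x hx
  obtain ⟨T', h', h'', hx', hm'⟩ := hs x ⟨hx, hx.2⟩
  refine ⟨T', h'.trans inf_le_left, h'', hx', ?_⟩
  rwa [res_res] at hm'

theorem mem_genSub_of_mem_spanRes (V : X.Opens) (S : Set Γ(F, V)) {T : X.Opens} (h : T ≤ V)
    {t : Γ(F, T)} (ht : t ∈ spanRes F S T h) : t ∈ (genSub V S).carrier T := by
  intro x hx
  exact ⟨T, le_rfl, h, hx.1, by rwa [res_self]⟩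

theorem genSub_le (V : X.Opens) (S : Set Γ(F, V)) (K : SubSh F) (hK : ∀ m ∈ S, m ∈ K.carrier V)
    {T : X.Opens} (h : T ≤ V) : (genSub V S).carrier T ≤ K.carrier T := by
  intro s hs
  apply K.local_mem
  intro x hx
  obtain ⟨T', h₁, h₂, hx', hm⟩ := hs x ⟨hx, h hx⟩
  refine ⟨T', h₁, hx', ?_⟩
  have hle : spanRes F S T' h₂ ≤ K.carrier T' := by
    apply Submodule.span_le.mpr
    rintro _ ⟨m, hm, rfl⟩
    exact K.res_mem h₂ (hK m hm)
  exact hle hm

/-- On an affine open `T ≤ V`, the sections of `genSub V S` are the span of the restrictions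
of `S`. -/
theorem genSub_carrier_eq [F.IsQuasicoherent] (V : X.Opens) (S : Set Γ(F, V)) {T : X.Opens}
    (hT : IsAffineOpen T) (h : T ≤ V) : (genSub V S).carrier T = spanRes F S T h := by
  apply le_antisymm
  · intro t ht
    let s : Set Γ(X, T) := {r | ∃ n : ℕ, r ^ n • t ∈ spanRes F S T h}
    have hs : Ideal.span s = ⊤ := by
      apply ideal_eq_top_of_forall_mem_basicOpen hT
      intro x hx
      obtain ⟨T', h₁, h₂, hx', hm⟩ := ht x ⟨hx, h hx⟩
      obtain ⟨r, hr, hxr⟩ := hT.exists_basicOpen_le ⟨x, hx'⟩ hx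
      refine ⟨r, Ideal.subset_span ?_, hxr⟩
      have h3 := res_mem_spanRes F S h₂ hr hm
      rw [res_res] at h3
      obtain ⟨n, m, hm', e⟩ := exists_pow_smul_eq_res_of_mem_spanRes F S hT h r h3
      have h0 : res F (X.basicOpen_le r) (r ^ n • t - m) = 0 := by
        rw [map_sub, res_smul, map_pow, e, sub_self]
      obtain ⟨n', hn'⟩ := exists_pow_smul_eq_zero F hT r _ h0
      refine ⟨n' + n, ?_⟩
      rw [smul_sub, sub_eq_zero, smul_smul, ← pow_add] at hn'
      rw [hn']
      exact Submodule.smul_mem _ _ hm'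
    exact Submodule.mem_of_span_eq_top_of_smul_pow_mem _ s hs t (fun r => r.2)
  · intro t ht
    exact mem_genSub_of_mem_spanRes V S h ht

theorem isQCOn_genSub [F.IsQuasicoherent] (V : X.Opens) (S : Set Γ(F, V)) {T : X.Opens}
    (hT : IsAffineOpen T) (h : T ≤ V) : (genSub V S).IsQCOn T := by
  intro f s hs
  rw [genSub_carrier_eq V S (hT.basicOpen f) ((X.basicOpen_le f).trans h)] at hs
  obtain ⟨n, m, hm, e⟩ := exists_pow_smul_eq_res_of_mem_spanRes F S hT h f hs
  exact ⟨n, m, mem_genSub_of_mem_spanRes V S h hm, e⟩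

theorem genSub_fg [F.IsQuasicoherent] (V : X.Opens) (S : Set Γ(F, V)) (hS : S.Finite)
    {T : X.Opens} (hT : IsAffineOpen T) (h : T ≤ V) : ((genSub V S).carrier T).FG := by
  rw [genSub_carrier_eq V S hT h]
  exact spanRes_fg F S hS T h

end SubSh

end Groth.Agent.Lib.Helper3
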