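import Groth.Agent.Lib.Helper3.SubShTrans
/-!
# Extension of quasi-coherent subsheaves of finite type (EGA I 9.4.7)
-/
universe u v
open CategoryTheory CategoryTheory.Limits AlgebraicGeometry Opposite TopologicalSpace
open Groth.Agent.Lib.Helper29.QCoh

namespace Groth.Agent.Lib.Helper3

variable {X : Scheme.{u}}

theorem module_finite_of_surjective_ringHom {A B M : Type*} [CommRing A] [CommRing B]
    [AddCommGroup M] [Module A M] [Module B M] (ρ : A →+* B) (hρ : Function.Surjective ρ)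
    (hc : ∀ (a : A) (m : M), a • m = ρ a • m) [Module.Finite B M] : Module.Finite A M := by
  obtain ⟨s, hs⟩ := (Module.Finite.fg_top (R := B) (M := M))
  refine ⟨⟨s, ?_⟩⟩
  rw [eq_top_iff]
  rintro m -
  have hm : m ∈ Submodule.span B (s : Set M) := by rw [hs]; trivial
  induction hm using Submodule.span_induction with
  | mem x hx => exact Submodule.subset_span hx
  | zero => exact Submodule.zero_mem _
  | add x y _ _ hx hy => exact Submodule.add_mem _ hx hy
  | smul b x _ hx =>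
    obtain ⟨a, rfl⟩ := hρ b
    rw [← hc]
    exact Submodule.smul_mem _ _ hx

section Ext

variable (U : X.Opens) (F : X.Modules) (G : (U : Scheme.{u}).Modules) (i : G ⟶ F.restrict U.ι)

/-- The saturated preimage subsheaf of `F` attached to a subsheaf `G` of `F|_U`. -/
noncomputable def N₀ [Mono i] : SubSh F :=
  SubSh.pre ((Scheme.Modules.restrictAdjunction U.ι).unit.app F)
    ((Scheme.Modules.pushforward U.ι).map i)

theorem mem_N₀ [Mono i] (T : X.Opens) (s : Γ(F, T)) :
    s ∈ (N₀ U F G i).carrier T ↔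
      ∃ g : Γ(G, U.ι ⁻¹ᵁ T), i.app (U.ι ⁻¹ᵁ T) g = res F (U.ι.image_preimage_le T) s :=
  Iff.rfl

theorem ι_image_preimage_of_le {T : X.Opens} (hT : T ≤ U) : U.ι ''ᵁ (U.ι ⁻¹ᵁ T) = T := by
  rw [Scheme.Hom.image_preimage_eq_opensRange_inf, Scheme.Opens.opensRange_ι]
  exact inf_eq_right.mpr hT

theorem ι_preimage_inf_self (T : X.Opens) : U.ι ⁻¹ᵁ (T ⊓ U) = U.ι ⁻¹ᵁ T := by
  rw [Scheme.Hom.preimage_inf, Scheme.Opens.ι_preimage_self, inf_top_eq]

/-- Restriction maps of `F.restrict U.ι` are restriction maps of `F`. -/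
theorem res_restrict {T₁ T₂ : (U : Scheme.{u}).Opens} (h : T₂ ≤ T₁)
    (x : Γ(F.restrict U.ι, T₁)) :
    res (F.restrict U.ι) h x = res F (U.ι.image_mono h) (show Γ(F, U.ι ''ᵁ T₁) from x) := rfl

theorem isSat_N₀ [Mono i] : SubSh.IsSat (N₀ U F G i) U := by
  intro T s hs
  rw [mem_N₀] at hs ⊢
  obtain ⟨g', hg'⟩ := hs
  have e : U.ι ⁻¹ᵁ (T ⊓ U) = U.ι ⁻¹ᵁ T := ι_preimage_inf_self U T
  refine ⟨res G e.ge g', ?_⟩
  rw [app_res, hg']
  refine (res_restrict U F _ _).trans ?_
  rw [res_res, res_res]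

theorem unit_app_apply (T : X.Opens) (x : Γ(F, T)) :
    ((Scheme.Modules.restrictAdjunction U.ι).unit.app F).app T x =
      res F (U.ι.image_preimage_le T) x := rfl

theorem isQCOn_N₀ [Mono i] [QuasiCompact U.ι] [F.IsQuasicoherent] [G.IsQuasicoherent]
    {T : X.Opens} (hT : IsAffineOpen T) : (N₀ U F G i).IsQCOn T := by
  have h1 : ((Scheme.Modules.pushforward U.ι).obj G).IsQuasicoherent :=
    isQuasicoherent_pushforward_of_qcqs U.ι G
  have h2 : (F.restrict U.ι).IsQuasicoherent :=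
    Scheme.Modules.isQuasicoherent_restrictFunctor U.ι F
  have h3 : ((Scheme.Modules.restrictFunctor U.ι ⋙ Scheme.Modules.pushforward U.ι).obj
      F).IsQuasicoherent :=
    isQuasicoherent_pushforward_of_qcqs U.ι (F.restrict U.ι)
  exact SubSh.isQCOn_pre _ _ hT

theorem module_finite_pushforward {Y : Scheme.{u}} (f : Y ⟶ X) (M : Y.Modules) (T : X.Opens)
    (hsurj : Function.Surjective (f.app T).hom)
    (hfin : Module.Finite Γ(Y, f ⁻¹ᵁ T) Γ(M, f ⁻¹ᵁ T)) :
    Module.Finite Γ(X, T) Γ((Scheme.Modules.pushforward f).obj M, T) := by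
  letI : Module Γ(Y, f ⁻¹ᵁ T) Γ((Scheme.Modules.pushforward f).obj M, T) :=
    inferInstanceAs (Module Γ(Y, f ⁻¹ᵁ T) Γ(M, f ⁻¹ᵁ T))
  haveI : Module.Finite Γ(Y, f ⁻¹ᵁ T) Γ((Scheme.Modules.pushforward f).obj M, T) := hfin
  exact module_finite_of_surjective_ringHom (f.app T).hom hsurj (fun a m => rfl)

theorem fg_N₀ [Mono i] [G.IsQuasicoherent] [G.IsFiniteType]
    {T : X.Opens} (hT : IsAffineOpen T) (hTU : T ≤ U) : ((N₀ U F G i).carrier T).FG := by
  have e2 := ι_image_preimage_of_le U hTU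
  have hT' : IsAffineOpen (U.ι ⁻¹ᵁ T) := by
    rw [← U.ι.isAffineOpen_iff_of_isOpenImmersion, e2]; exact hT
  have hfinB : Module.Finite Γ((U : Scheme.{u}), U.ι ⁻¹ᵁ T) Γ(G, U.ι ⁻¹ᵁ T) :=
    module_finite_of_isFiniteType G hT'
  have hsurj : Function.Surjective (U.ι.app T).hom := by
    haveI := Scheme.Hom.isIso_app U.ι T (by rw [Scheme.Opens.opensRange_ι]; exact hTU)
    exact ((ConcreteCategory.isIso_iff_bijective (U.ι.app T)).mp inferInstance).2
  haveI hfinA : Module.Finite Γ(X, T) Γ((Scheme.Modules.pushforward U.ι).obj G, T) :=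
    module_finite_pushforward U.ι G T hsurj hfinB
  have hηinj : Function.Injective (appₗ ((Scheme.Modules.restrictAdjunction U.ι).unit.app F) T) :=
    res_injective_of_eq F e2
  have hηsurj : Function.Surjective
      (appₗ ((Scheme.Modules.restrictAdjunction U.ι).unit.app F) T) := fun x =>
    ⟨res F e2.ge (show Γ(F, U.ι ''ᵁ (U.ι ⁻¹ᵁ T)) from x), by
      rw [appₗ_apply, unit_app_apply, res_res]
      exact res_self F _⟩
  have hN : (N₀ U F G i).carrier T =
      Submodule.comap (appₗ ((Scheme.Modules.restrictAdjunction U.ι).unit.app F) T)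
        (LinearMap.range (appₗ ((Scheme.Modules.pushforward U.ι).map i) T)) := rfl
  rw [hN]
  apply Submodule.fg_of_fg_map_of_fg_inf_ker
    (appₗ ((Scheme.Modules.restrictAdjunction U.ι).unit.app F) T)
  · rw [Submodule.map_comap_eq_of_surjective hηsurj, LinearMap.range_eq_map]
    exact Submodule.FG.map _ Module.Finite.fg_top
  · rw [LinearMap.ker_eq_bot.mpr hηinj, inf_bot_eq]
    exact Submodule.fg_bot

end Ext

/-- **EGA I 9.4.7.** Extension of a quasi-coherent subsheaf of finite type from a retrocompact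
open, for a scheme with a well-ordered affine open cover whose members meet the union of the
previous ones in a quasi-compact open. -/
theorem exists_finiteType_extension {L : Type v} [LinearOrder L] [WellFoundedLT L]
    (V : L → X.Opens) (hV : ∀ l, IsAffineOpen (V l)) (hcov : ⨆ l, V l = ⊤)
    (hW : ∀ l, IsCompact ((V l : Set X) ∩ ⋃ m ∈ Set.Iio l, (V m : Set X)))
    (U : X.Opens) [QuasiCompact U.ι] (F : X.Modules) [F.IsQuasicoherent]
    (G : (U : Scheme.{u}).Modules) (i : G ⟶ F.restrict U.ι) [Mono i]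
    [G.IsQuasicoherent] [G.IsFiniteType] :
    ∃ (G' : X.Modules) (i' : G' ⟶ F) (e : G'.restrict U.ι ≅ G), Mono i' ∧ G'.IsQuasicoherent ∧
      G'.IsFiniteType ∧ e.hom ≫ i = (Scheme.Modules.restrictFunctor U.ι).map i' := by
  have hW' : ∀ l, IsCompact ((V l ⊓ SubSh.Wl V U l : X.Opens) : Set X) := by
    intro l
    have hset : ((V l ⊓ SubSh.Wl V U l : X.Opens) : Set X) =
        ((V l : Set X) ∩ U) ∪ ((V l : Set X) ∩ ⋃ m ∈ Set.Iio l, (V m : Set X)) := by
      ext x
      simp only [SubSh.Wl, Opens.coe_inf, Opens.coe_sup, Opens.coe_iSup, Set.mem_inter_iff,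
        Set.mem_union, Set.mem_iUnion, SetLike.mem_coe, Set.mem_Iio, Subtype.exists, exists_prop]
      tauto
    rw [hset]
    refine IsCompact.union ?_ (hW l)
    have h1 : IsCompact ((U.ι ⁻¹ᵁ V l : (U : Scheme.{u}).Opens) : Set (U : Scheme.{u})) :=
      U.ι.isCompact_preimage (hV l).isCompact
    have h2 := h1.image U.ι.continuous
    have h3 : ⇑U.ι '' (⇑U.ι ⁻¹' (V l : Set X)) = (V l : Set X) ∩ U := by
      rw [Set.image_preimage_eq_inter_range, Scheme.Opens.range_ι]
    rw [← h3]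
    exact h2
  obtain ⟨K, hKU, hKV⟩ := SubSh.exists_extension_core V U (N₀ U F G i) hV (isSat_N₀ U F G i)
    (fun T hT hTU => ⟨isQCOn_N₀ U F G i hT, fg_N₀ U F G i hT hTU⟩) hW'
  have hcovι : IsOpenCover (fun T : {T : X.Opens // IsAffineOpen T ∧ ∃ l, T ≤ V l} => T.1) := by
    rw [IsOpenCover, eq_top_iff]
    rintro x -
    have hx : x ∈ ⨆ l, V l := by rw [hcov]; trivial
    obtain ⟨l, hl⟩ := Opens.mem_iSup.mp hx
    exact Opens.mem_iSup.mpr ⟨⟨V l, hV l, l, le_rfl⟩, hl⟩
  haveI hq : K.toModules.IsQuasicoherent :=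
    SubSh.isQuasicoherent_toModules K _ hcovι (fun T => T.2.1)
      (fun T => by obtain ⟨l, hl⟩ := T.2.2; exact (hKV l T.1 T.2.1 hl).1)
  have hft : K.toModules.IsFiniteType :=
    SubSh.isFiniteType_toModules K _ hcovι (fun T => T.2.1)
      (fun T => by obtain ⟨l, hl⟩ := T.2.2; exact (hKV l T.1 T.2.1 hl).2)
  -- the restriction to `U`
  set m : K.toModules.restrict U.ι ⟶ F.restrict U.ι :=
    (Scheme.Modules.restrictFunctor U.ι).map K.ι with hm
  have hm_inj : ∀ T' : (U : Scheme.{u}).Opens, Function.Injective (m.app T') :=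
    fun T' => K.ι_app_injective (U.ι ''ᵁ T')
  haveI : Mono m := (mono_iff_app_injective m).mpr hm_inj
  have hle : ∀ T' : (U : Scheme.{u}).Opens, U.ι ''ᵁ T' ≤ U := by
    intro T'
    have := U.ι.image_le_opensRange T'
    rwa [Scheme.Opens.opensRange_ι] at this
  have hmem1 : ∀ (T' : (U : Scheme.{u}).Opens) (g : Γ(G, T')),
      ∃ k : Γ(K.toModules.restrict U.ι, T'), m.app T' k = i.app T' g := by
    intro T' g
    have h1 : (show Γ(F, U.ι ''ᵁ T') from i.app T' g) ∈ K.carrier (U.ι ''ᵁ T') := by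
      rw [hKU _ (hle T'), mem_N₀]
      have e3 : U.ι ⁻¹ᵁ (U.ι ''ᵁ T') = T' := U.ι.preimage_image_eq T'
      refine ⟨res G e3.le g, ?_⟩
      rw [app_res]
      exact res_restrict U F _ _
    exact K.exists_of_mem _ _ h1
  have hmem2 : ∀ (T' : (U : Scheme.{u}).Opens) (k : Γ(K.toModules.restrict U.ι, T')),
      ∃ g : Γ(G, T'), i.app T' g = m.app T' k := by
    intro T' k
    have h1 := K.ι_app_mem (U.ι ''ᵁ T') k
    rw [hKU _ (hle T'), mem_N₀] at h1
    obtain ⟨g₁, hg₁⟩ := h1
    have e3 : U.ι ⁻¹ᵁ (U.ι ''ᵁ T') = T' := U.ι.preimage_image_eq T'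
    refine ⟨res G e3.ge g₁, ?_⟩
    rw [app_res, hg₁]
    refine (res_restrict U F _ _).trans ?_
    rw [res_res]
    exact res_self F _
  have hzero : i ≫ cokernel.π m = 0 := by
    apply Scheme.Modules.hom_ext
    intro T'
    ext g
    obtain ⟨k, hk⟩ := hmem1 T' g
    change (cokernel.π m).app T' (i.app T' g) = 0
    rw [← hk]
    exact congrArg (fun f => (Scheme.Modules.Hom.app f T') k) (cokernel.condition m)
  have hψ : Abelian.monoLift m i hzero ≫ m = i := Abelian.monoLift_comp m i hzero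
  have hψ_app : ∀ (T' : (U : Scheme.{u}).Opens) (g : Γ(G, T')),
      m.app T' ((Abelian.monoLift m i hzero).app T' g) = i.app T' g :=
    fun T' g => congrArg (fun f => (Scheme.Modules.Hom.app f T') g) hψ
  have hi_inj := (mono_iff_app_injective i).mp inferInstance
  haveI hiso : IsIso (Abelian.monoLift m i hzero) := by
    rw [Scheme.Modules.Hom.isIso_iff_isIso_app]
    intro T'
    rw [ConcreteCategory.isIso_iff_bijective]
    constructor
    · intro a b hab
      apply hi_inj T'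
      rw [← hψ_app, ← hψ_app, hab]
    · intro k
      obtain ⟨g, hg⟩ := hmem2 T' k
      exact ⟨g, hm_inj T' (by rw [hψ_app, hg])⟩
  refine ⟨K.toModules, K.ι, (asIso (Abelian.monoLift m i hzero)).symm, inferInstance, hq, hft, ?_⟩
  change inv (Abelian.monoLift m i hzero) ≫ i = m
  rw [IsIso.inv_comp_eq, hψ]

end Groth.Agent.Lib.Helper3
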