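import Groth.Agent.Lib.Helper3.ExtendFT
/-!
# Extension of quasi-coherent subsheaves of finite type: locally Noetherian spaces (EGA I 9.4.7 a)
-/
universe u v
open CategoryTheory CategoryTheory.Limits AlgebraicGeometry Opposite TopologicalSpace
open Groth.Agent.Lib.Helper29.QCoh

namespace Groth.Agent.Lib.Helper3

/-- In a locally Noetherian topological space every subset of a compact set is compact. -/
theorem isCompact_of_subset_of_locallyNoetherian {X : Type*} [TopologicalSpace X]
    (hX : ∀ x : X, ∃ U : Opens X, x ∈ U ∧ NoetherianSpace (U : Set X)) {K t : Set X}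
    (hK : IsCompact K) (ht : t ⊆ K) : IsCompact t := by
  choose W hxW hW using hX
  obtain ⟨s, hs⟩ := hK.elim_finite_subcover (fun x => (W x : Set X)) (fun x => (W x).isOpen)
    (fun x _ => Set.mem_iUnion.mpr ⟨x, hxW x⟩)
  have : t = ⋃ x ∈ s, (t ∩ W x) := by
    rw [← Set.inter_iUnion₂]
    exact (Set.inter_eq_left.mpr (ht.trans hs)).symm
  rw [this]
  exact s.finite_toSet.isCompact_biUnion fun x _ =>
    (noetherianSpace_set_iff _).mp (hW x) _ Set.inter_subset_right

variable {X : Scheme.{u}}

theorem quasiCompact_ι_of_locallyNoetherian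
    (hX : ∀ x : X, ∃ U : X.Opens, x ∈ U ∧ NoetherianSpace (U : Set X)) (U : X.Opens) :
    QuasiCompact U.ι := by
  refine ⟨fun T hT hTc => ?_⟩
  rw [U.ι.isOpenEmbedding.isEmbedding.isCompact_iff]
  exact isCompact_of_subset_of_locallyNoetherian hX hTc (Set.image_preimage_subset _ _)

/-- **EGA I 9.4.7 a).** -/
theorem exists_finiteType_extension_of_locallyNoetherian
    (hX : ∀ x : X, ∃ U : X.Opens, x ∈ U ∧ NoetherianSpace (U : Set X))
    (U : X.Opens) (F : X.Modules) [F.IsQuasicoherent]
    (G : (U : Scheme.{u}).Modules) (i : G ⟶ F.restrict U.ι) [Mono i]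
    [G.IsQuasicoherent] [G.IsFiniteType] :
    ∃ (G' : X.Modules) (i' : G' ⟶ F) (e : G'.restrict U.ι ≅ G), Mono i' ∧ G'.IsQuasicoherent ∧
      G'.IsFiniteType ∧ e.hom ≫ i = (Scheme.Modules.restrictFunctor U.ι).map i' := by
  have := quasiCompact_ι_of_locallyNoetherian hX U
  obtain ⟨_, _⟩ := exists_wellFoundedLT X.affineOpens
  refine exists_finiteType_extension (L := X.affineOpens) (fun V => (V : X.Opens))
    (fun V => V.2) ?_ (fun l => ?_) U F G i
  · exact iSup_affineOpens_eq_top X
  · exact isCompact_of_subset_of_locallyNoetherian hX l.2.isCompact Set.inter_subset_left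

end Groth.Agent.Lib.Helper3
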