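import Groth.Agent.Lib.Helper3.ExtendLN
/-!
# Consequences of EGA I 9.4.7 (9.4.8, 9.4.9) in the locally Noetherian and qcqs cases
-/
universe u v
open CategoryTheory CategoryTheory.Limits AlgebraicGeometry Opposite TopologicalSpace
open Groth.Agent.Lib.Helper29.QCoh

namespace Groth.Agent.Lib.Helper3
variable {X : Scheme.{u}}

/-- **EGA I 9.4.8 (locally Noetherian case).** -/
theorem exists_finiteType_extension_module_of_locallyNoetherian
    (hX : ∀ x : X, ∃ U : X.Opens, x ∈ U ∧ NoetherianSpace (U : Set X))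
    (U : X.Opens) (G : (U : Scheme.{u}).Modules) [G.IsQuasicoherent] [G.IsFiniteType] :
    ∃ (G' : X.Modules), G'.IsQuasicoherent ∧ G'.IsFiniteType ∧ Nonempty (G'.restrict U.ι ≅ G) := by
  have := quasiCompact_ι_of_locallyNoetherian hX U
  have := isQuasicoherent_pushforward_of_qcqs U.ι G
  obtain ⟨G', i', e, -, h1, h2, -⟩ := exists_finiteType_extension_of_locallyNoetherian hX U
    ((Scheme.Modules.pushforward U.ι).obj G) G
    (inv ((Scheme.Modules.restrictAdjunction U.ι).counit.app G))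
  exact ⟨G', h1, h2, ⟨e⟩⟩

/-- Subsheaf form of EGA I 9.4.7 with a well-ordered affine cover. -/
theorem SubSh.exists_extension {L : Type v} [LinearOrder L] [WellFoundedLT L]
    (V : L → X.Opens) (hV : ∀ l, IsAffineOpen (V l)) (hcov : ⨆ l, V l = ⊤)
    (U : X.Opens) (hW : ∀ l, IsCompact ((V l ⊓ SubSh.Wl V U l : X.Opens) : Set X))
    (F : X.Modules) [F.IsQuasicoherent] (N₀ : SubSh F) (hsat : SubSh.IsSat N₀ U)
    (hN₀ : ∀ T : X.Opens, IsAffineOpen T → T ≤ U → N₀.IsQCOn T ∧ (N₀.carrier T).FG) :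
    ∃ K : SubSh F, K.toModules.IsQuasicoherent ∧ K.toModules.IsFiniteType ∧
      ∀ T : X.Opens, T ≤ U → K.carrier T = N₀.carrier T := by
  obtain ⟨K, hKU, hKV⟩ := SubSh.exists_extension_core V U N₀ hV hsat hN₀ hW
  have hcovι : IsOpenCover (fun T : {T : X.Opens // IsAffineOpen T ∧ ∃ l, T ≤ V l} => T.1) := by
    rw [IsOpenCover, eq_top_iff]
    rintro x -
    have hx : x ∈ ⨆ l, V l := by rw [hcov]; trivial
    obtain ⟨l, hl⟩ := Opens.mem_iSup.mp hx
    exact Opens.mem_iSup.mpr ⟨⟨V l, hV l, l, le_rfl⟩, hl⟩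
  have hq : K.toModules.IsQuasicoherent :=
    SubSh.isQuasicoherent_toModules K _ hcovι (fun T => T.2.1)
      (fun T => by obtain ⟨l, hl⟩ := T.2.2; exact (hKV l T.1 T.2.1 hl).1)
  have hft : K.toModules.IsFiniteType :=
    SubSh.isFiniteType_toModules K _ hcovι (fun T => T.2.1)
      (fun T => by obtain ⟨l, hl⟩ := T.2.2; exact (hKV l T.1 T.2.1 hl).2)
  exact ⟨K, hq, hft, hKU⟩

theorem SubSh.exists_extension_of_locallyNoetherian
    (hX : ∀ x : X, ∃ U : X.Opens, x ∈ U ∧ NoetherianSpace (U : Set X))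
    (U : X.Opens) (F : X.Modules) [F.IsQuasicoherent] (N₀ : SubSh F) (hsat : SubSh.IsSat N₀ U)
    (hN₀ : ∀ T : X.Opens, IsAffineOpen T → T ≤ U → N₀.IsQCOn T ∧ (N₀.carrier T).FG) :
    ∃ K : SubSh F, K.toModules.IsQuasicoherent ∧ K.toModules.IsFiniteType ∧
      ∀ T : X.Opens, T ≤ U → K.carrier T = N₀.carrier T := by
  obtain ⟨_, _⟩ := exists_wellFoundedLT X.affineOpens
  refine SubSh.exists_extension (L := X.affineOpens) (fun V => (V : X.Opens))
    (fun V => V.2) (iSup_affineOpens_eq_top X) U (fun l => ?_) F N₀ hsat hN₀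
  exact isCompact_of_subset_of_locallyNoetherian hX l.2.isCompact
    (by rw [Opens.coe_inf]; exact Set.inter_subset_left)

/-- **EGA I 9.4.9 (sectionwise, locally Noetherian case).** -/
theorem exists_finiteType_subsheaf_through_section_of_locallyNoetherian
    (hX : ∀ x : X, ∃ U : X.Opens, x ∈ U ∧ NoetherianSpace (U : Set X))
    (F : X.Modules) [F.IsQuasicoherent] (U : X.Opens) (s : Γ(F, U)) :
    ∃ K : SubSh F, K.toModules.IsQuasicoherent ∧ K.toModules.IsFiniteType ∧ s ∈ K.carrier U := by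
  obtain ⟨K, h1, h2, h3⟩ := SubSh.exists_extension_of_locallyNoetherian hX U F
    (SubSh.genSub U {s}) (SubSh.isSat_genSub U {s})
    (fun T hT hTU => ⟨SubSh.isQCOn_genSub U {s} hT hTU,
      SubSh.genSub_fg U {s} (Set.finite_singleton s) hT hTU⟩)
  refine ⟨K, h1, h2, ?_⟩
  rw [h3 U le_rfl]
  refine SubSh.mem_genSub_of_mem_spanRes U {s} le_rfl ?_
  exact Submodule.subset_span ⟨s, rfl, res_self F s⟩

end Groth.Agent.Lib.Helper3
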