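import Groth.Agent.Lib.Helper3.QCAlgSub
import Groth.Agent.Lib.Helper3.ExtendLN2
import Groth.Agent.Lib.Helper29.QCohFinite
/-!
# Quasi-coherent algebras as unions of sub-algebras of finite type (EGA I 9.6)
-/
universe u
open CategoryTheory CategoryTheory.Limits AlgebraicGeometry Opposite TopologicalSpace
open Groth.Agent.Lib.Helper29.QCoh RelSpec

namespace Groth.Agent.Lib.Helper3
variable {X : Scheme.{u}}

theorem SubSh.isQCOn_of_isQuasicoherent {F : X.Modules} (K : SubSh F)
    [K.toModules.IsQuasicoherent] {T : X.Opens} (hT : IsAffineOpen T) : K.IsQCOn T := by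
  intro f s hs
  obtain ⟨n, m', h⟩ := exists_pow_smul_eq_res K.toModules hT f (K.mkSec _ s hs)
  refine ⟨n, K.ι.app T m', K.ι_app_mem T m', ?_⟩
  have := congrArg (K.ι.app (X.basicOpen f)) h
  rw [Scheme.Modules.Hom.app_smul, app_res, K.ι_app_mkSec] at this
  exact this

theorem SubSh.fg_of_isFiniteType {F : X.Modules} (K : SubSh F)
    [K.toModules.IsQuasicoherent] [K.toModules.IsFiniteType] {T : X.Opens}
    (hT : IsAffineOpen T) : (K.carrier T).FG := by
  have h1 : Module.Finite Γ(X, T) Γ(K.toModules, T) := module_finite_of_isFiniteType K.toModules hT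
  have h2 : Module.Finite Γ(X, T) (K.carrier T) := h1
  exact Module.Finite.iff_fg.mp h2

/-- Every section of a quasi-coherent module over an affine open lies in a quasi-coherent
submodule of finite type. -/
def HasFTThrough (X : Scheme.{u}) : Prop :=
  ∀ (F : X.Modules) [F.IsQuasicoherent] (U : X.Opens) (_ : IsAffineOpen U) (s : Γ(F, U)),
    ∃ K : SubSh F, K.toModules.IsQuasicoherent ∧ K.toModules.IsFiniteType ∧ s ∈ K.carrier U

theorem hasFTThrough_of_locallyNoetherian
    (hX : ∀ x : X, ∃ U : X.Opens, x ∈ U ∧ NoetherianSpace (U : Set X)) : HasFTThrough X :=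
  fun F _ U _ s => exists_finiteType_subsheaf_through_section_of_locallyNoetherian hX F U s

theorem SubSh.exists_extension_of_qcqs [CompactSpace X] [QuasiSeparatedSpace X]
    (U : X.Opens) (hU : IsCompact (U : Set X)) (F : X.Modules) [F.IsQuasicoherent]
    (N₀ : SubSh F) (hsat : SubSh.IsSat N₀ U)
    (hN₀ : ∀ T : X.Opens, IsAffineOpen T → T ≤ U → N₀.IsQCOn T ∧ (N₀.carrier T).FG) :
    ∃ K : SubSh F, K.toModules.IsQuasicoherent ∧ K.toModules.IsFiniteType ∧
      ∀ T : X.Opens, T ≤ U → K.carrier T = N₀.carrier T := by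
  obtain ⟨n, V, hV, -, hcov⟩ := exists_finite_affine_cover
    (X := X) (U := ⊤) (by simpa using (CompactSpace.isCompact_univ : IsCompact (Set.univ : Set X)))
  refine SubSh.exists_extension V hV (top_le_iff.mp hcov) U (fun l => ?_) F N₀ hsat hN₀
  have hset : ((V l ⊓ SubSh.Wl V U l : X.Opens) : Set X) =
      ((V l : Set X) ∩ U) ∪ ⋃ m ∈ Set.Iio l, ((V l : Set X) ∩ (V m : Set X)) := by
    ext x
    simp only [SubSh.Wl, Opens.coe_inf, Opens.coe_sup, Opens.coe_iSup, Set.mem_inter_iff,
      Set.mem_union, Set.mem_iUnion, SetLike.mem_coe, Set.mem_Iio, Subtype.exists, exists_prop]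
    tauto
  rw [hset]
  refine IsCompact.union ?_ ?_
  · exact QuasiSeparatedSpace.inter_isCompact _ _ (V l).isOpen (hV l).isCompact U.isOpen hU
  · exact (Set.toFinite (Set.Iio l)).isCompact_biUnion fun m _ =>
      QuasiSeparatedSpace.inter_isCompact _ _ (V l).isOpen (hV l).isCompact (V m).isOpen
        (hV m).isCompact

theorem hasFTThrough_of_qcqs [CompactSpace X] [QuasiSeparatedSpace X] : HasFTThrough X := by
  intro F _ U hU s
  obtain ⟨K, h1, h2, h3⟩ := SubSh.exists_extension_of_qcqs U hU.isCompact F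
    (SubSh.genSub U {s}) (SubSh.isSat_genSub U {s})
    (fun T hT hTU => ⟨SubSh.isQCOn_genSub U {s} hT hTU,
      SubSh.genSub_fg U {s} (Set.finite_singleton s) hT hTU⟩)
  refine ⟨K, h1, h2, ?_⟩
  rw [h3 U le_rfl]
  refine SubSh.mem_genSub_of_mem_spanRes U {s} le_rfl ?_
  exact Submodule.subset_span ⟨s, rfl, res_self F s⟩

theorem finiteType_codRestrict_closure {R A : Type*} [CommRing R] [CommRing A] (φ : R →+* A)
    (C : Subring A) (hφ : ∀ r, φ r ∈ C) (S : Finset A)
    (hC : C = Subring.closure (Set.range φ ∪ (S : Set A))) :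
    (φ.codRestrict C hφ).FiniteType := by
  let _ := φ.toAlgebra
  have e : (Algebra.adjoin R (S : Set A)).toSubring = C := by
    rw [hC, Algebra.adjoin_eq_ring_closure]
    rfl
  subst e
  have hft : Algebra.FiniteType R (Algebra.adjoin R (S : Set A)) :=
    (Subalgebra.fg_iff_finiteType _).mp (Subalgebra.fg_adjoin_finset S)
  exact RingHom.finiteType_algebraMap.mpr hft

theorem closure_union_span_eq {T : X.Opens} (B : QCAlg X) (S : Set Γ(B.toModule, T)) :
    Subring.closure (Set.range (strB B T) ∪
      {s | (show Γ(B.toModule, T) from s) ∈ Submodule.span Γ(X, T) S}) =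
    Subring.closure (Set.range (strB B T) ∪ {s | (show Γ(B.toModule, T) from s) ∈ S}) := by
  have key : ∀ x : Γ(B.toModule, T), x ∈ Submodule.span Γ(X, T) S →
      (show B.presheaf.obj (op T) from x) ∈ Subring.closure (Set.range (strB B T) ∪
        {s | (show Γ(B.toModule, T) from s) ∈ S}) := by
    intro x hx
    induction hx using Submodule.span_induction with
    | mem x hx => exact Subring.subset_closure (Or.inr hx)
    | zero => exact Subring.zero_mem _
    | add x y _ _ hx hy => exact Subring.add_mem _ hx hy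
    | smul r x _ hx =>
      exact Subring.mul_mem _ (Subring.subset_closure (Or.inl ⟨r, rfl⟩)) hx
  apply le_antisymm
  · rw [Subring.closure_le]
    rintro s (hs | hs)
    · exact Subring.subset_closure (Or.inl hs)
    · exact key s hs
  · apply Subring.closure_mono
    rintro s (hs | hs)
    · exact Or.inl hs
    · exact Or.inr (Submodule.subset_span (s := S) hs)

/-- **EGA I 9.6.5 (sectionwise).** -/
theorem exists_finiteType_subalgebra_through_section (h : HasFTThrough X) (B : QCAlg X)
    (U : X.Opens) (hU : IsAffineOpen U) (b : B.presheaf.obj (op U)) :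
    ∃ (B' : QCAlg X) (φ : B' ⟶ B),
      (∀ V : X.Opens, Function.Injective (φ.hom.app (op V)).hom) ∧
      (∀ V : X.affineOpens, (B'.str.app (op (V : X.Opens))).hom.FiniteType) ∧
      b ∈ Set.range (φ.hom.app (op U)).hom := by
  obtain ⟨K, h1, h2, h3⟩ := h B.toModule U hU b
  have hK : ∀ T : X.Opens, IsAffineOpen T → K.IsQCOn T :=
    fun T hT => K.isQCOn_of_isQuasicoherent hT
  have hA : ∀ T : X.Opens, IsAffineOpen T → (genAlg K).IsQCOn T :=
    fun T hT => isQCOn_genAlg K hK hT
  refine ⟨(genAlg K).toQCAlg hA, (genAlg K).incl hA, (genAlg K).incl_injective hA, ?_, ?_⟩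
  · rintro ⟨V, hV⟩
    obtain ⟨S, hS⟩ := K.fg_of_isFiniteType hV
    classical
    refine finiteType_codRestrict_closure (strB B V) ((genAlg K).carrier V)
      (fun r => (genAlg K).str_mem V r) S ?_
    rw [genAlg_carrier_eq K hV (hK V hV), ← hS]
    exact closure_union_span_eq B (S : Set Γ(B.toModule, V))
  · rw [(genAlg K).range_incl hA U]
    exact le_genAlg K U b h3

end Groth.Agent.Lib.Helper3
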