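import Groth.Agent.Lib.Helper3.RelTensor
import Groth.Agent.Lib.Helper29.PullSect
/-!
# `h^* O_{Proj 𝒜}(n) ≅ O_{Proj ℬ}(n)` for the morphism of relative Proj's induced by `𝒜 ⟶ ℬ`,
`𝒜` generated in degree one
-/
universe u
set_option linter.unusedSectionVars false
open CategoryTheory CategoryTheory.Limits AlgebraicGeometry Opposite TopologicalSpace
open AlgebraicGeometry.Scheme.AffineZariskiSite
open scoped HomogeneousIdeal
open Groth.Agent.Lib.Helper29 Groth.Agent.Lib.Helper29.QCoh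

namespace Groth.Agent.Lib.Helper3.PullTriv

section Gen
variable {X Y : Scheme.{u}}

/-- A morphism carrying a trivialising section to a trivialising section is bijective on sections over
all smaller opens. -/
theorem app_bijective_of_isTriv {M N : X.Modules} (φ : M ⟶ N) {W : X.Opens} {e : Γ(M, W)}
    (hM : IsTriv M W e) (hN : IsTriv N W (φ.app W e)) (W' : X.Opens) (hW' : W' ≤ W) :
    Function.Bijective (φ.app W') := by
  have h1 := hM W' hW'
  have h2 := hN W' hW'
  have hcomp : (φ.app W' ∘ (fun r : Γ(X, W') => r • QCoh.res M hW' e) : _ → _) =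
      (fun r : Γ(X, W') => r • QCoh.res N hW' (φ.app W e)) := by
    funext r
    change φ.app W' (r • QCoh.res M hW' e) = _
    rw [Scheme.Modules.Hom.app_smul, QCoh.app_res]
  have h3 : Function.Bijective (φ.app W' ∘ (fun r : Γ(X, W') => r • QCoh.res M hW' e) : _ → _) := by
    rw [hcomp]; exact h2
  exact (Function.Bijective.of_comp_iff _ h1).mp h3

/-- The adjoint of `θ : M ⟶ f_* N` on pulled back sections. -/
theorem adjunct_pullSect (f : X ⟶ Y) {M : Y.Modules} {N : X.Modules}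
    (θ : M ⟶ (Scheme.Modules.pushforward f).obj N) (V : Y.Opens) (m : Γ(M, V)) :
    (((Scheme.Modules.pullbackPushforwardAdjunction f).homEquiv M N).symm θ).app (f ⁻¹ᵁ V)
      (pullSect f M V m) = θ.app V m := by
  rw [Adjunction.homEquiv_symm_apply, Scheme.Modules.Hom.comp_app, ConcreteCategory.comp_apply,
    pullSect_naturality]
  have h := (Scheme.Modules.pullbackPushforwardAdjunction f).right_triangle_components N
  have h2 := congrArg (fun ψ => Scheme.Modules.Hom.app ψ V (θ.app V m)) h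
  simp only [Scheme.Modules.Hom.comp_app, ConcreteCategory.comp_apply] at h2
  exact h2

end Gen

end Groth.Agent.Lib.Helper3.PullTriv

namespace Groth.Agent.Lib.Helper3.RelTwistMap
open RelProj Groth.Agent.Lib.Helper3 Groth.Agent.Lib.Helper3.RelTilde Groth.Agent.Lib.Helper3.RelTwist
open Groth.Agent.Lib.Helper3.RelGlued Groth.Agent.Lib.Helper3.PullTriv

variable {Y PA PB : Scheme.{u}} {𝒜 ℬ : QCGrAlg Y}
  (φ : 𝒜.toQCAlg ⟶ ℬ.toQCAlg) (hφ : IsGradedHom φ)
  (hirr : ∀ (U : Y.Opens) (hU : IsAffineOpen U),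
      (ℬ.deg U hU)₊ ≤ ((𝒜.deg U hU)₊).map (gradedHomAt φ hφ U hU))
  {pA : PA ⟶ Y} {pB : PB ⟶ Y}
  {chartA : ∀ (U : Y.Opens) (hU : IsAffineOpen U), (((pA ⁻¹ᵁ U : PA.Opens) : Scheme.{u}) ≅ Proj (𝒜.deg U hU))}
  {chartB : ∀ (U : Y.Opens) (hU : IsAffineOpen U), (((pB ⁻¹ᵁ U : PB.Opens) : Scheme.{u}) ≅ Proj (ℬ.deg U hU))}
  (hA : IsRelProj 𝒜 pA chartA) (hB : IsRelProj ℬ pB chartB)
  (h : PB ⟶ PA) (hh : IsRelProjMap φ hφ hirr chartA chartB h) (n : ℤ)
  {LA : PA.Modules}
  {lamA : ∀ (U : Y.Opens) (hU : IsAffineOpen U),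
      LA ⟶ (Scheme.Modules.pushforward (emb pA chartA U hU)).obj (GrTwist.twist (𝒜.deg U hU) n)}
  (hLA : IsRelTwist 𝒜 pA chartA n LA lamA)
  {LB : PB.Modules}
  {lamB : ∀ (U : Y.Opens) (hU : IsAffineOpen U),
      LB ⟶ (Scheme.Modules.pushforward (emb pB chartB U hU)).obj (GrTwist.twist (ℬ.deg U hU) n)}
  (hLB : IsRelTwist ℬ pB chartB n LB lamB)

/-- the image of a homogeneous element -/
noncomputable def φg {d : ℕ} (V : Y.AffineZariskiSite) (g : 𝒜.deg V.1 V.2 d) : ℬ.deg V.1 V.2 d :=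
  ⟨φU φ hφ V g.1, (φU φ hφ V).map_mem g.2⟩

/-- The adjoint `h^* O_{PA}(n) ⟶ O_{PB}(n)` of the comparison map is an isomorphism when `𝒜` is
generated in degree one. -/
theorem isIso_adjunct_θ (hgen : 𝒜.IsGenDegOne) :
    IsIso (((Scheme.Modules.pullbackPushforwardAdjunction h).homEquiv LA LB).symm
      (θ φ hφ hirr hA hB h hh n hLA hLB)) := by
  have hE : n = ((n.toNat : ℤ) - (-n).toNat) * (1 : ℕ) := by
    rw [Int.toNat_sub_toNat_neg]; simp
  apply ModGlue.isIso_of_bijective_on_basis _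
    (fun W' => ∃ (W : PB.Opens) (e : Γ((Scheme.Modules.pullback h).obj LA, W)), W' ≤ W ∧
      IsTriv ((Scheme.Modules.pullback h).obj LA) W e ∧
      IsTriv LB W ((((Scheme.Modules.pullbackPushforwardAdjunction h).homEquiv LA LB).symm
        (θ φ hφ hirr hA hB h hh n hLA hLB)).app W e))
  · rintro W₁ W₂ h12 ⟨W, e, hW, h1, h2⟩
    exact ⟨W, e, h12.trans hW, h1, h2⟩
  · intro x
    obtain ⟨V, hV, hxV, -⟩ := exists_isAffineOpen_mem_and_subset (x := pB.base x) (U := ⊤) trivial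
    let U : Y.AffineZariskiSite := ⟨V, hV⟩
    obtain ⟨y, hy⟩ := exists_of_mem_R pB chartB U x hxV
    obtain ⟨g, hg⟩ := ChartInv.exists_deg_one_notMem (𝒜.deg V hV) (hgen V hV)
      (ProjectiveSpectrum.comap (φU φ hφ U) (hirr V hV) y)
    have hgy : (φg φ hφ U g).1 ∉ y.asHomogeneousIdeal := hg
    obtain ⟨sA, hsA1, hsA2⟩ := exists_triv_section pA chartA n hLA U g _ _ hE
    obtain ⟨sB, hsB1, hsB2⟩ := exists_triv_section pB chartB n hLB U (φg φ hφ U g) _ _ hE
    let W : PB.Opens := h ⁻¹ᵁ (stdOpen pA chartA U g) ⊓ stdOpen pB chartB U (φg φ hφ U g)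
    have hxW : x ∈ W := by
      refine ⟨?_, ?_⟩
      · change h.base x ∈ stdOpen pA chartA U g
        have h1 := congrArg (fun m => m.base y) (pm_e φ hφ hirr h hh U)
        simp only [Scheme.Hom.comp_base, TopCat.hom_comp, ContinuousMap.comp_apply] at h1
        rw [← hy, ← h1]
        exact (mem_stdOpen pA chartA U g _).mpr hg
      · rw [← hy]
        exact (mem_stdOpen pB chartB U (φg φ hφ U g) y).mpr hgy
    let e₀ := pullSect h LA (stdOpen pA chartA U g) sA
    have he₀ : IsTriv ((Scheme.Modules.pullback h).obj LA) (h ⁻¹ᵁ (stdOpen pA chartA U g)) e₀ :=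
      hsA1.pullSect h
    refine ⟨W, ⟨W, QCoh.res _ inf_le_left e₀, le_rfl, he₀.restrict inf_le_left, ?_⟩, hxW⟩
    rw [QCoh.app_res, adjunct_pullSect]
    have hkey : QCoh.res LB (inf_le_left : W ≤ h ⁻¹ᵁ (stdOpen pA chartA U g))
        ((θ φ hφ hirr hA hB h hh n hLA hLB).app (stdOpen pA chartA U g) sA) =
        QCoh.res LB (inf_le_right : W ≤ stdOpen pB chartB U (φg φ hφ U g)) sB := by
      have hWle : W ≤ pB ⁻¹ᵁ V := inf_le_right.trans (stdOpen_le pB chartB U (φg φ hφ U g))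
      apply (hLB.bijective V hV W hWle).1
      rw [QCoh.app_res, QCoh.app_res, hsB2]
      apply sec_ext pB chartB n (U := U) (W := W)
      intro y' hy'
      have h1 := θ_val φ hφ hirr hA hB h hh n hLA hLB U (stdOpen pA chartA U g) sA y' hy'.1
      rw [hsA2] at h1
      refine h1.trans ?_
      change GrTwist.locMap (φU φ hφ U) (hirr V hV) y'
        (Localization.mk (g.1 ^ n.toNat) ⟨g.1 ^ (-n).toNat, _⟩) =
        Localization.mk ((φg φ hφ U g).1 ^ n.toNat) ⟨(φg φ hφ U g).1 ^ (-n).toNat, _⟩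
      rw [GrTwist.locMap_mk]
      apply mk_congr
      · rw [map_pow]; rfl
      · change (φU φ hφ U) (g.1 ^ (-n).toNat) = _
        rw [map_pow]; rfl
    change IsTriv LB W (QCoh.res LB _ _)
    rw [hkey]
    exact hsB1.restrict inf_le_right
  · rintro W' ⟨W, e, hW', h1, h2⟩
    exact app_bijective_of_isTriv _ h1 h2 W' hW'

end Groth.Agent.Lib.Helper3.RelTwistMap

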