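import Groth.Agent.Lib.Helper3.TwMul
/-!
# Sections of `O(n)` over `D_+(g)` are finitely generated, for `A` of finite type over `A₀`
-/
set_option autoImplicit false
set_option linter.unusedSectionVars false
universe u
open CategoryTheory CategoryTheory.Limits AlgebraicGeometry Opposite TopologicalSpace DirectSum
open Groth.Agent.Lib.Helper29 Groth.Agent.Lib.Helper29.QCoh

namespace Groth.Agent.Lib.Helper3.TwistFin
open Groth.Agent.Lib.Helper3.TildeQC Groth.Agent.Lib.Helper3.TwistTriv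

section
variable {A σ : Type u} [CommRing A] [SetLike σ A] [AddSubgroupClass σ A] (𝒜 : ℕ → σ) [GradedRing 𝒜]

theorem pow_mem' {d : ℕ} (g : 𝒜 d) (j : ℕ) : g.1 ^ j ∈ 𝒜 (j * d) := by
  have := SetLike.pow_mem_graded j g.2
  rwa [smul_eq_mul] at this

theorem mkSec_zero (n : ℤ) (U : (Proj 𝒜).Opens) {i j : ℕ} (a : 𝒜 i) (s : 𝒜 j)
    (hs : ∀ x : U, s.1 ∉ x.1.asHomogeneousIdeal) (hdeg : (i : ℤ) = j + n) (ha : a.1 = 0) :
    mkSec 𝒜 n U a s hs hdeg = 0 := by
  apply tfun_ext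
  intro x
  rw [tfun_mkSec, ha, Localization.mk_zero]
  rfl

theorem mkSec_add (n : ℤ) (U : (Proj 𝒜).Opens) {i j : ℕ} (a b c : 𝒜 i) (s : 𝒜 j)
    (hs : ∀ x : U, s.1 ∉ x.1.asHomogeneousIdeal) (hdeg : (i : ℤ) = j + n) (h : c.1 = a.1 + b.1) :
    mkSec 𝒜 n U c s hs hdeg = mkSec 𝒜 n U a s hs hdeg + mkSec 𝒜 n U b s hs hdeg := by
  apply tfun_ext
  intro x
  rw [tfun_add, tfun_mkSec, tfun_mkSec, tfun_mkSec, h, Localization.add_mk_self]

theorem mkSec_smul (n : ℤ) (U : (Proj 𝒜).Opens) {i j l : ℕ} (a : 𝒜 i) (s : 𝒜 j) (r t : 𝒜 l)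
    (hs : ∀ x : U, s.1 ∉ x.1.asHomogeneousIdeal) (ht : ∀ x : U, t.1 ∉ x.1.asHomogeneousIdeal)
    {i' j' : ℕ} (c' : 𝒜 i') (s' : 𝒜 j') (hs' : ∀ x : U, s'.1 ∉ x.1.asHomogeneousIdeal)
    (hdeg : (i : ℤ) = j + n) (hdeg' : (i' : ℤ) = j' + n)
    (h : s'.1 * (r.1 * a.1) = (t.1 * s.1) * c'.1) :
    mkO 𝒜 U r t ht • mkSec 𝒜 n U a s hs hdeg = mkSec 𝒜 n U c' s' hs' hdeg' := by
  apply tfun_ext
  intro x
  rw [tfun_smul, ofun_mkO, tfun_mkSec, tfun_mkSec, Localization.mk_mul]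
  apply mk_eq_mk_of_mul_eq
  exact h

/-- Sections of `O(n)` over `D_+(g)` form a finitely generated module, for `A` of finite type over `A₀`. -/
theorem twist_sections_finite [Algebra.FiniteType (𝒜 0) A] (n : ℤ) {d : ℕ} (hd : 0 < d) (g : 𝒜 d)
    (W : (Proj 𝒜).Opens) (hW : W = Proj.basicOpen 𝒜 g.1) :
    Module.Finite Γ(Proj 𝒜, W) Γ(GrTwist.twist 𝒜 n, W) := by
  classical
  subst hW
  obtain ⟨s, hs, hs'⟩ := GradedAlgebra.exists_finset_adjoin_eq_top_and_homogeneous_ne_zero 𝒜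
  choose dv hdv0 hdv using Subtype.forall'.mp hs'
  have hadj : Algebra.adjoin (𝒜 0) (Set.range (Subtype.val : s → A)) = ⊤ := by simpa using hs
  have hsg : ∀ (j : ℕ) (x : Proj.basicOpen 𝒜 g.1), g.1 ^ j ∉ x.1.asHomogeneousIdeal :=
    fun j x => pow_not_mem_of_not_mem x.2 j
  let mon : (s → ℕ) → A := fun α => ∏ i : s, i.1 ^ α i
  let deg : (s → ℕ) → ℕ := fun α => ∑ i, α i • dv i
  have hmon : ∀ α, mon α ∈ 𝒜 (deg α) := fun α =>
    SetLike.prod_pow_mem_graded _ _ _ _ fun i _ => hdv i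
  let F : (s → Fin d) → Γ(GrTwist.twist 𝒜 n, Proj.basicOpen 𝒜 g.1) := fun ρ =>
    if h : ∃ a b : ℕ, ((deg (fun i => (ρ i : ℕ)) : ℤ) + a * d = b * d + n) then
      mkSec 𝒜 n (Proj.basicOpen 𝒜 g.1)
        (⟨mon (fun i => (ρ i : ℕ)) * g.1 ^ h.choose,
          SetLike.mul_mem_graded (hmon _) (pow_mem' 𝒜 g _)⟩ :
          𝒜 (deg (fun i => (ρ i : ℕ)) + h.choose * d))
        (⟨g.1 ^ h.choose_spec.choose, pow_mem' 𝒜 g _⟩ : 𝒜 (h.choose_spec.choose * d)) (hsg _)
        (by push_cast; exact h.choose_spec.choose_spec)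
    else 0
  have hF : ∀ (ρ : s → Fin d) (a b : ℕ),
      ((deg (fun i => (ρ i : ℕ)) : ℤ) + a * d = b * d + n) → ∀ x : Proj.basicOpen 𝒜 g.1,
        tfun 𝒜 (F ρ) x =
          Localization.mk (mon (fun i => (ρ i : ℕ)) * g.1 ^ a) ⟨g.1 ^ b, hsg b x⟩ := by
    intro ρ a b hab x
    have h : ∃ a b : ℕ, ((deg (fun i => (ρ i : ℕ)) : ℤ) + a * d = b * d + n) := ⟨a, b, hab⟩
    have hFρ : F ρ = mkSec 𝒜 n (Proj.basicOpen 𝒜 g.1)
        (⟨mon (fun i => (ρ i : ℕ)) * g.1 ^ h.choose,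
          SetLike.mul_mem_graded (hmon _) (pow_mem' 𝒜 g _)⟩ :
          𝒜 (deg (fun i => (ρ i : ℕ)) + h.choose * d))
        (⟨g.1 ^ h.choose_spec.choose, pow_mem' 𝒜 g _⟩ : 𝒜 (h.choose_spec.choose * d)) (hsg _)
        (by push_cast; exact h.choose_spec.choose_spec) := dif_pos h
    rw [hFρ, tfun_mkSec]
    apply mk_eq_mk_of_mul_eq
    have hab' := h.choose_spec.choose_spec
    have h1 : ((h.choose : ℤ) + b) * d = ((a : ℤ) + h.choose_spec.choose) * d := by linarith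
    have hd' : (d : ℤ) ≠ 0 := by exact_mod_cast hd.ne'
    have h2 : (h.choose : ℤ) + b = (a : ℤ) + h.choose_spec.choose := mul_right_cancel₀ hd' h1
    have h3 : h.choose + b = a + h.choose_spec.choose := by exact_mod_cast h2
    have h4 : g.1 ^ b * g.1 ^ h.choose = g.1 ^ h.choose_spec.choose * g.1 ^ a := by
      rw [← pow_add, ← pow_add]
      congr 1
      omega
    change g.1 ^ b * (mon (fun i => (ρ i : ℕ)) * g.1 ^ h.choose) =
      g.1 ^ h.choose_spec.choose * (mon (fun i => (ρ i : ℕ)) * g.1 ^ a)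
    linear_combination (mon fun i => (ρ i : ℕ)) * h4
  refine ⟨⟨Finset.univ.image F, ?_⟩⟩
  rw [eq_top_iff]
  rintro σ' -
  obtain ⟨k, m, μ, hm, hval⟩ := TwMul.exists_tfun_eq_mk_basicOpen 𝒜 n hd g σ'
  have hm' : (m : ℤ) = ((k * d : ℕ) : ℤ) + n := by push_cast; exact hm
  let Φ : A → Γ(GrTwist.twist 𝒜 n, Proj.basicOpen 𝒜 g.1) := fun x =>
    mkSec 𝒜 n (Proj.basicOpen 𝒜 g.1) (decompose 𝒜 x m)
      (⟨g.1 ^ k, pow_mem' 𝒜 g k⟩ : 𝒜 (k * d)) (hsg k) hm'
  have hσ : σ' = Φ μ.1 := by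
    apply tfun_ext
    intro x
    rw [hval x, tfun_mkSec, decompose_of_mem_same 𝒜 μ.2]
  have hΦ0 : ∀ x, (decompose 𝒜 x m : A) = 0 → Φ x = 0 := fun x hx =>
    mkSec_zero 𝒜 n _ _ _ _ _ hx
  have hΦadd : ∀ x y, Φ (x + y) = Φ x + Φ y := fun x y =>
    mkSec_add 𝒜 n _ _ _ _ _ _ _ (by rw [decompose_add]; rfl)
  have hΦsmul : ∀ (c : 𝒜 0) (x : A), Φ (c.1 * x) =
      mkO 𝒜 (Proj.basicOpen 𝒜 g.1) c (⟨1, SetLike.GradedOne.one_mem⟩ : 𝒜 0)
        (fun y => one_not_mem y.1) • Φ x := by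
    intro c x
    symm
    apply mkSec_smul
    change g.1 ^ k * (c.1 * (decompose 𝒜 x m : A)) = (1 * g.1 ^ k) * (decompose 𝒜 (c.1 * x) m : A)
    rw [coe_decompose_mul_of_left_mem_zero 𝒜 c.2]
    ring
  have key : ∀ x : A, Φ x ∈ Submodule.span Γ(Proj 𝒜, Proj.basicOpen 𝒜 g.1)
      ((Finset.univ.image F : Finset _) : Set Γ(GrTwist.twist 𝒜 n, Proj.basicOpen 𝒜 g.1)) := by
    intro x
    have hx : x ∈ Submodule.span (𝒜 0)
        (Submonoid.closure (Set.range (Subtype.val : s → A)) : Set A) := by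
      rw [← Algebra.adjoin_eq_span, hadj]; trivial
    induction hx using Submodule.span_induction with
    | mem x hx =>
      obtain ⟨α, rfl⟩ := Submonoid.exists_of_mem_closure_range _ _ hx
      by_cases hdeg : deg α = m
      · let q : s → ℕ := fun i => α i / d
        let ρ : s → Fin d := fun i => ⟨α i % d, Nat.mod_lt _ hd⟩
        let e : ℕ := ∑ i, q i * dv i
        let u : A := ∏ i : s, i.1 ^ (d * q i)
        have hu : u ∈ 𝒜 (e * d) := by
          have h1 : u ∈ 𝒜 (∑ i, (d * q i) • dv i) :=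
            SetLike.prod_pow_mem_graded _ _ _ _ fun i _ => hdv i
          have h2 : ∑ i, (d * q i) • dv i = e * d := by
            simp only [e, smul_eq_mul, Finset.sum_mul]
            apply Finset.sum_congr rfl
            intro i _
            ring
          rwa [h2] at h1
        have hαu : mon α = u * mon (fun i => (ρ i : ℕ)) := by
          simp only [mon, u, ρ]
          rw [← Finset.prod_mul_distrib]
          apply Finset.prod_congr rfl
          intro i _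
          rw [← pow_add, Nat.div_add_mod]
        have hdegα : deg α = e * d + deg (fun i => (ρ i : ℕ)) := by
          simp only [deg, e, ρ, q, smul_eq_mul, Finset.sum_mul]
          rw [← Finset.sum_add_distrib]
          apply Finset.sum_congr rfl
          intro i _
          conv_lhs => rw [← Nat.div_add_mod (α i) d]
          ring
        have hab : ((deg (fun i => (ρ i : ℕ)) : ℤ) + e * d = k * d + n) := by
          have : ((deg α : ℕ) : ℤ) = k * d + n := by rw [hdeg]; exact hm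
          rw [hdegα] at this
          push_cast at this
          linarith
        have hΦα : Φ (∏ i : s, i.1 ^ α i) =
            mkO 𝒜 (Proj.basicOpen 𝒜 g.1) (⟨u, hu⟩ : 𝒜 (e * d))
              (⟨g.1 ^ e, pow_mem' 𝒜 g e⟩ : 𝒜 (e * d)) (hsg e) • F ρ := by
          apply tfun_ext
          intro y
          rw [tfun_smul, ofun_mkO, hF ρ e k hab y, tfun_mkSec, Localization.mk_mul]
          apply mk_eq_mk_of_mul_eq
          change (g.1 ^ e * g.1 ^ k) * (decompose 𝒜 (mon α) m : A) =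
            g.1 ^ k * (u * (mon (fun i => (ρ i : ℕ)) * g.1 ^ e))
          rw [decompose_of_mem_same 𝒜 (hdeg ▸ hmon α), hαu]
          ring
        rw [hΦα]
        exact Submodule.smul_mem _ _ (Submodule.subset_span
          (Finset.mem_coe.mpr (Finset.mem_image_of_mem F (Finset.mem_univ ρ))))
      · rw [hΦ0 _ (decompose_of_mem_ne 𝒜 (hmon α) hdeg)]
        exact zero_mem _
    | zero =>
      rw [hΦ0 0 (by rw [decompose_zero]; rfl)]
      exact zero_mem _
    | add x y _ _ hx hy =>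
      rw [hΦadd]
      exact add_mem hx hy
    | smul c x _ hx =>
      have : c • x = c.1 * x := rfl
      rw [this, hΦsmul]
      exact Submodule.smul_mem _ _ hx
  rw [hσ]
  exact key _

end

end Groth.Agent.Lib.Helper3.TwistFin
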