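import Groth.Agent.Lib.Helper3.TildeQC
/-!
# The twisting sheaves `O(n)` on `Proj` are quasi-coherent (gradings by additive subgroups)
-/
universe u
open CategoryTheory CategoryTheory.Limits AlgebraicGeometry Opposite TopologicalSpace

namespace Groth.Agent.Lib.Helper3.TwistQC

variable {A σ : Type u} [CommRing A] [SetLike σ A] [AddSubgroupClass σ A] (𝒜 : ℕ → σ) [GradedRing 𝒜]

/-- The twisting sheaf is the module attached to `A(n)` (definitionally). -/
theorem tilde_eq_twist (n : ℤ) : GrMod.tilde 𝒜 𝒜 n = GrTwist.twist 𝒜 n := rfl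

theorem twist_isQuasicoherent (n : ℤ) : (GrTwist.twist 𝒜 n).IsQuasicoherent :=
  tilde_eq_twist 𝒜 n ▸ TildeQC.tilde_isQuasicoherent 𝒜 𝒜 n

end Groth.Agent.Lib.Helper3.TwistQC
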