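import Groth.Agent.Lib.Helper3.AwayBC
import Groth.Agent.Helper19.PullUnit
import Groth.Agent.Lib.Helper3.RelTwistPull
import Groth.Agent.Lib.Helper29.IsoCover
import Groth.Agent.Lib.Helper29.QCohPullback
import Groth.Agent.Lib.Helper3.TwistFin
import Groth.Agent.Lib.Helper3.TwistQC
/-!
# The twisting sheaves O(n) on Proj commute with base change of the coefficient ring (EGA II 2.8.10/3.5.3 for twists)
-/
set_option autoImplicit false
set_option linter.unusedSectionVars false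
universe u
open CategoryTheory CategoryTheory.Limits AlgebraicGeometry Opposite TopologicalSpace
open HomogeneousLocalization TensorProduct
open scoped HomogeneousIdeal

namespace Groth.Agent.Lib.Helper3.TwistBC

section AT
variable {R R' A B : Type u} [CommRing R] [CommRing R'] [CommRing A] [CommRing B]
  [Algebra R R'] [Algebra R A] [Algebra R' B] [Algebra A B] [Algebra R B]
  [IsScalarTower R R' B] [IsScalarTower R A B] [Algebra.IsPushout R R' A B]
  {σ τ : Type u} [SetLike σ A] [AddSubgroupClass σ A] (𝒜 : ℕ → σ) [GradedRing 𝒜]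
  [SetLike τ B] [AddSubgroupClass τ B] (ℬ : ℕ → τ) [GradedRing ℬ]
  (ρ₀' : R' →+* ℬ 0) (hρ₀' : ∀ r, (ρ₀' r : B) = algebraMap R' B r)
  (ψ : 𝒜 →+*ᵍ ℬ) (hψ : ∀ a, ψ a = algebraMap A B a)
  {d : ℕ} {f : A} (hf : f ∈ 𝒜 d) (n₀ : ℕ)
  {M₀ N₀ : Type u} [AddCommGroup M₀] [AddCommGroup N₀] [Module R M₀] [Module R' N₀] [Module R N₀]
  [IsScalarTower R R' N₀]
  (L : ℕ → A →ₗ[R] M₀) (L' : ℕ → B →ₗ[R'] N₀) (v : M₀ →ₗ[R] N₀)
  (hL2 : ∀ k m a, L (k + m) (a * f ^ m) = L k a)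
  (hL3 : ∀ x : M₀, ∃ k a, a ∈ 𝒜 (n₀ + k * d) ∧ x = L k a)
  (hL3' : ∀ y : N₀, ∃ k b, b ∈ ℬ (n₀ + k * d) ∧ y = L' k b)
  (hL4' : ∀ k b, b ∈ ℬ (n₀ + k * d) → L' k b = 0 → ∃ m, b * ψ f ^ m = 0)
  (hv : ∀ k a, v (L k a) = L' k (ψ a))

open AwayBC in
include hρ₀' hψ hf hL2 hL3 hL3' hL4' hv in
/-- sections of the twisting sheaves over standard opens commute with base change of coefficients
(abstract form) -/
theorem bijective_liftBaseChange : Function.Bijective (v.liftBaseChange R') := by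
  have hψf : ψ f ∈ ℬ d := ψ.map_mem hf
  let Φ : R' ⊗[R] M₀ →ₗ[R'] N₀ := v.liftBaseChange R'
  let T : ℕ → R' ⊗[R] A →ₗ[R] R' ⊗[R] M₀ := fun k => LinearMap.lTensor R' (L k)
  let M : ℕ → R' ⊗[R] A →ₗ[R] R' ⊗[R] A := fun m => LinearMap.lTensor R' (LinearMap.mulRight R (f ^ m))
  have I1 : ∀ k s, Φ (T k s) = L' k (eB (R := R) s) := by
    intro k s
    induction s using TensorProduct.induction_on with
    | zero => simp
    | tmul r' a =>
      change Φ (r' ⊗ₜ[R] L k a) = _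
      rw [LinearMap.liftBaseChange_tmul, eB_tmul, map_smul, hv,
        show algebraMap A B a = ψ a from (hψ a).symm]
    | add x y hx hy => rw [map_add, map_add, hx, hy, map_add, map_add]
  have I2 : ∀ k m s, T k s = T (k + m) (M m s) := by
    intro k m s
    induction s using TensorProduct.induction_on with
    | zero => simp
    | tmul r' a =>
      change r' ⊗ₜ[R] L k a = r' ⊗ₜ[R] L (k + m) (a * f ^ m)
      rw [hL2]
    | add x y hx hy => rw [map_add, map_add, map_add, hx, hy]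
  have I5 : ∀ m s, eB (R := R) (M m s) = eB (R := R) s * ψ f ^ m := by
    intro m s
    induction s using TensorProduct.induction_on with
    | zero => simp
    | tmul r' a =>
      change eB (R := R) (r' ⊗ₜ[R] (a * f ^ m)) = _
      rw [eB_tmul, eB_tmul, map_mul, map_pow, show algebraMap A B f = ψ f from (hψ f).symm, smul_mul_assoc]
    | add x y hx hy => rw [map_add, map_add, hx, hy, map_add, add_mul]
  have I3 : ∀ t : R' ⊗[R] M₀, ∃ k s, t = T k s ∧ eB (R := R) s ∈ ℬ (n₀ + k * d) := by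
    intro t
    induction t using TensorProduct.induction_on with
    | zero => exact ⟨0, 0, by simp, by simp⟩
    | tmul r' x =>
      obtain ⟨k, a, ha, rfl⟩ := hL3 x
      refine ⟨k, r' ⊗ₜ[R] a, rfl, ?_⟩
      have hsm : r' • algebraMap A B a = (ρ₀' r' : B) * ψ a := by
        rw [Algebra.smul_def, hρ₀', hψ]
      rw [eB_tmul, hsm]
      simpa using SetLike.mul_mem_graded (ρ₀' r').2 (ψ.map_mem ha)
    | add x y hx hy =>
      obtain ⟨k, s₁, rfl, h₁⟩ := hx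
      obtain ⟨l, s₂, rfl, h₂⟩ := hy
      refine ⟨k + l, M l s₁ + M k s₂, ?_, ?_⟩
      · rw [map_add, ← I2 k l s₁]
        have := I2 l k s₂
        rw [add_comm l k] at this
        rw [← this]
      · rw [map_add, I5, I5]
        refine add_mem ?_ ?_
        · have : n₀ + (k + l) * d = (n₀ + k * d) + l • d := by simp [add_mul, add_assoc]
          rw [this]
          exact SetLike.mul_mem_graded h₁ (SetLike.pow_mem_graded l hψf)
        · have : n₀ + (k + l) * d = (n₀ + l * d) + k • d := by simp [add_mul]; ring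
          rw [this]
          exact SetLike.mul_mem_graded h₂ (SetLike.pow_mem_graded k hψf)
  constructor
  · rw [injective_iff_map_eq_zero]
    intro t ht
    obtain ⟨k, s, rfl, hs⟩ := I3 t
    change Φ (T k s) = 0 at ht
    rw [I1] at ht
    obtain ⟨m, hm⟩ := hL4' k _ hs ht
    have h0 : M m s = 0 := by
      apply (eB (R := R) (R' := R') (A := A) (B := B)).injective
      rw [I5, map_zero]
      exact hm
    rw [I2 k m s, h0, map_zero]
  · intro y
    obtain ⟨k, b, hb, rfl⟩ := hL3' y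
    refine ⟨T k ((eB (R := R) (R' := R') (A := A) (B := B)).symm b), ?_⟩
    change Φ (T k _) = _
    rw [I1, LinearEquiv.apply_symm_apply]

end AT

end Groth.Agent.Lib.Helper3.TwistBC

open CategoryTheory CategoryTheory.Limits AlgebraicGeometry Opposite TopologicalSpace
open HomogeneousLocalization TensorProduct
open scoped HomogeneousIdeal

namespace Groth.Agent.Lib.Helper3.TwistBC

section AT2
variable {R R' S₀ S₀' : Type u} [CommRing R] [CommRing R'] [CommRing S₀] [CommRing S₀']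
  [Algebra R R'] [Algebra R S₀] [Algebra R' S₀'] [Algebra S₀ S₀'] [Algebra R S₀']
  [IsScalarTower R R' S₀'] [IsScalarTower R S₀ S₀']
  {M₀ N₀ : Type u} [AddCommGroup M₀] [AddCommGroup N₀] [Module R M₀] [Module R' N₀] [Module R N₀]
  [IsScalarTower R R' N₀]
  [Module S₀ M₀] [IsScalarTower R S₀ M₀] [Module S₀' N₀] [IsScalarTower R' S₀' N₀]
  [Module S₀ N₀] [IsScalarTower S₀ S₀' N₀]
  (v : M₀ →ₗ[R] N₀) (v' : M₀ →ₗ[S₀] N₀) (hvv' : ∀ m, v' m = v m)
  (hspan : Submodule.span R' (Set.range (algebraMap S₀ S₀')) = ⊤)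

include hvv' hspan in
/-- from base change along `R → R'` to base change along `S₀ → S₀'` -/
theorem bijective_liftBaseChange_of_span (hΦ : Function.Bijective (v.liftBaseChange R')) :
    Function.Bijective (v'.liftBaseChange S₀') := by
  -- the comparison map
  let κ : R' ⊗[R] M₀ →+ S₀' ⊗[S₀] M₀ :=
    TensorProduct.liftAddHom
      { toFun := fun r' =>
          { toFun := fun m => (algebraMap R' S₀' r') ⊗ₜ[S₀] m
            map_zero' := by simp
            map_add' := fun a b => by rw [tmul_add] }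
        map_zero' := by ext m; simp
        map_add' := fun a b => by ext m; simp [add_tmul] }
      (fun r r' m => by
        change algebraMap R' S₀' (r • r') ⊗ₜ[S₀] m = algebraMap R' S₀' r' ⊗ₜ[S₀] (r • m)
        have h1 : algebraMap R' S₀' (r • r') = algebraMap R S₀ r • algebraMap R' S₀' r' := by
          rw [Algebra.smul_def, map_mul, Algebra.smul_def,
            ← IsScalarTower.algebraMap_apply R R' S₀', IsScalarTower.algebraMap_apply R S₀ S₀']
        have h2 : r • m = algebraMap R S₀ r • m := (algebraMap_smul S₀ r m).symm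
        rw [h1, h2, TensorProduct.smul_tmul])
  have hκ : ∀ r' m, κ (r' ⊗ₜ[R] m) = (algebraMap R' S₀' r') ⊗ₜ[S₀] m := fun r' m => rfl
  have hTκ : ∀ t, v'.liftBaseChange S₀' (κ t) = v.liftBaseChange R' t := by
    intro t
    induction t using TensorProduct.induction_on with
    | zero => simp
    | tmul r' m =>
      rw [hκ, LinearMap.liftBaseChange_tmul, LinearMap.liftBaseChange_tmul, hvv', algebraMap_smul]
    | add x y hx hy => rw [map_add, map_add, hx, hy, map_add]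
  have hκsurj : Function.Surjective κ := by
    intro x
    induction x using TensorProduct.induction_on with
    | zero => exact ⟨0, map_zero _⟩
    | tmul b m =>
      have hb : b ∈ Submodule.span R' (Set.range (algebraMap S₀ S₀')) := hspan ▸ Submodule.mem_top
      induction hb using Submodule.span_induction with
      | mem b hb =>
        obtain ⟨s, rfl⟩ := hb
        refine ⟨1 ⊗ₜ[R] (s • m), ?_⟩
        rw [hκ, map_one]
        have : algebraMap S₀ S₀' s = s • (1 : S₀') := by rw [Algebra.smul_def, mul_one]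
        rw [this, TensorProduct.smul_tmul]
      | zero => exact ⟨0, by simp⟩
      | add b₁ b₂ _ _ h₁ h₂ =>
        obtain ⟨t₁, ht₁⟩ := h₁
        obtain ⟨t₂, ht₂⟩ := h₂
        exact ⟨t₁ + t₂, by rw [map_add, ht₁, ht₂, add_tmul]⟩
      | smul r' b _ hb =>
        obtain ⟨t, ht⟩ := hb
        -- multiply by r' on the left
        let μ : R' ⊗[R] M₀ →ₗ[R] R' ⊗[R] M₀ := LinearMap.rTensor M₀ (LinearMap.mulLeft R r')
        refine ⟨μ t, ?_⟩
        have hμ : ∀ t, κ (μ t) = algebraMap R' S₀' r' • κ t := by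
          intro t
          induction t using TensorProduct.induction_on with
          | zero => simp
          | tmul a m' =>
            change κ ((r' * a) ⊗ₜ[R] m') = _
            rw [hκ, hκ, map_mul, TensorProduct.smul_tmul', smul_eq_mul]
          | add x y hx hy => rw [map_add, map_add, hx, hy, map_add, smul_add]
        rw [hμ, ht, TensorProduct.smul_tmul', Algebra.smul_def r' b, smul_eq_mul]
    | add x y hx hy =>
      obtain ⟨t₁, ht₁⟩ := hx
      obtain ⟨t₂, ht₂⟩ := hy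
      exact ⟨t₁ + t₂, by rw [map_add, ht₁, ht₂]⟩
  constructor
  · rw [injective_iff_map_eq_zero]
    intro x hx
    obtain ⟨t, rfl⟩ := hκsurj x
    rw [hTκ] at hx
    have : t = 0 := hΦ.1 (hx.trans (map_zero _).symm)
    rw [this, map_zero]
  · intro y
    obtain ⟨t, ht⟩ := hΦ.2 y
    exact ⟨κ t, by rw [hTκ, ht]⟩

end AT2

end Groth.Agent.Lib.Helper3.TwistBC

open CategoryTheory CategoryTheory.Limits AlgebraicGeometry Opposite TopologicalSpace
open TensorProduct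
open Groth.Agent.Lib.Helper29 Groth.Agent.Lib.Helper29.QCoh

namespace Groth.Agent.Lib.Helper3.TwistBC

section Crit
variable {X Y : Scheme.{u}} (f : X ⟶ Y) {M : Y.Modules} {N : X.Modules}
  (θ : M ⟶ (Scheme.Modules.pushforward f).obj N)
  {U : X.Opens} {V : Y.Opens} (e : U ≤ f ⁻¹ᵁ V)

/-- `m ↦ θ(m)|_U` -/
noncomputable def secFun : Γ(M, V) →+ Γ(N, U) :=
  (res N e).comp ((θ.app V).hom : Γ(M, V) →+ Γ(N, f ⁻¹ᵁ V))

theorem secFun_apply (m : Γ(M, V)) : secFun f θ e m = res N e (θ.app V m) := rfl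

theorem secFun_smul (r : Γ(Y, V)) (m : Γ(M, V)) :
    secFun f θ e (r • m) = (f.appLE V U e).hom r • secFun f θ e m := by
  rw [secFun_apply, secFun_apply, Scheme.Modules.Hom.app_smul]
  exact QCoh.res_smul N e ((f.app V).hom r) (θ.app V m)

/-- `m ↦ θ(m)|_U` as a linear map -/
noncomputable def secMap :
    letI := (f.appLE V U e).hom.toAlgebra
    letI := Module.compHom Γ(N, U) (f.appLE V U e).hom
    Γ(M, V) →ₗ[Γ(Y, V)] Γ(N, U) :=
  letI := (f.appLE V U e).hom.toAlgebra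
  letI := Module.compHom Γ(N, U) (f.appLE V U e).hom
  { toFun := secFun f θ e
    map_add' := map_add _
    map_smul' := fun r m => secFun_smul f θ e r m }

theorem isScalarTower_compHom :
    letI := (f.appLE V U e).hom.toAlgebra
    letI := Module.compHom Γ(N, U) (f.appLE V U e).hom
    IsScalarTower Γ(Y, V) Γ(X, U) Γ(N, U) :=
  letI := (f.appLE V U e).hom.toAlgebra
  letI := Module.compHom Γ(N, U) (f.appLE V U e).hom
  IsScalarTower.of_algebraMap_smul fun _ _ => rfl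

variable [M.IsQuasicoherent] (hU : IsAffineOpen U) (hV : IsAffineOpen V)

/-- the adjoint of `θ` on sections over an affine pair, through `pullbackSectionsEquiv` -/
theorem adjunct_app_eq (t : Γ((Scheme.Modules.pullback f).obj M, U)) :
    letI := (f.appLE V U e).hom.toAlgebra
    letI := Module.compHom Γ(N, U) (f.appLE V U e).hom
    letI := isScalarTower_compHom f (N := N) e
    (((Scheme.Modules.pullbackPushforwardAdjunction f).homEquiv M N).symm θ).app U t =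
      (secMap f θ e).liftBaseChange Γ(X, U) (pullbackSectionsEquiv f M hU hV e t) := by
  letI := (f.appLE V U e).hom.toAlgebra
  letI := Module.compHom Γ(N, U) (f.appLE V U e).hom
  letI := isScalarTower_compHom f (N := N) e
  obtain ⟨x, rfl⟩ := (pullbackSectionsEquiv f M hU hV e).symm.surjective t
  rw [LinearEquiv.apply_symm_apply]
  induction x using TensorProduct.induction_on with
  | zero => simp
  | tmul b m =>
    have h1 : (pullbackSectionsEquiv f M hU hV e).symm (b ⊗ₜ[Γ(Y, V)] m) =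
        b • res ((Scheme.Modules.pullback f).obj M) e (pullSect f M V m) := by
      rw [LinearEquiv.symm_apply_eq, map_smul,
        Groth.Agent.Helper19.PullUnit.pullbackSectionsEquiv_pullSect f M hU hV e m,
        TensorProduct.smul_tmul', smul_eq_mul, mul_one]
    rw [h1, app_smul', app_res, Groth.Agent.Lib.Helper3.PullTriv.adjunct_pullSect, LinearMap.liftBaseChange_tmul]
    rfl
  | add x y hx hy =>
    rw [map_add, map_add, hx, hy, map_add]

end Crit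

section Crit2
variable {X Y : Scheme.{u}} (f : X ⟶ Y) {M : Y.Modules} {N : X.Modules}
  [M.IsQuasicoherent] [N.IsQuasicoherent]
  (θ : M ⟶ (Scheme.Modules.pushforward f).obj N)

/-- **Sectionwise criterion** for the adjoint `f^*M ⟶ N` of `θ : M ⟶ f_*N` to be an isomorphism. -/
theorem isIso_adjunct_of_bijective {ι : Type*} (U : ι → X.Opens) (V : ι → Y.Opens)
    (hU : ∀ i, IsAffineOpen (U i)) (hV : ∀ i, IsAffineOpen (V i)) (hUV : ∀ i, U i ≤ f ⁻¹ᵁ V i)
    (hcov : ∀ x : X, ∃ i, x ∈ U i)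
    (H : ∀ i,
      letI := (f.appLE (V i) (U i) (hUV i)).hom.toAlgebra
      letI := Module.compHom Γ(N, U i) (f.appLE (V i) (U i) (hUV i)).hom
      letI := isScalarTower_compHom f (N := N) (hUV i)
      Function.Bijective ((secMap f θ (hUV i)).liftBaseChange Γ(X, U i))) :
    IsIso (((Scheme.Modules.pullbackPushforwardAdjunction f).homEquiv M N).symm θ) := by
  refine isIso_of_app_bijective_of_affine_cover _ U hU hcov fun i => ?_
  letI := (f.appLE (V i) (U i) (hUV i)).hom.toAlgebra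
  letI := Module.compHom Γ(N, U i) (f.appLE (V i) (U i) (hUV i)).hom
  letI := isScalarTower_compHom f (N := N) (hUV i)
  have h1 : ⇑(ConcreteCategory.hom ((((Scheme.Modules.pullbackPushforwardAdjunction f).homEquiv M N).symm θ).app (U i))) =
      ⇑((secMap f θ (hUV i)).liftBaseChange Γ(X, U i)) ∘ ⇑(pullbackSectionsEquiv f M (hU i) (hV i) (hUV i)) := by
    funext t
    exact adjunct_app_eq f θ (hUV i) (hU i) (hV i) t
  rw [h1]
  exact (H i).comp (pullbackSectionsEquiv f M (hU i) (hV i) (hUV i)).bijective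

end Crit2

end Groth.Agent.Lib.Helper3.TwistBC

open CategoryTheory CategoryTheory.Limits AlgebraicGeometry Opposite TopologicalSpace
open HomogeneousLocalization TensorProduct DirectSum
open scoped HomogeneousIdeal
open Groth.Agent.Lib.Helper29 Groth.Agent.Lib.Helper29.QCoh
open Groth.Agent.Lib.Helper3.TildeQC Groth.Agent.Lib.Helper3.TwistTriv

namespace Groth.Agent.Lib.Helper3.TwistBC

/-- a shift making all degrees nonnegative -/
def k0 (n : ℤ) : ℕ := (-n).toNat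

/-- the base degree -/
def n0 (n : ℤ) (d : ℕ) : ℕ := (n + k0 n * d).toNat

theorem n0_spec (n : ℤ) {d : ℕ} (hd : 0 < d) : ((n0 n d : ℕ) : ℤ) = n + k0 n * d := by
  unfold n0
  rw [Int.toNat_of_nonneg]
  unfold k0
  have h1 : (-n) ≤ ((-n).toNat : ℤ) := Int.self_le_toNat _
  have h2 : (0 : ℤ) ≤ ((-n).toNat : ℤ) := Int.natCast_nonneg _
  have h3 : (1 : ℤ) ≤ d := by exact_mod_cast hd
  nlinarith

section Geo
variable {A σ : Type u} [CommRing A] [SetLike σ A] [AddSubgroupClass σ A]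
  (𝒜 : ℕ → σ) [GradedRing 𝒜] {d : ℕ} (hd : 0 < d) {f : A} (hf : f ∈ 𝒜 d) (n : ℤ)

theorem hsf (j : ℕ) (x : Proj.basicOpen 𝒜 f) : f ^ j ∉ x.1.asHomogeneousIdeal :=
  pow_not_mem_of_not_mem x.2 j

include hd in
theorem hdegL (k : ℕ) : ((n0 n d + k * d : ℕ) : ℤ) = (((k0 n + k) * d : ℕ) : ℤ) + n := by
  push_cast
  rw [n0_spec n hd]
  ring

/-- the section `a_{n₀+kd} / f^{k₀+k}` of `O(n)` over `D₊(f)` -/
noncomputable def Lsec (k : ℕ) (a : A) : Γ(GrTwist.twist 𝒜 n, Proj.basicOpen 𝒜 f) :=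
  mkSec 𝒜 n (Proj.basicOpen 𝒜 f) (decompose 𝒜 a (n0 n d + k * d))
    (⟨f ^ (k0 n + k), TwistFin.pow_mem' 𝒜 ⟨f, hf⟩ (k0 n + k)⟩ : 𝒜 ((k0 n + k) * d)) (hsf 𝒜 _) (hdegL hd n k)

theorem tfun_Lsec (k : ℕ) (a : A) (x : Proj.basicOpen 𝒜 f) :
    tfun 𝒜 (Lsec 𝒜 hd hf n k a) x =
      Localization.mk (decompose 𝒜 a (n0 n d + k * d) : A) ⟨f ^ (k0 n + k), hsf 𝒜 _ x⟩ := rfl

theorem Lsec_add (k : ℕ) (a b : A) :
    Lsec 𝒜 hd hf n k (a + b) = Lsec 𝒜 hd hf n k a + Lsec 𝒜 hd hf n k b :=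
  TwistFin.mkSec_add 𝒜 n _ _ _ _ _ _ _ (by rw [decompose_add]; rfl)

theorem Lsec_of_mem (k : ℕ) (a : A) (ha : a ∈ 𝒜 (n0 n d + k * d)) (x : Proj.basicOpen 𝒜 f) :
    tfun 𝒜 (Lsec 𝒜 hd hf n k a) x = Localization.mk a ⟨f ^ (k0 n + k), hsf 𝒜 _ x⟩ := by
  rw [tfun_Lsec, decompose_of_mem_same 𝒜 ha]

/-- shift -/
theorem Lsec_mul_pow (k m : ℕ) (a : A) :
    Lsec 𝒜 hd hf n (k + m) (a * f ^ m) = Lsec 𝒜 hd hf n k a := by
  apply tfun_ext
  intro x
  rw [tfun_Lsec, tfun_Lsec]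
  apply mk_eq_mk_of_mul_eq
  have h1 : n0 n d + (k + m) * d = (n0 n d + k * d) + m • d := by
    rw [smul_eq_mul]; ring
  have h2 : (decompose 𝒜 (a * f ^ m) (n0 n d + (k + m) * d) : A) =
      (decompose 𝒜 a (n0 n d + k * d) : A) * f ^ m := by
    rw [h1]
    exact coe_decompose_mul_add_of_right_mem 𝒜 (SetLike.pow_mem_graded m hf)
  change f ^ (k0 n + k) * (decompose 𝒜 (a * f ^ m) (n0 n d + (k + m) * d) : A) =
    f ^ (k0 n + (k + m)) * (decompose 𝒜 a (n0 n d + k * d) : A)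
  rw [h2, show k0 n + (k + m) = (k0 n + k) + m by ring, pow_add]
  ring

/-- multiplication by degree zero elements -/
theorem Lsec_zero_mul (k : ℕ) (c : 𝒜 0) (a : A) :
    Lsec 𝒜 hd hf n k (c.1 * a) =
      mkO 𝒜 (Proj.basicOpen 𝒜 f) c (⟨1, SetLike.GradedOne.one_mem⟩ : 𝒜 0)
        (fun y => one_not_mem y.1) • Lsec 𝒜 hd hf n k a := by
  symm
  apply TwistFin.mkSec_smul
  change f ^ (k0 n + k) * (c.1 * (decompose 𝒜 a (n0 n d + k * d) : A)) =
    (1 * f ^ (k0 n + k)) * (decompose 𝒜 (c.1 * a) (n0 n d + k * d) : A)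
  rw [coe_decompose_mul_of_left_mem_zero 𝒜 c.2]
  ring

include hd in
/-- every section is of this form -/
theorem exists_eq_Lsec (s : Γ(GrTwist.twist 𝒜 n, Proj.basicOpen 𝒜 f)) :
    ∃ k a, a ∈ 𝒜 (n0 n d + k * d) ∧ s = Lsec 𝒜 hd hf n k a := by
  obtain ⟨K, m, μ, hm, hval⟩ := TwMul.exists_tfun_eq_mk_basicOpen 𝒜 n hd ⟨f, hf⟩ s
  have hdeg : m + k0 n * d = n0 n d + K * d := by
    have : ((m + k0 n * d : ℕ) : ℤ) = ((n0 n d + K * d : ℕ) : ℤ) := by
      push_cast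
      rw [hm, n0_spec n hd]
      ring
    exact_mod_cast this
  have ha : μ.1 * f ^ k0 n ∈ 𝒜 (n0 n d + K * d) := by
    rw [← hdeg]
    exact SetLike.mul_mem_graded μ.2 (TwistFin.pow_mem' 𝒜 ⟨f, hf⟩ (k0 n))
  refine ⟨K, μ.1 * f ^ k0 n, ha, ?_⟩
  apply tfun_ext
  intro x
  rw [hval x, Lsec_of_mem 𝒜 hd hf n K _ ha]
  apply mk_eq_mk_of_mul_eq
  change f ^ (k0 n + K) * μ.1 = f ^ K * (μ.1 * f ^ k0 n)
  rw [pow_add]
  ring

/-- vanishing -/
theorem exists_mul_pow_eq_zero (k : ℕ) (a : A) (ha : a ∈ 𝒜 (n0 n d + k * d))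
    (h0 : Lsec 𝒜 hd hf n k a = 0) : ∃ m, a * f ^ m = 0 := by
  have h1 : ∀ x : Proj.basicOpen 𝒜 f, ∃ u : x.1.asHomogeneousIdeal.toIdeal.primeCompl, u • a = 0 := by
    intro x
    have h2 : tfun 𝒜 (Lsec 𝒜 hd hf n k a) x = 0 := by rw [h0]; rfl
    rw [Lsec_of_mem 𝒜 hd hf n k a ha, Localization.mk_eq_mk', IsLocalization.mk'_eq_zero_iff] at h2
    obtain ⟨u, hu⟩ := h2
    exact ⟨u, hu⟩
  obtain ⟨N, hN⟩ := exists_pow_smul_eq_zero_of_mk_eq_zero 𝒜 𝒜 hd ⟨f, hf⟩ (⟨a, ha⟩ : 𝒜 (n0 n d + k * d)) h1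
  exact ⟨N, by rw [mul_comm]; exact hN⟩

end Geo

end Groth.Agent.Lib.Helper3.TwistBC

open CategoryTheory CategoryTheory.Limits AlgebraicGeometry Opposite TopologicalSpace
open HomogeneousLocalization TensorProduct DirectSum
open scoped HomogeneousIdeal
open Groth.Agent.Lib.Helper29 Groth.Agent.Lib.Helper29.QCoh
open Groth.Agent.Lib.Helper3.TildeQC Groth.Agent.Lib.Helper3.TwistTriv

namespace Groth.Agent.Lib.Helper3.TwistBC

section Span
variable {R R' S S' : Type u} [CommRing R] [CommRing R'] [CommRing S] [CommRing S']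
  [Algebra R R'] [Algebra R S] [Algebra R' S'] [Algebra S S'] [Algebra R S']
  [IsScalarTower R R' S'] [IsScalarTower R S S']

theorem span_eq_top_of_isPushout (h : Algebra.IsPushout R R' S S') :
    Submodule.span R' (Set.range (algebraMap S S')) = ⊤ := by
  rw [eq_top_iff]
  intro x _
  refine h.out.inductionOn x (fun y => y ∈ Submodule.span R' (Set.range (algebraMap S S')))
    (zero_mem _) (fun m => Submodule.subset_span ⟨m, rfl⟩)
    (fun s n hn => Submodule.smul_mem _ s hn) (fun a b ha hb => add_mem ha hb)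

end Span

section Rho
variable {R A σ : Type u} [CommRing R] [CommRing A] [SetLike σ A] [AddSubgroupClass σ A]
  (𝒜 : ℕ → σ) [GradedRing 𝒜] (ρ₀ : R →+* 𝒜 0)

/-- the structure map `R → Γ(Proj 𝒜, D₊(f))` -/
noncomputable def rhoS (f : A) : R →+* Γ(Proj 𝒜, Proj.basicOpen 𝒜 f) :=
  (Proj.awayToSection 𝒜 f).hom.comp ((fromZeroRingHom 𝒜 (Submonoid.powers f)).comp ρ₀)

theorem rhoS_eq_mkO (f : A) (r : R) :
    rhoS 𝒜 ρ₀ f r = mkO 𝒜 (Proj.basicOpen 𝒜 f) (ρ₀ r) (⟨1, SetLike.GradedOne.one_mem⟩ : 𝒜 0)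
      (fun y => one_not_mem y.1) := by
  apply ofun_ext
  intro x
  rw [ofun_mkO]
  rfl

end Rho

section Abs
variable {R R' A B : Type u} [CommRing R] [CommRing R'] [CommRing A] [CommRing B]
  [Algebra R R'] [Algebra R A] [Algebra R' B] [Algebra A B] [Algebra R B]
  [IsScalarTower R R' B] [IsScalarTower R A B] [Algebra.IsPushout R R' A B]
  {σ τ : Type u} [SetLike σ A] [AddSubgroupClass σ A] (𝒜 : ℕ → σ) [GradedRing 𝒜]
  [SetLike τ B] [AddSubgroupClass τ B] (ℬ : ℕ → τ) [GradedRing ℬ]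
  (ρ₀ : R →+* 𝒜 0) (hρ₀ : ∀ r, (ρ₀ r : A) = algebraMap R A r)
  (ρ₀' : R' →+* ℬ 0) (hρ₀' : ∀ r, (ρ₀' r : B) = algebraMap R' B r)
  (ψ : 𝒜 →+*ᵍ ℬ) (hψ : ∀ a, ψ a = algebraMap A B a)
  (hirr : ℬ₊ ≤ (𝒜₊).map ψ)
  {d : ℕ} (hd : 0 < d) {f : A} (hf : f ∈ 𝒜 d) (n : ℤ)

include hρ₀ hρ₀' hψ hd hf in
theorem isPushout_sections :
    IsPushout (CommRingCat.ofHom (algebraMap R R'))
      (CommRingCat.ofHom (rhoS 𝒜 ρ₀ f))
      (CommRingCat.ofHom (rhoS ℬ ρ₀' (ψ f)))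
      ((Proj.map ψ hirr).appLE (Proj.basicOpen 𝒜 f) (Proj.basicOpen ℬ (ψ f)) le_rfl) := by
  have h := AwayBC.isPushout_away 𝒜 ℬ ρ₀ hρ₀ ρ₀' hρ₀' ψ hψ hf
  refine h.of_iso (Iso.refl _) (Iso.refl _) (Proj.basicOpenIsoAway 𝒜 f hf hd)
    (Proj.basicOpenIsoAway ℬ (ψ f) (ψ.map_mem hf) hd) ?_ ?_ ?_ ?_
  · simp
  · rw [Iso.refl_hom, Category.id_comp]; rfl
  · rw [Iso.refl_hom, Category.id_comp]; rfl
  · exact (Proj.awayToSection_comp_appLE ψ hirr hf).symm

end Abs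

end Groth.Agent.Lib.Helper3.TwistBC

open CategoryTheory CategoryTheory.Limits AlgebraicGeometry Opposite TopologicalSpace
open HomogeneousLocalization TensorProduct DirectSum
open scoped HomogeneousIdeal
open Groth.Agent.Lib.Helper29 Groth.Agent.Lib.Helper29.QCoh
open Groth.Agent.Lib.Helper3.TildeQC Groth.Agent.Lib.Helper3.TwistTriv

namespace Groth.Agent.Lib.Helper3.TwistBC

section Abs0
variable {A B : Type u} [CommRing A] [CommRing B]
  {σ τ : Type u} [SetLike σ A] [AddSubgroupClass σ A] {𝒜 : ℕ → σ} [GradedRing 𝒜]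
  [SetLike τ B] [AddSubgroupClass τ B] {ℬ : ℕ → τ} [GradedRing ℬ]
  (ψ : 𝒜 →+*ᵍ ℬ) (hirr : ℬ₊ ≤ (𝒜₊).map ψ)
  {d : ℕ} (hd : 0 < d) {f : A} (hf : f ∈ 𝒜 d) (n : ℤ)

theorem secFun_Lsec (k : ℕ) (a : A) :
    secFun (Proj.map ψ hirr) (GrTwist.comap ψ hirr n)
      (le_rfl : Proj.basicOpen ℬ (ψ f) ≤ Proj.map ψ hirr ⁻¹ᵁ Proj.basicOpen 𝒜 f)
      (Lsec 𝒜 hd hf n k a) = Lsec ℬ hd (ψ.map_mem hf) n k (ψ a) := by
  apply tfun_ext
  intro y
  rw [tfun_Lsec]
  have h1 : tfun ℬ (secFun (Proj.map ψ hirr) (GrTwist.comap ψ hirr n)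
      (le_rfl : Proj.basicOpen ℬ (ψ f) ≤ Proj.map ψ hirr ⁻¹ᵁ Proj.basicOpen 𝒜 f)
      (Lsec 𝒜 hd hf n k a)) y =
      GrTwist.locMap ψ hirr y.1 (tfun 𝒜 (Lsec 𝒜 hd hf n k a)
        ⟨ProjectiveSpectrum.comap ψ hirr y.1, y.2⟩) := rfl
  rw [h1, tfun_Lsec, GrTwist.locMap_mk]
  apply mk_eq_mk_of_mul_eq
  change (ψ f) ^ (k0 n + k) * ψ (decompose 𝒜 a (n0 n d + k * d) : A) =
    ψ (f ^ (k0 n + k)) * (decompose ℬ (ψ a) (n0 n d + k * d) : B)
  rw [GradedRingHom.map_directSumDecompose, map_pow]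

end Abs0

section Abs
variable {R R' A B : Type u} [CommRing R] [CommRing R'] [CommRing A] [CommRing B]
  [Algebra R R'] [Algebra R A] [Algebra R' B] [Algebra A B] [Algebra R B]
  [IsScalarTower R R' B] [IsScalarTower R A B] [Algebra.IsPushout R R' A B]
  {σ τ : Type u} [SetLike σ A] [AddSubgroupClass σ A] (𝒜 : ℕ → σ) [GradedRing 𝒜]
  [SetLike τ B] [AddSubgroupClass τ B] (ℬ : ℕ → τ) [GradedRing ℬ]
  (ρ₀ : R →+* 𝒜 0) (hρ₀ : ∀ r, (ρ₀ r : A) = algebraMap R A r)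
  (ρ₀' : R' →+* ℬ 0) (hρ₀' : ∀ r, (ρ₀' r : B) = algebraMap R' B r)
  (ψ : 𝒜 →+*ᵍ ℬ) (hψ : ∀ a, ψ a = algebraMap A B a)
  (hirr : ℬ₊ ≤ (𝒜₊).map ψ)
  {d : ℕ} (hd : 0 < d) {f : A} (hf : f ∈ 𝒜 d) (n : ℤ)

include hρ₀ in
theorem Lsec_smul (k : ℕ) (r : R) (a : A) :
    Lsec 𝒜 hd hf n k (r • a) = rhoS 𝒜 ρ₀ f r • Lsec 𝒜 hd hf n k a := by
  rw [Algebra.smul_def, ← hρ₀, Lsec_zero_mul, rhoS_eq_mkO]

include hρ₀ hρ₀' hψ hd hf in
theorem bijective_secMap_basicOpen :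
    letI := ((Proj.map ψ hirr).appLE (Proj.basicOpen 𝒜 f) (Proj.basicOpen ℬ (ψ f)) le_rfl).hom.toAlgebra
    letI := Module.compHom Γ(GrTwist.twist ℬ n, Proj.basicOpen ℬ (ψ f))
      ((Proj.map ψ hirr).appLE (Proj.basicOpen 𝒜 f) (Proj.basicOpen ℬ (ψ f)) le_rfl).hom
    letI := isScalarTower_compHom (U := Proj.basicOpen ℬ (ψ f)) (V := Proj.basicOpen 𝒜 f)
      (Proj.map ψ hirr) (N := GrTwist.twist ℬ n) le_rfl
    Function.Bijective ((secMap (U := Proj.basicOpen ℬ (ψ f)) (V := Proj.basicOpen 𝒜 f)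
      (Proj.map ψ hirr) (GrTwist.comap ψ hirr n) le_rfl).liftBaseChange
        ((Proj ℬ).presheaf.obj (op (Proj.basicOpen ℬ (ψ f))))) := by
  have hψf : ψ f ∈ ℬ d := ψ.map_mem hf
  have e : Proj.basicOpen ℬ (ψ f) ≤ Proj.map ψ hirr ⁻¹ᵁ Proj.basicOpen 𝒜 f := le_rfl
  letI iSS : Algebra Γ(Proj 𝒜, Proj.basicOpen 𝒜 f) Γ(Proj ℬ, Proj.basicOpen ℬ (ψ f)) :=
    ((Proj.map ψ hirr).appLE (Proj.basicOpen 𝒜 f) (Proj.basicOpen ℬ (ψ f)) le_rfl).hom.toAlgebra
  letI mSN : Module Γ(Proj 𝒜, Proj.basicOpen 𝒜 f) Γ(GrTwist.twist ℬ n, Proj.basicOpen ℬ (ψ f)) :=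
    Module.compHom _ ((Proj.map ψ hirr).appLE (Proj.basicOpen 𝒜 f) (Proj.basicOpen ℬ (ψ f)) le_rfl).hom
  letI tSN : IsScalarTower Γ(Proj 𝒜, Proj.basicOpen 𝒜 f) Γ(Proj ℬ, Proj.basicOpen ℬ (ψ f))
      Γ(GrTwist.twist ℬ n, Proj.basicOpen ℬ (ψ f)) :=
    isScalarTower_compHom (Proj.map ψ hirr) (N := GrTwist.twist ℬ n) e
  letI iRS : Algebra R Γ(Proj 𝒜, Proj.basicOpen 𝒜 f) := (rhoS 𝒜 ρ₀ f).toAlgebra
  letI iRS' : Algebra R' Γ(Proj ℬ, Proj.basicOpen ℬ (ψ f)) := (rhoS ℬ ρ₀' (ψ f)).toAlgebra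
  letI iRS'' : Algebra R Γ(Proj ℬ, Proj.basicOpen ℬ (ψ f)) :=
    ((rhoS ℬ ρ₀' (ψ f)).comp (algebraMap R R')).toAlgebra
  haveI t1 : IsScalarTower R R' Γ(Proj ℬ, Proj.basicOpen ℬ (ψ f)) := .of_algebraMap_eq' rfl
  have hpo := isPushout_sections 𝒜 ℬ ρ₀ hρ₀ ρ₀' hρ₀' ψ hψ hirr hd hf
  have key : ∀ r : R, ((Proj.map ψ hirr).appLE (Proj.basicOpen 𝒜 f) (Proj.basicOpen ℬ (ψ f)) le_rfl).hom
      (rhoS 𝒜 ρ₀ f r) = rhoS ℬ ρ₀' (ψ f) (algebraMap R R' r) := by
    intro r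
    exact (congr($(hpo.w) r)).symm
  haveI t2 : IsScalarTower R Γ(Proj 𝒜, Proj.basicOpen 𝒜 f) Γ(Proj ℬ, Proj.basicOpen ℬ (ψ f)) :=
    .of_algebraMap_eq fun r => (key r).symm
  letI mRM : Module R Γ(GrTwist.twist 𝒜 n, Proj.basicOpen 𝒜 f) := Module.compHom _ (rhoS 𝒜 ρ₀ f)
  letI mRN' : Module R' Γ(GrTwist.twist ℬ n, Proj.basicOpen ℬ (ψ f)) := Module.compHom _ (rhoS ℬ ρ₀' (ψ f))
  letI mRN : Module R Γ(GrTwist.twist ℬ n, Proj.basicOpen ℬ (ψ f)) :=
    Module.compHom _ ((rhoS ℬ ρ₀' (ψ f)).comp (algebraMap R R'))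
  haveI t3 : IsScalarTower R R' Γ(GrTwist.twist ℬ n, Proj.basicOpen ℬ (ψ f)) :=
    .of_algebraMap_smul fun _ _ => rfl
  haveI t4 : IsScalarTower R Γ(Proj 𝒜, Proj.basicOpen 𝒜 f) Γ(GrTwist.twist 𝒜 n, Proj.basicOpen 𝒜 f) :=
    .of_algebraMap_smul fun _ _ => rfl
  haveI t5 : IsScalarTower R' Γ(Proj ℬ, Proj.basicOpen ℬ (ψ f)) Γ(GrTwist.twist ℬ n, Proj.basicOpen ℬ (ψ f)) :=
    .of_algebraMap_smul fun _ _ => rfl
  -- the L-families
  let L : ℕ → A →ₗ[R] Γ(GrTwist.twist 𝒜 n, Proj.basicOpen 𝒜 f) := fun k =>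
    { toFun := Lsec 𝒜 hd hf n k
      map_add' := Lsec_add 𝒜 hd hf n k
      map_smul' := fun r a => Lsec_smul 𝒜 ρ₀ hρ₀ hd hf n k r a }
  let L' : ℕ → B →ₗ[R'] Γ(GrTwist.twist ℬ n, Proj.basicOpen ℬ (ψ f)) := fun k =>
    { toFun := Lsec ℬ hd hψf n k
      map_add' := Lsec_add ℬ hd hψf n k
      map_smul' := fun r a => Lsec_smul ℬ ρ₀' hρ₀' hd hψf n k r a }
  let v : Γ(GrTwist.twist 𝒜 n, Proj.basicOpen 𝒜 f) →ₗ[R] Γ(GrTwist.twist ℬ n, Proj.basicOpen ℬ (ψ f)) :=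
    { toFun := secFun (Proj.map ψ hirr) (GrTwist.comap ψ hirr n) e
      map_add' := map_add _
      map_smul' := fun r m => by
        change secFun (Proj.map ψ hirr) (GrTwist.comap ψ hirr n) e (rhoS 𝒜 ρ₀ f r • m) =
          rhoS ℬ ρ₀' (ψ f) (algebraMap R R' r) • secFun (Proj.map ψ hirr) (GrTwist.comap ψ hirr n) e m
        rw [secFun_smul, key] }
  have hΦ : Function.Bijective (v.liftBaseChange R') :=
    bijective_liftBaseChange 𝒜 ℬ ρ₀' hρ₀' ψ hψ hf (n0 n d) L L' v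
      (fun k m a => Lsec_mul_pow 𝒜 hd hf n k m a)
      (fun x => exists_eq_Lsec 𝒜 hd hf n x)
      (fun y => exists_eq_Lsec ℬ hd hψf n y)
      (fun k b hb h0 => exists_mul_pow_eq_zero ℬ hd hψf n k b hb h0)
      (fun k a => secFun_Lsec ψ hirr hd hf n k a)
  have hspan : Submodule.span R' (Set.range (algebraMap Γ(Proj 𝒜, Proj.basicOpen 𝒜 f)
      Γ(Proj ℬ, Proj.basicOpen ℬ (ψ f)))) = ⊤ :=
    span_eq_top_of_isPushout (CommRingCat.isPushout_iff_isPushout.mp hpo)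
  exact bijective_liftBaseChange_of_span v
    (secMap (Proj.map ψ hirr) (GrTwist.comap ψ hirr n) e) (fun m => rfl) hspan hΦ

end Abs

end Groth.Agent.Lib.Helper3.TwistBC

open CategoryTheory CategoryTheory.Limits AlgebraicGeometry Opposite TopologicalSpace
open HomogeneousLocalization TensorProduct DirectSum
open scoped HomogeneousIdeal
open Groth.Agent.Lib.Helper29 Groth.Agent.Lib.Helper29.QCoh
open Groth.Agent.Lib.Helper3.TildeQC Groth.Agent.Lib.Helper3.TwistTriv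

namespace Groth.Agent.Lib.Helper3.TwistBC

section Abs
variable {R R' A B : Type u} [CommRing R] [CommRing R'] [CommRing A] [CommRing B]
  [Algebra R R'] [Algebra R A] [Algebra R' B] [Algebra A B] [Algebra R B]
  [IsScalarTower R R' B] [IsScalarTower R A B] [Algebra.IsPushout R R' A B]
  {σ τ : Type u} [SetLike σ A] [AddSubgroupClass σ A] (𝒜 : ℕ → σ) [GradedRing 𝒜]
  [SetLike τ B] [AddSubgroupClass τ B] (ℬ : ℕ → τ) [GradedRing ℬ]
  (ρ₀ : R →+* 𝒜 0) (hρ₀ : ∀ r, (ρ₀ r : A) = algebraMap R A r)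
  (ρ₀' : R' →+* ℬ 0) (hρ₀' : ∀ r, (ρ₀' r : B) = algebraMap R' B r)
  (ψ : 𝒜 →+*ᵍ ℬ) (hψ : ∀ a, ψ a = algebraMap A B a)
  (hirr : ℬ₊ ≤ (𝒜₊).map ψ) (n : ℤ)

include hρ₀ hρ₀' hψ in
/-- **The twisting sheaves commute with base change of the coefficient ring**: the adjoint of the
canonical comparison map is an isomorphism. -/
theorem isIso_adjunct_comap :
    haveI := TwistQC.twist_isQuasicoherent 𝒜 n
    IsIso (((Scheme.Modules.pullbackPushforwardAdjunction (Proj.map ψ hirr)).homEquiv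
      (GrTwist.twist 𝒜 n) (GrTwist.twist ℬ n)).symm (GrTwist.comap ψ hirr n)) := by
  haveI := TwistQC.twist_isQuasicoherent 𝒜 n
  haveI := TwistQC.twist_isQuasicoherent ℬ n
  refine isIso_adjunct_of_bijective (Proj.map ψ hirr) (GrTwist.comap ψ hirr n)
    (ι := {p : Σ m : ℕ, 𝒜 m // 0 < p.1})
    (fun p => Proj.basicOpen ℬ (ψ p.1.2.1)) (fun p => Proj.basicOpen 𝒜 p.1.2.1)
    (fun p => Proj.isAffineOpen_basicOpen ℬ _ (ψ.map_mem p.1.2.2) p.2)
    (fun p => Proj.isAffineOpen_basicOpen 𝒜 _ p.1.2.2 p.2)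
    (fun p => le_rfl) ?_ ?_
  · intro y
    obtain ⟨m, hm, f, hf⟩ := exists_pos_mem_basicOpen 𝒜 ((Proj.map ψ hirr) y)
    exact ⟨⟨⟨m, f⟩, hm⟩, hf⟩
  · intro p
    exact bijective_secMap_basicOpen 𝒜 ℬ ρ₀ hρ₀ ρ₀' hρ₀' ψ hψ hirr p.2 p.1.2.2 n

include hρ₀ hρ₀' hψ in
theorem nonempty_iso_pullback_twist :
    Nonempty ((Scheme.Modules.pullback (Proj.map ψ hirr)).obj (GrTwist.twist 𝒜 n) ≅
      GrTwist.twist ℬ n) := by
  haveI := isIso_adjunct_comap 𝒜 ℬ ρ₀ hρ₀ ρ₀' hρ₀' ψ hψ hirr n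
  exact ⟨asIso (((Scheme.Modules.pullbackPushforwardAdjunction (Proj.map ψ hirr)).homEquiv
      (GrTwist.twist 𝒜 n) (GrTwist.twist ℬ n)).symm (GrTwist.comap ψ hirr n))⟩

end Abs

end Groth.Agent.Lib.Helper3.TwistBC
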