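import Groth.Agent.Lib.Helper3.ModGlue
import Groth.Agent.Lib.Helper29.QCohExact
/-!
# Local criteria on a downward closed covering family of opens: exactness, epi, mono, zero
-/
universe u
open CategoryTheory CategoryTheory.Limits AlgebraicGeometry Opposite TopologicalSpace
open Groth.Agent.Lib.Helper29

namespace Groth.Agent.Lib.Helper3.ModGlue

variable {P : Scheme.{u}}

theorem germ_res (M : P.Modules) {U V : P.Opens} (h : V ≤ U) (x : P) (hx : x ∈ V) (s : Γ(M, U)) :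
    M.presheaf.germ V x hx (QCoh.res M h s) = M.presheaf.germ U x (h hx) s :=
  M.presheaf.germ_res_apply (homOfLE h) x hx s

/-- Every germ is the germ of a section over a member of the family. -/
theorem exists_germ_eq_on_basis (M : P.Modules) (𝓑 : P.Opens → Prop)
    (hdown : ∀ W W' : P.Opens, W' ≤ W → 𝓑 W → 𝓑 W') (hcov : ∀ w : P, ∃ W, 𝓑 W ∧ w ∈ W)
    (x : P) (z : M.presheaf.stalk x) :
    ∃ (W : P.Opens) (_ : 𝓑 W) (hx : x ∈ W) (s : Γ(M, W)), M.presheaf.germ W x hx s = z := by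
  obtain ⟨U, hxU, s, rfl⟩ := M.presheaf.exists_germ_eq z
  obtain ⟨B, hB, hxB⟩ := hcov x
  exact ⟨B ⊓ U, hdown _ _ inf_le_left hB, ⟨hxB, hxU⟩, QCoh.res M inf_le_right s,
    germ_res M inf_le_right x ⟨hxB, hxU⟩ s⟩

/-- A section with zero germ at `x` vanishes on a member of the family containing `x`. -/
theorem exists_res_eq_zero_of_germ_eq_zero (M : P.Modules) (𝓑 : P.Opens → Prop)
    (hdown : ∀ W W' : P.Opens, W' ≤ W → 𝓑 W → 𝓑 W') {W : P.Opens} (hW : 𝓑 W) (x : P) (hx : x ∈ W)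
    (s : Γ(M, W)) (h : M.presheaf.germ W x hx s = 0) :
    ∃ (W' : P.Opens) (hW' : W' ≤ W), 𝓑 W' ∧ x ∈ W' ∧ QCoh.res M hW' s = 0 := by
  have h0 : M.presheaf.germ W x hx s = M.presheaf.germ W x hx (0 : Γ(M, W)) := by rw [h, map_zero]
  obtain ⟨W', hxW', i₁, i₂, e⟩ := M.presheaf.germ_eq x hx hx s 0 h0
  refine ⟨W', i₁.le, hdown _ _ i₁.le hW, hxW', ?_⟩
  have : QCoh.res M i₁.le s = M.presheaf.map i₁.op s := rfl
  rw [this, e, map_zero]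

theorem exact_of_local (S : ShortComplex P.Modules) (𝓑 : P.Opens → Prop)
    (hdown : ∀ W W' : P.Opens, W' ≤ W → 𝓑 W → 𝓑 W') (hcov : ∀ w : P, ∃ W, 𝓑 W ∧ w ∈ W)
    (h : ∀ W, 𝓑 W → ∀ s : Γ(S.X₂, W), S.g.app W s = 0 → ∀ x ∈ W,
      ∃ (W' : P.Opens) (hW' : W' ≤ W), x ∈ W' ∧ ∃ t : Γ(S.X₁, W'), S.f.app W' t = QCoh.res S.X₂ hW' s) :
    S.Exact := by
  rw [QCoh.exact_iff_stalk_function_exact]
  intro x z
  constructor
  · intro hz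
    obtain ⟨W, hW, hxW, s, rfl⟩ := exists_germ_eq_on_basis S.X₂ 𝓑 hdown hcov x z
    rw [QCoh.stalkMap_germ] at hz
    obtain ⟨W₁, hW₁, hB₁, hxW₁, e₁⟩ :=
      exists_res_eq_zero_of_germ_eq_zero S.X₃ 𝓑 hdown hW x hxW _ hz
    have hg : S.g.app W₁ (QCoh.res S.X₂ hW₁ s) = 0 := by rw [QCoh.app_res, e₁]
    obtain ⟨W', hW', hxW', t, ht⟩ := h W₁ hB₁ _ hg x hxW₁
    refine ⟨S.X₁.presheaf.germ W' x hxW' t, ?_⟩
    rw [QCoh.stalkMap_germ, ht, germ_res, germ_res]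
  · rintro ⟨z', rfl⟩
    have h1 : QCoh.stalkMap S.g x (QCoh.stalkMap S.f x z') = QCoh.stalkMap (S.f ≫ S.g) x z' := by
      unfold QCoh.stalkMap
      rw [Functor.map_comp]
      rfl
    rw [h1, S.zero]
    unfold QCoh.stalkMap
    rw [Functor.map_zero]
    rfl

theorem epi_of_local {M N : P.Modules} (φ : M ⟶ N) (𝓑 : P.Opens → Prop)
    (hdown : ∀ W W' : P.Opens, W' ≤ W → 𝓑 W → 𝓑 W') (hcov : ∀ w : P, ∃ W, 𝓑 W ∧ w ∈ W)
    (h : ∀ W, 𝓑 W → ∀ s : Γ(N, W), ∀ x ∈ W,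
      ∃ (W' : P.Opens) (hW' : W' ≤ W), x ∈ W' ∧ ∃ t : Γ(M, W'), φ.app W' t = QCoh.res N hW' s) :
    Epi φ := by
  rw [QCoh.epi_iff_stalkMap_surjective]
  intro x z
  obtain ⟨W, hW, hxW, s, rfl⟩ := exists_germ_eq_on_basis N 𝓑 hdown hcov x z
  obtain ⟨W', hW', hxW', t, ht⟩ := h W hW s x hxW
  refine ⟨M.presheaf.germ W' x hxW' t, ?_⟩
  rw [QCoh.stalkMap_germ, ht, germ_res]

theorem mono_of_local {M N : P.Modules} (φ : M ⟶ N) (𝓑 : P.Opens → Prop)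
    (hdown : ∀ W W' : P.Opens, W' ≤ W → 𝓑 W → 𝓑 W') (hcov : ∀ w : P, ∃ W, 𝓑 W ∧ w ∈ W)
    (h : ∀ W, 𝓑 W → ∀ s : Γ(M, W), φ.app W s = 0 → s = 0) : Mono φ := by
  rw [QCoh.mono_iff_stalkMap_injective]
  intro x
  rw [injective_iff_map_eq_zero]
  intro z hz
  obtain ⟨W, hW, hxW, s, rfl⟩ := exists_germ_eq_on_basis M 𝓑 hdown hcov x z
  rw [QCoh.stalkMap_germ] at hz
  obtain ⟨W₁, hW₁, hB₁, hxW₁, e₁⟩ :=
    exists_res_eq_zero_of_germ_eq_zero N 𝓑 hdown hW x hxW _ hz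
  have h0 : QCoh.res M hW₁ s = 0 := h W₁ hB₁ _ (by rw [QCoh.app_res, e₁])
  rw [← germ_res M hW₁ x hxW₁ s, h0, map_zero]

theorem isZero_of_local (M : P.Modules) (𝓑 : P.Opens → Prop)
    (hdown : ∀ W W' : P.Opens, W' ≤ W → 𝓑 W → 𝓑 W') (hcov : ∀ w : P, ∃ W, 𝓑 W ∧ w ∈ W)
    (h : ∀ W, 𝓑 W → ∀ s : Γ(M, W), s = 0) : IsZero M := by
  rw [QCoh.isZero_iff_stalk_subsingleton]
  intro x
  refine ⟨fun z z' => ?_⟩
  obtain ⟨W, hW, hxW, s, rfl⟩ := exists_germ_eq_on_basis M 𝓑 hdown hcov x z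
  obtain ⟨W', hW', hxW', s', rfl⟩ := exists_germ_eq_on_basis M 𝓑 hdown hcov x z'
  rw [h W hW s, h W' hW' s', map_zero, map_zero]

end Groth.Agent.Lib.Helper3.ModGlue
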