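import Groth.Agent.Lib.Helper3.ModGlue
import Groth.Agent.Lib.Helper29.QCohCrit
import Groth.Agent.Lib.Helper29.QCohPullback
/-!
# Quasi-coherence from chartwise identifications

If `F` on `P` has, around every point, an open immersion `e : Q ⟶ P`, a quasi-coherent module `T` on `Q`
and a morphism `F ⟶ e_* T` that is bijective on sections over the opens inside the image of `e`, then `F`
is quasi-coherent.
-/
universe u
open CategoryTheory CategoryTheory.Limits AlgebraicGeometry Opposite TopologicalSpace

namespace Groth.Agent.Lib.Helper3.ChartQC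

variable {P Q : Scheme.{u}} (e : Q ⟶ P) [IsOpenImmersion e] (F : P.Modules) (T : Q.Modules)
  (lam : F ⟶ (Scheme.Modules.pushforward e).obj T)

theorem isIso_restrict_map
    (hbij : ∀ W : P.Opens, W ≤ e.opensRange → Function.Bijective (lam.app W)) :
    IsIso ((Scheme.Modules.restrictFunctor e).map lam) := by
  apply ModGlue.isIso_of_bijective_on_basis _ (fun _ => True) (fun _ _ _ _ => trivial)
    (fun w => ⟨⊤, trivial, trivial⟩)
  intro V _
  exact hbij (e ''ᵁ V) (e.image_le_opensRange V)

theorem isIso_adjunct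
    (hbij : ∀ W : P.Opens, W ≤ e.opensRange → Function.Bijective (lam.app W)) :
    IsIso (((Scheme.Modules.restrictAdjunction e).homEquiv F T).symm lam) := by
  rw [Adjunction.homEquiv_symm_apply]
  have := isIso_restrict_map e F T lam hbij
  infer_instance

theorem isQuasicoherent_restrict [T.IsQuasicoherent]
    (hbij : ∀ W : P.Opens, W ≤ e.opensRange → Function.Bijective (lam.app W)) :
    (F.restrict e).IsQuasicoherent := by
  have := isIso_adjunct e F T lam hbij
  exact Groth.Agent.Lib.Helper29.QCoh.isQuasicoherent_of_iso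
    (asIso (((Scheme.Modules.restrictAdjunction e).homEquiv F T).symm lam)).symm

/-- quasi-coherence is local -/
theorem isQuasicoherent_of_locally (M : P.Modules)
    (h : ∀ x : P, ∃ (U : Scheme.{u}) (j : U ⟶ P) (_ : IsOpenImmersion j), x ∈ Set.range j.base ∧
      (M.restrict j).IsQuasicoherent) : M.IsQuasicoherent := by
  have h' : ∀ x : P, ∃ (R : CommRingCat.{u}) (f : Spec R ⟶ P) (_ : IsOpenImmersion f),
      x ∈ Set.range f.base ∧ (M.restrict f).IsQuasicoherent := by
    intro x
    obtain ⟨U, j, hj, ⟨y, rfl⟩, hq⟩ := h x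
    obtain ⟨W, ⟨z, hz⟩⟩ := Groth.Agent.Lib.Helper29.QCoh.exists_mem_range_fromSpec U y
    refine ⟨_, W.2.fromSpec ≫ j, inferInstance,
      ⟨z, by rw [Scheme.Hom.comp_base, TopCat.comp_app, hz]⟩, ?_⟩
    have : ((M.restrict j).restrict W.2.fromSpec).IsQuasicoherent :=
      Scheme.Modules.isQuasicoherent_restrictFunctor W.2.fromSpec (M.restrict j)
    exact Groth.Agent.Lib.Helper29.QCoh.isQuasicoherent_of_iso (hM := this)
      ((Scheme.Modules.restrictFunctorComp W.2.fromSpec j).app M).symm
  choose R f hf hx hq using h'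
  exact Groth.Agent.Lib.Helper29.QCoh.isQuasicoherent_of_restrict_spec M R f (fun x => ⟨x, hx x⟩) hq

/-- Quasi-coherence from chartwise identifications. -/
theorem isQuasicoherent_of_charts (M : P.Modules)
    (h : ∀ x : P, ∃ (U : Scheme.{u}) (j : U ⟶ P) (_ : IsOpenImmersion j) (T : U.Modules)
      (lam : M ⟶ (Scheme.Modules.pushforward j).obj T), x ∈ Set.range j.base ∧ T.IsQuasicoherent ∧
        ∀ W : P.Opens, W ≤ j.opensRange → Function.Bijective (lam.app W)) : M.IsQuasicoherent := by
  apply isQuasicoherent_of_locally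
  intro x
  obtain ⟨U, j, hj, T, lam, hx, hT, hbij⟩ := h x
  exact ⟨U, j, hj, hx, isQuasicoherent_restrict j M T lam hbij⟩

end Groth.Agent.Lib.Helper3.ChartQC
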