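import Groth.Agent.Lib.Helper3.TildeQC
import Groth.Agent.Lib.Helper29.RelAmple
import Groth.Agent.Lib.Helper29.QCohRestrict
/-!
# Trivialising sections of the twisting sheaves `O(n)` on `Proj` (gradings by additive subgroups)

A port to the frozen `GrTwist` of the Helper29 development for `Twist`.
-/
set_option autoImplicit false
set_option linter.unusedSectionVars false
universe u
open CategoryTheory CategoryTheory.Limits AlgebraicGeometry Opposite TopologicalSpace DirectSum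
open Groth.Agent.Lib.Helper29 Groth.Agent.Lib.Helper29.QCoh
open Groth.Agent.Lib.Helper3.TildeQC

namespace Groth.Agent.Lib.Helper3.TwistTriv

section Gen
variable {X : Scheme.{u}}

/-- A trivialising section over an image open trivialises the restriction. -/
theorem IsTriv.to_restrict' {X' : Scheme.{u}} (j : X' ⟶ X) [IsOpenImmersion j] {N : X.Modules}
    {U' : X'.Opens} {n : Γ(N, j ''ᵁ U')} (hT : IsTriv N (j ''ᵁ U') n) :
    IsTriv (N.restrict j) U' n := by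
  intro W' hW'
  have hb := hT (j ''ᵁ W') (j.image_mono hW')
  have : (fun r' : Γ(X', W') => r' • QCoh.res (N.restrict j) hW' n) =
      (fun r : Γ(X, j ''ᵁ W') => r • QCoh.res N (j.image_mono hW') n) ∘ (j.appIso W').inv := by
    funext r'
    simp only [Function.comp_apply]
    rw [restrict_smul]
    rfl
  rw [this]
  exact hb.comp (ConcreteCategory.bijective_of_isIso (j.appIso W').inv)

/-- A module is invertible on an open `U` as soon as it has trivialising sections near every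
point of `U`. -/
theorem isInvertible_restrict_of_isTriv' {L : X.Modules} (U : X.Opens)
    (h : ∀ x ∈ U, ∃ (V : X.Opens) (e : Γ(L, V)), x ∈ V ∧ V ≤ U ∧ IsTriv L V e) :
    PicF.IsInvertible (L.restrict U.ι) := by
  refine isInvertible_of_isTriv' fun x => ?_
  obtain ⟨V, e, hxV, hVU, he⟩ := h x.1 x.2
  have hV : U.ι ''ᵁ (U.ι ⁻¹ᵁ V) = V := by
    rw [Scheme.Hom.image_preimage_eq_opensRange_inf, Scheme.Opens.opensRange_ι]
    exact inf_eq_right.mpr hVU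
  refine ⟨U.ι ⁻¹ᵁ V, QCoh.res L hV.le e, hxV, ?_⟩
  apply IsTriv.to_restrict'
  exact he.restrict hV.le

end Gen

section T1
variable {A σ : Type u} [CommRing A] [SetLike σ A] [AddSubgroupClass σ A] (𝒜 : ℕ → σ) [GradedRing 𝒜]

/-- view a section of the twist as a dependent function into the localizations -/
def tfun {n : ℤ} {U : (Proj 𝒜).Opens} (σ : Γ(GrTwist.twist 𝒜 n, U)) :
    ∀ x : U, GrTwist.Loc 𝒜 x.1 := fun x => ((show GrTwist.sectN (𝒜 := 𝒜) n (op U) from σ).1 x).1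


theorem tfun_smul {n : ℤ} {U : (Proj 𝒜).Opens} (r : Γ(Proj 𝒜, U)) (σ : Γ(GrTwist.twist 𝒜 n, U)) (x : U) :
    tfun 𝒜 (r • σ) x = ofun 𝒜 r x * tfun 𝒜 σ x :=
  GrTwist.coe_smul_val n x.1 _ _

theorem tfun_res {n : ℤ} {U V : (Proj 𝒜).Opens} (h : V ≤ U) (σ : Γ(GrTwist.twist 𝒜 n, U)) (x : V) :
    tfun 𝒜 (res (GrTwist.twist 𝒜 n) h σ) x = tfun 𝒜 σ ⟨x.1, h x.2⟩ := rfl


theorem tfun_add {n : ℤ} {U : (Proj 𝒜).Opens} (σ τ : Γ(GrTwist.twist 𝒜 n, U)) (x : U) :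
    tfun 𝒜 (σ + τ) x = tfun 𝒜 σ x + tfun 𝒜 τ x := rfl


theorem tfun_ext {n : ℤ} {U : (Proj 𝒜).Opens} (σ τ : Γ(GrTwist.twist 𝒜 n, U))
    (h : ∀ x, tfun 𝒜 σ x = tfun 𝒜 τ x) : σ = τ := by
  apply Subtype.ext
  funext x
  exact Subtype.ext (h x)


/-- The section `a / s` of `O(n)` over an open where `s` does not vanish. -/
def mkSec (n : ℤ) (U : (Proj 𝒜).Opens) {i j : ℕ} (a : 𝒜 i) (s : 𝒜 j)
    (hs : ∀ x : U, s.1 ∉ x.1.asHomogeneousIdeal) (hdeg : (i : ℤ) = j + n) :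
    Γ(GrTwist.twist 𝒜 n, U) :=
  (⟨fun x => ⟨Localization.mk a.1 ⟨s.1, hs x⟩,
      Submodule.subset_span ⟨i, j, a, s, hs x, hdeg, rfl⟩⟩,
    fun x => ⟨U, x.2, 𝟙 _, i, j, a, s, hs, Or.inl hdeg, fun _ => rfl⟩⟩ :
    GrTwist.sectN (𝒜 := 𝒜) n (op U))

theorem tfun_mkSec (n : ℤ) (U : (Proj 𝒜).Opens) {i j : ℕ} (a : 𝒜 i) (s : 𝒜 j)
    (hs : ∀ x : U, s.1 ∉ x.1.asHomogeneousIdeal) (hdeg : (i : ℤ) = j + n) (x : U) :
    tfun 𝒜 (mkSec 𝒜 n U a s hs hdeg) x = Localization.mk a.1 ⟨s.1, hs x⟩ := rfl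


end T1

section T2
variable {A σ : Type u} [CommRing A] [SetLike σ A] [AddSubgroupClass σ A] {𝒜 : ℕ → σ} [GradedRing 𝒜]

open HomogeneousLocalization

/-- Elements `q` of the localization with `q * u` a degree-zero fraction. -/
def fracSub (x : ProjectiveSpectrum 𝒜) (u : GrTwist.Loc 𝒜 x) :
    Submodule (GrTwist.A0 𝒜 x) (GrTwist.Loc 𝒜 x) where
  carrier := {q | ∃ c : GrTwist.A0 𝒜 x, c.val = q * u}
  zero_mem' := ⟨0, by rw [val_zero, zero_mul]⟩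
  add_mem' := by
    rintro q q' ⟨c, hc⟩ ⟨c', hc'⟩
    exact ⟨c + c', by rw [val_add, hc, hc', add_mul]⟩
  smul_mem' := by
    rintro b q ⟨c, hc⟩
    exact ⟨b * c, by rw [val_mul, hc, Algebra.smul_def, HomogeneousLocalization.algebraMap_apply,
      mul_assoc]⟩

theorem twistAt_le_fracSub (n : ℤ) (x : ProjectiveSpectrum 𝒜) {i j : ℕ} (a : 𝒜 i) (s : 𝒜 j)
    (ha : a.1 ∉ x.asHomogeneousIdeal) (hdeg : (i : ℤ) = j + n) :
    GrTwist.twistAt 𝒜 n x ≤ fracSub x (Localization.mk s.1 ⟨a.1, ha⟩) := by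
  refine Submodule.span_le.mpr ?_
  rintro q ⟨i', j', a', s', hs', hd', rfl⟩
  have hdegs : i' + j = j' + i := by omega
  have hden : s'.1 * a.1 ∉ x.asHomogeneousIdeal := fun h =>
    (x.isPrime.mem_or_mem h).elim hs' ha
  refine ⟨HomogeneousLocalization.mk ⟨j' + i, ⟨a'.1 * s.1, ?_⟩,
    ⟨s'.1 * a.1, SetLike.mul_mem_graded s'.2 a.2⟩, hden⟩, ?_⟩
  · rw [← hdegs]; exact SetLike.mul_mem_graded a'.2 s.2
  · rw [val_mk, Localization.mk_mul]
    rfl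


end T2

section T3
variable {A σ : Type u} [CommRing A] [SetLike σ A] [AddSubgroupClass σ A] (𝒜 : ℕ → σ) [GradedRing 𝒜]

theorem isUnit_mk_of_not_mem {x : ProjectiveSpectrum 𝒜} {a s : A}
    (ha : a ∉ x.asHomogeneousIdeal) (hs : s ∉ x.asHomogeneousIdeal) :
    (Localization.mk a ⟨s, hs⟩ : GrTwist.Loc 𝒜 x) * Localization.mk s ⟨a, ha⟩ = 1 := by
  rw [Localization.mk_mul, mul_comm a s]
  exact Localization.mk_self (⟨s, hs⟩ * ⟨a, ha⟩ : x.asHomogeneousIdeal.toIdeal.primeCompl)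

/-- A fraction `a / s` with `a` and `s` both nonvanishing on `U` trivialises `O(n)` over `U`. -/
theorem isTriv_mkSec (n : ℤ) (U : (Proj 𝒜).Opens) {i j : ℕ} (a : 𝒜 i) (s : 𝒜 j)
    (ha : ∀ x : U, a.1 ∉ x.1.asHomogeneousIdeal)
    (hs : ∀ x : U, s.1 ∉ x.1.asHomogeneousIdeal) (hdeg : (i : ℤ) = j + n) :
    IsTriv (GrTwist.twist 𝒜 n) U (mkSec 𝒜 n U a s hs hdeg) := by
  intro W hW
  constructor
  · intro r r' h
    apply ofun_ext
    intro x
    have h1 := congrArg (fun σ => tfun 𝒜 σ x) h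
    simp only [tfun_smul, tfun_res, tfun_mkSec] at h1
    have hu := isUnit_mk_of_not_mem 𝒜 (ha ⟨x.1, hW x.2⟩) (hs ⟨x.1, hW x.2⟩)
    have h2 := congrArg (fun z => z * Localization.mk s.1 ⟨a.1, ha ⟨x.1, hW x.2⟩⟩) h1
    simp only [mul_assoc, hu, mul_one] at h2
    exact h2
  · intro t
    have hpt : ∀ x : W, ∃ c : GrTwist.A0 𝒜 x.1,
        c.val = tfun 𝒜 t x * Localization.mk s.1 ⟨a.1, ha ⟨x.1, hW x.2⟩⟩ := fun x =>
      twistAt_le_fracSub n x.1 a s (ha ⟨x.1, hW x.2⟩) hdeg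
        ((show GrTwist.sectN (𝒜 := 𝒜) n (op W) from t).1 x).2
    choose r₀ hr₀ using hpt
    have hloc : (ProjectiveSpectrum.StructureSheaf.isLocallyFraction 𝒜).pred r₀ := by
      intro x
      obtain ⟨V, hxV, iV, i', j', a', s', nin, hcase, hw⟩ :=
        (show GrTwist.sectN (𝒜 := 𝒜) n (op W) from t).2 x
      have hden : ∀ y : V, s'.1 * a.1 ∉ y.1.asHomogeneousIdeal := fun y h =>
        (y.1.isPrime.mem_or_mem h).elim (nin y) (ha ⟨y.1, hW (iV y).2⟩)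
      have hval : ∀ y : V, (r₀ (iV y)).val =
          Localization.mk (a'.1 * s.1) ⟨s'.1 * a.1, hden y⟩ := by
        intro y
        rw [hr₀]
        have := hw y
        change tfun 𝒜 t (iV y) = _ at this
        rw [this, Localization.mk_mul]
        rfl
      rcases hcase with hc | hc
      · have hdegs : i' + j = j' + i := by omega
        refine ⟨V, hxV, iV, j' + i, ⟨a'.1 * s.1, ?_⟩,
          ⟨s'.1 * a.1, SetLike.mul_mem_graded s'.2 a.2⟩, hden, fun y => ?_⟩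
        · rw [← hdegs]; exact SetLike.mul_mem_graded a'.2 s.2
        · apply HomogeneousLocalization.val_injective
          rw [hval y, HomogeneousLocalization.val_mk]
      · refine ⟨V, hxV, iV, j' + i, 0,
          ⟨s'.1 * a.1, SetLike.mul_mem_graded s'.2 a.2⟩, hden, fun y => ?_⟩
        apply HomogeneousLocalization.val_injective
        rw [hval y, HomogeneousLocalization.val_mk, hc, zero_mul]
        rfl
    let r : Γ(Proj 𝒜, W) := (⟨r₀, hloc⟩ : GrTwist.O (𝒜 := 𝒜) (op W))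
    refine ⟨r, ?_⟩
    apply tfun_ext
    intro x
    rw [tfun_smul, tfun_res, tfun_mkSec]
    change (r₀ x).val * _ = _
    rw [hr₀, mul_assoc, mul_comm (Localization.mk s.1 _), 
      isUnit_mk_of_not_mem 𝒜 (ha ⟨x.1, hW x.2⟩) (hs ⟨x.1, hW x.2⟩), mul_one]


end T3

section T4
variable {A σ : Type u} [CommRing A] [SetLike σ A] [AddSubgroupClass σ A] {𝒜 : ℕ → σ} [GradedRing 𝒜]

/-- `f^p / f^q` as a section of `O(n)`, `n = (p - q) d`, over any `U ≤ D_+(f)`. -/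
def eSec (n : ℤ) {d : ℕ} (f : 𝒜 d) (p q : ℕ) (h : n = ((p : ℤ) - q) * d) (U : (Proj 𝒜).Opens)
    (hU : U ≤ Proj.basicOpen 𝒜 f.1) : Γ(GrTwist.twist 𝒜 n, U) :=
  mkSec 𝒜 n U (⟨f.1 ^ p, SetLike.pow_mem_graded p f.2⟩ : 𝒜 (p • d))
    (⟨f.1 ^ q, SetLike.pow_mem_graded q f.2⟩ : 𝒜 (q • d))
    (fun x => pow_not_mem_of_not_mem (hU x.2) q) (by rw [h]; push_cast [smul_eq_mul]; ring)

theorem tfun_eSec (n : ℤ) {d : ℕ} (f : 𝒜 d) (p q : ℕ) (h : n = ((p : ℤ) - q) * d)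
    (U : (Proj 𝒜).Opens) (hU : U ≤ Proj.basicOpen 𝒜 f.1) (x : U) :
    tfun 𝒜 (eSec n f p q h U hU) x =
      Localization.mk (f.1 ^ p) ⟨f.1 ^ q, pow_not_mem_of_not_mem (hU x.2) q⟩ := rfl

theorem isTriv_eSec (n : ℤ) {d : ℕ} (f : 𝒜 d) (p q : ℕ) (h : n = ((p : ℤ) - q) * d)
    (U : (Proj 𝒜).Opens) (hU : U ≤ Proj.basicOpen 𝒜 f.1) :
    IsTriv (GrTwist.twist 𝒜 n) U (eSec n f p q h U hU) :=
  isTriv_mkSec 𝒜 n U _ _ (fun x => pow_not_mem_of_not_mem (hU x.2) p) _ _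

theorem res_eSec (n : ℤ) {d : ℕ} (f : 𝒜 d) (p q : ℕ) (h : n = ((p : ℤ) - q) * d)
    {U V : (Proj 𝒜).Opens} (hU : U ≤ Proj.basicOpen 𝒜 f.1) (hVU : V ≤ U) :
    res (GrTwist.twist 𝒜 n) hVU (eSec n f p q h U hU) = eSec n f p q h V (hVU.trans hU) := rfl

/-- `O(k d)` is trivial on `D_+(f)` for `f` of degree `d`. -/
theorem exists_isTriv_twist_mul {d : ℕ} (f : 𝒜 d) (k : ℤ) :
    ∃ e : Γ(GrTwist.twist 𝒜 (k * d), Proj.basicOpen 𝒜 f.1),
      IsTriv (GrTwist.twist 𝒜 (k * d)) (Proj.basicOpen 𝒜 f.1) e :=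
  ⟨_, isTriv_eSec (k * d) f k.toNat (-k).toNat (by rw [Int.toNat_sub_toNat_neg]) _ le_rfl⟩

theorem nonempty_twist_restrict_basicOpen_iso {d : ℕ} (f : 𝒜 d) (k : ℤ) :
    Nonempty ((GrTwist.twist 𝒜 (k * d)).restrict (Proj.basicOpen 𝒜 f.1).ι ≅
      Coh.structureModule ↑(Proj.basicOpen 𝒜 f.1)) := by
  obtain ⟨e, he⟩ := exists_isTriv_twist_mul f k
  obtain ⟨σ, -⟩ := he.exists_iso_restrict
  exact ⟨σ.symm⟩


end T4

section T5
variable {A σ : Type u} [CommRing A] [SetLike σ A] [AddSubgroupClass σ A] (𝒜 : ℕ → σ) [GradedRing 𝒜]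

/-- `O(n d)` is trivial on `D_+(a b)` when `deg a = deg b + d` (generated by `(a/b)^n`). -/
theorem exists_isTriv_twist_mul_ab {d : ℕ} {i j : ℕ} (a : 𝒜 i) (b : 𝒜 j) (hij : i = j + d) (n : ℤ)
    (U : (Proj 𝒜).Opens) (hU : U ≤ Proj.basicOpen 𝒜 (a.1 * b.1)) :
    ∃ e : Γ(GrTwist.twist 𝒜 (n * d), U), IsTriv (GrTwist.twist 𝒜 (n * d)) U e := by
  have hUab : ∀ x : U, a.1 ∉ x.1.asHomogeneousIdeal ∧ b.1 ∉ x.1.asHomogeneousIdeal := by
    intro x
    have := hU x.2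
    rw [Proj.basicOpen_mul] at this
    exact this
  set p := n.toNat
  set q := (-n).toNat
  have hpq : (p : ℤ) - q = n := Int.toNat_sub_toNat_neg n
  have hnum : a.1 ^ p * b.1 ^ q ∈ 𝒜 (p • i + q • j) :=
    SetLike.mul_mem_graded (SetLike.pow_mem_graded p a.2) (SetLike.pow_mem_graded q b.2)
  have hden : a.1 ^ q * b.1 ^ p ∈ 𝒜 (q • i + p • j) :=
    SetLike.mul_mem_graded (SetLike.pow_mem_graded q a.2) (SetLike.pow_mem_graded p b.2)
  have hnm : ∀ (p q : ℕ) (x : U), a.1 ^ p * b.1 ^ q ∉ x.1.asHomogeneousIdeal := fun p q x h =>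
    (x.1.isPrime.mem_or_mem h).elim (pow_not_mem_of_not_mem (hUab x).1 p)
      (pow_not_mem_of_not_mem (hUab x).2 q)
  exact ⟨_, isTriv_mkSec 𝒜 (n * d) U ⟨_, hnum⟩ ⟨_, hden⟩ (hnm p q) (hnm q p) (by
    subst hij
    rw [← hpq]
    push_cast [smul_eq_mul]
    ring)⟩

/-- A quasi-compact open of `Proj` is covered by `D_+(g)` with `g` of one common positive degree. -/
theorem exists_period_of_isCompact (Y : (Proj 𝒜).Opens) (hY : IsCompact (Y : Set (Proj 𝒜))) :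
    ∃ d : ℕ, 0 < d ∧ ∀ y ∈ Y, ∃ g : 𝒜 d, y ∈ Proj.basicOpen 𝒜 g.1 := by
  classical
  choose m hm f hf using exists_pos_mem_basicOpen 𝒜
  obtain ⟨t, ht⟩ := hY.elim_finite_subcover
    (fun y : Proj 𝒜 => (Proj.basicOpen 𝒜 (f y).1 : Set (Proj 𝒜)))
    (fun y => (Proj.basicOpen 𝒜 (f y).1).isOpen) (fun y _ => Set.mem_iUnion.mpr ⟨y, hf y⟩)
  refine ⟨∏ y ∈ t, m y, Finset.prod_pos fun y _ => hm y, fun y hy => ?_⟩
  have := ht hy
  simp only [Set.mem_iUnion] at this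
  obtain ⟨z, hzt, hyz⟩ := this
  obtain ⟨k, hk⟩ := Finset.dvd_prod_of_mem m hzt
  have hkpos : 0 < k := by
    rcases Nat.eq_zero_or_pos k with h0 | h0
    · exfalso
      have hp : 0 < ∏ y ∈ t, m y := Finset.prod_pos fun y _ => hm y
      rw [hk, h0, mul_zero] at hp
      exact lt_irrefl _ hp
    · exact h0
  have hmem : (f z).1 ^ k ∈ 𝒜 (∏ y ∈ t, m y) := by
    have := SetLike.pow_mem_graded k (f z).2
    rwa [smul_eq_mul, mul_comm, ← hk] at this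
  refine ⟨⟨_, hmem⟩, ?_⟩
  change y ∈ Proj.basicOpen 𝒜 ((f z).1 ^ k)
  rw [Proj.basicOpen_pow 𝒜 _ k hkpos]
  exact hyz

theorem exists_period_invertible_of_isCompact (Y : (Proj 𝒜).Opens)
    (hY : IsCompact (Y : Set (Proj 𝒜))) :
    ∃ d : ℕ, 0 < d ∧
      (∀ y : Proj 𝒜, y ∈ Y → ∃ (i j : ℕ) (a b : A), a ∈ 𝒜 i ∧ b ∈ 𝒜 j ∧ i = j + d ∧
        y ∈ Proj.basicOpen 𝒜 (a * b)) ∧
      ∀ n : ℤ, PicF.IsInvertible ((GrTwist.twist 𝒜 (n * d)).restrict Y.ι) := by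
  obtain ⟨d, hd, hcov⟩ := exists_period_of_isCompact 𝒜 Y hY
  refine ⟨d, hd, fun y hy => ?_, fun n => ?_⟩
  · obtain ⟨g, hg⟩ := hcov y hy
    refine ⟨d + d, d, g.1 * g.1, g.1, SetLike.mul_mem_graded g.2 g.2, g.2, rfl, ?_⟩
    rw [Proj.basicOpen_mul, Proj.basicOpen_mul]
    exact ⟨⟨hg, hg⟩, hg⟩
  · apply isInvertible_restrict_of_isTriv'
    intro x hx
    obtain ⟨g, hg⟩ := hcov x hx
    refine ⟨Y ⊓ Proj.basicOpen 𝒜 g.1, _, ⟨hx, hg⟩, inf_le_left,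
      isTriv_eSec (n * d) g n.toNat (-n).toNat (by rw [Int.toNat_sub_toNat_neg]) _ inf_le_right⟩


end T5

end Groth.Agent.Lib.Helper3.TwistTriv
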