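import Groth.Agent.Lib.Helper3.ChartQC
import Groth.Agent.Lib.Helper3.TwistTriv
/-!
# Invertibility from chartwise identifications; `O(n)` on `Proj` is invertible for rings generated in degree one
-/
universe u
set_option linter.unusedSectionVars false
open CategoryTheory CategoryTheory.Limits AlgebraicGeometry Opposite TopologicalSpace DirectSum
open Groth.Agent.Lib.Helper29 Groth.Agent.Lib.Helper29.QCoh
open scoped HomogeneousIdeal

namespace Groth.Agent.Lib.Helper3.ChartInv

section Charts
variable {P : Scheme.{u}}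

/-- Invertibility from chartwise identifications. -/
theorem isInvertible_of_charts (L : P.Modules)
    (h : ∀ x : P, ∃ (U : Scheme.{u}) (j : U ⟶ P) (_ : IsOpenImmersion j) (T : U.Modules)
      (lam : L ⟶ (Scheme.Modules.pushforward j).obj T), x ∈ Set.range j.base ∧ PicF.IsInvertible T ∧
        ∀ W : P.Opens, W ≤ j.opensRange → Function.Bijective (lam.app W)) : PicF.IsInvertible L := by
  refine isInvertible_of_isTriv' fun x => ?_
  obtain ⟨U, j, hj, T, lam, ⟨y, rfl⟩, hT, hbij⟩ := h x
  have := ChartQC.isIso_adjunct j L T lam hbij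
  have hLj : PicF.IsInvertible (L.restrict j) :=
    isInvertible_of_iso (asIso (((Scheme.Modules.restrictAdjunction j).homEquiv L T).symm lam)).symm hT
  obtain ⟨U', e, hyU', he⟩ := exists_isTriv hLj y
  exact ⟨j ''ᵁ U', e, ⟨y, hyU', rfl⟩, he.of_restrict j⟩

end Charts

section Ring
variable {A σ : Type u} [CommRing A] [SetLike σ A] [AddSubgroupClass σ A] (𝒜 : ℕ → σ) [GradedRing 𝒜]

/-- If `A` is generated by `A₀` and `A₁`, every point of `Proj A` lies in some `D₊(f)`, `f ∈ A₁`. -/
theorem exists_deg_one_notMem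
    (hgen : Subring.closure ((𝒜 0 : Set A) ∪ (𝒜 1 : Set A)) = ⊤) (y : ProjectiveSpectrum 𝒜) :
    ∃ f : 𝒜 1, (f : A) ∉ y.asHomogeneousIdeal := by
  classical
  by_contra hcon
  push Not at hcon
  have h1 : ∀ f ∈ 𝒜 1, f ∈ y.asHomogeneousIdeal := fun f hf => hcon ⟨f, hf⟩
  have key : ∀ x : A, x - GradedRing.projZeroRingHom 𝒜 x ∈ y.asHomogeneousIdeal.toIdeal := by
    intro x
    have hx : x ∈ Subring.closure ((𝒜 0 : Set A) ∪ (𝒜 1 : Set A)) := by rw [hgen]; trivial
    induction hx using Subring.closure_induction with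
    | mem x hx =>
      rcases hx with hx | hx
      · rw [GradedRing.projZeroRingHom_apply, decompose_of_mem_same 𝒜 hx, sub_self]
        exact zero_mem _
      · rw [GradedRing.projZeroRingHom_apply, decompose_of_mem_ne 𝒜 hx one_ne_zero, sub_zero]
        exact h1 x hx
    | zero => rw [map_zero, sub_zero]; exact zero_mem _
    | one => rw [map_one, sub_self]; exact zero_mem _
    | add a b _ _ ha hb =>
      rw [map_add]
      have : a + b - (GradedRing.projZeroRingHom 𝒜 a + GradedRing.projZeroRingHom 𝒜 b) =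
        (a - GradedRing.projZeroRingHom 𝒜 a) + (b - GradedRing.projZeroRingHom 𝒜 b) := by ring
      rw [this]
      exact add_mem ha hb
    | neg a _ ha =>
      rw [map_neg]
      have : -a - -GradedRing.projZeroRingHom 𝒜 a = -(a - GradedRing.projZeroRingHom 𝒜 a) := by ring
      rw [this]
      exact neg_mem ha
    | mul a b _ _ ha hb =>
      rw [map_mul]
      have : a * b - GradedRing.projZeroRingHom 𝒜 a * GradedRing.projZeroRingHom 𝒜 b =
        (a - GradedRing.projZeroRingHom 𝒜 a) * b +
          GradedRing.projZeroRingHom 𝒜 a * (b - GradedRing.projZeroRingHom 𝒜 b) := by ring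
      rw [this]
      exact add_mem (Ideal.mul_mem_right _ _ ha) (Ideal.mul_mem_left _ _ hb)
  apply y.not_irrelevant_le
  rw [HomogeneousIdeal.irrelevant_le]
  intro i hi x hx
  have := key x
  rw [GradedRing.projZeroRingHom_apply, decompose_of_mem_ne 𝒜 hx hi.ne', sub_zero] at this
  exact this

/-- `O(n)` on `Proj A` is invertible when `A` is generated by `A₀` and `A₁`. -/
theorem twist_isInvertible
    (hgen : Subring.closure ((𝒜 0 : Set A) ∪ (𝒜 1 : Set A)) = ⊤) (n : ℤ) :
    PicF.IsInvertible (GrTwist.twist 𝒜 n) := by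
  refine isInvertible_of_isTriv' fun x => ?_
  obtain ⟨f, hf⟩ := exists_deg_one_notMem 𝒜 hgen x
  exact ⟨Proj.basicOpen 𝒜 f.1, _, hf,
    TwistTriv.isTriv_eSec n f n.toNat (-n).toNat (by rw [Int.toNat_sub_toNat_neg]; simp) _ le_rfl⟩

end Ring

end Groth.Agent.Lib.Helper3.ChartInv
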