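import Groth.Agent.Lib.Helper3.ModGlue
import Groth.Agent.Lib.Helper29.PullSect
/-!
# A section trivialising a module locally trivialises it globally
-/
universe u
set_option linter.unusedSectionVars false
open CategoryTheory CategoryTheory.Limits AlgebraicGeometry Opposite TopologicalSpace
open Groth.Agent.Lib.Helper29 Groth.Agent.Lib.Helper29.QCoh

namespace Groth.Agent.Lib.Helper3.TrivLocal

variable {Y : Scheme.{u}}

/-- If a section `e` of `A` over `V` trivialises `A` near every point of `V`, then `A` restricted to `V`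
is isomorphic to the structure sheaf. -/
theorem nonempty_iso_restrict_of_local_isTriv {A : Y.Modules} {V : Y.Opens} (e : Γ(A, V))
    (h : ∀ x ∈ V, ∃ (W : Y.Opens) (hW : W ≤ V), x ∈ W ∧ IsTriv A W (QCoh.res A hW e)) :
    Nonempty (unitM (V : Scheme.{u}) ≅ A.restrict V.ι) := by
  let e' : Γ(A.restrict V.ι, ⊤) := QCoh.res A V.ι_image_top.le e
  let σ₀ : unitM (V : Scheme.{u}) ⟶ A.restrict V.ι := homOfSection (A.restrict V.ι) e'
  have hsv : ∀ T : (V : Scheme.{u}).Opens, sval σ₀ T = QCoh.res A (V.ι_image_le T) e := by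
    intro T
    rw [sval_homOfSection]
    change QCoh.res A (V.ι.image_mono le_top) (QCoh.res A V.ι_image_top.le e) = _
    rw [res_res]
  have hiso : IsIso σ₀ := by
    apply ModGlue.isIso_of_bijective_on_basis σ₀
      (fun T => ∃ (W : Y.Opens) (hW : W ≤ V), V.ι ''ᵁ T ≤ W ∧ IsTriv A W (QCoh.res A hW e))
    · rintro T T' hTT' ⟨W, hW, hTW, hT⟩
      exact ⟨W, hW, (V.ι.image_mono hTT').trans hTW, hT⟩
    · intro w
      obtain ⟨W, hW, hwW, hT⟩ := h w.1 w.2
      refine ⟨V.ι ⁻¹ᵁ W, ⟨W, hW, ?_, hT⟩, hwW⟩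
      rw [Scheme.Hom.image_preimage_eq_opensRange_inf]
      exact inf_le_right
    · rintro T ⟨W, hW, hTW, hT⟩
      have hb := hT (V.ι ''ᵁ T) hTW
      have hfun : (fun s => σ₀.app T s) =
          (fun r : Γ(Y, V.ι ''ᵁ T) => r • QCoh.res A hTW (QCoh.res A hW e)) ∘ (V.ι.appIso T).inv ∘
            fromUnit := by
        funext s
        obtain ⟨r', rfl⟩ := toUnit_surjective s
        simp only [Function.comp_apply, fromUnit_toUnit]
        rw [app_eq_smul_sval, hsv, restrict_smul, res_res]
      change Function.Bijective (fun s => σ₀.app T s)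
      rw [hfun]
      refine hb.comp (Function.Bijective.comp
        (ConcreteCategory.bijective_of_isIso (V.ι.appIso T).inv) ?_)
      exact ⟨fun a b h => h, fun a => ⟨toUnit a, rfl⟩⟩
  exact ⟨asIso σ₀⟩

end Groth.Agent.Lib.Helper3.TrivLocal
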