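import Groth.Agent.Lib.Helper3.RelTwistS
import Groth.Agent.Lib.Helper3.TwistTriv
import Groth.Agent.Lib.Helper3.TrivLocal
import Groth.Agent.Lib.Helper3.ChartQC
/-!
# The open `X_f` of a relative Proj and the sections `f^n` of `O_P(nd)` over it
-/
universe u
set_option linter.unusedSectionVars false
open CategoryTheory CategoryTheory.Limits AlgebraicGeometry Opposite TopologicalSpace
open AlgebraicGeometry.Scheme.AffineZariskiSite
open scoped HomogeneousIdeal
open Groth.Agent.Lib.Helper29 Groth.Agent.Lib.Helper29.QCoh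

namespace Groth.Agent.Lib.Helper3.RelTwist
open RelProj Groth.Agent.Lib.Helper3 Groth.Agent.Lib.Helper3.RelTilde

variable {Y P : Scheme.{u}} {𝒮 : QCGrAlg Y} (p : P ⟶ Y)
  (chart : ∀ (U : Y.Opens) (hU : IsAffineOpen U), (((p ⁻¹ᵁ U : P.Opens) : Scheme.{u}) ≅ Proj (𝒮.deg U hU)))
  (hP : IsRelProj 𝒮 p chart)

/-- The restriction of a global section of `𝒮` to an affine open. -/
noncomputable def fU (f : 𝒮.presheaf.obj (op ⊤)) (U : Y.AffineZariskiSite) : 𝒮.presheaf.obj (op U.1) :=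
  (𝒮.presheaf.map (homOfLE (le_top : U.1 ≤ ⊤)).op).hom f

theorem ψ_fU (f : 𝒮.presheaf.obj (op ⊤)) {U V : Y.AffineZariskiSite} (h : V ≤ U) :
    ψ 𝒮 h (fU f U) = fU f V := by
  change (𝒮.presheaf.map (homOfLE (toOpens_mono h)).op).hom
    ((𝒮.presheaf.map (homOfLE (le_top : U.1 ≤ ⊤)).op).hom f) = _
  rw [← CommRingCat.comp_apply, ← Functor.map_comp]
  rfl

variable {p chart}

theorem e_eq (U : Y.AffineZariskiSite) (y : Proj (𝒮.deg U.1 U.2)) :
    (e p chart U).base y = (p ⁻¹ᵁ U.1).ι.base ((chart U.1 U.2).inv.base y) := by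
  unfold e emb
  rw [Scheme.Hom.comp_base, TopCat.comp_app]

theorem preimage_Xf (f : 𝒮.presheaf.obj (op ⊤)) (Xf : P.Opens)
    (hXf : ∀ (U : Y.Opens) (hU : IsAffineOpen U),
      Xf ⊓ p ⁻¹ᵁ U =
        (p ⁻¹ᵁ U).ι ''ᵁ ((chart U hU).hom ⁻¹ᵁ
          Proj.basicOpen (𝒮.deg U hU) ((𝒮.presheaf.map (homOfLE le_top).op).hom f)))
    (U : Y.AffineZariskiSite) :
    e p chart U ⁻¹ᵁ Xf = Proj.basicOpen (𝒮.deg U.1 U.2) (fU f U) := by
  ext y
  constructor
  · intro hy
    have h1 : (e p chart U).base y ∈ Xf ⊓ p ⁻¹ᵁ U.1 := ⟨hy, e_mem_R p chart U y⟩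
    rw [hXf U.1 U.2] at h1
    obtain ⟨z, hz, hzy⟩ := h1
    rw [e_eq] at hzy
    have hz' : z = (chart U.1 U.2).inv.base y := (p ⁻¹ᵁ U.1).ι.isOpenEmbedding.injective hzy
    rw [hz'] at hz
    have h2 : (chart U.1 U.2).hom.base ((chart U.1 U.2).inv.base y) = y := by
      rw [← TopCat.comp_app, ← Scheme.Hom.comp_base, Iso.inv_hom_id]
      rfl
    have h3 : (chart U.1 U.2).hom.base ((chart U.1 U.2).inv.base y) ∈
        Proj.basicOpen (𝒮.deg U.1 U.2) (fU f U) := hz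
    rw [h2] at h3
    exact h3
  · intro hy
    have h2 : (chart U.1 U.2).hom.base ((chart U.1 U.2).inv.base y) = y := by
      rw [← TopCat.comp_app, ← Scheme.Hom.comp_base, Iso.inv_hom_id]
      rfl
    have h1 : (e p chart U).base y ∈ Xf ⊓ p ⁻¹ᵁ U.1 := by
      rw [hXf U.1 U.2, e_eq]
      refine ⟨(chart U.1 U.2).inv.base y, ?_, rfl⟩
      change (chart U.1 U.2).hom.base ((chart U.1 U.2).inv.base y) ∈
        Proj.basicOpen (𝒮.deg U.1 U.2) (fU f U)
      rw [h2]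
      exact hy
    exact h1.1


section Adjunct
variable {P' Q : Scheme.{u}} (j : Q ⟶ P') [IsOpenImmersion j] (L : P'.Modules) (T : Q.Modules)
  (lam : L ⟶ (Scheme.Modules.pushforward j).obj T)

theorem adjunct_app (D : Q.Opens) (x : Γ(L, j ''ᵁ D)) :
    (((Scheme.Modules.restrictAdjunction j).homEquiv L T).symm lam).app D x =
      T.presheaf.map (eqToHom (j.preimage_image_eq D).symm).op (lam.app (j ''ᵁ D) x) := by
  rw [Adjunction.homEquiv_symm_apply, Scheme.Modules.Hom.comp_app, ConcreteCategory.comp_apply,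
    Scheme.Modules.restrictAdjunction_counit_app_app]
  rfl

end Adjunct

theorem mk_congr {R : Type*} [CommRing R] {S : Submonoid R} {a a' : R} {s s' : S} (ha : a = a')
    (hs : (s : R) = s') : Localization.mk a s = Localization.mk a' s' := by
  obtain rfl := ha
  obtain rfl : s = s' := Subtype.ext hs
  rfl

section Sec
variable {d : ℕ} (f : 𝒮.presheaf.obj (op ⊤))
  (hf : ∀ (U : Y.Opens) (hU : IsAffineOpen U), (𝒮.presheaf.map (homOfLE le_top).op).hom f ∈ 𝒮.deg U hU d)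
  (Xf : P.Opens)
  (hXf : ∀ (U : Y.Opens) (hU : IsAffineOpen U),
      Xf ⊓ p ⁻¹ᵁ U =
        (p ⁻¹ᵁ U).ι ''ᵁ ((chart U hU).hom ⁻¹ᵁ
          Proj.basicOpen (𝒮.deg U hU) ((𝒮.presheaf.map (homOfLE le_top).op).hom f)))
  (n : ℤ)

/-- `f|_U` as an element of the degree-`d` part. -/
noncomputable def fU' (U : Y.AffineZariskiSite) : 𝒮.deg U.1 U.2 d := ⟨fU f U, hf U.1 U.2⟩

/-- The section `f^n` of `O(nd)` on the chart over `U`, over the preimage of `X_f`. -/
noncomputable def τ (U : Y.AffineZariskiSite) : Γ(G p chart (n * (d : ℤ)) U, Xf) :=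
  TwistTriv.eSec (n * (d : ℤ)) (fU' f hf U) n.toNat (-n).toNat (by rw [Int.toNat_sub_toNat_neg])
    (e p chart U ⁻¹ᵁ Xf) (le_of_eq (preimage_Xf f Xf hXf U))

theorem τ_val (U : Y.AffineZariskiSite) (y : ProjectiveSpectrum (𝒮.deg U.1 U.2))
    (hy : (e p chart U).base y ∈ Xf) :
    GrTwist.val (V := e p chart U ⁻¹ᵁ Xf) (τ f hf Xf hXf n U) ⟨y, hy⟩ =
      Localization.mk (fU f U ^ n.toNat) ⟨fU f U ^ (-n).toNat,
        TildeQC.pow_not_mem_of_not_mem
          (le_of_eq (preimage_Xf f Xf hXf U) (show y ∈ e p chart U ⁻¹ᵁ Xf from hy)) _⟩ := rfl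

include hP in
theorem τ_compat {U V : Y.AffineZariskiSite} (h : V ≤ U) :
    (κ p chart hP (n * (d : ℤ)) h).app Xf (τ f hf Xf hXf n U) = τ f hf Xf hXf n V := by
  apply sec_ext p chart (n * (d : ℤ))
  intro y hy
  rw [κ_val, τ_val, τ_val, GrTwist.locMap_mk]
  apply mk_congr
  · rw [map_pow, ψ_fU]
  · change (ψ 𝒮 h) (fU f U ^ (-n).toNat) = fU f V ^ (-n).toNat
    rw [map_pow, ψ_fU]


variable {L : P.Modules}
  {lam : ∀ (U : Y.Opens) (hU : IsAffineOpen U),
      L ⟶ (Scheme.Modules.pushforward (emb p chart U hU)).obj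
        (GrTwist.twist (𝒮.deg U hU) (n * (d : ℤ)))}

include hP in
/-- The section `f^n` of `O_P(nd)` over `X_f`. -/
theorem exists_section_pow (hL : IsRelTwist 𝒮 p chart (n * (d : ℤ)) L lam) :
    ∃ s : Γ(L, Xf), ∀ U : Y.AffineZariskiSite, (lam U.1 U.2).app Xf s = τ f hf Xf hXf n U :=
  exists_section p chart hP (n * (d : ℤ)) hL Xf (τ f hf Xf hXf n)
    (fun U V h => τ_compat hP f hf Xf hXf n h)

include hXf in
theorem image_le_Xf (U : Y.AffineZariskiSite) :
    e p chart U ''ᵁ Proj.basicOpen (𝒮.deg U.1 U.2) (fU f U) ≤ Xf := by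
  rw [← preimage_Xf f Xf hXf U]
  exact (e p chart U).image_preimage_le Xf

theorem isTriv_res (hL : IsRelTwist 𝒮 p chart (n * (d : ℤ)) L lam) (s : Γ(L, Xf))
    (hs : ∀ U : Y.AffineZariskiSite, (lam U.1 U.2).app Xf s = τ f hf Xf hXf n U)
    (U : Y.AffineZariskiSite) :
    IsTriv L (e p chart U ''ᵁ Proj.basicOpen (𝒮.deg U.1 U.2) (fU f U))
      (QCoh.res L (image_le_Xf f Xf hXf U) s) := by
  have hr : Set.range (e p chart U).base = ((p ⁻¹ᵁ U.1 : P.Opens) : Set P) := range_e p chart U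
  have hbij : ∀ W : P.Opens, W ≤ (e p chart U).opensRange → Function.Bijective ((lam U.1 U.2).app W) :=
    fun W hW => hL.bijective U.1 U.2 W (fun w hw => by
      have : w ∈ Set.range (e p chart U).base := hW hw
      rw [hr] at this
      exact this)
  have hiso := ChartQC.isIso_adjunct (e p chart U) L _ (lam U.1 U.2) hbij
  let μ : L.restrict (e p chart U) ≅ GrTwist.twist (𝒮.deg U.1 U.2) (n * (d : ℤ)) :=
    asIso (((Scheme.Modules.restrictAdjunction (e p chart U)).homEquiv L _).symm (lam U.1 U.2))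
  let D : (Proj (𝒮.deg U.1 U.2)).Opens := Proj.basicOpen (𝒮.deg U.1 U.2) (fU f U)
  let t : Γ(GrTwist.twist (𝒮.deg U.1 U.2) (n * (d : ℤ)), D) :=
    TwistTriv.eSec (n * (d : ℤ)) (fU' f hf U) n.toNat (-n).toNat (by rw [Int.toNat_sub_toNat_neg])
      D le_rfl
  have ht : IsTriv (GrTwist.twist (𝒮.deg U.1 U.2) (n * (d : ℤ))) D t :=
    TwistTriv.isTriv_eSec _ _ _ _ _ _ _
  have h1 : IsTriv (L.restrict (e p chart U)) D (μ.symm.hom.app D t) := IsTriv.of_iso μ.symm ht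
  have h2 : IsTriv L (e p chart U ''ᵁ D) (μ.symm.hom.app D t) := h1.of_restrict (e p chart U)
  have key : μ.hom.app D (QCoh.res L (image_le_Xf f Xf hXf U) s) = t := by
    have h3 := adjunct_app (e p chart U) L _ (lam U.1 U.2) D (QCoh.res L (image_le_Xf f Xf hXf U) s)
    refine h3.trans ?_
    rw [QCoh.app_res, hs U]
    rfl
  have key2 : μ.symm.hom.app D t = QCoh.res L (image_le_Xf f Xf hXf U) s := by
    rw [← key]
    change μ.inv.app D (μ.hom.app D _) = _
    rw [← ConcreteCategory.comp_apply, ← Scheme.Modules.Hom.comp_app, Iso.hom_inv_id]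
    rfl
  rw [← key2]
  exact h2

include hP hf hXf in
/-- `O_P(nd)` restricted to `X_f` is trivial. -/
theorem nonempty_iso_restrict_Xf (hL : IsRelTwist 𝒮 p chart (n * (d : ℤ)) L lam) :
    Nonempty (unitM (Xf : Scheme.{u}) ≅ L.restrict Xf.ι) := by
  obtain ⟨s, hs⟩ := exists_section_pow hP f hf Xf hXf n hL
  apply TrivLocal.nonempty_iso_restrict_of_local_isTriv s
  intro x hx
  obtain ⟨V, hV, hxV, -⟩ := exists_isAffineOpen_mem_and_subset (x := p.base x) (U := ⊤) trivial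
  let U : Y.AffineZariskiSite := ⟨V, hV⟩
  obtain ⟨y, hy⟩ := exists_of_mem_R p chart U x hxV
  refine ⟨e p chart U ''ᵁ Proj.basicOpen (𝒮.deg U.1 U.2) (fU f U), image_le_Xf f Xf hXf U, ?_,
    isTriv_res f hf Xf hXf n hL s hs U⟩
  refine ⟨y, ?_, hy⟩
  have : y ∈ e p chart U ⁻¹ᵁ Xf := by
    change (e p chart U).base y ∈ Xf
    rw [hy]; exact hx
  rw [preimage_Xf f Xf hXf U] at this
  exact this

end Sec

end Groth.Agent.Lib.Helper3.RelTwist
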