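import Groth.Agent.Lib.Helper3.RelGlued
import Groth.Agent.Lib.Helper3.RelTwistF
import Groth.Agent.Lib.Helper3.TwistQC
import Groth.Agent.Lib.Helper3.ChartInv
/-!
# Tensor products with the twisting sheaves on a relative Proj
`(ℳ(m))~ ⊗ O_P(k) ≅ (ℳ(m+k))~` and `O_P(m) ⊗ O_P(k) ≅ O_P(m+k)` when `𝒮` is generated in degree one.
-/
universe u
set_option linter.unusedSectionVars false
open CategoryTheory CategoryTheory.Limits AlgebraicGeometry Opposite TopologicalSpace
open AlgebraicGeometry.Scheme.AffineZariskiSite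
open scoped HomogeneousIdeal
open Groth.Agent.Lib.Helper29 Groth.Agent.Lib.Helper29.QCoh

namespace Groth.Agent.Lib.Helper3.RelGlued
open RelProj Groth.Agent.Lib.Helper3 Groth.Agent.Lib.Helper3.GluedPairing
open Groth.Agent.Lib.Helper3.RelTilde (e comap_mem range_e e_mem_R)

section Chart
variable {P Q : Scheme.{u}} (j : Q ⟶ P) [IsOpenImmersion j] (L : P.Modules) (T : Q.Modules)
  (lam : L ⟶ (Scheme.Modules.pushforward j).obj T)

/-- A section of `L` over the image of `D` whose chart component trivialises `T` over `D` trivialises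
`L` over the image. -/
theorem isTriv_of_chart (hbij : ∀ W : P.Opens, W ≤ j.opensRange → Function.Bijective (lam.app W))
    (D : Q.Opens) (t : Γ(T, D)) (ht : IsTriv T D t) (s : Γ(L, j ''ᵁ D))
    (hs : T.presheaf.map (eqToHom (j.preimage_image_eq D).symm).op (lam.app (j ''ᵁ D) s) = t) :
    IsTriv L (j ''ᵁ D) s := by
  have hiso := ChartQC.isIso_adjunct j L T lam hbij
  let μ : L.restrict j ≅ T :=
    asIso (((Scheme.Modules.restrictAdjunction j).homEquiv L T).symm lam)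
  have h1 : IsTriv (L.restrict j) D (μ.symm.hom.app D t) := IsTriv.of_iso μ.symm ht
  have h2 : IsTriv L (j ''ᵁ D) (μ.symm.hom.app D t) := h1.of_restrict j
  have key : μ.hom.app D s = t := (RelTwist.adjunct_app j L T lam D s).trans hs
  have key2 : μ.symm.hom.app D t = s := by
    rw [← key]
    change μ.inv.app D (μ.hom.app D _) = _
    rw [← ConcreteCategory.comp_apply, ← Scheme.Modules.Hom.comp_app, Iso.hom_inv_id]
    rfl
  rw [← key2]
  exact h2

end Chart

variable {Y P : Scheme.{u}} {𝒮 : QCGrAlg Y} (p : P ⟶ Y)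
  (chart : ∀ (U : Y.Opens) (hU : IsAffineOpen U), (((p ⁻¹ᵁ U : P.Opens) : Scheme.{u}) ≅ Proj (𝒮.deg U hU)))
  (hP : IsRelProj 𝒮 p chart)

theorem isQuasicoherent_relTilde (ℳ : GrModule 𝒮) (n : ℤ) {F : P.Modules}
    {lam : ∀ (U : Y.Opens) (hU : IsAffineOpen U),
      F ⟶ (Scheme.Modules.pushforward (emb p chart U hU)).obj
        (GrMod.tilde (𝒮.deg U hU) (ℳ.deg U hU) n)}
    (hF : IsRelTilde 𝒮 p chart ℳ n F lam) : F.IsQuasicoherent := by
  apply ChartQC.isQuasicoherent_of_charts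
  intro x
  obtain ⟨U, hU, hx, -⟩ := exists_isAffineOpen_mem_and_subset (x := p.base x) (U := ⊤) trivial
  have hr : Set.range (RelProj.emb p chart U hU).base = ((p ⁻¹ᵁ U : P.Opens) : Set P) :=
    range_e p chart ⟨U, hU⟩
  refine ⟨Proj (𝒮.deg U hU), RelProj.emb p chart U hU, inferInstance,
    GrMod.tilde (𝒮.deg U hU) (ℳ.deg U hU) n, lam U hU, ?_, ?_, ?_⟩
  · rw [hr]; exact hx
  · exact TildeQC.tilde_isQuasicoherent _ _ n
  · intro W hW
    refine hF.bijective U hU W (fun w hw => ?_)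
    have : w ∈ Set.range (RelProj.emb p chart U hU).base := hW hw
    rw [hr] at this
    exact this

theorem isQuasicoherent_relTwist (n : ℤ) {L : P.Modules}
    {lam : ∀ (U : Y.Opens) (hU : IsAffineOpen U),
      L ⟶ (Scheme.Modules.pushforward (emb p chart U hU)).obj (GrTwist.twist (𝒮.deg U hU) n)}
    (hL : IsRelTwist 𝒮 p chart n L lam) : L.IsQuasicoherent := by
  apply ChartQC.isQuasicoherent_of_charts
  intro x
  obtain ⟨U, hU, hx, -⟩ := exists_isAffineOpen_mem_and_subset (x := p.base x) (U := ⊤) trivial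
  have hr : Set.range (RelProj.emb p chart U hU).base = ((p ⁻¹ᵁ U : P.Opens) : Set P) :=
    range_e p chart ⟨U, hU⟩
  refine ⟨Proj (𝒮.deg U hU), RelProj.emb p chart U hU, inferInstance,
    GrTwist.twist (𝒮.deg U hU) n, lam U hU, ?_, ?_, ?_⟩
  · rw [hr]; exact hx
  · exact TwistQC.twist_isQuasicoherent _ n
  · intro W hW
    refine hL.bijective U hU W (fun w hw => ?_)
    have : w ∈ Set.range (RelProj.emb p chart U hU).base := hW hw
    rw [hr] at this
    exact this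

/-- The standard opens of the relative Proj. -/
noncomputable def stdOpen {d : ℕ} (V : Y.AffineZariskiSite) (g : 𝒮.deg V.1 V.2 d) : P.Opens :=
  e p chart V ''ᵁ Proj.basicOpen (𝒮.deg V.1 V.2) g.1

theorem stdOpen_le {d : ℕ} (V : Y.AffineZariskiSite) (g : 𝒮.deg V.1 V.2 d) :
    stdOpen p chart V g ≤ p ⁻¹ᵁ V.1 := by
  rintro w ⟨z, -, hz⟩
  rw [← hz]
  exact e_mem_R p chart V z

theorem stdOpen_le_range {d : ℕ} (V : Y.AffineZariskiSite) (g : 𝒮.deg V.1 V.2 d) :
    stdOpen p chart V g ≤ (e p chart V).opensRange :=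
  (e p chart V).image_le_opensRange _

theorem isAffineOpen_stdOpen {d : ℕ} (hd : 0 < d) (V : Y.AffineZariskiSite) (g : 𝒮.deg V.1 V.2 d) :
    IsAffineOpen (stdOpen p chart V g) :=
  (Proj.isAffineOpen_basicOpen (𝒮.deg V.1 V.2) g.1 g.2 hd).image_of_isOpenImmersion (e p chart V)

theorem preimage_stdOpen {d : ℕ} (V : Y.AffineZariskiSite) (g : 𝒮.deg V.1 V.2 d) :
    e p chart V ⁻¹ᵁ stdOpen p chart V g = Proj.basicOpen (𝒮.deg V.1 V.2) g.1 :=
  (e p chart V).preimage_image_eq _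

theorem exists_stdOpen_mem (hgen : 𝒮.IsGenDegOne) (x : P) :
    ∃ i : (Σ V : Y.AffineZariskiSite, 𝒮.deg V.1 V.2 1), x ∈ stdOpen p chart i.1 i.2 := by
  obtain ⟨V, hV, hxV, -⟩ := exists_isAffineOpen_mem_and_subset (x := p.base x) (U := ⊤) trivial
  obtain ⟨y, hy⟩ := RelTilde.exists_of_mem_R p chart ⟨V, hV⟩ x hxV
  obtain ⟨g, hg⟩ := ChartInv.exists_deg_one_notMem (𝒮.deg V hV) (hgen V hV) y
  exact ⟨⟨⟨V, hV⟩, g⟩, y, hg, hy⟩

theorem mem_stdOpen {d : ℕ} (V : Y.AffineZariskiSite) (g : 𝒮.deg V.1 V.2 d)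
    (y : ProjectiveSpectrum (𝒮.deg V.1 V.2)) :
    (e p chart V).base y ∈ stdOpen p chart V g ↔ g.1 ∉ y.asHomogeneousIdeal := by
  have := congrArg (fun O : (Proj (𝒮.deg V.1 V.2)).Opens => y ∈ O) (preimage_stdOpen p chart V g)
  exact iff_of_eq this

section TrivSection
variable (k : ℤ) {L : P.Modules}
  {lamL : ∀ (U : Y.Opens) (hU : IsAffineOpen U),
      L ⟶ (Scheme.Modules.pushforward (emb p chart U hU)).obj (GrTwist.twist (𝒮.deg U hU) k)}

/-- The trivialising section `g^a / g^b` of `O_P(k)` over a standard open. -/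
theorem exists_triv_section (hL : IsRelTwist 𝒮 p chart k L lamL) {d : ℕ}
    (V : Y.AffineZariskiSite) (g : 𝒮.deg V.1 V.2 d) (a b : ℕ) (h : k = ((a : ℤ) - b) * d) :
    ∃ s : Γ(L, stdOpen p chart V g), IsTriv L (stdOpen p chart V g) s ∧
      (lamL V.1 V.2).app (stdOpen p chart V g) s =
        TwistTriv.eSec k g a b h (e p chart V ⁻¹ᵁ stdOpen p chart V g)
          (le_of_eq (preimage_stdOpen p chart V g)) := by
  have hr : Set.range (e p chart V).base = ((p ⁻¹ᵁ V.1 : P.Opens) : Set P) := range_e p chart V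
  have hbij : ∀ W : P.Opens, W ≤ (e p chart V).opensRange →
      Function.Bijective ((lamL V.1 V.2).app W) :=
    fun W hW => hL.bijective V.1 V.2 W (fun w hw => by
      have : w ∈ Set.range (e p chart V).base := hW hw
      rw [hr] at this
      exact this)
  obtain ⟨s, hs⟩ := (hbij _ (stdOpen_le_range p chart V g)).2
    (TwistTriv.eSec k g a b h (e p chart V ⁻¹ᵁ stdOpen p chart V g)
      (le_of_eq (preimage_stdOpen p chart V g)))
  refine ⟨s, ?_, hs⟩
  refine isTriv_of_chart (e p chart V) L _ (lamL V.1 V.2) hbij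
    (Proj.basicOpen (𝒮.deg V.1 V.2) g.1)
    (TwistTriv.eSec k g a b h _ le_rfl) (TwistTriv.isTriv_eSec _ _ _ _ _ _ _) s ?_
  have hs' := congrArg ((GrTwist.twist (𝒮.deg V.1 V.2) k).presheaf.map
    (eqToHom ((e p chart V).preimage_image_eq (Proj.basicOpen (𝒮.deg V.1 V.2) g.1)).symm).op) hs
  exact hs'.trans rfl

end TrivSection

attribute [irreducible] stdOpen

end Groth.Agent.Lib.Helper3.RelGlued

namespace Groth.Agent.Lib.Helper3.TwMul
open Groth.Agent.Lib.Helper3.TildeQC Groth.Agent.Lib.Helper3.TwistTriv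

section
variable {A σ : Type u} [CommRing A] [SetLike σ A] [AddSubgroupClass σ A] (𝒜 : ℕ → σ) [GradedRing 𝒜]
variable {M τ : Type u} [AddCommGroup M] [Module A M] [SetLike τ M] [AddSubgroupClass τ M] (ℳ : ℕ → τ)
  [DirectSum.Decomposition ℳ] [SetLike.GradedSMul 𝒜 ℳ]

theorem gmulFun_eSec_bijective' (m k : ℤ) {d : ℕ} (hd : 0 < d) (g : 𝒜 d) (p q : ℕ)
    (h : k = ((p : ℤ) - q) * d) (W : (Proj 𝒜).Opens) (hW : W = Proj.basicOpen 𝒜 g.1) :
    Function.Bijective (fun σ : Γ(GrMod.tilde 𝒜 ℳ m, W) =>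
      gmulFun 𝒜 ℳ m k W σ (eSec k g p q h W (le_of_eq hW))) := by
  subst hW
  exact gmulFun_eSec_bijective 𝒜 ℳ m k hd g p q h

theorem tmulFun_eSec_bijective' (m k : ℤ) {d : ℕ} (hd : 0 < d) (g : 𝒜 d) (p q : ℕ)
    (h : k = ((p : ℤ) - q) * d) (W : (Proj 𝒜).Opens) (hW : W = Proj.basicOpen 𝒜 g.1) :
    Function.Bijective (fun σ : Γ(GrTwist.twist 𝒜 m, W) =>
      tmulFun 𝒜 m k W σ (eSec k g p q h W (le_of_eq hW))) := by
  subst hW
  exact tmulFun_eSec_bijective 𝒜 m k hd g p q h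

end
end Groth.Agent.Lib.Helper3.TwMul

namespace Groth.Agent.Lib.Helper3.RelGlued
open RelProj Groth.Agent.Lib.Helper3 Groth.Agent.Lib.Helper3.GluedPairing
open Groth.Agent.Lib.Helper3.RelTilde (e comap_mem range_e e_mem_R)

variable {Y P : Scheme.{u}} {𝒮 : QCGrAlg Y} (p : P ⟶ Y)
  (chart : ∀ (U : Y.Opens) (hU : IsAffineOpen U), (((p ⁻¹ᵁ U : P.Opens) : Scheme.{u}) ≅ Proj (𝒮.deg U hU)))
  (hP : IsRelProj 𝒮 p chart)

section Tilde
variable (ℳ : GrModule 𝒮) (m k : ℤ)
  {F : P.Modules}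
  {lam : ∀ (U : Y.Opens) (hU : IsAffineOpen U),
      F ⟶ (Scheme.Modules.pushforward (emb p chart U hU)).obj
        (GrMod.tilde (𝒮.deg U hU) (ℳ.deg U hU) m)}
  {L : P.Modules}
  {lamL : ∀ (U : Y.Opens) (hU : IsAffineOpen U),
      L ⟶ (Scheme.Modules.pushforward (emb p chart U hU)).obj (GrTwist.twist (𝒮.deg U hU) k)}
  {F' : P.Modules}
  {lam' : ∀ (U : Y.Opens) (hU : IsAffineOpen U),
      F' ⟶ (Scheme.Modules.pushforward (emb p chart U hU)).obj
        (GrMod.tilde (𝒮.deg U hU) (ℳ.deg U hU) (m + k))}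

theorem isIso_tensorDesc_tilde (hgen : 𝒮.IsGenDegOne)
    (hF : IsRelTilde 𝒮 p chart ℳ m F lam) (hL : IsRelTwist 𝒮 p chart k L lamL)
    (hF' : IsRelTilde 𝒮 p chart ℳ (m + k) F' lam') (β : Pairing F L F')
    (hβ : ∀ (U : Y.AffineZariskiSite) (W : P.Opens) (σ : Γ(F, W)) (a : Γ(L, W)),
      (lam' U.1 U.2).app W (β.b W σ a) =
        gb p chart ℳ m k U W ((lam U.1 U.2).app W σ) ((lamL U.1 U.2).app W a)) :
    IsIso (tensorDesc β) := by
  have := isQuasicoherent_relTilde p chart ℳ m hF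
  have := isQuasicoherent_relTwist p chart k hL
  have := isQuasicoherent_relTilde p chart ℳ (m + k) hF'
  have hE : k = ((k.toNat : ℤ) - (-k).toNat) * (1 : ℕ) := by
    rw [Int.toNat_sub_toNat_neg]; simp
  have hex : ∀ i : (Σ V : Y.AffineZariskiSite, 𝒮.deg V.1 V.2 1),
      ∃ s : Γ(L, stdOpen p chart i.1 i.2), IsTriv L (stdOpen p chart i.1 i.2) s ∧
        (lamL i.1.1 i.1.2).app (stdOpen p chart i.1 i.2) s =
          TwistTriv.eSec k i.2 k.toNat (-k).toNat hE (e p chart i.1 ⁻¹ᵁ stdOpen p chart i.1 i.2)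
            (le_of_eq (preimage_stdOpen p chart i.1 i.2)) :=
    fun i => exists_triv_section p chart k hL i.1 i.2 _ _ hE
  choose s hs1 hs2 using hex
  have hUaff : ∀ i : (Σ V : Y.AffineZariskiSite, 𝒮.deg V.1 V.2 1),
      IsAffineOpen (stdOpen p chart i.1 i.2) :=
    fun i => isAffineOpen_stdOpen p chart one_pos i.1 i.2
  have hcov : ∀ x : P, ∃ i : (Σ V : Y.AffineZariskiSite, 𝒮.deg V.1 V.2 1),
      x ∈ stdOpen p chart i.1 i.2 := exists_stdOpen_mem p chart hgen
  have hbas : ∀ i : (Σ V : Y.AffineZariskiSite, 𝒮.deg V.1 V.2 1),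
      Function.Bijective (fun r : Γ(P, stdOpen p chart i.1 i.2) => r • s i) :=
    fun i => (hs1 i).bijective
  refine isIso_of_tensor_basis (tensorDesc β)
    (fun i : (Σ V : Y.AffineZariskiSite, 𝒮.deg V.1 V.2 1) => stdOpen p chart i.1 i.2)
    hUaff hcov s hbas ?_
  rintro ⟨V, g⟩
  simp only [tensorDesc_tmulSec]
  have hb1 := hF.bijective V.1 V.2 (stdOpen p chart V g) (stdOpen_le p chart V g)
  have hb3 := hF'.bijective V.1 V.2 (stdOpen p chart V g) (stdOpen_le p chart V g)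
  have hb2 : Function.Bijective (fun σ : Γ(RelTilde.G p chart ℳ m V, stdOpen p chart V g) =>
      gb p chart ℳ m k V (stdOpen p chart V g) σ
        (TwistTriv.eSec k g k.toNat (-k).toNat hE (e p chart V ⁻¹ᵁ stdOpen p chart V g)
          (le_of_eq (preimage_stdOpen p chart V g)))) :=
    TwMul.gmulFun_eSec_bijective' (𝒮.deg V.1 V.2) (ℳ.deg V.1 V.2) m k one_pos g _ _ hE _
      (preimage_stdOpen p chart V g)
  have hcomp : ((lam' V.1 V.2).app (stdOpen p chart V g) ∘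
      (fun σ : Γ(F, stdOpen p chart V g) => β.b (stdOpen p chart V g) σ (s ⟨V, g⟩)) : _ → _) =
      (fun σ : Γ(RelTilde.G p chart ℳ m V, stdOpen p chart V g) =>
        gb p chart ℳ m k V (stdOpen p chart V g) σ
          (TwistTriv.eSec k g k.toNat (-k).toNat hE (e p chart V ⁻¹ᵁ stdOpen p chart V g)
            (le_of_eq (preimage_stdOpen p chart V g)))) ∘
        (lam V.1 V.2).app (stdOpen p chart V g) := by
    funext σ
    change (lam' V.1 V.2).app _ (β.b _ σ (s ⟨V, g⟩)) = _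
    rw [hβ V, hs2 ⟨V, g⟩]
    rfl
  refine (Function.Bijective.of_comp_iff' hb3 _).mp ?_
  rw [hcomp]
  exact hb2.comp hb1


include hP in
/-- `(ℳ(m))~ ⊗ O_P(k) ≅ (ℳ(m + k))~` when `𝒮` is generated in degree one. -/
theorem nonempty_iso_tilde (hgen : 𝒮.IsGenDegOne)
    (hℳ : Coh.IsQCoh ((AMod.toOS 𝒮.toQCAlg).obj ℳ.mod)) (j : ℤ) (hj : j = m + k)
    {F'' : P.Modules}
    {lam'' : ∀ (U : Y.Opens) (hU : IsAffineOpen U),
      F'' ⟶ (Scheme.Modules.pushforward (emb p chart U hU)).obj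
        (GrMod.tilde (𝒮.deg U hU) (ℳ.deg U hU) j)}
    (hF : IsRelTilde 𝒮 p chart ℳ m F lam) (hL : IsRelTwist 𝒮 p chart k L lamL)
    (hF'' : IsRelTilde 𝒮 p chart ℳ j F'' lam'') : Nonempty (F'' ≅ CohB1.tensorMod F L) := by
  subst hj
  obtain ⟨β, hβ⟩ := exists_pairing (glued_relTilde p chart hP ℳ hℳ m hF)
    (glued_relTwist p chart hP k hL) (glued_relTilde p chart hP ℳ hℳ (m + k) hF'')
    (tildePairing p chart hP ℳ m k)
  have := isIso_tensorDesc_tilde p chart ℳ m k hgen hF hL hF'' β (fun U W σ a => hβ U W σ a)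
  exact ⟨(asIso (tensorDesc β)).symm⟩

end Tilde

section Twist
variable (m k : ℤ)
  {F : P.Modules}
  {lam : ∀ (U : Y.Opens) (hU : IsAffineOpen U),
      F ⟶ (Scheme.Modules.pushforward (emb p chart U hU)).obj (GrTwist.twist (𝒮.deg U hU) m)}
  {L : P.Modules}
  {lamL : ∀ (U : Y.Opens) (hU : IsAffineOpen U),
      L ⟶ (Scheme.Modules.pushforward (emb p chart U hU)).obj (GrTwist.twist (𝒮.deg U hU) k)}
  {F' : P.Modules}
  {lam' : ∀ (U : Y.Opens) (hU : IsAffineOpen U),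
      F' ⟶ (Scheme.Modules.pushforward (emb p chart U hU)).obj
        (GrTwist.twist (𝒮.deg U hU) (m + k))}

theorem isIso_tensorDesc_twist (hgen : 𝒮.IsGenDegOne)
    (hF : IsRelTwist 𝒮 p chart m F lam) (hL : IsRelTwist 𝒮 p chart k L lamL)
    (hF' : IsRelTwist 𝒮 p chart (m + k) F' lam') (β : Pairing F L F')
    (hβ : ∀ (U : Y.AffineZariskiSite) (W : P.Opens) (σ : Γ(F, W)) (a : Γ(L, W)),
      (lam' U.1 U.2).app W (β.b W σ a) =
        tb p chart m k U W ((lam U.1 U.2).app W σ) ((lamL U.1 U.2).app W a)) :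
    IsIso (tensorDesc β) := by
  have := isQuasicoherent_relTwist p chart m hF
  have := isQuasicoherent_relTwist p chart k hL
  have := isQuasicoherent_relTwist p chart (m + k) hF'
  have hE : k = ((k.toNat : ℤ) - (-k).toNat) * (1 : ℕ) := by
    rw [Int.toNat_sub_toNat_neg]; simp
  have hex : ∀ i : (Σ V : Y.AffineZariskiSite, 𝒮.deg V.1 V.2 1),
      ∃ s : Γ(L, stdOpen p chart i.1 i.2), IsTriv L (stdOpen p chart i.1 i.2) s ∧
        (lamL i.1.1 i.1.2).app (stdOpen p chart i.1 i.2) s =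
          TwistTriv.eSec k i.2 k.toNat (-k).toNat hE (e p chart i.1 ⁻¹ᵁ stdOpen p chart i.1 i.2)
            (le_of_eq (preimage_stdOpen p chart i.1 i.2)) :=
    fun i => exists_triv_section p chart k hL i.1 i.2 _ _ hE
  choose s hs1 hs2 using hex
  have hUaff : ∀ i : (Σ V : Y.AffineZariskiSite, 𝒮.deg V.1 V.2 1),
      IsAffineOpen (stdOpen p chart i.1 i.2) :=
    fun i => isAffineOpen_stdOpen p chart one_pos i.1 i.2
  have hcov : ∀ x : P, ∃ i : (Σ V : Y.AffineZariskiSite, 𝒮.deg V.1 V.2 1),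
      x ∈ stdOpen p chart i.1 i.2 := exists_stdOpen_mem p chart hgen
  have hbas : ∀ i : (Σ V : Y.AffineZariskiSite, 𝒮.deg V.1 V.2 1),
      Function.Bijective (fun r : Γ(P, stdOpen p chart i.1 i.2) => r • s i) :=
    fun i => (hs1 i).bijective
  refine isIso_of_tensor_basis (tensorDesc β)
    (fun i : (Σ V : Y.AffineZariskiSite, 𝒮.deg V.1 V.2 1) => stdOpen p chart i.1 i.2)
    hUaff hcov s hbas ?_
  rintro ⟨V, g⟩
  simp only [tensorDesc_tmulSec]
  have hb1 := hF.bijective V.1 V.2 (stdOpen p chart V g) (stdOpen_le p chart V g)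
  have hb3 := hF'.bijective V.1 V.2 (stdOpen p chart V g) (stdOpen_le p chart V g)
  have hb2 : Function.Bijective (fun σ : Γ(RelTwist.G p chart m V, stdOpen p chart V g) =>
      tb p chart m k V (stdOpen p chart V g) σ
        (TwistTriv.eSec k g k.toNat (-k).toNat hE (e p chart V ⁻¹ᵁ stdOpen p chart V g)
          (le_of_eq (preimage_stdOpen p chart V g)))) :=
    TwMul.tmulFun_eSec_bijective' (𝒮.deg V.1 V.2) m k one_pos g _ _ hE _
      (preimage_stdOpen p chart V g)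
  have hcomp : ((lam' V.1 V.2).app (stdOpen p chart V g) ∘
      (fun σ : Γ(F, stdOpen p chart V g) => β.b (stdOpen p chart V g) σ (s ⟨V, g⟩)) : _ → _) =
      (fun σ : Γ(RelTwist.G p chart m V, stdOpen p chart V g) =>
        tb p chart m k V (stdOpen p chart V g) σ
          (TwistTriv.eSec k g k.toNat (-k).toNat hE (e p chart V ⁻¹ᵁ stdOpen p chart V g)
            (le_of_eq (preimage_stdOpen p chart V g)))) ∘
        (lam V.1 V.2).app (stdOpen p chart V g) := by
    funext σ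
    change (lam' V.1 V.2).app _ (β.b _ σ (s ⟨V, g⟩)) = _
    rw [hβ V, hs2 ⟨V, g⟩]
    rfl
  refine (Function.Bijective.of_comp_iff' hb3 _).mp ?_
  rw [hcomp]
  exact hb2.comp hb1


include hP in
/-- `O_P(m) ⊗ O_P(k) ≅ O_P(m + k)` when `𝒮` is generated in degree one. -/
theorem nonempty_iso_twist (hgen : 𝒮.IsGenDegOne)
    (hF : IsRelTwist 𝒮 p chart m F lam) (hL : IsRelTwist 𝒮 p chart k L lamL)
    (hF' : IsRelTwist 𝒮 p chart (m + k) F' lam') : Nonempty (CohB1.tensorMod F L ≅ F') := by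
  obtain ⟨β, hβ⟩ := exists_pairing (glued_relTwist p chart hP m hF)
    (glued_relTwist p chart hP k hL) (glued_relTwist p chart hP (m + k) hF')
    (twistPairing p chart hP m k)
  have := isIso_tensorDesc_twist p chart m k hgen hF hL hF' β (fun U W σ a => hβ U W σ a)
  exact ⟨asIso (tensorDesc β)⟩

end Twist


end Groth.Agent.Lib.Helper3.RelGlued
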