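import Groth.Agent.Lib.Helper3.TildeLoc
/-!
# The twisting sheaves `O(n)` and localization at an element of degree zero (ring level)

The case `ℳ = 𝒜` of `TildeLoc`, transported to the frozen `GrTwist` (which is the same construction up to
definitional unfolding): bijectivity of `GrTwist.comapApp` on sections for a localization at an element of
degree zero, and composition of the maps `GrTwist.locMap`.
-/
universe u
set_option linter.unusedSectionVars false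
open CategoryTheory CategoryTheory.Limits AlgebraicGeometry Opposite TopologicalSpace
open HomogeneousLocalization DirectSum
open scoped HomogeneousIdeal

namespace Groth.Agent.Lib.Helper3.TwistLoc

variable {A σ : Type u} [CommRing A] [SetLike σ A] [AddSubgroupClass σ A] {𝒜 : ℕ → σ} [GradedRing 𝒜]
variable {B σ' : Type u} [CommRing B] [SetLike σ' B] [AddSubgroupClass σ' B] {ℬ : ℕ → σ'} [GradedRing ℬ]
variable (ψ : 𝒜 →+*ᵍ ℬ) (hψ : ℬ₊ ≤ (𝒜₊).map ψ) (c : A) (hc : c ∈ 𝒜 0)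

/-- `ψ` as a `ψ`-semilinear map. -/
def ψlin : A →ₛₗ[ψ.toRingHom] B where
  toFun := ψ
  map_add' := map_add ψ
  map_smul' := fun a b => map_mul ψ a b

theorem ψlin_apply (a : A) : ψlin ψ a = ψ a := rfl

theorem hψlin (i : ℕ) (a : A) (ha : a ∈ 𝒜 i) : ψlin ψ a ∈ ℬ i := ψ.map_mem ha

variable {ψ c}

theorem isLocModAt (hA : ProjLoc.IsLocAt ψ c) : TildeLoc.IsLocModAt ψ (ψlin ψ) c where
  surj b := by
    obtain ⟨a, k, h⟩ := hA.surj b
    exact ⟨a, k, by rw [ψlin_apply, ← h, smul_eq_mul, mul_comm]⟩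
  ker a h := by
    obtain ⟨k, hk⟩ := hA.ker a h
    exact ⟨k, hk⟩

theorem locMap_eq (y : ProjectiveSpectrum ℬ) (q : GrTwist.Loc 𝒜 (ProjectiveSpectrum.comap ψ hψ y)) :
    GrTwist.locMap ψ hψ y q = GrMod.locModMap ψ hψ (ψlin ψ) y q := by
  induction q using Localization.induction_on with
  | H x =>
    obtain ⟨a, s⟩ := x
    rw [GrTwist.locMap_mk]
    rfl

theorem locMap_injective (hA : ProjLoc.IsLocAt ψ c) (y : ProjectiveSpectrum ℬ) :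
    Function.Injective (GrTwist.locMap ψ hψ y) := by
  intro q q' h
  rw [locMap_eq, locMap_eq] at h
  exact TildeLoc.locModMap_injective hψ hA (isLocModAt hA) y h

section Sections

variable (n : ℤ) (O : Opens (ProjectiveSpectrum.top 𝒜)) (O' : Opens (ProjectiveSpectrum.top ℬ))
  (hOO' : O'.1 ⊆ ProjectiveSpectrum.comap ψ hψ ⁻¹' O.1)

theorem comapApp_eq :
    (GrTwist.comapApp ψ hψ n O O' hOO' : GrTwist.sectN (𝒜 := 𝒜) n (op O) → GrTwist.sectN (𝒜 := ℬ) n (op O')) =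
      (GrMod.comapApp ψ hψ (ψlin ψ) (hψlin ψ) n O O' hOO' :
        GrMod.sect 𝒜 𝒜 n (op O) → GrMod.sect ℬ ℬ n (op O')) := by
  funext s
  exact Subtype.ext (funext fun y => Subtype.ext (locMap_eq hψ y.1 _))

theorem comapApp_injective (hA : ProjLoc.IsLocAt ψ c)
    (hpts : ∀ x ∈ O, ∃ y ∈ O', ProjectiveSpectrum.comap ψ hψ y = x) :
    Function.Injective (GrTwist.comapApp ψ hψ n O O' hOO') := by
  rw [comapApp_eq]
  exact TildeLoc.comapApp_injective hψ (hψlin ψ) n O O' hOO' hA (isLocModAt hA) hpts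

include hc in
theorem comapApp_surjective (hA : ProjLoc.IsLocAt ψ c)
    (hinj : Function.Injective (ProjectiveSpectrum.comap ψ hψ))
    (hopen : IsOpenMap (ProjectiveSpectrum.comap ψ hψ))
    (hpts : ∀ x ∈ O, ∃ y ∈ O', ProjectiveSpectrum.comap ψ hψ y = x) :
    Function.Surjective (GrTwist.comapApp ψ hψ n O O' hOO') := by
  rw [comapApp_eq]
  exact TildeLoc.comapApp_surjective hψ (hψlin ψ) hc n O O' hOO' hA (isLocModAt hA) hinj hopen hpts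

end Sections

section Comp

variable {C σ'' : Type u} [CommRing C] [SetLike σ'' C] [AddSubgroupClass σ'' C] {𝒞 : ℕ → σ''} [GradedRing 𝒞]

theorem locMap_comp (n : ℤ) (ψ₂ : ℬ →+*ᵍ 𝒞) (hψ₂ : 𝒞₊ ≤ (ℬ₊).map ψ₂)
    (ψ₃ : 𝒜 →+*ᵍ 𝒞) (hψ₃ : 𝒞₊ ≤ (𝒜₊).map ψ₃) (h3 : ∀ a, ψ₃ a = ψ₂ (ψ a))
    (O : Opens (ProjectiveSpectrum.top 𝒜)) (s : ∀ x : O, GrTwist.twistAt 𝒜 n x.1)
    (y : ProjectiveSpectrum 𝒞)
    (h₁ : ProjectiveSpectrum.comap ψ hψ (ProjectiveSpectrum.comap ψ₂ hψ₂ y) ∈ O)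
    (h₃ : ProjectiveSpectrum.comap ψ₃ hψ₃ y ∈ O) :
    GrTwist.locMap ψ₂ hψ₂ y (GrTwist.locMap ψ hψ (ProjectiveSpectrum.comap ψ₂ hψ₂ y) (s ⟨_, h₁⟩).1) =
      GrTwist.locMap ψ₃ hψ₃ y (s ⟨_, h₃⟩).1 := by
  rw [locMap_eq, locMap_eq, locMap_eq]
  exact TildeLoc.locModMap_comp (ℳ := 𝒜) (v := ψlin ψ) hψ n ψ₂ hψ₂ (ψlin ψ₂) ψ₃ hψ₃ (ψlin ψ₃) h3
    (fun m => h3 m) O s y h₁ h₃

theorem locMap_id (n : ℤ) (χ : 𝒜 →+*ᵍ 𝒜) (hχ : 𝒜₊ ≤ (𝒜₊).map χ) (h1 : ∀ a, χ a = a)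
    (O : Opens (ProjectiveSpectrum.top 𝒜)) (s : ∀ x : O, GrTwist.twistAt 𝒜 n x.1)
    (y : ProjectiveSpectrum 𝒜) (h₁ : ProjectiveSpectrum.comap χ hχ y ∈ O) (h₂ : y ∈ O) :
    GrTwist.locMap χ hχ y (s ⟨_, h₁⟩).1 = (s ⟨y, h₂⟩).1 := by
  rw [locMap_eq]
  exact TildeLoc.locModMap_id (ℳ := 𝒜) n χ hχ (ψlin χ) h1 (fun m => h1 m) O s y h₁ h₂

end Comp

end Groth.Agent.Lib.Helper3.TwistLoc
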