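import Groth.Agent.Lib.Helper3.RelTilde
import Groth.Agent.Lib.Helper3.TwistLoc
/-!
# The twisting sheaf `O_P(n)` on a relative Proj, as a limit of the direct images of the chart modules
-/
universe u
set_option linter.unusedSectionVars false
set_option Elab.async false
open CategoryTheory CategoryTheory.Limits AlgebraicGeometry Opposite TopologicalSpace
open AlgebraicGeometry.Scheme.AffineZariskiSite
open scoped HomogeneousIdeal
open Groth.Agent.Lib.Helper29

namespace Groth.Agent.Lib.Helper3.RelTwist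
open RelProj Groth.Agent.Lib.Helper3 Groth.Agent.Lib.Helper3.RelTilde

variable {Y P : Scheme.{u}} {𝒮 : QCGrAlg Y} (p : P ⟶ Y)
  (chart : ∀ (U : Y.Opens) (hU : IsAffineOpen U), (((p ⁻¹ᵁ U : P.Opens) : Scheme.{u}) ≅ Proj (𝒮.deg U hU)))
  (hP : IsRelProj 𝒮 p chart) (n : ℤ)

variable (𝒮) in
/-- the chart module -/
noncomputable abbrev T (U : Y.AffineZariskiSite) : (Proj (𝒮.deg U.1 U.2)).Modules :=
  GrTwist.twist (𝒮.deg U.1 U.2) n

/-- its direct image on `P` -/
noncomputable abbrev G (U : Y.AffineZariskiSite) : P.Modules :=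
  (Scheme.Modules.pushforward (e p chart U)).obj (T 𝒮 n U)

/-- the transition morphism -/
noncomputable def κ {U V : Y.AffineZariskiSite} (h : V ≤ U) : G p chart n U ⟶ G p chart n V :=
  (Scheme.Modules.pushforward (e p chart U)).map
      (GrTwist.comap (ψ 𝒮 h) (RelProjExist.irr 𝒮 h) n) ≫
    (Scheme.Modules.pushforwardComp (φ 𝒮 h) (e p chart U)).hom.app (T 𝒮 n V) ≫
      (Scheme.Modules.pushforwardCongr (φ_e p chart hP h)).hom.app (T 𝒮 n V)

theorem κ_val {U V : Y.AffineZariskiSite} (h : V ≤ U) (W : P.Opens) (s : Γ(G p chart n U, W))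
    (y : ProjectiveSpectrum (𝒮.deg V.1 V.2)) (hy : (e p chart V).base y ∈ W) :
    GrTwist.val (V := e p chart V ⁻¹ᵁ W) ((κ p chart hP n h).app W s) ⟨y, hy⟩ =
      GrTwist.locMap (ψ 𝒮 h) (RelProjExist.irr 𝒮 h) y
        (GrTwist.val (V := e p chart U ⁻¹ᵁ W) s ⟨_, comap_mem p chart hP h W y hy⟩) := rfl

attribute [irreducible] κ

theorem sec_ext {U : Y.AffineZariskiSite} {W : P.Opens} (s₁ s₂ : Γ(G p chart n U, W))
    (h : ∀ (y : ProjectiveSpectrum (𝒮.deg U.1 U.2)) (hy : (e p chart U).base y ∈ W),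
      GrTwist.val (V := e p chart U ⁻¹ᵁ W) s₁ ⟨y, hy⟩ = GrTwist.val (V := e p chart U ⁻¹ᵁ W) s₂ ⟨y, hy⟩) :
    s₁ = s₂ :=
  Subtype.ext (funext fun y => Subtype.ext (h y.1 y.2))

theorem κ_self (U : Y.AffineZariskiSite) : κ p chart hP n (le_refl U) = 𝟙 _ := by
  apply Scheme.Modules.hom_ext
  intro W
  apply ConcreteCategory.hom_ext
  intro s
  apply sec_ext
  intro y hy
  rw [κ_val]
  exact TwistLoc.locMap_id n (ψ 𝒮 (le_refl U)) (RelProjExist.irr 𝒮 (le_refl U))
    (ψ_self U) (e p chart U ⁻¹ᵁ W)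
    (show GrTwist.sectN (𝒜 := 𝒮.deg U.1 U.2) n (op (e p chart U ⁻¹ᵁ W)) from s).1 y _ hy

theorem κ_comp {U V V' : Y.AffineZariskiSite} (h₁ : V ≤ U) (h₂ : V' ≤ V) :
    κ p chart hP n h₁ ≫ κ p chart hP n h₂ = κ p chart hP n (h₂.trans h₁) := by
  apply Scheme.Modules.hom_ext
  intro W
  apply ConcreteCategory.hom_ext
  intro s
  apply sec_ext
  intro y hy
  rw [κ_val]
  change GrTwist.val (V := e p chart V' ⁻¹ᵁ W)
    ((κ p chart hP n h₂).app W ((κ p chart hP n h₁).app W s)) ⟨y, hy⟩ = _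
  rw [κ_val, κ_val]
  exact TwistLoc.locMap_comp (RelProjExist.irr 𝒮 h₁) n (ψ 𝒮 h₂) (RelProjExist.irr 𝒮 h₂)
    (ψ 𝒮 (h₂.trans h₁)) (RelProjExist.irr 𝒮 (h₂.trans h₁))
    (ψ_comp h₁ h₂) (e p chart U ⁻¹ᵁ W)
    (show GrTwist.sectN (𝒜 := 𝒮.deg U.1 U.2) n (op (e p chart U ⁻¹ᵁ W)) from s).1 y _ _

/-- The objects of the system. -/
noncomputable def Gop (U : (Y.AffineZariskiSite)ᵒᵖ) : P.Modules := G p chart n U.unop

/-- The morphisms of the system. -/
noncomputable def κop {U V : (Y.AffineZariskiSite)ᵒᵖ} (f : U ⟶ V) :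
    Gop p chart n U ⟶ Gop p chart n V := κ p chart hP n f.unop.le

theorem κop_def {U V : (Y.AffineZariskiSite)ᵒᵖ} (f : U ⟶ V) :
    κop p chart hP n f = κ p chart hP n f.unop.le := rfl

theorem κop_id (U : (Y.AffineZariskiSite)ᵒᵖ) : κop p chart hP n (𝟙 U) = 𝟙 (Gop p chart n U) :=
  κ_self p chart hP n U.unop

theorem κop_comp {U V W : (Y.AffineZariskiSite)ᵒᵖ} (f : U ⟶ V) (g : V ⟶ W) :
    κop p chart hP n (f ≫ g) = κop p chart hP n f ≫ κop p chart hP n g :=
  (κ_comp p chart hP n f.unop.le g.unop.le).symm.trans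
    (congrArg₂ (fun (a : G p chart n U.unop ⟶ G p chart n V.unop)
      (b : G p chart n V.unop ⟶ G p chart n W.unop) => a ≫ b)
      (κop_def p chart hP n f) (κop_def p chart hP n g)).symm

/-- The system of direct images of the chart modules. -/
noncomputable def D : (Y.AffineZariskiSite)ᵒᵖ ⥤ P.Modules :=
  @CategoryTheory.Functor.mk _ _ _ _ (Gop p chart n) (@κop _ _ _ p chart hP n)
    (κop_id p chart hP n) (@κop_comp _ _ _ p chart hP n)

theorem D_map_le {U V : Y.AffineZariskiSite} (h : V ≤ U) :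
    (D p chart hP n).map (homOfLE h).op = κ p chart hP n h := rfl

theorem D_map_val {U V : Y.AffineZariskiSite} (h : V ≤ U) (W : P.Opens)
    (s : Γ((D p chart hP n).obj (op U), W))
    (y : ProjectiveSpectrum (𝒮.deg V.1 V.2)) (hy : (e p chart V).base y ∈ W) :
    GrTwist.val (V := e p chart V ⁻¹ᵁ W) (((D p chart hP n).map (homOfLE h).op).app W s) ⟨y, hy⟩ =
      GrTwist.locMap (ψ 𝒮 h) (RelProjExist.irr 𝒮 h) y
        (GrTwist.val (V := e p chart U ⁻¹ᵁ W) s ⟨_, comap_mem p chart hP h W y hy⟩) :=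
  (congrArg (fun m : (D p chart hP n).obj (op U) ⟶ (D p chart hP n).obj (op V) =>
      GrTwist.val (V := e p chart V ⁻¹ᵁ W) (m.app W s) ⟨y, hy⟩) (D_map_le p chart hP n h)).trans
    (κ_val p chart hP n h W s y hy)

theorem supp' (U : Y.AffineZariskiSite) (W : P.Opens) :
    Function.Bijective (QCoh.res (G p chart n U) (inf_le_left : W ⊓ R p U ≤ W)) := by
  have e1 : e p chart U ⁻¹ᵁ (W ⊓ R p U) = e p chart U ⁻¹ᵁ W := by
    ext y
    exact ⟨fun h => h.1, fun h => ⟨h, e_mem_R p chart U y⟩⟩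
  exact res_bijective_of_eq (T 𝒮 n U) ((e p chart U).preimage_mono inf_le_left) e1

theorem bij_basic (U : Y.AffineZariskiSite)
    (f : Γ(Y, U.1)) (h : U.basicOpen f ≤ U)
    (W : P.Opens) (hW : W ≤ R p (U.basicOpen f)) :
    Function.Bijective (ModGlue.tr (D p chart hP n) h W) := by
  have hOO' : (e p chart (U.basicOpen f) ⁻¹ᵁ W : (Proj (𝒮.deg (U.basicOpen f).1 (U.basicOpen f).2)).Opens).1 ⊆
      ProjectiveSpectrum.comap (ψ 𝒮 h) (RelProjExist.irr 𝒮 h) ⁻¹'
        (e p chart U ⁻¹ᵁ W : (Proj (𝒮.deg U.1 U.2)).Opens).1 :=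
    fun y hy => comap_mem p chart hP h W y hy
  have hpts : ∀ x ∈ (e p chart U ⁻¹ᵁ W : (Proj (𝒮.deg U.1 U.2)).Opens),
      ∃ y ∈ (e p chart (U.basicOpen f) ⁻¹ᵁ W : (Proj (𝒮.deg (U.basicOpen f).1 (U.basicOpen f).2)).Opens),
        ProjectiveSpectrum.comap (ψ 𝒮 h) (RelProjExist.irr 𝒮 h) y = x :=
    fun x hx => exists_comap_eq p chart hP h W hW x hx
  have tr_eq : ModGlue.tr (D p chart hP n) h W =
        GrTwist.comapApp (ψ 𝒮 h) (RelProjExist.irr 𝒮 h) n
          (e p chart U ⁻¹ᵁ W) (e p chart (U.basicOpen f) ⁻¹ᵁ W) hOO' := by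
    funext s
    exact sec_ext p chart n (U := U.basicOpen f) _ _
      (fun y hy => D_map_val p chart hP n h W s y hy)
  rw [tr_eq]
  have hA : ProjLoc.IsLocAt (ψ 𝒮 h) ((𝒮.str.app (op U.1)).hom f) := RelProjExist.isLocAt_res 𝒮 U.1 U.2 f
  have hc : (𝒮.str.app (op U.1)).hom f ∈ 𝒮.deg U.1 U.2 0 := 𝒮.str_mem U.1 U.2 f
  have hoi : IsOpenImmersion (φ 𝒮 h) := hA.isOpenImmersion_map hc (RelProjExist.irr 𝒮 h)
  have hinj : Function.Injective (ProjectiveSpectrum.comap (ψ 𝒮 h) (RelProjExist.irr 𝒮 h)) :=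
    (φ 𝒮 h).isOpenEmbedding.injective
  have hopen : IsOpenMap (ProjectiveSpectrum.comap (ψ 𝒮 h) (RelProjExist.irr 𝒮 h)) :=
    (φ 𝒮 h).isOpenEmbedding.isOpenMap
  constructor
  · exact TwistLoc.comapApp_injective (RelProjExist.irr 𝒮 h) n _ _ hOO' hA hpts
  · exact TwistLoc.comapApp_surjective (RelProjExist.irr 𝒮 h) hc n _ _ hOO' hA hinj hopen hpts

theorem bij' {U V : Y.AffineZariskiSite} (h : V ≤ U)
    (W : P.Opens) (hW : W ≤ R p V) : Function.Bijective (ModGlue.tr (D p chart hP n) h W) := by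
  obtain ⟨f, hf⟩ := id h
  obtain rfl : U.basicOpen f = V := Subtype.ext hf
  exact bij_basic p chart hP n U f h W hW

theorem hyp : ModGlue.Hyp (D p chart hP n) (R p) where
  mono := fun {U V} h => p.preimage_mono (toOpens_mono h)
  dir := by
    intro U U' w hw hw'
    obtain ⟨f, g, hfg, hwf⟩ := exists_basicOpen_le_affine_inter U.2 U'.2 (p.base w) ⟨hw, hw'⟩
    exact ⟨U.basicOpen f, U.basicOpen_le f, ⟨g, hfg.symm⟩, hwf⟩
  supp := supp' p chart n
  bij := fun h W hW => bij' p chart hP n h W hW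

/-- The twisting sheaf `O_P(n)` on the relative Proj. -/
noncomputable def relTwist : P.Modules := limit (D p chart hP n)

/-- Its chartwise identifications. -/
noncomputable def lam (U : Y.Opens) (hU : IsAffineOpen U) :
    relTwist p chart hP n ⟶ (Scheme.Modules.pushforward (emb p chart U hU)).obj
      (GrTwist.twist (𝒮.deg U hU) n) :=
  limit.π (D p chart hP n) (op ⟨U, hU⟩)

theorem lam_eq (U : Y.AffineZariskiSite) :
    lam p chart hP n U.1 U.2 = limit.π (D p chart hP n) (op U) := rfl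

theorem π_map_app {U V : Y.AffineZariskiSite} (h : V ≤ U) (W : P.Opens)
    (s : Γ(limit (D p chart hP n), W)) :
    (limit.π (D p chart hP n) (op V)).app W s =
      ((D p chart hP n).map (homOfLE h).op).app W ((limit.π (D p chart hP n) (op U)).app W s) := by
  rw [← limit.w (D p chart hP n) (homOfLE h).op, Scheme.Modules.Hom.comp_app]
  rfl

theorem isRelTwist : IsRelTwist 𝒮 p chart n (relTwist p chart hP n) (lam p chart hP n) where
  bijective U hU W hW :=
    ModGlue.bijective_of_isLimit (hyp p chart hP n) _ (limit.isLimit _) ⟨U, hU⟩ W hW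
  compat U hU r W s y hy hy' := by
    let U' : Y.AffineZariskiSite := ⟨U, hU⟩
    have h : U'.basicOpen r ≤ U' := U'.basicOpen_le r
    exact (congrArg (fun t => GrTwist.val (V := e p chart (U'.basicOpen r) ⁻¹ᵁ W) t ⟨y, hy⟩)
      (π_map_app p chart hP n h W s)).trans
      (D_map_val p chart hP n h W _ y hy)

end Groth.Agent.Lib.Helper3.RelTwist
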