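import Groth.Agent.Lib.Helper3.RelTildeU
import Groth.Agent.Lib.Helper3.RelTwist
/-!
# Uniqueness of the twisting sheaf `O_P(n)` on a relative Proj
Any `(F, lam)` satisfying `IsRelTwist` is canonically isomorphic to the limit `relTwist`.
-/
universe u
set_option linter.unusedSectionVars false
open CategoryTheory CategoryTheory.Limits AlgebraicGeometry Opposite TopologicalSpace
open AlgebraicGeometry.Scheme.AffineZariskiSite
open scoped HomogeneousIdeal
open Groth.Agent.Lib.Helper29

namespace Groth.Agent.Lib.Helper3.RelTwist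
open RelProj Groth.Agent.Lib.Helper3 Groth.Agent.Lib.Helper3.RelTilde

variable {Y P : Scheme.{u}} {𝒮 : QCGrAlg Y} (p : P ⟶ Y)
  (chart : ∀ (U : Y.Opens) (hU : IsAffineOpen U), (((p ⁻¹ᵁ U : P.Opens) : Scheme.{u}) ≅ Proj (𝒮.deg U hU)))
  (hP : IsRelProj 𝒮 p chart) (n : ℤ)
  (F : P.Modules)
  (lam : ∀ (U : Y.Opens) (hU : IsAffineOpen U),
      F ⟶ (Scheme.Modules.pushforward (emb p chart U hU)).obj (GrTwist.twist (𝒮.deg U hU) n))

/-- The identifications as morphisms to the objects of the system `D`. -/
noncomputable def lamD (j : (Y.AffineZariskiSite)ᵒᵖ) : F ⟶ (D p chart hP n).obj j :=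
  lam j.unop.1 j.unop.2

theorem lamD_app (U : Y.AffineZariskiSite) (W : P.Opens) (s : Γ(F, W)) :
    (lamD p chart hP n F lam (op U)).app W s = (lam U.1 U.2).app W s := rfl

variable {F lam}

theorem lamD_w_basic (hF : IsRelTwist 𝒮 p chart n F lam) (U : Y.AffineZariskiSite) (r : Γ(Y, U.1))
    (h : U.basicOpen r ≤ U) :
    lamD p chart hP n F lam (op U) ≫ (D p chart hP n).map (homOfLE h).op =
      lamD p chart hP n F lam (op (U.basicOpen r)) := by
  apply Scheme.Modules.hom_ext
  intro W
  apply ConcreteCategory.hom_ext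
  intro s
  rw [Scheme.Modules.Hom.comp_app, ConcreteCategory.comp_apply]
  apply sec_ext p chart n (U := U.basicOpen r)
  intro y hy
  rw [D_map_val]
  exact (hF.compat U.1 U.2 r W s y hy (comap_mem p chart hP h W y hy)).symm

theorem lamD_w_le (hF : IsRelTwist 𝒮 p chart n F lam) {U V : Y.AffineZariskiSite} (h : V ≤ U) :
    lamD p chart hP n F lam (op U) ≫ (D p chart hP n).map (homOfLE h).op =
      lamD p chart hP n F lam (op V) := by
  obtain ⟨r, hr⟩ := id h
  obtain rfl : U.basicOpen r = V := Subtype.ext hr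
  exact lamD_w_basic p chart hP n hF U r h

theorem lamD_w (hF : IsRelTwist 𝒮 p chart n F lam) {j j' : (Y.AffineZariskiSite)ᵒᵖ} (f : j ⟶ j') :
    lamD p chart hP n F lam j ≫ (D p chart hP n).map f = lamD p chart hP n F lam j' := by
  obtain ⟨U⟩ := j
  obtain ⟨V⟩ := j'
  have hVU : V ≤ U := f.unop.le
  have hf : f = (homOfLE hVU).op := Subsingleton.elim _ _
  rw [hf]
  exact lamD_w_le p chart hP n hF hVU

/-- The cone over `D` given by `(F, lam)`. -/
noncomputable def cone (hF : IsRelTwist 𝒮 p chart n F lam) : Cone (D p chart hP n) where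
  pt := F
  π :=
    { app := lamD p chart hP n F lam
      naturality := fun j j' f => by
        rw [lamD_w p chart hP n hF f]
        exact Category.id_comp _ }

/-- The comparison morphism to the limit. -/
noncomputable def lift (hF : IsRelTwist 𝒮 p chart n F lam) : F ⟶ relTwist p chart hP n :=
  limit.lift (D p chart hP n) (cone p chart hP n hF)

theorem lift_π (hF : IsRelTwist 𝒮 p chart n F lam) (j : (Y.AffineZariskiSite)ᵒᵖ) :
    lift p chart hP n hF ≫ limit.π (D p chart hP n) j = lamD p chart hP n F lam j :=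
  limit.lift_π (cone p chart hP n hF) j

theorem lift_lam (hF : IsRelTwist 𝒮 p chart n F lam) (U : Y.Opens) (hU : IsAffineOpen U) :
    lift p chart hP n hF ≫ RelTwist.lam p chart hP n U hU = lam U hU := by
  have h1 : cmp (lift p chart hP n hF) (limit.π (D p chart hP n) (op ⟨U, hU⟩)) =
      lamD p chart hP n F lam (op ⟨U, hU⟩) := by
    rw [cmp_def]; exact lift_π p chart hP n hF (op ⟨U, hU⟩)
  have h2 : cmp (lift p chart hP n hF) (RelTwist.lam p chart hP n U hU) = lam U hU := h1
  rw [cmp_def] at h2
  exact h2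

theorem hom_ext_lam {A : P.Modules} (f g : A ⟶ relTwist p chart hP n)
    (h : ∀ (U : Y.Opens) (hU : IsAffineOpen U),
      f ≫ RelTwist.lam p chart hP n U hU = g ≫ RelTwist.lam p chart hP n U hU) : f = g := by
  apply limit.hom_ext
  intro j
  have h1 : cmp f (RelTwist.lam p chart hP n j.unop.1 j.unop.2) =
      cmp g (RelTwist.lam p chart hP n j.unop.1 j.unop.2) := by
    rw [cmp_def, cmp_def]; exact h _ _
  have h2 : cmp f (limit.π (D p chart hP n) j) = cmp g (limit.π (D p chart hP n) j) := h1
  rw [cmp_def, cmp_def] at h2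
  exact h2

theorem lift_app_bijective (hF : IsRelTwist 𝒮 p chart n F lam) (U : Y.AffineZariskiSite) (W : P.Opens) (hW : W ≤ R p U) :
    Function.Bijective ((lift p chart hP n hF).app W) := by
  have h1 : Function.Bijective ((limit.π (D p chart hP n) (op U)).app W) :=
    ModGlue.bijective_of_isLimit (hyp p chart hP n) _ (limit.isLimit _) U W hW
  have h2 : Function.Bijective ((lamD p chart hP n F lam (op U)).app W) := hF.bijective U.1 U.2 W hW
  have h3 : ∀ s, (limit.π (D p chart hP n) (op U)).app W ((lift p chart hP n hF).app W s) =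
      (lamD p chart hP n F lam (op U)).app W s := by
    intro s
    have := congrArg (fun m => m.app W s) (lift_π p chart hP n hF (op U))
    simp only [Scheme.Modules.Hom.comp_app, ConcreteCategory.comp_apply] at this
    exact this
  refine (Function.Bijective.of_comp_iff' h1 _).mp ?_
  have h4 : ((limit.π (D p chart hP n) (op U)).app W ∘ (lift p chart hP n hF).app W : Γ(F, W) → _) =
      (lamD p chart hP n F lam (op U)).app W := funext fun s => h3 s
  rw [h4]
  exact h2

theorem isIso_lift (hF : IsRelTwist 𝒮 p chart n F lam) : IsIso (lift p chart hP n hF) := by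
  apply ModGlue.isIso_of_bijective_on_basis _ (fun W => ∃ U : Y.AffineZariskiSite, W ≤ R p U)
  · rintro W W' h ⟨U, hU⟩
    exact ⟨U, h.trans hU⟩
  · intro w
    obtain ⟨U, hU, hw, -⟩ := exists_isAffineOpen_mem_and_subset (x := p.base w) (U := ⊤) trivial
    exact ⟨R p ⟨U, hU⟩, ⟨⟨U, hU⟩, le_rfl⟩, hw⟩
  · rintro W ⟨U, hU⟩
    exact lift_app_bijective p chart hP n hF U W hU

end Groth.Agent.Lib.Helper3.RelTwist
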