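import Groth.Agent.Lib.Helper3.TwistAmple
import Groth.Agent.Lib.Helper3.RelTwistU
import Groth.Agent.Lib.Helper3.RelTensor
import Groth.Agent.Lib.Helper3.ChartQC
import Groth.Agent.Lib.Helper29.CE1
/-!
# `O_P(1)` is relatively ample on a relative Proj generated in degree one; relative Serre theorem
-/
set_option autoImplicit false
set_option linter.unusedSectionVars false
universe u
open CategoryTheory CategoryTheory.Limits AlgebraicGeometry Opposite TopologicalSpace DirectSum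
open AlgebraicGeometry.Scheme.AffineZariskiSite
open scoped HomogeneousIdeal
open Groth.Agent.Lib.Helper29

namespace Groth.Agent.Lib.Helper3.RelGlued
open RelProj Groth.Agent.Lib.Helper3
open Groth.Agent.Lib.Helper3.RelTilde (e comap_mem range_e e_mem_R)

variable {Y P : Scheme.{u}} {𝒮 : QCGrAlg Y} (p : P ⟶ Y)
  (chart : ∀ (U : Y.Opens) (hU : IsAffineOpen U), (((p ⁻¹ᵁ U : P.Opens) : Scheme.{u}) ≅ Proj (𝒮.deg U hU)))
  (hP : IsRelProj 𝒮 p chart)

theorem compactSpace_chart (hgen : 𝒮.IsGenDegOne) (hft : 𝒮.IsFTDeg 1) (V : Y.AffineZariskiSite) :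
    CompactSpace (Proj (𝒮.deg V.1 V.2)) := by
  obtain ⟨T', hT'1, hT'2⟩ := hft V.1 V.2
  refine TwistAmple.compactSpace_proj (𝒮.deg V.1 V.2) (hgen V.1 V.2) T' hT'1 ?_
  intro x hx
  obtain ⟨c, hc⟩ := hT'2 x hx
  rw [hc]
  exact Ideal.sum_mem _ fun t ht => Ideal.mul_mem_left _ _ (Ideal.subset_span ht)

theorem opensRange_e (V : Y.AffineZariskiSite) : (e p chart V).opensRange = p ⁻¹ᵁ V.1 := by
  apply Opens.ext
  exact range_e p chart V

include chart in
theorem quasiCompact_of_genDegOne (hgen : 𝒮.IsGenDegOne) (hft : 𝒮.IsFTDeg 1) : QuasiCompact p := by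
  rw [quasiCompact_iff_forall_isAffineOpen]
  intro U hU
  have := compactSpace_chart hgen hft ⟨U, hU⟩
  rw [← range_e p chart ⟨U, hU⟩]
  exact isCompact_range (e p chart ⟨U, hU⟩).continuous

/-- `O_P(1)` is ample relative to `p`. -/
theorem isRelAmple_relTwist_one (hgen : 𝒮.IsGenDegOne) (hft : 𝒮.IsFTDeg 1) {L : P.Modules}
    {lam : ∀ (U : Y.Opens) (hU : IsAffineOpen U),
      L ⟶ (Scheme.Modules.pushforward (emb p chart U hU)).obj (GrTwist.twist (𝒮.deg U hU) 1)}
    (hL : IsRelTwist 𝒮 p chart 1 L lam) : RelAmple.IsRelAmple p L := by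
  refine ⟨quasiCompact_of_genDegOne p chart hgen hft, fun V => ?_⟩
  have hc := compactSpace_chart hgen hft ⟨V.1, V.2⟩
  have hA : CohB1.IsAmple (GrTwist.twist (𝒮.deg V.1 V.2) 1) :=
    TwistAmple.isAmple_twist_one (𝒮.deg V.1 V.2) (hgen V.1 V.2)
  have hiso := ChartQC.isIso_adjunct (e p chart ⟨V.1, V.2⟩) L _ (lam V.1 V.2) (fun W hW =>
    hL.bijective V.1 V.2 W (by rw [opensRange_e] at hW; exact hW))
  have hA2 : CohB1.IsAmple (L.restrict (e p chart ⟨V.1, V.2⟩)) :=
    QCoh.isAmple_of_iso (asIso (((Scheme.Modules.restrictAdjunction (e p chart ⟨V.1, V.2⟩)).homEquiv L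
      _).symm (lam V.1 V.2))).symm hA
  exact (QCoh.isAmple_restrict_iff_of_opensRange_eq (e p chart ⟨V.1, V.2⟩) L
    (opensRange_e p chart ⟨V.1, V.2⟩)).mp hA2

include hP in
/-- Two models of `O_P(n)` are isomorphic. -/
theorem nonempty_iso_of_isRelTwist (n : ℤ) {L L' : P.Modules}
    {lam : ∀ (U : Y.Opens) (hU : IsAffineOpen U),
      L ⟶ (Scheme.Modules.pushforward (emb p chart U hU)).obj (GrTwist.twist (𝒮.deg U hU) n)}
    {lam' : ∀ (U : Y.Opens) (hU : IsAffineOpen U),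
      L' ⟶ (Scheme.Modules.pushforward (emb p chart U hU)).obj (GrTwist.twist (𝒮.deg U hU) n)}
    (hL : IsRelTwist 𝒮 p chart n L lam) (hL' : IsRelTwist 𝒮 p chart n L' lam') :
    Nonempty (L ≅ L') := by
  have h1 := RelTwist.isIso_lift p chart hP n hL
  have h2 := RelTwist.isIso_lift p chart hP n hL'
  exact ⟨asIso (RelTwist.lift p chart hP n hL) ≪≫ (asIso (RelTwist.lift p chart hP n hL')).symm⟩

include hP in
/-- `O_P(k+1) ≅ O_P(1)^{⊗ (k+1)}` when `𝒮` is generated in degree one. -/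
theorem nonempty_iso_tensorPow (hgen : 𝒮.IsGenDegOne) {L₁ : P.Modules}
    {lam₁ : ∀ (U : Y.Opens) (hU : IsAffineOpen U),
      L₁ ⟶ (Scheme.Modules.pushforward (emb p chart U hU)).obj (GrTwist.twist (𝒮.deg U hU) 1)}
    (hL₁ : IsRelTwist 𝒮 p chart 1 L₁ lam₁) (k : ℕ) :
    ∀ (n : ℤ) (_ : n = (k : ℤ) + 1) {L : P.Modules}
      {lam : ∀ (U : Y.Opens) (hU : IsAffineOpen U),
        L ⟶ (Scheme.Modules.pushforward (emb p chart U hU)).obj (GrTwist.twist (𝒮.deg U hU) n)}
      (_ : IsRelTwist 𝒮 p chart n L lam), Nonempty (L ≅ CohB1.tensorPow L₁ (k + 1)) := by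
  induction k with
  | zero =>
    intro n hn L lam hL
    have hn1 : n = 1 := by rw [hn]; simp
    subst hn1
    obtain ⟨φ⟩ := nonempty_iso_of_isRelTwist p chart hP 1 hL hL₁
    exact ⟨φ ≪≫ (QCoh.tensorPowOne L₁).symm⟩
  | succ k ih =>
    intro n hn L lam hL
    obtain ⟨φ⟩ := ih ((k : ℤ) + 1) rfl (RelTwist.isRelTwist p chart hP ((k : ℤ) + 1))
    have hn' : n = ((k : ℤ) + 1) + 1 := by rw [hn]; push_cast; ring
    subst hn'
    obtain ⟨ψ⟩ := nonempty_iso_twist p chart hP ((k : ℤ) + 1) 1 hgen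
      (RelTwist.isRelTwist p chart hP ((k : ℤ) + 1)) hL₁ hL
    exact ⟨ψ.symm ≪≫ QCoh.tensorCongr φ (Iso.refl L₁)⟩

theorem epi_counit_of_iso {X Z : Scheme.{u}} (f : X ⟶ Z) {A B : X.Modules} (e' : A ≅ B)
    (h : Epi ((Scheme.Modules.pullbackPushforwardAdjunction f).counit.app A)) :
    Epi ((Scheme.Modules.pullbackPushforwardAdjunction f).counit.app B) := by
  have hn := (Scheme.Modules.pullbackPushforwardAdjunction f).counit.naturality e'.hom
  have h2 : Epi ((Scheme.Modules.pullbackPushforwardAdjunction f).counit.app A ≫ e'.hom) :=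
    epi_comp _ _
  have h3 : Epi (((Scheme.Modules.pushforward f ⋙ Scheme.Modules.pullback f).map e'.hom) ≫
      (Scheme.Modules.pullbackPushforwardAdjunction f).counit.app B) := by
    rw [hn]; exact h2
  exact epi_of_epi ((Scheme.Modules.pushforward f ⋙ Scheme.Modules.pullback f).map e'.hom) _

include hP in
/-- Relative Serre: `p^* p_* F(n) → F(n)` is an epimorphism for large `n`. -/
theorem counit_twist_eventually_epi [CompactSpace Y] (hgen : 𝒮.IsGenDegOne) (hft : 𝒮.IsFTDeg 1)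
    (F : P.Modules) [F.IsQuasicoherent] [F.IsFiniteType] :
    ∃ n₀ : ℤ, ∀ (n : ℤ), n₀ ≤ n → ∀ (L : P.Modules)
      (lam : ∀ (U : Y.Opens) (hU : IsAffineOpen U),
      L ⟶ (Scheme.Modules.pushforward (emb p chart U hU)).obj (GrTwist.twist (𝒮.deg U hU) n)),
      IsRelTwist 𝒮 p chart n L lam →
        Epi ((Scheme.Modules.pullbackPushforwardAdjunction p).counit.app (CohB1.tensorMod F L)) := by
  have hL₁ := RelTwist.isRelTwist p chart hP 1
  have hamp := isRelAmple_relTwist_one p chart hgen hft hL₁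
  have hqc : QuasiCompact p := hamp.1
  have hcP : CompactSpace P := QuasiCompact.compactSpace_of_compactSpace p
  obtain ⟨N, hN⟩ := QCoh.exists_epi_counit_twist_of_isRelAmple p hamp F
  refine ⟨((N : ℤ) + 1), fun n hn L lam hL => ?_⟩
  obtain ⟨k, hk⟩ : ∃ k : ℕ, n = (k : ℤ) + 1 := ⟨(n - 1).toNat, by
    have : 0 ≤ n - 1 := by omega
    rw [Int.toNat_of_nonneg this]; ring⟩
  obtain ⟨φ⟩ := nonempty_iso_tensorPow p chart hP hgen hL₁ k n hk hL
  have hkN : N ≤ k + 1 := by omega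
  exact epi_counit_of_iso p (QCoh.tensorCongr (Iso.refl F) φ.symm) (hN (k + 1) hkN)

end Groth.Agent.Lib.Helper3.RelGlued
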