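import Groth.Agent.Lib.Helper3.ProjPoly
import Groth.Agent.Lib.Helper3.RelTwistAmple
/-!
# Projective morphisms (relative Proj of an algebra generated in degree one, `𝒮_1` of finite type) are proper
-/
set_option autoImplicit false
set_option linter.unusedSectionVars false
universe u
open CategoryTheory CategoryTheory.Limits AlgebraicGeometry Opposite TopologicalSpace DirectSum
open AlgebraicGeometry.Scheme.AffineZariskiSite
open scoped HomogeneousIdeal
open Groth.Agent.Lib.Helper29

namespace Groth.Agent.Lib.Helper3.RelGlued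
open RelProj Groth.Agent.Lib.Helper3

variable {Y P : Scheme.{u}} {𝒮 : QCGrAlg Y} (p : P ⟶ Y)
  (chart : ∀ (U : Y.Opens) (hU : IsAffineOpen U), (((p ⁻¹ᵁ U : P.Opens) : Scheme.{u}) ≅ Proj (𝒮.deg U hU)))

include chart in
/-- The relative Proj of an algebra generated in degree one with `𝒮_1` of finite type is proper over the base. -/
theorem isProper_of_genDegOne (hP : IsRelProj 𝒮 p chart) (hgen : 𝒮.IsGenDegOne) (hft : 𝒮.IsFTDeg 1) :
    IsProper p := by
  refine IsZariskiLocalAtTarget.of_iSup_eq_top (P := @IsProper) (fun U : Y.affineOpens => U.1)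
    (iSup_affineOpens_eq_top Y) fun U => ?_
  obtain ⟨T, hT, hspan⟩ := hft U.1 U.2
  have key : p ∣_ U.1 = (chart U.1 U.2).hom ≫
      (Proj.toSpecZero (𝒮.deg U.1 U.2) ≫ Spec.map (𝒮.strZero U.1 U.2)) ≫ U.2.isoSpec.inv := by
    rw [← cancel_mono U.1.ι, morphismRestrict_ι]
    simp only [Category.assoc]
    rw [IsAffineOpen.isoSpec_inv_ι]
    exact (hP.chart_over U.1 U.2).symm
  rw [key, MorphismProperty.cancel_left_of_respectsIso (P := @IsProper),
    MorphismProperty.cancel_right_of_respectsIso (P := @IsProper)]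
  exact ProjPoly.isProper_toSpecZero_comp (𝒮.deg U.1 U.2) (𝒮.strZero U.1 U.2).hom T
    (fun t ht => hT ht) (hgen U.1 U.2) hspan

end Groth.Agent.Lib.Helper3.RelGlued
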