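import Mathlib.RingTheory.Flat.FaithfullyFlat.Algebra
import Mathlib.RingTheory.RingHom.Flat
import Mathlib.AlgebraicGeometry.Morphisms.Flat

set_option autoImplicit false

namespace Groth.Agent.Lib.Helper3

open TensorProduct

universe u

/-- If `T` is faithfully flat over `S` and flat over `R`, then `S` is flat over `R`. -/
theorem flat_of_faithfullyFlat_tower (R S T : Type u) [CommRing R] [CommRing S] [CommRing T]
    [Algebra R S] [Algebra S T] [Algebra R T] [IsScalarTower R S T]
    [Module.FaithfullyFlat S T] [Module.Flat R T] : Module.Flat R S := by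
  rw [Module.Flat.iff_lTensor_preserves_injective_linearMap]
  intro N P _ _ _ _ f hf
  let g : S ⊗[R] N →ₗ[S] S ⊗[R] P := TensorProduct.AlgebraTensorModule.lTensor S S f
  have hg : Function.Injective g ↔ Function.Injective (f.lTensor S) := Iff.rfl
  rw [← hg, ← Module.FaithfullyFlat.lTensor_injective_iff_injective S T]
  have e : (TensorProduct.AlgebraTensorModule.cancelBaseChange R S S T P).toLinearMap.restrictScalars R ∘ₗ
      (g.lTensor T).restrictScalars R =
      (f.lTensor T) ∘ₗ
        (TensorProduct.AlgebraTensorModule.cancelBaseChange R S S T N).toLinearMap.restrictScalars R := by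
    ext t
    induction t using TensorProduct.induction_on with
    | zero => simp
    | add x y hx hy => simp only [map_add, hx, hy]
    | tmul t y =>
      induction y using TensorProduct.induction_on with
      | zero => simp
      | add x y hx hy => simp only [map_add, tmul_add, hx, hy]
      | tmul s n => simp [g]
  have h2 : Function.Injective (f.lTensor T) := Module.Flat.lTensor_preserves_injective_linearMap f hf
  have h3 : Function.Injective ((f.lTensor T) ∘ₗ
        (TensorProduct.AlgebraTensorModule.cancelBaseChange R S S T N).toLinearMap.restrictScalars R) :=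
    h2.comp (TensorProduct.AlgebraTensorModule.cancelBaseChange R S S T N).injective
  rw [← e] at h3
  exact Function.Injective.of_comp (f := ⇑(TensorProduct.AlgebraTensorModule.cancelBaseChange R S S T P)) h3

end Groth.Agent.Lib.Helper3

namespace Groth.Agent.Lib.Helper3

universe u

/-- Ring hom version: if `ψ ∘ φ` is flat and `ψ` is faithfully flat then `φ` is flat. -/
theorem ringHom_flat_of_comp_faithfullyFlat {R S T : Type u} [CommRing R] [CommRing S] [CommRing T]
    (φ : R →+* S) (ψ : S →+* T) (hψ : ψ.FaithfullyFlat) (h : (ψ.comp φ).Flat) : φ.Flat := by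
  algebraize [φ, ψ, ψ.comp φ]
  exact flat_of_faithfullyFlat_tower R S T

/-- A flat local homomorphism of local rings is faithfully flat. -/
theorem ringHom_faithfullyFlat_of_flat_of_isLocalHom {S T : Type u} [CommRing S] [CommRing T]
    [IsLocalRing S] [IsLocalRing T] (ψ : S →+* T) [IsLocalHom ψ] (h : ψ.Flat) : ψ.FaithfullyFlat := by
  algebraize [ψ]
  have : IsLocalHom (algebraMap S T) := ‹IsLocalHom ψ›
  exact Module.FaithfullyFlat.of_flat_of_isLocalHom

open AlgebraicGeometry CategoryTheory in
/-- If `f` is flat and surjective and `f ≫ h` is flat then `h` is flat. -/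
theorem flat_of_flat_comp_of_surjective {X Y W : Scheme.{u}} (f : X ⟶ Y) (h : Y ⟶ W)
    [Flat f] [Surjective f] [Flat (f ≫ h)] : Flat h := by
  rw [Flat.iff_flat_stalkMap]
  intro y
  obtain ⟨x, rfl⟩ := f.surjective y
  have h1 := Flat.stalkMap (f ≫ h) x
  rw [Scheme.Hom.stalkMap_comp] at h1
  have h2 := Flat.stalkMap f x
  exact ringHom_flat_of_comp_faithfullyFlat _ _
    (ringHom_faithfullyFlat_of_flat_of_isLocalHom _ h2) h1

end Groth.Agent.Lib.Helper3
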