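import Mathlib.RingTheory.Flat.FaithfullyFlat.Algebra
import Mathlib.AlgebraicGeometry.Morphisms.Flat
import Mathlib.AlgebraicGeometry.Morphisms.UniversallyOpen
import Mathlib.AlgebraicGeometry.Noetherian
import Mathlib.AlgebraicGeometry.Fiber
import Mathlib.RingTheory.RingHom.EssFiniteType
import Mathlib.AlgebraicGeometry.Morphisms.FiniteType

set_option autoImplicit false

namespace Groth.Agent.Lib.Helper3

universe u

/-- Noetherianity descends along faithfully flat ring maps. -/
theorem isNoetherianRing_of_faithfullyFlat (A B : Type*) [CommRing A] [CommRing B] [Algebra A B]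
    [Module.FaithfullyFlat A B] [IsNoetherianRing B] : IsNoetherianRing A := by
  rw [isNoetherianRing_iff, isNoetherian_iff'] at *
  let φ : Ideal A ↪o Ideal B :=
    OrderEmbedding.ofMapLEIff (fun I => I.map (algebraMap A B)) (fun I J => by
      refine ⟨fun h => ?_, fun h => Ideal.map_mono h⟩
      rw [← Ideal.comap_map_eq_self_of_faithfullyFlat (B := B) I,
        ← Ideal.comap_map_eq_self_of_faithfullyFlat (B := B) J]
      exact Ideal.comap_mono h)
  exact φ.wellFoundedGT

open AlgebraicGeometry CategoryTheory Limits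

/-- Affine case of descent of local Noetherianity along flat surjective morphisms. -/
theorem isLocallyNoetherian_of_flat_surjective_of_isAffine {X' X : Scheme.{u}} (a : X' ⟶ X)
    [IsAffine X'] [IsAffine X] [Flat a] [Surjective a] [IsLocallyNoetherian X'] :
    IsLocallyNoetherian X := by
  have h : a.appTop.hom.FaithfullyFlat :=
    (Flat.flat_and_surjective_iff_faithfullyFlat_of_isAffine a).mp ⟨inferInstance, inferInstance⟩
  have hN : IsNoetherianRing Γ(X', ⊤) :=
    IsLocallyNoetherian.component_noetherian ⟨⊤, isAffineOpen_top X'⟩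
  algebraize [a.appTop.hom]
  have : IsNoetherianRing Γ(X, ⊤) := isNoetherianRing_of_faithfullyFlat Γ(X, ⊤) Γ(X', ⊤)
  have : IsLocallyNoetherian (Spec Γ(X, ⊤)) := inferInstance
  exact isLocallyNoetherian_of_isOpenImmersion X.isoSpec.hom

/-- Local Noetherianity descends along flat, surjective, universally open morphisms. -/
theorem isLocallyNoetherian_of_flat_surjective {X' X : Scheme.{u}} (a : X' ⟶ X)
    [Flat a] [Surjective a] [UniversallyOpen a] [IsLocallyNoetherian X'] :
    IsLocallyNoetherian X := by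
  have key : ∀ x : X, ∃ W : X.Opens, x ∈ W ∧ IsLocallyNoetherian W := by
    intro x
    obtain ⟨x', rfl⟩ := a.surjective x
    obtain ⟨_, ⟨U, hU, rfl⟩, hxU, -⟩ := X.isBasis_affineOpens.exists_subset_of_mem_open
      (Set.mem_univ (a x')) isOpen_univ
    obtain ⟨_, ⟨V, hV, rfl⟩, hx'V, hVU⟩ := X'.isBasis_affineOpens.exists_subset_of_mem_open
      (show x' ∈ (a ⁻¹ᵁ U : Set X') from hxU) (a ⁻¹ᵁ U).2
    let I : X.Opens := ⟨a '' V, a.isOpenMap _ V.2⟩
    have hxI : a x' ∈ I := ⟨x', hx'V, rfl⟩
    obtain ⟨r, hrI, hxr⟩ := hU.exists_basicOpen_le (V := I) ⟨a x', hxI⟩ hxU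
    have hW : IsAffineOpen (X.basicOpen r) := hU.basicOpen r
    have hV' : IsAffineOpen (X'.basicOpen (a.appLE U V hVU r)) := hV.basicOpen _
    have e : X'.basicOpen (a.appLE U V hVU r) ≤ a ⁻¹ᵁ X.basicOpen r := by
      rw [Scheme.basicOpen_appLE]; exact inf_le_right
    refine ⟨X.basicOpen r, hxr, ?_⟩
    have : IsAffine (X.basicOpen r).toScheme := hW
    have : IsAffine (X'.basicOpen (a.appLE U V hVU r)).toScheme := hV'
    have : Surjective (a.resLE _ _ e) := by
      refine ⟨fun ⟨w, hw⟩ => ?_⟩
      obtain ⟨v, hvV, rfl⟩ := hrI hw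
      refine ⟨⟨v, ?_⟩, ?_⟩
      · rw [Scheme.basicOpen_appLE]; exact ⟨hvV, hw⟩
      · apply Subtype.ext
        simp [Scheme.Hom.coe_resLE_apply]
    exact isLocallyNoetherian_of_flat_surjective_of_isAffine (a.resLE _ _ e)
  choose W hW hWN using key
  have hcov : TopologicalSpace.IsOpenCover W := by
    refine TopologicalSpace.IsOpenCover.mk (top_le_iff.mp fun x _ => ?_)
    exact TopologicalSpace.Opens.mem_iSup.mpr ⟨x, hW x⟩
  exact (isLocallyNoetherian_iff_openCover (X.openCoverOfIsOpenCover W hcov)).mpr hWN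

/-- The residue field maps of a morphism locally of finite type are essentially of finite type. -/
theorem essFiniteType_residueFieldMap {X Y : Scheme.{u}} (f : X ⟶ Y) [LocallyOfFiniteType f]
    (x : X) : (f.residueFieldMap x).hom.EssFiniteType :=
  RingHom.EssFiniteType.residueFieldMap (LocallyOfFiniteType.stalkMap f x)

theorem isLocallyNoetherian_of_isPullback_essFiniteType_aux {P Z : Scheme.{u}}
    {K k R : CommRingCat.{u}}
    (φ : k ⟶ K) (hφ : φ.hom.EssFiniteType) (c : P ⟶ Z) (p : P ⟶ Spec K) (q : Z ⟶ Spec k)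
    (h : IsPullback c p q (Spec.map φ)) [IsLocallyNoetherian Z] (j : Spec R ⟶ Z)
    [IsOpenImmersion j] : IsLocallyNoetherian (pullback c j) := by
  have h1 : IsPullback (pullback.snd c j) (pullback.fst c j ≫ p) (j ≫ q) (Spec.map φ) :=
    (IsPullback.of_hasPullback c j).flip.paste_vert h
  obtain ⟨ψ, hψ⟩ := Spec.map_surjective (j ≫ q)
  rw [← hψ] at h1
  have h2 := isPullback_SpecMap_pushout ψ φ
  let e := h1.isoIsPullback _ _ h2
  have : IsLocallyNoetherian (Spec R) := isLocallyNoetherian_of_isOpenImmersion j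
  have hN : IsNoetherianRing R := isLocallyNoetherian_Spec.mp inferInstance
  have h3 : (pushout.inl ψ φ).hom.EssFiniteType :=
    RingHom.EssFiniteType.isStableUnderBaseChange.pushout_inl
      RingHom.EssFiniteType.respectsIso ψ φ hφ
  have hN' : IsNoetherianRing ↑(pushout ψ φ : CommRingCat.{u}) := by
    algebraize [(pushout.inl ψ φ).hom]
    exact Algebra.EssFiniteType.isNoetherianRing R _
  have : IsLocallyNoetherian (Spec (pushout ψ φ)) := isLocallyNoetherian_Spec.mpr hN'
  exact isLocallyNoetherian_of_isOpenImmersion e.hom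

/-- Base change along `Spec` of a ring map essentially of finite type preserves local
Noetherianity. -/
theorem isLocallyNoetherian_of_isPullback_essFiniteType {P Z : Scheme.{u}} {K k : CommRingCat.{u}}
    (φ : k ⟶ K) (hφ : φ.hom.EssFiniteType) (c : P ⟶ Z) (p : P ⟶ Spec K) (q : Z ⟶ Spec k)
    (h : IsPullback c p q (Spec.map φ)) [IsLocallyNoetherian Z] : IsLocallyNoetherian P := by
  refine (isLocallyNoetherian_iff_openCover (Z.affineCover.pullback₁ c)).mpr ?_
  intro (i : Z.affineCover.I₀)
  have : IsOpenImmersion (Z.affineCover.f i) := Z.affineCover.map_prop i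
  exact @isLocallyNoetherian_of_isPullback_essFiniteType_aux _ _ _ _ _ φ hφ c p q h _
    (Z.affineCover.f i) this

end Groth.Agent.Lib.Helper3
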