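import Groth.Agent.Lib.Helper3.ProjAux
import Mathlib.AlgebraicGeometry.Morphisms.ClosedImmersion
import Mathlib.AlgebraicGeometry.Morphisms.IsIso
/-!
# `Proj.map` of a surjective graded homomorphism is a closed immersion; of a homomorphism
bijective in positive degrees is an isomorphism (general `SetLike` gradings)

Adapted from the `Submodule`-graded versions `Groth.Agent.S3563` (helper1) and `Groth.Agent.S4398`
(helper17).
-/
universe u
open CategoryTheory CategoryTheory.Limits AlgebraicGeometry Opposite TopologicalSpace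
open HomogeneousLocalization
open scoped HomogeneousIdeal

namespace Groth.Agent.Lib.Helper3.ProjAux
variable {A B σ τ : Type u} [CommRing A] [SetLike σ A] [AddSubgroupClass σ A]
  [CommRing B] [SetLike τ B] [AddSubgroupClass τ B]
  (𝒜 : ℕ → σ) (ℬ : ℕ → τ) [GradedRing 𝒜] [GradedRing ℬ]

theorem awayMap_surjective (φ : 𝒜 →+*ᵍ ℬ) (hsurj : Function.Surjective φ) (s : A) {d : ℕ}
    (hs : s ∈ 𝒜 d) : Function.Surjective (HomogeneousLocalization.Away.map φ s) := by
  classical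
  intro y
  obtain ⟨n, b, hb, rfl⟩ := HomogeneousLocalization.Away.mk_surjective ℬ (φ.2 hs) y
  obtain ⟨a', ha'⟩ := hsurj b
  refine ⟨HomogeneousLocalization.Away.mk 𝒜 hs n (DirectSum.decompose 𝒜 a' (n • d))
    (SetLike.coe_mem _), ?_⟩
  rw [HomogeneousLocalization.Away.map_mk]
  congr 1
  rw [GradedRingHom.map_directSumDecompose, ha', DirectSum.decompose_of_mem_same ℬ hb]

theorem isClosedImmersion_map (φ : 𝒜 →+*ᵍ ℬ) (hsurj : Function.Surjective φ)
    (hφ : ℬ₊ ≤ 𝒜₊.map φ) : IsClosedImmersion (Proj.map φ hφ) := by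
  let U : (Proj.affineOpenCover 𝒜).I₀ → (Proj 𝒜).affineOpens := fun i =>
    ⟨Proj.basicOpen 𝒜 i.2.1, Proj.isAffineOpen_basicOpen 𝒜 _ i.2.2 i.1.2⟩
  have hU : ⨆ i, (U i : (Proj 𝒜).Opens) = ⊤ := by
    refine top_le_iff.mp fun x _ => TopologicalSpace.Opens.mem_iSup.mpr ?_
    refine ⟨(Proj.affineOpenCover 𝒜).idx x, ?_⟩
    have hx := (Proj.affineOpenCover 𝒜).covers x
    set s := (Proj.affineOpenCover 𝒜).idx x
    change x ∈ Proj.basicOpen 𝒜 s.2.1
    rw [← Proj.opensRange_awayι 𝒜 _ s.2.2 s.1.2]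
    exact hx
  refine HasAffineProperty.of_iSup_eq_top (P := @IsClosedImmersion) U hU fun i => ⟨?_, ?_⟩
  · exact Proj.isAffineOpen_basicOpen ℬ _ (φ.2 i.2.2) i.1.2
  · have key := Proj.awayToSection_comp_appLE φ hφ i.2.2
    have h2 : IsIso (Proj.awayToSection ℬ (φ i.2.1)) :=
      (Proj.basicOpenIsoAway ℬ (φ i.2.1) (φ.2 i.2.2) i.1.2).isIso_hom
    have h3 : Function.Surjective ((Proj.map φ hφ).appLE (Proj.basicOpen 𝒜 i.2.1)
        (Proj.basicOpen ℬ (φ i.2.1)) (by rfl)) := by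
      intro y
      obtain ⟨y', rfl⟩ := (ConcreteCategory.bijective_of_isIso (Proj.awayToSection ℬ (φ i.2.1))).2 y
      obtain ⟨x', rfl⟩ := awayMap_surjective 𝒜 ℬ φ hsurj _ i.2.2 y'
      exact ⟨Proj.awayToSection 𝒜 i.2.1 x', congr($key x')⟩
    rw [Scheme.Hom.appTop, morphismRestrict_app']
    refine ((Proj.map φ hφ).appLE_congr _ ?_ ?_ (fun ψ => Function.Surjective ψ)).mp h3
    · simp [U]
    · simp [U]

/-- `x / s ^ n = x s / s ^ (n + 1)`. -/
theorem mk_succ {i : ℕ} {s : B} (hs : s ∈ ℬ i) (n : ℕ) (x : B) (hx : x ∈ ℬ (n • i)) :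
    Away.mk ℬ hs n x hx = Away.mk ℬ hs (n + 1) (x * s)
      (by rw [add_smul, one_smul]; exact SetLike.mul_mem_graded hx hs) := by
  apply HomogeneousLocalization.val_injective
  simp only [Away.val_mk]
  rw [Localization.mk_eq_mk_iff, Localization.r_iff_exists]
  refine ⟨1, ?_⟩
  simp only [OneMemClass.coe_one, one_mul]
  ring

theorem away_map_bijective (φ : ℬ →+*ᵍ 𝒜) (hbij : ∀ n : ℕ, 0 < n → Set.BijOn φ (ℬ n) (𝒜 n))
    {i : ℕ} (hi : 0 < i) (s : B) (hs : s ∈ ℬ i) :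
    Function.Bijective (Away.map φ s : Away ℬ s →+* Away 𝒜 (φ s)) := by
  have hφs : φ s ∈ 𝒜 i := φ.map_mem hs
  constructor
  · rw [injective_iff_map_eq_zero]
    intro x hx
    obtain ⟨n, b, hb, rfl⟩ := Away.mk_surjective ℬ hs x
    rw [mk_succ ℬ hs n b hb] at hx ⊢
    rw [Away.map_mk] at hx
    have hval := congrArg HomogeneousLocalization.val hx
    rw [Away.val_mk, HomogeneousLocalization.val_zero, Localization.mk_eq_mk',
      IsLocalization.mk'_eq_zero_iff] at hval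
    obtain ⟨⟨_, k, rfl⟩, hk⟩ := hval
    have hdegpos : 0 < k • i + (n + 1) • i := by
      have : 0 < (n + 1) • i := by rw [smul_eq_mul]; positivity
      omega
    have hmem : s ^ k * (b * s) ∈ ℬ (k • i + (n + 1) • i) := by
      refine SetLike.mul_mem_graded (SetLike.pow_mem_graded k hs) ?_
      rw [add_smul, one_smul]; exact SetLike.mul_mem_graded hb hs
    have hzero : φ (s ^ k * (b * s)) = φ 0 := by
      rw [map_mul, map_pow, map_zero]; exact hk
    have h0 : s ^ k * (b * s) = 0 :=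
      (hbij _ hdegpos).injOn hmem (zero_mem _) hzero
    apply HomogeneousLocalization.val_injective
    rw [Away.val_mk, HomogeneousLocalization.val_zero, Localization.mk_eq_mk',
      IsLocalization.mk'_eq_zero_iff]
    exact ⟨⟨s ^ k, k, rfl⟩, h0⟩
  · intro y
    obtain ⟨n, a, ha, rfl⟩ := Away.mk_surjective 𝒜 hφs y
    rw [mk_succ 𝒜 hφs n a ha]
    have hpos : 0 < (n + 1) • i := by rw [smul_eq_mul]; positivity
    have hmem : a * φ s ∈ 𝒜 ((n + 1) • i) := by
      rw [add_smul, one_smul]; exact SetLike.mul_mem_graded ha hφs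
    obtain ⟨b, hb, hbe⟩ := (hbij _ hpos).surjOn hmem
    refine ⟨Away.mk ℬ hs (n + 1) b hb, ?_⟩
    rw [Away.map_mk]
    congr 1

theorem isIso_map (φ : ℬ →+*ᵍ 𝒜) (hbij : ∀ n : ℕ, 0 < n → Set.BijOn φ (ℬ n) (𝒜 n))
    (hφ : 𝒜₊ ≤ ℬ₊.map φ) : IsIso (Proj.map φ hφ) := by
  refine (IsZariskiLocalAtTarget.of_openCover (P := MorphismProperty.isomorphisms Scheme)
    (Proj.affineOpenCover ℬ).openCover) fun t => ?_
  obtain ⟨i, s⟩ := t
  have hsq : Proj.awayι 𝒜 (φ s.1) (φ.map_mem s.2) i.2 ≫ Proj.map φ hφ =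
      Spec.map (CommRingCat.ofHom (HomogeneousLocalization.Away.map φ s.1)) ≫
        Proj.awayι ℬ s.1 s.2 i.2 :=
    Proj.awayι_comp_map φ hφ i.2 s.1 s.2
  have hpb := IsOpenImmersion.isPullback
    (Spec.map (CommRingCat.ofHom (HomogeneousLocalization.Away.map φ s.1)))
    (Proj.awayι 𝒜 (φ s.1) (φ.map_mem s.2) i.2) (Proj.awayι ℬ s.1 s.2 i.2) (Proj.map φ hφ) hsq
    (by rw [Proj.opensRange_awayι, Proj.opensRange_awayι, Proj.map_preimage_basicOpen])
  have hiso : IsIso (Spec.map (CommRingCat.ofHom (HomogeneousLocalization.Away.map φ s.1))) := by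
    have hb := away_map_bijective 𝒜 ℬ φ hbij i.2 s.1 s.2
    have : IsIso (CommRingCat.ofHom (HomogeneousLocalization.Away.map φ s.1)) :=
      (ConcreteCategory.isIso_iff_bijective _).mpr hb
    infer_instance
  change IsIso (pullback.snd (Proj.map φ hφ) (Proj.awayι ℬ s.1 s.2 i.2))
  have heq : pullback.snd (Proj.map φ hφ) (Proj.awayι ℬ s.1 s.2 i.2) =
      hpb.flip.isoPullback.inv ≫
        Spec.map (CommRingCat.ofHom (HomogeneousLocalization.Away.map φ s.1)) := by
    rw [Iso.eq_inv_comp]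
    exact hpb.flip.isoPullback_hom_snd
  rw [heq]
  infer_instance

end Groth.Agent.Lib.Helper3.ProjAux
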