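import Groth.Agent.Lib.Helper3.ProjAux
import Mathlib.AlgebraicGeometry.Properties
/-!
# `Proj` of a graded domain with nonzero irrelevant ideal is integral (general gradings)

Adapted from `Groth.Agent.S3557` (helper1) and `Groth.Agent.S8266` (helper8).
-/
universe u
open CategoryTheory CategoryTheory.Limits AlgebraicGeometry Opposite TopologicalSpace
open HomogeneousLocalization
open scoped HomogeneousIdeal

namespace Groth.Agent.Lib.Helper3.ProjIntegral
variable {A σ : Type u} [CommRing A] [SetLike σ A] [AddSubgroupClass σ A]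
  (𝒜 : ℕ → σ) [GradedRing 𝒜]

theorem nontrivial_away_of_not_isNilpotent (f : A) (hn : ¬ IsNilpotent f) :
    Nontrivial (HomogeneousLocalization.Away 𝒜 f) := by
  rw [← not_subsingleton_iff_nontrivial]
  intro h2
  apply hn
  have h3 : Subsingleton (Localization.Away f) := by
    have : (1 : HomogeneousLocalization.Away 𝒜 f) = 0 := Subsingleton.elim _ _
    have := congrArg HomogeneousLocalization.val this
    rw [HomogeneousLocalization.val_one, HomogeneousLocalization.val_zero] at this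
    exact subsingleton_of_zero_eq_one this.symm
  rw [IsLocalization.subsingleton_iff (M := Submonoid.powers f)] at h3
  obtain ⟨n, hn⟩ := h3
  exact ⟨n, hn⟩

theorem exists_mem_basicOpen_of_not_isNilpotent
    (f : A) {m : ℕ} (hm : 0 < m) (hf : f ∈ 𝒜 m) (hn : ¬ IsNilpotent f) :
    ∃ x : Proj 𝒜, x ∈ Proj.basicOpen 𝒜 f := by
  have h2 := nontrivial_away_of_not_isNilpotent 𝒜 f hn
  let z : Spec (.of <| HomogeneousLocalization.Away 𝒜 f) :=
    Classical.arbitrary (PrimeSpectrum _)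
  refine ⟨(Proj.awayι 𝒜 f hf hm).base z, ?_⟩
  rw [← Proj.opensRange_awayι 𝒜 f hf hm]
  exact ⟨z, rfl⟩

theorem exists_homogeneous_basicOpen (x : Proj 𝒜) (V : Set (Proj 𝒜)) (hV : IsOpen V)
    (hxV : x ∈ V) :
    ∃ (u : A) (m : ℕ), 0 < m ∧ u ∈ 𝒜 m ∧ x ∈ Proj.basicOpen 𝒜 u ∧
      (Proj.basicOpen 𝒜 u : Set (Proj 𝒜)) ⊆ V := by
  classical
  obtain ⟨_, ⟨_, ⟨s, rfl⟩, rfl⟩, hxs, hsV⟩ :=
    (Proj.isBasis_basicOpen 𝒜).exists_subset_of_mem_open hxV hV
  have hxs' : x ∈ Proj.basicOpen 𝒜 s := hxs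
  rw [Proj.basicOpen_eq_iSup_proj, TopologicalSpace.Opens.mem_iSup] at hxs'
  obtain ⟨i, hi⟩ := hxs'
  have hiV : (Proj.basicOpen 𝒜 (GradedRing.proj 𝒜 i s) : Set (Proj 𝒜)) ⊆ V := by
    refine subset_trans ?_ hsV
    intro y hy
    have : y ∈ Proj.basicOpen 𝒜 s := by
      rw [Proj.basicOpen_eq_iSup_proj, TopologicalSpace.Opens.mem_iSup]
      exact ⟨i, hy⟩
    exact this
  obtain ⟨⟨j, t⟩, hx⟩ : ∃ t : (Proj.affineOpenCover 𝒜).I₀,
      x ∈ Set.range (Proj.awayι 𝒜 t.2.1 t.2.2 t.1.pos) := ⟨_, (Proj.affineOpenCover 𝒜).covers x⟩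
  have hj : 0 < (j : ℕ) := j.pos
  have hxt : x ∈ Proj.basicOpen 𝒜 t.1 := by
    rw [← Proj.opensRange_awayι 𝒜 _ t.2 hj]
    exact hx
  refine ⟨GradedRing.proj 𝒜 i s * t.1, i + j, Nat.add_pos_right _ hj,
    SetLike.mul_mem_graded (SetLike.coe_mem _) t.2, ?_, ?_⟩
  · rw [Proj.basicOpen_mul]
    exact ⟨hi, hxt⟩
  · refine subset_trans ?_ hiV
    rw [Proj.basicOpen_mul]
    exact Set.inter_subset_left

theorem not_isNilpotent_of_mem_basicOpen (x : Proj 𝒜) (u : A)
    (hxu : x ∈ Proj.basicOpen 𝒜 u) : ¬ IsNilpotent u := by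
  rintro ⟨n, hn⟩
  rw [Proj.mem_basicOpen] at hxu
  apply hxu
  have : u ^ n ∈ x.asHomogeneousIdeal.toIdeal := by rw [hn]; exact zero_mem _
  exact x.isPrime.mem_of_pow_mem n this

theorem isReduced_away
    (hred : ∀ f ∈ (HomogeneousIdeal.irrelevant 𝒜).toIdeal, IsNilpotent f → f = 0)
    (f : A) {m : ℕ} (hm : 0 < m) (hf : f ∈ 𝒜 m) :
    _root_.IsReduced (HomogeneousLocalization.Away 𝒜 f) := by
  constructor
  intro x hx
  obtain ⟨k, hk⟩ := hx
  obtain ⟨n, a, ha, rfl⟩ := HomogeneousLocalization.Away.mk_surjective 𝒜 hf x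
  apply HomogeneousLocalization.val_injective
  have h1 := congrArg HomogeneousLocalization.val hk
  rw [HomogeneousLocalization.val_pow, HomogeneousLocalization.Away.val_mk,
    HomogeneousLocalization.val_zero, Localization.mk_pow, Localization.mk_eq_mk',
    IsLocalization.mk'_eq_zero_iff] at h1
  obtain ⟨⟨_, j, rfl⟩, hj⟩ := h1
  simp only at hj
  have hfa : f * a ∈ (HomogeneousIdeal.irrelevant 𝒜).toIdeal :=
    HomogeneousIdeal.mem_irrelevant_of_mem 𝒜 (i := m + n • m) (by omega)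
      (SetLike.mul_mem_graded hf ha)
  have hnil : IsNilpotent (f * a) := by
    refine ⟨j + k, ?_⟩
    rw [mul_pow, pow_add, pow_add]
    calc f ^ j * f ^ k * (a ^ j * a ^ k) = (f ^ j * a ^ k) * (f ^ k * a ^ j) := by ring
      _ = 0 := by rw [hj, zero_mul]
  have h0 := hred _ hfa hnil
  rw [HomogeneousLocalization.Away.val_mk, HomogeneousLocalization.val_zero,
    Localization.mk_eq_mk', IsLocalization.mk'_eq_zero_iff]
  exact ⟨⟨f, 1, pow_one f⟩, h0⟩

theorem proj_isReduced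
    (hred : ∀ f ∈ (HomogeneousIdeal.irrelevant 𝒜).toIdeal, IsNilpotent f → f = 0) :
    AlgebraicGeometry.IsReduced (Proj 𝒜) := by
  have : ∀ i, AlgebraicGeometry.IsReduced ((Proj.affineOpenCover 𝒜).openCover.X i) := by
    intro i
    have := isReduced_away 𝒜 hred i.2.1 i.1.2 i.2.2
    exact inferInstanceAs (AlgebraicGeometry.IsReduced (Spec (.of (HomogeneousLocalization.Away 𝒜 i.2.1))))
  exact AlgebraicGeometry.IsReduced.of_openCover _ (Proj.affineOpenCover 𝒜).openCover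

/-- `Proj` of a graded domain with nonzero irrelevant ideal is integral. -/
theorem isIntegral_of_isDomain [IsDomain A] (hne : (𝒜₊).toIdeal ≠ ⊥) :
    AlgebraicGeometry.IsIntegral (Proj 𝒜) := by
  classical
  have hmemI : ∀ {u : A} {m : ℕ}, 0 < m → u ∈ 𝒜 m → u ∈ (HomogeneousIdeal.irrelevant 𝒜).toIdeal :=
    fun hm hu => HomogeneousIdeal.mem_irrelevant_of_mem 𝒜 hm hu
  have hnil0 : ∀ f : A, IsNilpotent f → f = 0 := fun f hf => hf.eq_zero
  rw [isIntegral_iff_irreducibleSpace_and_isReduced]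
  refine ⟨?_, proj_isReduced 𝒜 fun f _ hf => hnil0 f hf⟩
  have hne' : Nonempty (Proj 𝒜) := by
    obtain ⟨f₀, hf₀, hf₀ne⟩ := Submodule.exists_mem_ne_zero_of_ne_bot hne
    -- some positive-degree component of `f₀` is nonzero
    have : ∃ i, 0 < i ∧ (DirectSum.decompose 𝒜 f₀ i : A) ≠ 0 := by
      by_contra hcon
      push Not at hcon
      apply hf₀ne
      rw [← DirectSum.sum_support_decompose 𝒜 f₀]
      refine Finset.sum_eq_zero fun i _ => ?_
      by_cases hi : i = 0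
      · subst hi
        exact (HomogeneousIdeal.mem_irrelevant_iff _ _).mp hf₀
      · exact hcon i (Nat.pos_of_ne_zero hi)
    obtain ⟨i, hi, hne⟩ := this
    obtain ⟨x, -⟩ := exists_mem_basicOpen_of_not_isNilpotent 𝒜 _ hi (SetLike.coe_mem _)
      (fun h => hne (hnil0 _ h))
    exact ⟨x⟩
  have hpre : PreirreducibleSpace (Proj 𝒜) := by
    constructor
    intro U V hU hV ⟨x, _, hxU⟩ ⟨y, _, hyV⟩
    obtain ⟨u, m, hm, hu, hxu, huU⟩ := exists_homogeneous_basicOpen 𝒜 x U hU hxU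
    obtain ⟨v, n, hn, hv, hyv, hvV⟩ := exists_homogeneous_basicOpen 𝒜 y V hV hyV
    have hun := not_isNilpotent_of_mem_basicOpen 𝒜 x u hxu
    have hvn := not_isNilpotent_of_mem_basicOpen 𝒜 y v hyv
    have huv : ¬ IsNilpotent (u * v) := by
      intro hnil
      rcases mul_eq_zero.mp (hnil0 _ hnil) with h | h
      · exact hun (h ▸ IsNilpotent.zero)
      · exact hvn (h ▸ IsNilpotent.zero)
    obtain ⟨z, hz⟩ := exists_mem_basicOpen_of_not_isNilpotent 𝒜 (u * v)
      (Nat.add_pos_left hm n) (SetLike.mul_mem_graded hu hv) huv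
    rw [Proj.basicOpen_mul] at hz
    exact ⟨z, trivial, huU hz.1, hvV hz.2⟩
  exact { toPreirreducibleSpace := hpre, toNonempty := hne' }

end Groth.Agent.Lib.Helper3.ProjIntegral
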