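import Mathlib

/-!
# Weakly étale morphisms and stalks

`weaklyEtale_iff_stalk`: a morphism of schemes is weakly étale iff all `Spec` of its stalk maps are
weakly étale, i.e. iff all its stalk maps are flat with flat multiplication map.
-/

set_option autoImplicit false
set_option backward.isDefEq.respectTransparency.types false
set_option linter.style.haveILetI false

namespace Groth.Agent.Lib.Helper3.WeaklyEtaleStalk

open AlgebraicGeometry CategoryTheory Limits

universe u

variable {X Y : Scheme.{u}}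

instance flat_fromSpecStalk (X : Scheme.{u}) (x : X) : Flat (X.fromSpecStalk x) := by
  obtain ⟨_, ⟨U, hU, rfl⟩, hxU, -⟩ :=
    X.isBasis_affineOpens.exists_subset_of_mem_open (Set.mem_univ x) isOpen_univ
  rw [← hU.fromSpecStalk_eq_fromSpecStalk hxU]
  unfold IsAffineOpen.fromSpecStalk
  haveI : Flat (Spec.map (X.presheaf.germ U x hxU)) := by
    rw [Flat.SpecMap_iff]
    let := X.presheaf.algebra_section_stalk ⟨x, hxU⟩
    have := hU.isLocalization_stalk ⟨x, hxU⟩
    exact IsLocalization.flat (X.presheaf.stalk x) (hU.primeIdealOf ⟨x, hxU⟩).asIdeal.primeCompl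
  infer_instance

instance weaklyEtale_fromSpecStalk (X : Scheme.{u}) (x : X) : WeaklyEtale (X.fromSpecStalk x) where

theorem weaklyEtale_SpecMap_iff {R S : CommRingCat.{u}} (φ : R ⟶ S) :
    WeaklyEtale (Spec.map φ) ↔ φ.hom.Flat ∧
      (letI := φ.hom.toAlgebra
       (Algebra.TensorProduct.lmul' (S := ↑S) ↑R).toRingHom.Flat) := by
  letI := φ.hom.toAlgebra
  rw [weaklyEtale_iff, Flat.SpecMap_iff]
  have h : φ = CommRingCat.ofHom (algebraMap R S) := rfl
  rw [h, diagonal_SpecMap R S, MorphismProperty.cancel_right_of_respectsIso @Flat,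
    Flat.SpecMap_iff]
  rfl

theorem stalk_of_weaklyEtale (f : X ⟶ Y) [WeaklyEtale f] (x : X) :
    WeaklyEtale (Spec.map (f.stalkMap x)) := by
  haveI : WeaklyEtale (Spec.map (f.stalkMap x) ≫ Y.fromSpecStalk (f x)) := by
    rw [Scheme.SpecMap_stalkMap_fromSpecStalk]
    infer_instance
  exact WeaklyEtale.of_comp _ (Y.fromSpecStalk (f x))

theorem flat_stalkMap_congr {Z W : Scheme.{u}} (g : Z ⟶ W) (z z' : Z) (h : z = z')
    (hz : (g.stalkMap z).hom.Flat) : (g.stalkMap z').hom.Flat := by
  subst h
  exact hz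

theorem flat_of_comp_iso {A B C : CommRingCat.{u}} (φ : A ⟶ B) (e : B ⟶ C) [IsIso e]
    (h : (φ ≫ e).hom.Flat) : φ.hom.Flat := by
  have h1 : φ = (φ ≫ e) ≫ inv e := by simp
  rw [h1, CommRingCat.hom_comp]
  refine RingHom.Flat.comp h (RingHom.Flat.of_bijective ?_)
  exact ConcreteCategory.bijective_of_isIso (inv e)

theorem flat_comp_iso {A B C : CommRingCat.{u}} (φ : A ⟶ B) (e : B ⟶ C) [IsIso e]
    (h : φ.hom.Flat) : (φ ≫ e).hom.Flat := by
  rw [CommRingCat.hom_comp]
  refine RingHom.Flat.comp h (RingHom.Flat.of_bijective ?_)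
  exact ConcreteCategory.bijective_of_isIso e

/-- if the composite of a flat map from the spectrum of a local ring with `g` is flat then `g` is
flat at the image of the closed point -/
theorem flat_stalkMap_of_flat_fromSpecStalk_comp {Z W : Scheme.{u}} (g : Z ⟶ W) (z : Z)
    [Flat (Z.fromSpecStalk z ≫ g)] : (g.stalkMap z).hom.Flat := by
  have h1 : (Scheme.stalkClosedPointTo (Z.fromSpecStalk z ≫ g)).hom.Flat := by
    unfold Scheme.stalkClosedPointTo
    exact flat_comp_iso _ _ (Flat.stalkMap _ _)
  rw [Scheme.stalkClosedPointTo_comp, Scheme.stalkClosedPointTo_fromSpecStalk] at h1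
  have h2 := flat_of_comp_iso _ _ h1
  exact flat_stalkMap_congr g _ _ Scheme.fromSpecStalk_closedPoint h2

theorem weaklyEtale_of_stalk (f : X ⟶ Y) (H : ∀ x, WeaklyEtale (Spec.map (f.stalkMap x))) :
    WeaklyEtale f := by
  have hcomp : ∀ x, WeaklyEtale (X.fromSpecStalk x ≫ f) := fun x => by
    rw [← Scheme.SpecMap_stalkMap_fromSpecStalk]
    haveI := H x
    infer_instance
  refine ⟨?_, ?_⟩
  · rw [Flat.iff_flat_stalkMap]
    intro x
    exact ((weaklyEtale_SpecMap_iff _).mp (H x)).1
  · rw [Flat.iff_flat_stalkMap]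
    intro z
    haveI := hcomp z
    have e : X.fromSpecStalk z ≫ pullback.diagonal f =
        pullback.diagonal (X.fromSpecStalk z ≫ f) ≫
          pullback.map (X.fromSpecStalk z ≫ f) (X.fromSpecStalk z ≫ f) f f
            (X.fromSpecStalk z) (X.fromSpecStalk z) (𝟙 Y) (by simp) (by simp) := by
      apply pullback.hom_ext
      · rw [Category.assoc, pullback.diagonal_fst, Category.assoc, pullback.lift_fst,
          pullback.diagonal_fst_assoc, Category.comp_id]
      · rw [Category.assoc, pullback.diagonal_snd, Category.assoc, pullback.lift_snd,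
          pullback.diagonal_snd_assoc, Category.comp_id]
    haveI : Flat (pullback.map (X.fromSpecStalk z ≫ f) (X.fromSpecStalk z ≫ f) f f
        (X.fromSpecStalk z) (X.fromSpecStalk z) (𝟙 Y) (by simp) (by simp)) :=
      MorphismProperty.pullbackMap (P := @Flat) (f := X.fromSpecStalk z ≫ f)
        (g := X.fromSpecStalk z ≫ f) (f' := f) (g' := f)
        (inferInstanceAs (Flat (X.fromSpecStalk z))) (inferInstanceAs (Flat (X.fromSpecStalk z)))
        rfl rfl
    haveI : Flat (X.fromSpecStalk z ≫ pullback.diagonal f) := by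
      rw [e]
      infer_instance
    exact flat_stalkMap_of_flat_fromSpecStalk_comp (pullback.diagonal f) z

theorem weaklyEtale_iff_stalk (f : X ⟶ Y) :
    WeaklyEtale f ↔ ∀ x : X, (f.stalkMap x).hom.Flat ∧
      (letI := (f.stalkMap x).hom.toAlgebra
       (Algebra.TensorProduct.lmul' (S := ↑(X.presheaf.stalk x))
        (↑(Y.presheaf.stalk (f x)))).toRingHom.Flat) := by
  constructor
  · intro h x
    exact (weaklyEtale_SpecMap_iff _).mp (stalk_of_weaklyEtale f x)
  · intro h
    exact weaklyEtale_of_stalk f fun x => (weaklyEtale_SpecMap_iff _).mpr (h x)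

end Groth.Agent.Lib.Helper3.WeaklyEtaleStalk
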