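import Groth.Agent.Lib.Helper3.QCAlgFT
/-!
# Quasi-coherent algebras of finite type are generated by a submodule of finite type (EGA I 9.6.6)
-/
universe u
open CategoryTheory CategoryTheory.Limits AlgebraicGeometry Opposite TopologicalSpace
open Groth.Agent.Lib.Helper29.QCoh RelSpec

namespace Groth.Agent.Lib.Helper3
variable {X : Scheme.{u}}

theorem exists_finset_closure_eq_top {R A : Type*} [CommRing R] [CommRing A] (φ : R →+* A)
    (h : φ.FiniteType) : ∃ S : Finset A, Subring.closure (Set.range φ ∪ (S : Set A)) = ⊤ := by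
  let _ := φ.toAlgebra
  have h' : Algebra.FiniteType R A := h
  obtain ⟨S, hS⟩ := h'.out
  refine ⟨S, ?_⟩
  have := congrArg Subalgebra.toSubring hS
  rw [Algebra.adjoin_eq_ring_closure] at this
  exact this

/-- If a sub-algebra sheaf is everything on an affine open, it is everything on its basic
opens. -/
theorem SubAlgSh.carrier_basicOpen_eq_top {B : QCAlg X} (A : SubAlgSh B) {V : X.Opens}
    (hV : IsAffineOpen V) (hA : A.carrier V = ⊤) (g : Γ(X, V)) :
    A.carrier (X.basicOpen g) = ⊤ := by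
  rw [eq_top_iff]
  rintro c -
  obtain ⟨n, a, h⟩ := QCAlg.surj_aux B hV g c
  have ha : resB B (X.basicOpen_le g) a ∈ A.carrier (X.basicOpen g) :=
    A.res_mem _ (by rw [hA]; trivial)
  have hunit : IsUnit (X.presheaf.map (homOfLE (X.basicOpen_le g)).op g) :=
    RingedSpace.isUnit_res_basicOpen X.toRingedSpace g
  obtain ⟨u, hu⟩ := hunit.exists_left_inv
  have hu' : strB B (X.basicOpen g) u * resB B (X.basicOpen_le g) (strB B V g) = 1 := by
    rw [resB_strB, ← map_mul, hu, map_one]
  have hc : c = strB B (X.basicOpen g) u ^ n * resB B (X.basicOpen_le g) a := by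
    rw [← h, ← mul_assoc, ← mul_pow, hu', one_pow, one_mul]
  rw [hc]
  exact Subring.mul_mem _ (Subring.pow_mem _ (A.str_mem _ u) n) ha

/-- **EGA I 9.6.6.** -/
theorem exists_finiteType_submodule_generating (h : HasFTThrough X) [CompactSpace X]
    (B : QCAlg X) (hB : ∀ U : X.affineOpens, (B.str.app (op (U : X.Opens))).hom.FiniteType) :
    ∃ E : SubSh B.toModule, E.toModules.IsQuasicoherent ∧ E.toModules.IsFiniteType ∧
      ∀ U : X.Opens, IsAffineOpen U → Subring.closure (Set.range (strB B U) ∪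
        {s | (show Γ(B.toModule, U) from s) ∈ E.carrier U}) = ⊤ := by
  classical
  obtain ⟨n, V, hV, -, hcov⟩ := exists_finite_affine_cover
    (X := X) (U := ⊤) (by simpa using (CompactSpace.isCompact_univ : IsCompact (Set.univ : Set X)))
  have h1 : ∀ k : Fin n, ∃ S : Finset (B.presheaf.obj (op (V k))),
      Subring.closure (Set.range (strB B (V k)) ∪ (S : Set (B.presheaf.obj (op (V k))))) = ⊤ :=
    fun k => exists_finset_closure_eq_top (strB B (V k)) (hB ⟨V k, hV k⟩)
  choose S hS using h1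
  have h2 : ∀ i : (Σ k : Fin n, {b // b ∈ S k}), ∃ K : SubSh B.toModule,
      K.toModules.IsQuasicoherent ∧ K.toModules.IsFiniteType ∧
        (show Γ(B.toModule, V i.1) from i.2.1) ∈ K.carrier (V i.1) :=
    fun i => h B.toModule (V i.1) (hV i.1) i.2.1
  choose K hK1 hK2 hK3 using h2
  have hKqc : ∀ i (T : X.Opens), IsAffineOpen T → (K i).IsQCOn T := fun i T hT => by
    have := hK1 i
    exact (K i).isQCOn_of_isQuasicoherent hT
  have hKfg : ∀ i (T : X.Opens), IsAffineOpen T → ((K i).carrier T).FG := fun i T hT => by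
    have := hK1 i
    have := hK2 i
    exact (K i).fg_of_isFiniteType hT
  set E := SubSh.iSup K with hE
  have hEqc : ∀ T : X.Opens, IsAffineOpen T → E.IsQCOn T :=
    fun T hT => SubSh.isQCOn_iSup K hT (fun i T' hT' _ => hKqc i T' hT')
  have hq : E.toModules.IsQuasicoherent :=
    SubSh.isQuasicoherent_toModules E (fun W : X.affineOpens => (W : X.Opens))
      (isOpenCover_affineOpens X) (fun W => W.2) (fun W => hEqc W.1 W.2)
  have hft : E.toModules.IsFiniteType :=
    SubSh.isFiniteType_toModules E (fun W : X.affineOpens => (W : X.Opens))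
      (isOpenCover_affineOpens X) (fun W => W.2)
      (fun W => SubSh.iSup_fg K W.2 (fun i => hKqc i W.1 W.2) (fun i => hKfg i W.1 W.2))
  refine ⟨E, hq, hft, fun U hU => ?_⟩
  rw [← genAlg_carrier_eq E hU (hEqc U hU)]
  -- generation on the members of the cover
  have hVk : ∀ k, (genAlg E).carrier (V k) = ⊤ := by
    intro k
    rw [genAlg_carrier_eq E (hV k) (hEqc _ (hV k)), eq_top_iff, ← hS k]
    apply Subring.closure_mono
    rintro s (hs | hs)
    · exact Or.inl hs
    · exact Or.inr (SubSh.le_iSup K ⟨k, ⟨s, hs⟩⟩ (V k) (hK3 ⟨k, ⟨s, hs⟩⟩))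
  rw [eq_top_iff]
  rintro b -
  apply (genAlg E).local_mem
  intro x hx
  have hx' : x ∈ iSup V := hcov trivial
  obtain ⟨k, hk⟩ := Opens.mem_iSup.mp hx'
  obtain ⟨g, hg, hxg⟩ := (hV k).exists_basicOpen_le (V := U ⊓ V k) ⟨x, ⟨hx, hk⟩⟩ hk
  refine ⟨X.basicOpen g, hg.trans inf_le_left, hxg, ?_⟩
  rw [SubAlgSh.carrier_basicOpen_eq_top (genAlg E) (hV k) (hVk k) g]
  trivial

end Groth.Agent.Lib.Helper3
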