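import Groth.Prelude.Def_RelSpec
import Mathlib.AlgebraicGeometry.Normalization
/-!
# Morphisms into a relative spectrum from homomorphisms of algebras
-/
universe u
open CategoryTheory CategoryTheory.Limits AlgebraicGeometry Opposite TopologicalSpace
open RelSpec AlgebraicGeometry.Scheme.AffineZariskiSite

namespace Groth.Agent.Lib.Helper3
variable {S : Scheme.{u}} (A : QCAlg S) {Y : Scheme.{u}} (h₀ : Y ⟶ S)
  (ω : A.presheaf ⟶ h₀.base _* Y.presheaf)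

set_option backward.defeqAttrib.useBackward true in
set_option backward.isDefEq.respectTransparency false in
theorem QCAlg.lift_compat {U V : ((directedCover S).pullback₁ h₀).I₀} (i : U ⟶ V) :
    Scheme.Cover.trans ((directedCover S).pullback₁ h₀) i ≫
      ((pullbackRestrictIsoRestrict h₀ V.1).hom ≫
        (h₀ ⁻¹ᵁ V.1).toSpecΓ ≫ Spec.map (ω.app (op V.1)) ≫ A.ι V.1 V.2) =
    (pullbackRestrictIsoRestrict h₀ U.1).hom ≫
        (h₀ ⁻¹ᵁ U.1).toSpecΓ ≫ Spec.map (ω.app (op U.1)) ≫ A.ι U.1 U.2 := by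
  have : (pullbackRestrictIsoRestrict h₀ U.1).inv ≫
      Scheme.Cover.trans ((directedCover S).pullback₁ h₀) i ≫
      (pullbackRestrictIsoRestrict h₀ V.1).hom = Y.homOfLE
        (h₀.preimage_mono (toOpens_mono i.1.1)) := by
    rw [← cancel_mono (Scheme.Opens.ι _)]
    simp +instances [Scheme.Cover.trans, Scheme.Cover.locallyDirectedPullbackCover]
  rw [← Iso.inv_comp_eq, reassoc_of% this, ← Scheme.Opens.toSpecΓ_SpecMap_presheaf_map_assoc,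
    ← Spec.map_comp_assoc]
  rw [← A.ι_res (U := V) (V := U) i, ← Spec.map_comp_assoc]
  congr 3
  exact (ω.naturality (homOfLE (toOpens_mono i.1.1)).op).symm

/-- The morphism `Y ⟶ Spec(A)` over `S` attached to a map of presheaves of rings `A ⟶ h₀_* O_Y`. -/
noncomputable def QCAlg.lift : Y ⟶ A.spec :=
  Scheme.OpenCover.glueMorphismsOfLocallyDirected
    ((directedCover S).pullback₁ h₀)
    (fun U ↦ (pullbackRestrictIsoRestrict h₀ U.1).hom ≫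
      (h₀ ⁻¹ᵁ U.1).toSpecΓ ≫ Spec.map (ω.app (op U.1)) ≫ A.ι U.1 U.2)
    (fun i ↦ QCAlg.lift_compat A h₀ ω i)

set_option backward.isDefEq.respectTransparency.types false in
set_option backward.defeqAttrib.useBackward true in
@[reassoc]
lemma QCAlg.ι_lift (U : S.affineOpens) :
    (h₀ ⁻¹ᵁ U.1).ι ≫ QCAlg.lift A h₀ ω =
      (h₀ ⁻¹ᵁ U.1).toSpecΓ ≫ Spec.map (ω.app (op U.1)) ≫ A.ι U.1 U.2 := by
  rw [← cancel_epi (pullbackRestrictIsoRestrict h₀ U.1).hom, ← Category.assoc]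
  trans ((directedCover S).pullback₁ h₀).f U ≫ QCAlg.lift A h₀ ω
  · congr 1; simp
  exact Scheme.OpenCover.map_glueMorphismsOfLocallyDirected _ _
    (fun i ↦ QCAlg.lift_compat A h₀ ω i) _

set_option backward.isDefEq.respectTransparency false in
@[reassoc]
lemma QCAlg.lift_π (hω : A.str ≫ ω = h₀.c) : QCAlg.lift A h₀ ω ≫ A.π = h₀ := by
  refine Scheme.Cover.hom_ext (Y.openCoverOfIsOpenCover _
    (.comap (iSup_affineOpens_eq_top S) h₀.base.1)) _ _ fun U ↦ ?_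
  refine (QCAlg.ι_lift_assoc A h₀ ω _ _).trans ?_
  rw [A.ι_π, ← Spec.map_comp_assoc]
  have : A.str.app (op U.1) ≫ ω.app (op U.1) = h₀.app U.1 := by
    rw [← NatTrans.comp_app, hω]
  rw [this]
  change (h₀ ⁻¹ᵁ U.1).toSpecΓ ≫ Spec.map (h₀.app _) ≫ U.2.fromSpec = (h₀ ⁻¹ᵁ U.1).ι ≫ _
  simp

theorem appLE_congr' {X₁ X₂ : Scheme.{u}} {f g : X₁ ⟶ X₂} (h : f = g) (U : X₂.Opens)
    (V : X₁.Opens) (e : V ≤ f ⁻¹ᵁ U) : f.appLE U V e = g.appLE U V (h ▸ e) := by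
  subst h; rfl

theorem isIso_gammaAff (U : S.Opens) (hU : IsAffineOpen U) : IsIso (A.gammaAff U hU) := by
  have hW : (A.ι U hU) ''ᵁ (⊤ : (Spec (A.presheaf.obj (op U))).Opens) = A.π ⁻¹ᵁ U := by
    rw [Scheme.Hom.image_top_eq_opensRange, A.π_preimage U hU]
  have e : (⊤ : (Spec (A.presheaf.obj (op U))).Opens) ≤
      A.ι U hU ⁻¹ᵁ ((A.ι U hU) ''ᵁ (⊤ : (Spec (A.presheaf.obj (op U))).Opens)) :=
    (Scheme.Hom.preimage_image_eq (A.ι U hU) ⊤).ge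
  rw [← A.gammaAff_eq hU hW e]
  have : IsIso ((A.ι U hU).appLE ((A.ι U hU) ''ᵁ ⊤) ⊤ e) := by
    rw [← Scheme.Hom.appIso_hom']
    infer_instance
  infer_instance

theorem QCAlg.le_lift_preimage (hω : A.str ≫ ω = h₀.c) (U : S.Opens) :
    h₀ ⁻¹ᵁ U ≤ (QCAlg.lift A h₀ ω) ⁻¹ᵁ (A.π ⁻¹ᵁ U) := by
  rw [← Scheme.Hom.comp_preimage, QCAlg.lift_π A h₀ ω hω]

set_option backward.isDefEq.respectTransparency false in
/-- On sections over the preimage of an affine open, the lifted morphism is `ω`. -/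
theorem QCAlg.lift_appLE (hω : A.str ≫ ω = h₀.c) (U : S.Opens) (hU : IsAffineOpen U) :
    (QCAlg.lift A h₀ ω).appLE (A.π ⁻¹ᵁ U) (h₀ ⁻¹ᵁ U) (QCAlg.le_lift_preimage A h₀ ω hω U) =
      A.gammaAff U hU ≫ ω.app (op U) := by
  have e₂ : (⊤ : (h₀ ⁻¹ᵁ U).toScheme.Opens) ≤
      ((h₀ ⁻¹ᵁ U).ι ≫ QCAlg.lift A h₀ ω) ⁻¹ᵁ (A.π ⁻¹ᵁ U) := by
    rw [Scheme.Hom.comp_preimage]
    intro x _
    exact QCAlg.le_lift_preimage A h₀ ω hω U x.2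
  have key := appLE_congr' (QCAlg.ι_lift A h₀ ω ⟨U, hU⟩) (A.π ⁻¹ᵁ U) ⊤ e₂
  rw [← Scheme.Hom.appLE_comp_appLE _ _ _ (h₀ ⁻¹ᵁ U) _
    (QCAlg.le_lift_preimage A h₀ ω hω U) (by simp)] at key
  rw [← cancel_mono ((h₀ ⁻¹ᵁ U).ι.appLE (h₀ ⁻¹ᵁ U) ⊤ (by simp)), key]
  have e₃ : (⊤ : (Spec (A.presheaf.obj (op U))).Opens) ≤ A.ι U hU ⁻¹ᵁ (A.π ⁻¹ᵁ U) :=
    A.top_le_preimage U hU
  have e₄ : (⊤ : (h₀ ⁻¹ᵁ U).toScheme.Opens) ≤
      ((h₀ ⁻¹ᵁ U).toSpecΓ ≫ Spec.map (ω.app (op U))) ⁻¹ᵁ ⊤ := le_of_eq rfl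
  have h1 : ((h₀ ⁻¹ᵁ U).toSpecΓ ≫ Spec.map (ω.app (op U)) ≫ A.ι U hU).appLE (A.π ⁻¹ᵁ U) ⊤
      ((QCAlg.ι_lift A h₀ ω ⟨U, hU⟩) ▸ e₂) =
      (A.ι U hU).appLE (A.π ⁻¹ᵁ U) ⊤ e₃ ≫
        ((h₀ ⁻¹ᵁ U).toSpecΓ ≫ Spec.map (ω.app (op U))).appLE ⊤ ⊤ e₄ := by
    rw [Scheme.Hom.appLE_comp_appLE]
    exact appLE_congr' (Category.assoc _ _ _).symm _ _ _
  refine h1.trans ?_
  have h2 : ((h₀ ⁻¹ᵁ U).toSpecΓ ≫ Spec.map (ω.app (op U))).appLE ⊤ ⊤ e₄ =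
      (Scheme.ΓSpecIso _).hom ≫ ω.app (op U) ≫ (h₀ ⁻¹ᵁ U).topIso.inv := by
    have : ((h₀ ⁻¹ᵁ U).toSpecΓ ≫ Spec.map (ω.app (op U))).appLE ⊤ ⊤ e₄ =
        ((h₀ ⁻¹ᵁ U).toSpecΓ ≫ Spec.map (ω.app (op U))).appTop := by
      simp only [Scheme.Hom.appLE, Scheme.Hom.appTop]
      have hid : ∀ (k : (op (⊤ : (h₀ ⁻¹ᵁ U).toScheme.Opens)) ⟶ op ⊤),
          (h₀ ⁻¹ᵁ U).toScheme.presheaf.map k = 𝟙 _ := fun k => by
        rw [Subsingleton.elim k (𝟙 _)]; exact CategoryTheory.Functor.map_id _ _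
      exact (congrArg (fun t => _ ≫ t) (hid _)).trans (Category.comp_id _)
    rw [this, Scheme.Hom.comp_appTop, Scheme.Opens.toSpecΓ_appTop]
    exact Scheme.ΓSpecIso_naturality_assoc _ _
  rw [h2]
  have h3 : (h₀ ⁻¹ᵁ U).topIso.inv = (h₀ ⁻¹ᵁ U).ι.appLE (h₀ ⁻¹ᵁ U) ⊤ (by simp) := by
    rw [Scheme.Opens.ι_appLE]
    exact congrArg Y.presheaf.map (Subsingleton.elim _ _)
  rw [h3]
  simp only [QCAlg.gammaAff, Category.assoc]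

end Groth.Agent.Lib.Helper3
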