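import Groth.Agent.Lib.Helper3.ZMTAlg
import Groth.Agent.Lib.Helper3.QCAlgLift
import Groth.Agent.Lib.Helper3.QCAlgGen
import Mathlib.AlgebraicGeometry.ZariskisMainTheorem
/-!
# The finite form of Zariski's main theorem
-/
universe u
open CategoryTheory CategoryTheory.Limits AlgebraicGeometry Opposite TopologicalSpace
open Groth.Agent.Lib.Helper29.QCoh RelSpec

namespace Groth.Agent.Lib.Helper3

theorem basicOpen_loc_aux {N : Scheme.{u}} {U : N.Opens} (hU : IsAffineOpen U) (c : Γ(N, U))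
    {V : N.Opens} (hV : V = N.basicOpen c) (hVU : V ≤ U) :
    IsUnit (N.presheaf.map (homOfLE hVU).op c) ∧
    (∀ y : Γ(N, V), ∃ (n : ℕ) (s : Γ(N, U)),
      y * (N.presheaf.map (homOfLE hVU).op c) ^ n = N.presheaf.map (homOfLE hVU).op s) ∧
    (∀ s : Γ(N, U), N.presheaf.map (homOfLE hVU).op s = 0 → ∃ m : ℕ, c ^ m * s = 0) := by
  subst hV
  refine ⟨QCAlg.isUnit_aux (QCAlg.unit N) hU c, fun y => ?_, fun s hs => ?_⟩
  · obtain ⟨n, a, h⟩ := QCAlg.surj_aux (QCAlg.unit N) hU c y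
    exact ⟨n, a, (mul_comm _ _).trans h⟩
  · exact QCAlg.inj_aux (QCAlg.unit N) hU c s hs

set_option backward.isDefEq.respectTransparency false in
theorem isIso_morphismRestrict_basicOpen_of_appLE {N T : Scheme.{u}} (h : N ⟶ T) [IsAffineHom h]
    {Tk : T.Opens} (hTk : IsAffineOpen Tk) {Nk : N.Opens} (hN : Nk = h ⁻¹ᵁ Tk) (t : Γ(T, Tk))
    (hinj : Function.Injective (h.appLE Tk Nk hN.le).hom)
    (hgen : ∀ s : Γ(N, Nk), ∃ (e : ℕ) (a : Γ(T, Tk)),
      (h.appLE Tk Nk hN.le).hom t ^ e * s = (h.appLE Tk Nk hN.le).hom a) :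
    IsIso (h ∣_ T.basicOpen t) := by
  subst hN
  have happ : h.appLE Tk (h ⁻¹ᵁ Tk) le_rfl = h.app Tk := (Scheme.Hom.app_eq_appLE ..).symm
  rw [happ] at hinj hgen
  rw [isIso_morphismRestrict_iff_isIso_app h (hTk.basicOpen t),
    ConcreteCategory.isIso_iff_bijective]
  have hNk : IsAffineOpen (h ⁻¹ᵁ Tk) := hTk.preimage h
  have hV : h ⁻¹ᵁ T.basicOpen t = N.basicOpen ((h.app Tk).hom t) :=
    Scheme.Hom.preimage_basicOpen h t
  have hVU : h ⁻¹ᵁ T.basicOpen t ≤ h ⁻¹ᵁ Tk := h.preimage_mono (T.basicOpen_le t)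
  obtain ⟨hu₂, hs₂, hk₂⟩ := basicOpen_loc_aux hNk ((h.app Tk).hom t) hV hVU
  obtain ⟨hu₁, hs₁, -⟩ := basicOpen_loc_aux hTk t rfl (T.basicOpen_le t)
  refine bijective_of_localization_aux (h.app Tk).hom
    (T.presheaf.map (homOfLE (T.basicOpen_le t)).op).hom
    (N.presheaf.map (homOfLE hVU).op).hom (h.app (T.basicOpen t)).hom ?_ t hu₁ hs₁ hs₂ hk₂ hinj hgen
  intro a
  exact congrArg (fun k => k.hom a) (h.naturality (homOfLE (T.basicOpen_le t)).op)

set_option backward.isDefEq.respectTransparency false in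
theorem QCAlg.isFinite_π {S : Scheme.{u}} (C : QCAlg S)
    (hC : ∀ U : S.affineOpens, (C.str.app (op U.1)).hom.Finite) : IsFinite C.π := by
  rw [IsZariskiLocalAtTarget.iff_of_iSup_eq_top (P := @IsFinite) _ (iSup_affineOpens_eq_top _)]
  intro U
  let e := IsOpenImmersion.isoOfRangeEq (C.π ⁻¹ᵁ U).ι (C.ι U.1 U.2)
      (by simpa using congr($(C.π_preimage U.1 U.2).1))
  rw [← MorphismProperty.cancel_left_of_respectsIso @IsFinite e.inv,
    ← MorphismProperty.cancel_right_of_respectsIso @IsFinite _ U.2.isoSpec.hom]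
  convert! (IsFinite.SpecMap_iff _).mpr (hC U)
  rw [← cancel_mono U.2.fromSpec]
  simp [IsAffineOpen.isoSpec_hom, e, C.ι_π]

/-- A sub-algebra sheaf of finite type through finitely many sections over affine opens. -/
theorem exists_finiteType_subAlgSh_through_sections {X : Scheme.{u}} (h : HasFTThrough X)
    (B : QCAlg X) {ι : Type*} [Finite ι] (U : ι → X.Opens) (hU : ∀ i, IsAffineOpen (U i))
    (b : ∀ i, B.presheaf.obj (op (U i))) :
    ∃ A : SubAlgSh B, (∀ T : X.Opens, IsAffineOpen T → A.IsQCOn T) ∧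
      (∀ T : X.Opens, IsAffineOpen T → ∃ S : Finset (B.presheaf.obj (op T)),
        A.carrier T = Subring.closure (Set.range (strB B T) ∪ (S : Set (B.presheaf.obj (op T))))) ∧
      ∀ i, b i ∈ A.carrier (U i) := by
  have h2 : ∀ i : ι, ∃ K : SubSh B.toModule,
      K.toModules.IsQuasicoherent ∧ K.toModules.IsFiniteType ∧
        (show Γ(B.toModule, U i) from b i) ∈ K.carrier (U i) :=
    fun i => h B.toModule (U i) (hU i) (b i)
  choose K hK1 hK2 hK3 using h2
  have hKqc : ∀ i (T : X.Opens), IsAffineOpen T → (K i).IsQCOn T := fun i T hT => by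
    have := hK1 i
    exact (K i).isQCOn_of_isQuasicoherent hT
  have hKfg : ∀ i (T : X.Opens), IsAffineOpen T → ((K i).carrier T).FG := fun i T hT => by
    have := hK1 i
    have := hK2 i
    exact (K i).fg_of_isFiniteType hT
  set E := SubSh.iSup K with hE
  have hEqc : ∀ T : X.Opens, IsAffineOpen T → E.IsQCOn T :=
    fun T hT => SubSh.isQCOn_iSup K hT (fun i T' hT' _ => hKqc i T' hT')
  refine ⟨genAlg E, fun T hT => isQCOn_genAlg E hEqc hT, fun T hT => ?_, fun i => ?_⟩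
  · obtain ⟨S, hS⟩ := SubSh.iSup_fg K hT (fun i => hKqc i T hT) (fun i => hKfg i T hT)
    refine ⟨S, ?_⟩
    rw [genAlg_carrier_eq E hT (hEqc T hT), ← hS]
    exact closure_union_span_eq B (S : Set Γ(B.toModule, T))
  · exact le_genAlg E (U i) (b i) (SubSh.le_iSup K i (U i) (hK3 i))

set_option backward.isDefEq.respectTransparency.types false in
theorem isIso_morphismRestrict_iSup {X Y : Scheme.{u}} (f : X ⟶ Y) {J : Type*}
    (V : J → Y.Opens) (hV : ∀ i, IsIso (f ∣_ V i)) : IsIso (f ∣_ ⨆ i, V i) := by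
  let 𝒰 := Scheme.Opens.iSupOpenCover V
  refine (IsZariskiLocalAtTarget.iff_of_openCover (P := .isomorphisms _) 𝒰).mpr fun x ↦ ?_
  refine (MorphismProperty.arrow_mk_iso_iff (.isomorphisms _)
    ((morphismRestrictRestrict ..).symm ≪≫ morphismRestrictOpensRange ..)).mp ?_
  have : Scheme.Opens.ι _ ''ᵁ (𝒰.f x).opensRange = V x := by
    simp only [Scheme.Opens.iSupOpenCover, 𝒰, ← Scheme.Hom.opensRange_comp, Scheme.homOfLE_ι,
      Scheme.Opens.opensRange_ι]
  convert! hV x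

theorem finiteType_appLE_of_openImmersion {S N X : Scheme.{u}} (g₀ : N ⟶ S) (j : X ⟶ N)
    [IsOpenImmersion j] [LocallyOfFiniteType (j ≫ g₀)] {V : S.Opens} (hV : IsAffineOpen V)
    {D : N.Opens} (hD : IsAffineOpen D) (hDj : D ≤ j.opensRange) (e : D ≤ g₀ ⁻¹ᵁ V) :
    (g₀.appLE V D e).hom.FiniteType := by
  have hW : IsAffineOpen (j ⁻¹ᵁ D) := hD.preimage_of_isOpenImmersion j hDj
  have e' : j ⁻¹ᵁ D ≤ (j ≫ g₀) ⁻¹ᵁ V := by
    rw [Scheme.Hom.comp_preimage]; exact j.preimage_mono e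
  have h1 := (j ≫ g₀).finiteType_appLE hV hW e'
  have h2 : (j ≫ g₀).appLE V (j ⁻¹ᵁ D) e' = g₀.appLE V D e ≫ j.app D := by
    rw [Scheme.Hom.app_eq_appLE, Scheme.Hom.appLE_comp_appLE]
  have : IsIso (j.app D) := j.isIso_app D hDj
  have h3 : g₀.appLE V D e = (j ≫ g₀).appLE V (j ⁻¹ᵁ D) e' ≫ inv (j.app D) := by
    rw [h2, Category.assoc, IsIso.hom_inv_id, Category.comp_id]
  rw [h3, CommRingCat.hom_comp]
  refine RingHom.FiniteType.comp (RingHom.FiniteType.of_surjective _ ?_) h1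
  exact (ConcreteCategory.bijective_of_isIso (inv (j.app D))).2

/-- Step 2: a quasi-compact open of an affine open is a finite union of basic opens. -/
theorem exists_finset_basicOpen_cover {N : Scheme.{u}} {U : N.Opens} (hU : IsAffineOpen U)
    (O : N.Opens) (hOU : O ≤ U) (hO : IsCompact (O : Set N)) :
    ∃ F : Finset Γ(N, U), (∀ c ∈ F, N.basicOpen c ≤ O) ∧ O ≤ ⨆ c ∈ F, N.basicOpen c := by
  classical
  have h1 : ∀ x : O, ∃ c : Γ(N, U), N.basicOpen c ≤ O ∧ x.1 ∈ N.basicOpen c := fun x =>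
    hU.exists_basicOpen_le (V := O) ⟨x.1, x.2⟩ (hOU x.2)
  choose c hc hxc using h1
  obtain ⟨t, ht⟩ := hO.elim_finite_subcover (fun x : O => (N.basicOpen (c x) : Set N))
    (fun x => (N.basicOpen (c x)).isOpen) (fun x hx => Set.mem_iUnion.mpr ⟨⟨x, hx⟩, hxc ⟨x, hx⟩⟩)
  refine ⟨t.image c, ?_, ?_⟩
  · intro c' hc'
    obtain ⟨x, -, rfl⟩ := Finset.mem_image.mp hc'
    exact hc x
  · intro x hx
    obtain ⟨y, hy⟩ := Set.mem_iUnion.mp (ht hx)
    obtain ⟨hyt, hxy⟩ := Set.mem_iUnion.mp hy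
    simp only [Opens.mem_iSup]
    exact ⟨c y, Finset.mem_image_of_mem c hyt, hxy⟩

set_option backward.isDefEq.respectTransparency false in
theorem exists_finite_factorization_of_openImmersion {S N X : Scheme.{u}} [CompactSpace S]
    [QuasiSeparatedSpace S] (g₀ : N ⟶ S) [IsIntegralHom g₀] (j : X ⟶ N) [IsOpenImmersion j]
    [QuasiCompact (j ≫ g₀)] [LocallyOfFiniteType (j ≫ g₀)] :
    ∃ (T : Scheme.{u}) (h : N ⟶ T) (π : T ⟶ S), IsFinite π ∧ h ≫ π = g₀ ∧
      IsOpenImmersion (j ≫ h) := by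
  classical
  set B := QCAlg.directImage g₀ with hB
  obtain ⟨n, V, hV, -, hcov⟩ := exists_finite_affine_cover
    (X := S) (U := ⊤) (by simpa using (CompactSpace.isCompact_univ : IsCompact (Set.univ : Set S)))
  have hNk : ∀ k, IsAffineOpen (g₀ ⁻¹ᵁ V k) := fun k => (hV k).preimage g₀
  -- Step 2
  have h2 : ∀ k, ∃ F : Finset Γ(N, g₀ ⁻¹ᵁ V k),
      (∀ c ∈ F, N.basicOpen c ≤ j.opensRange ⊓ g₀ ⁻¹ᵁ V k) ∧
        j.opensRange ⊓ g₀ ⁻¹ᵁ V k ≤ ⨆ c ∈ F, N.basicOpen c := by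
    intro k
    refine exists_finset_basicOpen_cover (hNk k) _ inf_le_right ?_
    have h1 : IsCompact (((j ≫ g₀) ⁻¹ᵁ V k : X.Opens) : Set X) :=
      (j ≫ g₀).isCompact_preimage (hV k).isCompact
    have h3 : (j.opensRange ⊓ g₀ ⁻¹ᵁ V k : N.Opens) = j ''ᵁ ((j ≫ g₀) ⁻¹ᵁ V k) := by
      rw [Scheme.Hom.comp_preimage, Scheme.Hom.image_preimage_eq_opensRange_inf]
    rw [h3]
    exact h1.image j.continuous
  choose F hF1 hF2 using h2
  -- Step 3
  have h3 : ∀ k (c : Γ(N, g₀ ⁻¹ᵁ V k)), ∃ D : Finset Γ(N, g₀ ⁻¹ᵁ V k),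
      N.basicOpen c ≤ j.opensRange → ∀ s : Γ(N, g₀ ⁻¹ᵁ V k), ∃ e : ℕ,
        c ^ e * s ∈ Subring.closure (Set.range (g₀.app (V k)).hom ∪
          insert c (D : Set Γ(N, g₀ ⁻¹ᵁ V k))) := by
    intro k c
    by_cases hc : N.basicOpen c ≤ j.opensRange
    · obtain ⟨-, hs, hk⟩ := basicOpen_loc_aux (hNk k) c rfl (N.basicOpen_le c)
      have hft : ((N.presheaf.map (homOfLE (N.basicOpen_le c)).op).hom.comp
          (g₀.app (V k)).hom).FiniteType :=
        finiteType_appLE_of_openImmersion g₀ j (hV k) ((hNk k).basicOpen c) hc (N.basicOpen_le c)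
      obtain ⟨D, hD⟩ := exists_finset_forall_pow_mul_mem_closure (g₀.app (V k)).hom
        (N.presheaf.map (homOfLE (N.basicOpen_le c)).op).hom c hs hk hft
      exact ⟨D, fun _ => hD⟩
    · exact ⟨∅, fun h => absurd h hc⟩
  choose D hD using h3
  -- Step 4: the finite family of sections
  let G : ∀ k, Finset Γ(N, g₀ ⁻¹ᵁ V k) := fun k => F k ∪ (F k).biUnion (D k)
  obtain ⟨A, hAqc, hAfin, hAb⟩ := exists_finiteType_subAlgSh_through_sections (X := S)
    hasFTThrough_of_qcqs B (ι := Σ k : Fin n, {b // b ∈ G k}) (fun i => V i.1)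
    (fun i => hV i.1) (fun i => i.2.1)
  have hAF : ∀ k, ∀ c ∈ F k, (show B.presheaf.obj (op (V k)) from c) ∈ A.carrier (V k) :=
    fun k c hc => hAb ⟨k, ⟨c, Finset.mem_union_left _ hc⟩⟩
  have hAD : ∀ k, ∀ c ∈ F k, ∀ d ∈ D k c,
      (show B.presheaf.obj (op (V k)) from d) ∈ A.carrier (V k) := fun k c hc d hd =>
    hAb ⟨k, ⟨d, Finset.mem_union_right _ (Finset.mem_biUnion.mpr ⟨c, hc, hd⟩)⟩⟩
  set C' := A.toQCAlg hAqc with hC'
  set ω : C'.presheaf ⟶ g₀.base _* N.presheaf := (A.incl hAqc).hom with hω'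
  have hω : C'.str ≫ ω = g₀.c := (A.incl hAqc).comm
  set h := QCAlg.lift C' g₀ ω with hh
  have hπ : h ≫ C'.π = g₀ := QCAlg.lift_π C' g₀ ω hω
  refine ⟨C'.spec, h, C'.π, ?_, hπ, ?_⟩
  · -- finite
    refine QCAlg.isFinite_π C' (fun U => ?_)
    obtain ⟨Sfin, hS⟩ := hAfin U.1 U.2
    exact finite_codRestrict_closure (strB B U.1) (IsIntegralHom.isIntegral_app g₀ U.1 U.2)
      (A.carrier U.1) (fun r => A.str_mem U.1 r)
      (finiteType_codRestrict_closure (strB B U.1) (A.carrier U.1) _ Sfin hS)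
  · have hAff : IsAffineHom h := by
      apply MorphismProperty.of_postcomp (W := @IsAffineHom) (W' := @IsSeparated) _ C'.π
      · infer_instance
      · rw [hπ]; infer_instance
    have hTk : ∀ k, IsAffineOpen (C'.π ⁻¹ᵁ V k) := fun k => (hV k).preimage C'.π
    have hN : ∀ k, g₀ ⁻¹ᵁ V k = h ⁻¹ᵁ (C'.π ⁻¹ᵁ V k) := fun k => by
      rw [← Scheme.Hom.comp_preimage, hπ]
    have happ : ∀ k, h.appLE (C'.π ⁻¹ᵁ V k) (g₀ ⁻¹ᵁ V k) (hN k).le =
        C'.gammaAff (V k) (hV k) ≫ ω.app (op (V k)) :=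
      fun k => QCAlg.lift_appLE C' g₀ ω hω (V k) (hV k)
    have hγ : ∀ k, Function.Bijective (C'.gammaAff (V k) (hV k)).hom := fun k => by
      have := isIso_gammaAff C' (V k) (hV k)
      exact ConcreteCategory.bijective_of_isIso _
    have hsec : ∀ k (a : Γ(N, g₀ ⁻¹ᵁ V k)),
        (show B.presheaf.obj (op (V k)) from a) ∈ A.carrier (V k) →
        ∃ τ : Γ(C'.spec, C'.π ⁻¹ᵁ V k),
          (h.appLE (C'.π ⁻¹ᵁ V k) (g₀ ⁻¹ᵁ V k) (hN k).le).hom τ = a := by
      intro k a ha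
      obtain ⟨τ, hτ⟩ := (hγ k).2 ⟨a, ha⟩
      refine ⟨τ, ?_⟩
      rw [happ k, CommRingCat.hom_comp, RingHom.comp_apply, hτ]
      rfl
    have hinj : ∀ k, Function.Injective
        (h.appLE (C'.π ⁻¹ᵁ V k) (g₀ ⁻¹ᵁ V k) (hN k).le).hom := by
      intro k
      rw [happ k, CommRingCat.hom_comp, RingHom.coe_comp]
      exact (A.inclHom_injective (V k)).comp (hγ k).1
    choose! t ht using fun (k : Fin n) (c : Γ(N, g₀ ⁻¹ᵁ V k)) (hc : c ∈ F k) =>
      hsec k c (hAF k c hc)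
    have hiso : ∀ k, ∀ c ∈ F k, IsIso (h ∣_ C'.spec.basicOpen (t k c)) := by
      intro k c hc
      refine isIso_morphismRestrict_basicOpen_of_appLE h (hTk k) (hN k) (t k c) (hinj k)
        (fun s => ?_)
      rw [ht k c hc]
      obtain ⟨e, he⟩ := hD k c ((hF1 k c hc).trans inf_le_left) s
      have hle : Subring.closure (Set.range (g₀.app (V k)).hom ∪
          insert c (D k c : Set Γ(N, g₀ ⁻¹ᵁ V k))) ≤ A.carrier (V k) := by
        rw [Subring.closure_le]
        rintro x (⟨r, rfl⟩ | hx)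
        · exact A.str_mem (V k) r
        · rcases hx with rfl | hx
          · exact hAF k _ hc
          · exact hAD k c hc x hx
      obtain ⟨τ, hτ⟩ := hsec k _ (hle he)
      exact ⟨e, τ, hτ.symm⟩
    have hpre : ∀ k, ∀ c ∈ F k, h ⁻¹ᵁ (C'.spec.basicOpen (t k c)) = N.basicOpen c := by
      intro k c hc
      have h5 := Scheme.basicOpen_appLE h (g₀ ⁻¹ᵁ V k) (C'.π ⁻¹ᵁ V k) (hN k).le (t k c)
      have h6 : (h.appLE (C'.π ⁻¹ᵁ V k) (g₀ ⁻¹ᵁ V k) (hN k).le) (t k c) = c := ht k c hc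
      rw [h6] at h5
      rw [h5, eq_comm, inf_eq_right]
      exact (h.preimage_mono (C'.spec.basicOpen_le _)).trans (hN k).ge
    let W : C'.spec.Opens :=
      ⨆ i : (Σ k : Fin n, {c // c ∈ F k}), C'.spec.basicOpen (t i.1 i.2.1)
    have hWiso : IsIso (h ∣_ W) :=
      isIso_morphismRestrict_iSup h _ (fun i => hiso i.1 i.2.1 i.2.2)
    have hWpre : h ⁻¹ᵁ W = j.opensRange := by
      apply le_antisymm
      · intro x hx
        obtain ⟨i, hi⟩ := Opens.mem_iSup.mp (show h x ∈ W from hx)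
        have h7 : x ∈ h ⁻¹ᵁ (C'.spec.basicOpen (t i.1 i.2.1)) := hi
        rw [hpre i.1 i.2.1 i.2.2] at h7
        exact (hF1 i.1 i.2.1 i.2.2 h7).1
      · intro x hx
        have hx' : g₀ x ∈ iSup V := hcov trivial
        obtain ⟨k, hk⟩ := Opens.mem_iSup.mp hx'
        have h8 := hF2 k ⟨hx, hk⟩
        simp only [Opens.mem_iSup] at h8
        obtain ⟨c, hc, hxc⟩ := h8
        have h9 : x ∈ h ⁻¹ᵁ (C'.spec.basicOpen (t k c)) := by rw [hpre k c hc]; exact hxc
        exact Opens.mem_iSup.mpr ⟨⟨k, ⟨c, hc⟩⟩, h9⟩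
    let e := IsOpenImmersion.isoOfRangeEq j (h ⁻¹ᵁ W).ι
      (by rw [Scheme.Opens.range_ι, hWpre]; rfl)
    have hfac : j ≫ h = e.hom ≫ (h ∣_ W) ≫ W.ι := by
      rw [morphismRestrict_ι, ← Category.assoc, IsOpenImmersion.isoOfRangeEq_hom_fac]
    rw [hfac]
    infer_instance


/-- **Zariski's main theorem, finite form** (EGA IV 8.12.6 without finite presentation). -/
theorem exists_openImmersion_finite_factorization {X S : Scheme.{u}} (f : X ⟶ S) [CompactSpace S]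
    [QuasiSeparatedSpace S] [LocallyQuasiFinite f] [LocallyOfFiniteType f] [QuasiCompact f]
    [IsSeparated f] :
    ∃ (T : Scheme.{u}) (j : X ⟶ T) (π : T ⟶ S), IsOpenImmersion j ∧ QuasiCompact j ∧
      IsFinite π ∧ j ≫ π = f := by
  have e : f.toNormalization ≫ f.fromNormalization = f := f.toNormalization_fromNormalization
  have h1 : QuasiCompact (f.toNormalization ≫ f.fromNormalization) := by rw [e]; infer_instance
  have h2 : LocallyOfFiniteType (f.toNormalization ≫ f.fromNormalization) := by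
    rw [e]; infer_instance
  obtain ⟨T, h, π, hfin, hπ, hopen⟩ :=
    exists_finite_factorization_of_openImmersion f.fromNormalization f.toNormalization
  refine ⟨T, f.toNormalization ≫ h, π, hopen, ?_, hfin, by rw [Category.assoc, hπ, e]⟩
  apply MorphismProperty.of_postcomp (W := @QuasiCompact) (W' := @QuasiSeparated) _ π
  · infer_instance
  · rw [Category.assoc, hπ, e]; infer_instance

end Groth.Agent.Lib.Helper3
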