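import Groth.Agent.Lib.Helper3.ProjAux
/-!
# `Proj` of the localization of a graded ring at an element of degree zero

If `ψ : 𝒜 →+*ᵍ ℬ` makes `B` the localization of `A` at an element `c` of degree `0`, then
`Proj.map ψ` is an open immersion whose range is the preimage of `D(c)` under the structure
morphism `Proj 𝒜 ⟶ Spec 𝒜₀`.
-/
universe u
open CategoryTheory CategoryTheory.Limits AlgebraicGeometry Opposite TopologicalSpace
open HomogeneousLocalization DirectSum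
open scoped HomogeneousIdeal

namespace Groth.Agent.Lib.Helper3.ProjLoc
variable {A B σ τ : Type u} [CommRing A] [SetLike σ A] [AddSubgroupClass σ A]
  [CommRing B] [SetLike τ B] [AddSubgroupClass τ B]
  {𝒜 : ℕ → σ} {ℬ : ℕ → τ} [GradedRing 𝒜] [GradedRing ℬ]
  (ψ : 𝒜 →+*ᵍ ℬ) (c : A) (hc : c ∈ 𝒜 0)

/-- `B` is the localization of `A` at `c`, via `ψ` (in elementary terms). -/
structure IsLocAt : Prop where
  unit : IsUnit (ψ c)
  surj : ∀ b : B, ∃ (a : A) (k : ℕ), b * ψ c ^ k = ψ a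
  ker : ∀ a : A, ψ a = 0 → ∃ k : ℕ, c ^ k * a = 0

variable {ψ c}

theorem IsLocAt.of_isLocalization
    (h : letI := ψ.toRingHom.toAlgebra; IsLocalization.Away c B) : IsLocAt ψ c := by
  letI := ψ.toRingHom.toAlgebra
  refine ⟨?_, ?_, ?_⟩
  · exact IsLocalization.Away.algebraMap_isUnit c
  · intro b
    obtain ⟨⟨a, s, hs⟩, h'⟩ := IsLocalization.surj (Submonoid.powers c) b
    obtain ⟨k, rfl⟩ := (Submonoid.mem_powers_iff _ _).mp hs
    refine ⟨a, k, ?_⟩
    rw [← map_pow]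
    exact h'
  · intro a ha
    have h0 : algebraMap A B a = 0 := ha
    rw [IsLocalization.map_eq_zero_iff (Submonoid.powers c)] at h0
    obtain ⟨⟨_, k, rfl⟩, hk⟩ := h0
    exact ⟨k, hk⟩

include hc in
/-- The inverse of the image of `c` is of degree zero. -/
theorem IsLocAt.exists_inv (h : IsLocAt ψ c) : ∃ v ∈ ℬ 0, ψ c * v = 1 := by
  classical
  obtain ⟨u, hu⟩ := h.unit
  refine ⟨decompose ℬ (↑u⁻¹ : B) 0, SetLike.coe_mem _, ?_⟩
  have h1 : ψ c * (↑u⁻¹ : B) = 1 := by rw [← hu]; exact u.mul_inv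
  have h2 := congrArg (fun x => (decompose ℬ x 0 : B)) h1
  simp only at h2
  have hψc : ψ c ∈ ℬ 0 := ψ.map_mem hc
  rw [coe_decompose_mul_of_left_mem_zero ℬ hψc,
    decompose_of_mem_same ℬ (SetLike.GradedOne.one_mem)] at h2
  exact h2

variable (𝒜) in
/-- The element `c / 1` of the degree-zero localization. -/
noncomputable def cAway (s : A) : Away 𝒜 s := fromZeroRingHom 𝒜 _ ⟨c, hc⟩

theorem val_cAway (s : A) : (cAway 𝒜 hc s).val = Localization.mk c 1 := rfl

theorem map_cAway (s : A) :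
    Away.map ψ s (cAway 𝒜 hc s) = cAway ℬ (ψ.map_mem hc) (ψ s) :=
  congr($(ProjAux.awayMap_comp_fromZeroRingHom ψ s) ⟨c, hc⟩)

theorem isUnit_cAway (h : IsLocAt ψ c) (s : A) : IsUnit (cAway ℬ (ψ.map_mem hc) (ψ s)) := by
  obtain ⟨v, hv, hcv⟩ := h.exists_inv hc
  have : (⟨ψ c, ψ.map_mem hc⟩ : ℬ 0) * ⟨v, hv⟩ = 1 := Subtype.ext hcv
  have h2 := congrArg (fromZeroRingHom ℬ (Submonoid.powers (ψ s))) this
  rw [map_mul, map_one] at h2
  exact .of_mul_eq_one _ h2

set_option backward.isDefEq.respectTransparency false in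
/-- Homogeneous localization commutes with localization at an element of degree zero. -/
theorem IsLocAt.isLocalization_away (h : IsLocAt ψ c) {d : ℕ} (s : A) (hs : s ∈ 𝒜 d) :
    letI := (Away.map ψ s).toAlgebra
    IsLocalization.Away (cAway 𝒜 hc s) (Away ℬ (ψ s)) := by
  classical
  letI := (Away.map ψ s).toAlgebra
  have hψc : ψ c ∈ ℬ 0 := ψ.map_mem hc
  have hψs : ψ s ∈ ℬ d := ψ.map_mem hs
  refine (isLocalization_iff _ _).mpr ⟨?_, ?_, ?_⟩
  · rintro ⟨_, k, rfl⟩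
    change IsUnit (Away.map ψ s (cAway 𝒜 hc s ^ k))
    rw [map_pow, map_cAway]
    exact (isUnit_cAway hc h s).pow k
  · intro z
    obtain ⟨n, b, hb, rfl⟩ := Away.mk_surjective ℬ hψs z
    obtain ⟨a, k, hak⟩ := h.surj b
    have hbk : b * ψ c ^ k ∈ ℬ (n • d) := by
      have := SetLike.mul_mem_graded hb (SetLike.pow_mem_graded k hψc)
      simpa using this
    have ha' : ψ (decompose 𝒜 a (n • d) : A) = b * ψ c ^ k := by
      rw [GradedRingHom.map_directSumDecompose, ← hak, decompose_of_mem_same ℬ hbk]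
    refine ⟨⟨Away.mk 𝒜 hs n (decompose 𝒜 a (n • d) : A) (SetLike.coe_mem _),
      ⟨cAway 𝒜 hc s ^ k, k, rfl⟩⟩, ?_⟩
    change Away.mk ℬ hψs n b hb * Away.map ψ s (cAway 𝒜 hc s ^ k) =
      Away.map ψ s (Away.mk 𝒜 hs n (decompose 𝒜 a (n • d) : A) (SetLike.coe_mem _))
    rw [map_pow, map_cAway, Away.map_mk]
    apply val_injective
    rw [val_mul, val_pow, val_cAway, Away.val_mk, Away.val_mk, Localization.mk_pow,
      Localization.mk_mul]
    simp only [one_pow, mul_one]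
    congr 1
    exact ha'.symm
  · intro x y hxy
    have hxy' : Away.map ψ s (x - y) = 0 := by
      rw [map_sub, sub_eq_zero]; exact hxy
    obtain ⟨n, a, ha, hw⟩ := Away.mk_surjective 𝒜 hs (x - y)
    rw [← hw, Away.map_mk] at hxy'
    have hval := congrArg HomogeneousLocalization.val hxy'
    rw [Away.val_mk, HomogeneousLocalization.val_zero, Localization.mk_eq_mk',
      IsLocalization.mk'_eq_zero_iff] at hval
    obtain ⟨⟨_, j, rfl⟩, hj⟩ := hval
    have hj' : ψ (s ^ j * a) = 0 := by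
      rw [map_mul, map_pow]; exact hj
    obtain ⟨k, hk⟩ := h.ker _ hj'
    refine ⟨⟨cAway 𝒜 hc s ^ k, k, rfl⟩, ?_⟩
    change cAway 𝒜 hc s ^ k * x = cAway 𝒜 hc s ^ k * y
    rw [← sub_eq_zero, ← mul_sub, ← hw]
    apply val_injective
    rw [val_mul, val_pow, val_cAway, Away.val_mk, HomogeneousLocalization.val_zero,
      Localization.mk_pow, Localization.mk_mul, Localization.mk_eq_mk',
      IsLocalization.mk'_eq_zero_iff]
    refine ⟨⟨s ^ j, j, rfl⟩, ?_⟩
    simp only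
    rw [← hk]; ring

section geom
variable (hψ : ℬ₊ ≤ 𝒜₊.map ψ)

theorem isPullback_awayι {i : ℕ} (hi : 0 < i) (s : A) (hs : s ∈ 𝒜 i) :
    IsPullback (Spec.map (CommRingCat.ofHom (Away.map ψ s)))
      (Proj.awayι ℬ (ψ s) (ψ.map_mem hs) hi) (Proj.awayι 𝒜 s hs hi) (Proj.map ψ hψ) :=
  IsOpenImmersion.isPullback _ _ _ _ (Proj.awayι_comp_map ψ hψ hi s hs)
    (by rw [Proj.opensRange_awayι, Proj.opensRange_awayι, Proj.map_preimage_basicOpen])

include hc in
theorem IsLocAt.isOpenImmersion_specMap (h : IsLocAt ψ c) {i : ℕ} (s : A) (hs : s ∈ 𝒜 i) :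
    IsOpenImmersion (Spec.map (CommRingCat.ofHom (Away.map ψ s))) := by
  letI := (Away.map ψ s).toAlgebra
  have := h.isLocalization_away hc s hs
  exact IsOpenImmersion.of_isLocalization (cAway 𝒜 hc s)

include hc in
theorem IsLocAt.isOpenImmersion_map (h : IsLocAt ψ c) : IsOpenImmersion (Proj.map ψ hψ) := by
  refine (IsZariskiLocalAtTarget.of_openCover (P := @IsOpenImmersion)
    (Proj.affineOpenCover 𝒜).openCover) fun t => ?_
  obtain ⟨i, s⟩ := t
  have hi : 0 < (i : ℕ) := i.pos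
  have hpb := isPullback_awayι hψ hi s.1 s.2
  have hoi := h.isOpenImmersion_specMap hc s.1 s.2
  change IsOpenImmersion (pullback.snd (Proj.map ψ hψ) (Proj.awayι 𝒜 s.1 s.2 hi))
  have heq : pullback.snd (Proj.map ψ hψ) (Proj.awayι 𝒜 s.1 s.2 hi) =
      hpb.flip.isoPullback.inv ≫
        Spec.map (CommRingCat.ofHom (HomogeneousLocalization.Away.map ψ s.1)) := by
    rw [Iso.eq_inv_comp]
    exact hpb.flip.isoPullback_hom_snd
  rw [heq]
  infer_instance

include hc in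
theorem IsLocAt.range_specMap (h : IsLocAt ψ c) {i : ℕ} (s : A) (hs : s ∈ 𝒜 i) :
    Set.range (Spec.map (CommRingCat.ofHom (Away.map ψ s))) =
      {x | cAway 𝒜 hc s ∉ x.asIdeal} := by
  letI := (Away.map ψ s).toAlgebra
  have := h.isLocalization_away hc s hs
  exact PrimeSpectrum.localization_away_comap_range _ (cAway 𝒜 hc s)

theorem awayι_mem_preimage_toSpecZero {i : ℕ} (hi : 0 < i) (s : A) (hs : s ∈ 𝒜 i)
    (x : Spec (CommRingCat.of (Away 𝒜 s))) :
    Proj.awayι 𝒜 s hs hi x ∈ Proj.toSpecZero 𝒜 ⁻¹ᵁ PrimeSpectrum.basicOpen ⟨c, hc⟩ ↔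
      cAway 𝒜 hc s ∉ x.asIdeal := by
  change (Proj.awayι 𝒜 s hs hi ≫ Proj.toSpecZero 𝒜) x ∈ PrimeSpectrum.basicOpen ⟨c, hc⟩ ↔ _
  rw [Proj.awayι_toSpecZero]
  rfl

include hc in
/-- The range of `Proj.map ψ` is the locus where `c` is invertible. -/
theorem IsLocAt.range_map (h : IsLocAt ψ c) :
    Set.range (Proj.map ψ hψ) =
      (Proj.toSpecZero 𝒜 ⁻¹ᵁ PrimeSpectrum.basicOpen (⟨c, hc⟩ : 𝒜 0) : Set _) := by
  ext q
  obtain ⟨⟨i, s⟩, x, hx⟩ : ∃ t : (Proj.affineOpenCover 𝒜).I₀, ∃ x,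
      Proj.awayι 𝒜 t.2.1 t.2.2 t.1.pos x = q := ⟨_, (Proj.affineOpenCover 𝒜).covers q⟩
  have hi : 0 < (i : ℕ) := i.pos
  change Proj.awayι 𝒜 s.1 s.2 hi x = q at hx
  have hpb := isPullback_awayι hψ hi s.1 s.2
  have h1 := Scheme.image_preimage_eq_of_isPullback hpb.flip Set.univ
  rw [Set.preimage_univ, Set.image_univ, Set.image_univ, h.range_specMap hc s.1 s.2] at h1
  have h2 := awayι_mem_preimage_toSpecZero hc hi s.1 s.2 x
  rw [← hx]
  have h3 : cAway 𝒜 hc s.1 ∉ x.asIdeal ↔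
      Proj.awayι 𝒜 s.1 s.2 hi x ∈ Set.range (Proj.map ψ hψ) :=
    (Set.ext_iff.mp h1 x)
  exact h3.symm.trans h2.symm

include hc in
theorem IsLocAt.opensRange_map (h : IsLocAt ψ c) :
    haveI := h.isOpenImmersion_map hc hψ
    (Proj.map ψ hψ).opensRange =
      Proj.toSpecZero 𝒜 ⁻¹ᵁ PrimeSpectrum.basicOpen (⟨c, hc⟩ : 𝒜 0) := by
  have := h.isOpenImmersion_map hc hψ
  exact SetLike.coe_injective (h.range_map hc hψ)

end geom

end Groth.Agent.Lib.Helper3.ProjLoc
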