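import Groth.Prelude.Def_RelProj
import Groth.Agent.Lib.Helper3.ProjLoc
/-!
# Existence of the relative homogeneous spectrum
-/
universe u
open CategoryTheory CategoryTheory.Limits AlgebraicGeometry Opposite TopologicalSpace
open AlgebraicGeometry.Scheme.AffineZariskiSite
open scoped HomogeneousIdeal

namespace Groth.Agent.Lib.Helper3.RelProjExist
open RelProj Groth.Agent.Lib.Helper3

variable {Y : Scheme.{u}} (𝒮 : QCGrAlg Y)

theorem res_self (U : Y.Opens) (hU : IsAffineOpen U) :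
    𝒮.res hU hU le_rfl = GradedRingHom.id (𝒮.deg U hU) := by
  ext x
  change (𝒮.presheaf.map (𝟙 (op U))).hom x = x
  rw [𝒮.presheaf.map_id]; rfl

theorem res_comp {U V W : Y.Opens} (hU : IsAffineOpen U) (hV : IsAffineOpen V)
    (hW : IsAffineOpen W) (i : V ≤ U) (j : W ≤ V) :
    (𝒮.res hV hW j).comp (𝒮.res hU hV i) = 𝒮.res hU hW (j.trans i) := by
  ext x
  change (𝒮.presheaf.map (homOfLE i).op ≫ 𝒮.presheaf.map (homOfLE j).op).hom x = _
  rw [← 𝒮.presheaf.map_comp]; rfl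

/-- `irrelevant_le_map` for a general arrow of the affine Zariski site. -/
theorem irr {U V : Y.AffineZariskiSite} (i : U ≤ V) :
    (𝒮.deg U.1 U.2)₊ ≤ ((𝒮.deg V.1 V.2)₊).map (𝒮.res V.2 U.2 (toOpens_mono i)) := by
  obtain ⟨f, hf⟩ := i
  obtain rfl : V.basicOpen f = U := Subtype.ext hf
  exact 𝒮.irrelevant_le_map V.1 V.2 f

/-- The restriction to a basic open is a localization at a degree zero element. -/
theorem isLocAt_res (U : Y.Opens) (hU : IsAffineOpen U) (r : Γ(Y, U)) :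
    ProjLoc.IsLocAt (𝒮.res hU (hU.basicOpen r) (Y.basicOpen_le r)) ((𝒮.str.app (op U)).hom r) :=
  ProjLoc.IsLocAt.of_isLocalization (𝒮.isQC U hU r)

/-- The functor `U ↦ Proj 𝒮(U)` on the affine Zariski site. -/
noncomputable def projFunctor : Y.AffineZariskiSite ⥤ Scheme.{u} where
  obj U := Proj (𝒮.deg U.1 U.2)
  map {U V} i := Proj.map (𝒮.res V.2 U.2 (toOpens_mono i.le)) (irr 𝒮 i.le)
  map_id U := by
    rw [← Proj.map_id]
    exact ProjAux.map_congr (res_self 𝒮 U.1 U.2) _ _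
  map_comp {U V W} i j := by
    rw [← Proj.map_comp]
    exact ProjAux.map_congr (res_comp 𝒮 W.2 V.2 U.2 _ _).symm _ _

/-- The structure morphism `Proj 𝒮(U) ⟶ U`. -/
noncomputable def toU (U : Y.Opens) (hU : IsAffineOpen U) : Proj (𝒮.deg U hU) ⟶ (U : Scheme.{u}) :=
  Proj.toSpecZero (𝒮.deg U hU) ≫ Spec.map (𝒮.strZero U hU) ≫ hU.isoSpec.inv

theorem toU_ι (U : Y.Opens) (hU : IsAffineOpen U) :
    toU 𝒮 U hU ≫ U.ι =
      Proj.toSpecZero (𝒮.deg U hU) ≫ Spec.map (𝒮.strZero U hU) ≫ hU.fromSpec := by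
  simp only [toU, Category.assoc, IsAffineOpen.isoSpec_inv_ι]

theorem strZero_res {U V : Y.Opens} (hU : IsAffineOpen U) (hV : IsAffineOpen V) (i : V ≤ U) :
    𝒮.strZero U hU ≫ CommRingCat.ofHom (𝒮.res hU hV i).gradedZeroRingHom =
      Y.presheaf.map (homOfLE i).op ≫ 𝒮.strZero V hV := by
  ext r
  exact congr($(𝒮.str.naturality (homOfLE i).op) r).symm

theorem map_toU {U V : Y.Opens} (hU : IsAffineOpen U) (hV : IsAffineOpen V) (i : V ≤ U)
    (hi : (𝒮.deg V hV)₊ ≤ ((𝒮.deg U hU)₊).map (𝒮.res hU hV i)) :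
    Proj.map (𝒮.res hU hV i) hi ≫ toU 𝒮 U hU = toU 𝒮 V hV ≫ Y.homOfLE i := by
  rw [← cancel_mono U.ι]
  simp only [Category.assoc, Scheme.homOfLE_ι]
  rw [toU_ι, toU_ι, reassoc_of% ProjAux.map_toSpecZero, ← Spec.map_comp_assoc, strZero_res,
    Spec.map_comp_assoc, hU.map_fromSpec hV]

/-- The preimage of `D(r)` under the structure morphism `Proj 𝒮(U) ⟶ U`. -/
theorem toU_preimage (U : Y.Opens) (hU : IsAffineOpen U) (r : Γ(Y, U)) :
    toU 𝒮 U hU ⁻¹ᵁ (U.ι ⁻¹ᵁ Y.basicOpen r) =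
      Proj.toSpecZero (𝒮.deg U hU) ⁻¹ᵁ PrimeSpectrum.basicOpen
        (⟨(𝒮.str.app (op U)).hom r, 𝒮.str_mem U hU r⟩ : 𝒮.deg U hU 0) := by
  rw [← Scheme.Hom.comp_preimage, toU_ι, Scheme.Hom.comp_preimage, Scheme.Hom.comp_preimage,
    hU.fromSpec_preimage_basicOpen]
  rfl

theorem isOpenImmersion_map_res (U : Y.Opens) (hU : IsAffineOpen U) (r : Γ(Y, U)) :
    IsOpenImmersion (Proj.map (𝒮.res hU (hU.basicOpen r) (Y.basicOpen_le r))
      (𝒮.irrelevant_le_map U hU r)) :=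
  (isLocAt_res 𝒮 U hU r).isOpenImmersion_map (𝒮.str_mem U hU r) _

theorem isPullback_basicOpen (U : Y.Opens) (hU : IsAffineOpen U) (r : Γ(Y, U)) :
    IsPullback (Proj.map (𝒮.res hU (hU.basicOpen r) (Y.basicOpen_le r))
        (𝒮.irrelevant_le_map U hU r))
      (toU 𝒮 (Y.basicOpen r) (hU.basicOpen r)) (toU 𝒮 U hU) (Y.homOfLE (Y.basicOpen_le r)) := by
  have := isOpenImmersion_map_res 𝒮 U hU r
  refine (IsOpenImmersion.isPullback _ _ _ _ (map_toU 𝒮 hU (hU.basicOpen r) (Y.basicOpen_le r)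
    (𝒮.irrelevant_le_map U hU r)) ?_).flip
  rw [Scheme.opensRange_homOfLE, toU_preimage]
  exact ((isLocAt_res 𝒮 U hU r).opensRange_map (𝒮.str_mem U hU r) _).symm

/-- The natural transformation from `U ↦ Proj 𝒮(U)` to `U ↦ U`. -/
noncomputable def projNatTrans :
    projFunctor 𝒮 ⟶ (directedCover Y).functorOfLocallyDirected where
  app U := toU 𝒮 U.1 U.2
  naturality {U V} i := map_toU 𝒮 V.2 U.2 (toOpens_mono i.le) (irr 𝒮 i.le)

theorem equifibered : (projNatTrans 𝒮).Equifibered := by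
  intro U V i
  obtain ⟨f, hf⟩ := i.le
  obtain rfl : V.basicOpen f = U := Subtype.ext hf
  exact isPullback_basicOpen 𝒮 V.1 V.2 f

/-- The relative gluing data of the relative homogeneous spectrum. -/
noncomputable def gluingData : (directedCover Y).RelativeGluingData where
  functor := projFunctor 𝒮
  natTrans := projNatTrans 𝒮
  equifibered := equifibered 𝒮

instance : ((gluingData 𝒮).functor ⋙ Scheme.forget).IsLocallyDirected :=
  Scheme.Cover.RelativeGluingData.instIsLocallyDirectedI₀CompFunctorForgetOfIsThin ..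

/-- The relative homogeneous spectrum. -/
noncomputable def relProj : Scheme.{u} := (gluingData 𝒮).glued

/-- The structure morphism of the relative homogeneous spectrum. -/
noncomputable def relProjπ : relProj 𝒮 ⟶ Y := (gluingData 𝒮).toBase

/-- The canonical open immersion `Proj 𝒮(U) ⟶ Proj(𝒮)`. -/
noncomputable def relProjι (U : Y.Opens) (hU : IsAffineOpen U) :
    Proj (𝒮.deg U hU) ⟶ relProj 𝒮 :=
  (gluingData 𝒮).cover.f ⟨U, hU⟩

instance (U : Y.Opens) (hU : IsAffineOpen U) : IsOpenImmersion (relProjι 𝒮 U hU) :=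
  (gluingData 𝒮).cover.map_prop _

theorem opensRange_relProjι (U : Y.Opens) (hU : IsAffineOpen U) :
    (relProjι 𝒮 U hU).opensRange = relProjπ 𝒮 ⁻¹ᵁ U := by
  simpa using! ((gluingData 𝒮).toBase_preimage_eq_opensRange_ι ⟨U, hU⟩).symm

/-- The chart `p⁻¹(U) ≅ Proj 𝒮(U)`. -/
noncomputable def chart (U : Y.Opens) (hU : IsAffineOpen U) :
    ((relProjπ 𝒮 ⁻¹ᵁ U : (relProj 𝒮).Opens) : Scheme.{u}) ≅ Proj (𝒮.deg U hU) :=
  IsOpenImmersion.isoOfRangeEq (relProjπ 𝒮 ⁻¹ᵁ U).ι (relProjι 𝒮 U hU) (by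
    rw [Scheme.Opens.range_ι, ← opensRange_relProjι]; rfl)

@[reassoc]
theorem chart_hom_ι (U : Y.Opens) (hU : IsAffineOpen U) :
    (chart 𝒮 U hU).hom ≫ relProjι 𝒮 U hU = (relProjπ 𝒮 ⁻¹ᵁ U).ι :=
  IsOpenImmersion.isoOfRangeEq_hom_fac _ _ _

@[reassoc]
theorem relProjι_π (U : Y.Opens) (hU : IsAffineOpen U) :
    relProjι 𝒮 U hU ≫ relProjπ 𝒮 = toU 𝒮 U hU ≫ U.ι :=
  colimit.ι_desc _ _

theorem isRelProj : IsRelProj 𝒮 (relProjπ 𝒮) (chart 𝒮) where
  chart_over U hU := by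
    rw [← chart_hom_ι 𝒮 U hU, Category.assoc, relProjι_π, toU_ι]
  chart_res U hU r := by
    rw [← cancel_mono (relProjι 𝒮 U hU), Category.assoc, chart_hom_ι, Scheme.homOfLE_ι,
      Category.assoc]
    have hw : Proj.map (𝒮.res hU (hU.basicOpen r) (Y.basicOpen_le r))
        (𝒮.irrelevant_le_map U hU r) ≫ relProjι 𝒮 U hU =
        relProjι 𝒮 (Y.basicOpen r) (hU.basicOpen r) :=
      colimit.w (gluingData 𝒮).functor
        (homOfLE (Scheme.AffineZariskiSite.basicOpen_le (⟨U, hU⟩ : Y.AffineZariskiSite) r))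
    rw [hw, chart_hom_ι]

end Groth.Agent.Lib.Helper3.RelProjExist
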