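import Mathlib.AlgebraicGeometry.ProjectiveSpectrum.Functor
import Mathlib.AlgebraicGeometry.ProjectiveSpectrum.Proper
/-!
# Auxiliary facts on `Proj.map`
-/
universe u
open CategoryTheory CategoryTheory.Limits AlgebraicGeometry Opposite TopologicalSpace
open HomogeneousLocalization
open scoped HomogeneousIdeal

namespace Groth.Agent.Lib.Helper3.ProjAux
variable {A B σ τ : Type u} [CommRing A] [SetLike σ A] [AddSubgroupClass σ A]
  [CommRing B] [SetLike τ B] [AddSubgroupClass τ B]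
  {𝒜 : ℕ → σ} {ℬ : ℕ → τ} [GradedRing 𝒜] [GradedRing ℬ]

theorem map_congr {f g : 𝒜 →+*ᵍ ℬ} (h : f = g) (hf : ℬ₊ ≤ 𝒜₊.map f) (hg : ℬ₊ ≤ 𝒜₊.map g) :
    Proj.map f hf = Proj.map g hg := by
  subst h; rfl

theorem awayMap_comp_fromZeroRingHom (f : 𝒜 →+*ᵍ ℬ) (s : A) :
    (Away.map f s).comp (fromZeroRingHom 𝒜 _) =
      (fromZeroRingHom ℬ _).comp f.gradedZeroRingHom := by
  ext a
  simp only [RingHom.comp_apply, fromZeroRingHom, RingHom.coe_mk, MonoidHom.coe_mk,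
    OneHom.coe_mk, Away.map, HomogeneousLocalization.map_mk, val_mk]
  simp

/-- `Proj.map` is compatible with the structure morphisms to the spectra of the degree-zero
parts. -/
theorem map_toSpecZero (f : 𝒜 →+*ᵍ ℬ) (hf : ℬ₊ ≤ 𝒜₊.map f) :
    Proj.map f hf ≫ Proj.toSpecZero 𝒜 =
      Proj.toSpecZero ℬ ≫ Spec.map (CommRingCat.ofHom f.gradedZeroRingHom) := by
  refine (Proj.mapAffineOpenCover f hf).openCover.hom_ext _ _ fun s ↦ ?_
  obtain ⟨i, s⟩ := s
  have hi : 0 < (i : ℕ) := i.pos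
  change Proj.awayι ℬ (f s.1) (f.map_mem s.2) hi ≫ Proj.map f hf ≫ Proj.toSpecZero 𝒜 =
    Proj.awayι ℬ (f s.1) (f.map_mem s.2) hi ≫ Proj.toSpecZero ℬ ≫ _
  rw [Proj.awayι_comp_map_assoc f hf hi _ s.2, Proj.awayι_toSpecZero,
    Proj.awayι_toSpecZero_assoc, ← Spec.map_comp, ← Spec.map_comp]
  congr 1
  exact congrArg CommRingCat.ofHom (awayMap_comp_fromZeroRingHom f s.1)

end Groth.Agent.Lib.Helper3.ProjAux
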