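import Mathlib.AlgebraicGeometry.Sites.SmallAffineZariski
import Mathlib.AlgebraicGeometry.Normalization
/-!
# Gluing morphisms out of a scheme over `S` along the preimages of the affine opens of `S`
-/
universe u
open CategoryTheory CategoryTheory.Limits AlgebraicGeometry Opposite TopologicalSpace
open AlgebraicGeometry.Scheme.AffineZariskiSite

namespace Groth.Agent.Lib.Helper3.RelGlue
variable {S P Z : Scheme.{u}} (p : P ⟶ S)
  (g : ∀ (U : S.Opens) (hU : IsAffineOpen U), ((p ⁻¹ᵁ U : P.Opens) : Scheme.{u}) ⟶ Z)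
  (hg : ∀ (U : S.Opens) (hU : IsAffineOpen U) (r : Γ(S, U)),
    P.homOfLE (p.preimage_mono (S.basicOpen_le r)) ≫ g U hU =
      g (S.basicOpen r) (hU.basicOpen r))

include hg in
theorem compat_le {U V : S.AffineZariskiSite} (i : U ≤ V) :
    P.homOfLE (p.preimage_mono (toOpens_mono i)) ≫ g V.1 V.2 = g U.1 U.2 := by
  obtain ⟨f, hf⟩ := i
  obtain rfl : V.basicOpen f = U := Subtype.ext hf
  exact hg V.1 V.2 f

set_option backward.defeqAttrib.useBackward true in
set_option backward.isDefEq.respectTransparency false in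
include hg in
theorem glue_compat {U V : ((directedCover S).pullback₁ p).I₀} (i : U ⟶ V) :
    Scheme.Cover.trans ((directedCover S).pullback₁ p) i ≫
      ((pullbackRestrictIsoRestrict p V.1).hom ≫ g V.1 V.2) =
    (pullbackRestrictIsoRestrict p U.1).hom ≫ g U.1 U.2 := by
  have : (pullbackRestrictIsoRestrict p U.1).inv ≫
      Scheme.Cover.trans ((directedCover S).pullback₁ p) i ≫
      (pullbackRestrictIsoRestrict p V.1).hom = P.homOfLE
        (p.preimage_mono (toOpens_mono i.1.1)) := by
    rw [← cancel_mono (Scheme.Opens.ι _)]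
    simp +instances [Scheme.Cover.trans, Scheme.Cover.locallyDirectedPullbackCover]
  rw [← Iso.inv_comp_eq, reassoc_of% this]
  exact compat_le p g hg i.1.1

/-- The morphism `P ⟶ Z` glued from morphisms on the preimages of the affine opens of `S`,
compatible with restriction to basic opens. -/
noncomputable def glueOver : P ⟶ Z :=
  Scheme.OpenCover.glueMorphismsOfLocallyDirected
    ((directedCover S).pullback₁ p)
    (fun U ↦ (pullbackRestrictIsoRestrict p U.1).hom ≫ g U.1 U.2)
    (fun i ↦ glue_compat p g hg i)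

set_option backward.isDefEq.respectTransparency.types false in
set_option backward.defeqAttrib.useBackward true in
@[reassoc]
lemma ι_glueOver (U : S.Opens) (hU : IsAffineOpen U) :
    (p ⁻¹ᵁ U).ι ≫ glueOver p g hg = g U hU := by
  rw [← cancel_epi (pullbackRestrictIsoRestrict p U).hom, ← Category.assoc]
  trans ((directedCover S).pullback₁ p).f ⟨U, hU⟩ ≫ glueOver p g hg
  · congr 1; simp
  exact Scheme.OpenCover.map_glueMorphismsOfLocallyDirected _ _
    (fun i ↦ glue_compat p g hg i) ⟨U, hU⟩

/-- Morphisms out of `P` are determined by their restrictions to the preimages of the affine opens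
of the base. -/
theorem hom_ext_over {f₁ f₂ : P ⟶ Z}
    (h : ∀ (U : S.Opens) (_ : IsAffineOpen U), (p ⁻¹ᵁ U).ι ≫ f₁ = (p ⁻¹ᵁ U).ι ≫ f₂) : f₁ = f₂ := by
  refine Scheme.Cover.hom_ext (P.openCoverOfIsOpenCover _
    (.comap (iSup_affineOpens_eq_top S) p.base.1)) _ _ fun U ↦ ?_
  exact h U.1 U.2

end Groth.Agent.Lib.Helper3.RelGlue
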