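import Groth.Prelude.Def_RelProj
import Groth.Agent.Lib.Helper3.RelGlue
import Groth.Agent.Lib.Helper3.ProjAux
/-!
# Morphisms of relative homogeneous spectra induced by graded homomorphisms
-/
universe u
open CategoryTheory CategoryTheory.Limits AlgebraicGeometry Opposite TopologicalSpace
open scoped HomogeneousIdeal

namespace Groth.Agent.Lib.Helper3.RelProjMap
open RelProj Groth.Agent.Lib.Helper3

variable {Y PA PB : Scheme.{u}} {𝒜 ℬ : RelProj.QCGrAlg Y}
    (φ : 𝒜.toQCAlg ⟶ ℬ.toQCAlg) (hφ : RelProj.IsGradedHom φ)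
    (hirr : ∀ (U : Y.Opens) (hU : IsAffineOpen U),
      (ℬ.deg U hU)₊ ≤ ((𝒜.deg U hU)₊).map (RelProj.gradedHomAt φ hφ U hU))
    {pA : PA ⟶ Y} {pB : PB ⟶ Y}
    {chartA : ∀ (U : Y.Opens) (hU : IsAffineOpen U),
      (((pA ⁻¹ᵁ U : PA.Opens) : Scheme.{u}) ≅ Proj (𝒜.deg U hU))}
    {chartB : ∀ (U : Y.Opens) (hU : IsAffineOpen U),
      (((pB ⁻¹ᵁ U : PB.Opens) : Scheme.{u}) ≅ Proj (ℬ.deg U hU))}
    (hA : RelProj.IsRelProj 𝒜 pA chartA) (hB : RelProj.IsRelProj ℬ pB chartB)

/-- Naturality of a graded homomorphism with respect to restriction, as graded ring homs. -/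
theorem gradedHomAt_comp_res {U V : Y.Opens} (hU : IsAffineOpen U) (hV : IsAffineOpen V)
    (i : V ≤ U) :
    (ℬ.res hU hV i).comp (gradedHomAt φ hφ U hU) = (gradedHomAt φ hφ V hV).comp (𝒜.res hU hV i) := by
  ext x
  exact congr($(φ.hom.naturality (homOfLE i).op) x).symm

include hA in
/-- A rearrangement of `chart_res`. -/
theorem map_res_chart_inv (U : Y.Opens) (hU : IsAffineOpen U) (r : Γ(Y, U)) :
    Proj.map (𝒜.res hU (hU.basicOpen r) (Y.basicOpen_le r)) (𝒜.irrelevant_le_map U hU r) ≫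
      (chartA U hU).inv ≫ (pA ⁻¹ᵁ U).ι =
    (chartA (Y.basicOpen r) (hU.basicOpen r)).inv ≫ (pA ⁻¹ᵁ Y.basicOpen r).ι := by
  have h := hA.chart_res U hU r
  rw [← Iso.inv_comp_eq] at h
  rw [← h]
  simp

include hA hB in
theorem glue_compat (U : Y.Opens) (hU : IsAffineOpen U) (r : Γ(Y, U)) :
    PB.homOfLE (pB.preimage_mono (Y.basicOpen_le r)) ≫
      ((chartB U hU).hom ≫ Proj.map (gradedHomAt φ hφ U hU) (hirr U hU) ≫
        (chartA U hU).inv ≫ (pA ⁻¹ᵁ U).ι) =
    (chartB (Y.basicOpen r) (hU.basicOpen r)).hom ≫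
      Proj.map (gradedHomAt φ hφ _ (hU.basicOpen r)) (hirr _ (hU.basicOpen r)) ≫
        (chartA (Y.basicOpen r) (hU.basicOpen r)).inv ≫ (pA ⁻¹ᵁ Y.basicOpen r).ι := by
  rw [reassoc_of% hB.chart_res U hU r, ← map_res_chart_inv hA U hU r]
  congr 1
  simp only [← Category.assoc]
  congr 2
  rw [← Proj.map_comp, ← Proj.map_comp]
  exact ProjAux.map_congr (gradedHomAt_comp_res φ hφ hU (hU.basicOpen r) (Y.basicOpen_le r)) _ _

/-- The morphism of relative homogeneous spectra induced by a graded homomorphism. -/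
noncomputable def relProjMap : PB ⟶ PA :=
  RelGlue.glueOver pB (fun U hU => (chartB U hU).hom ≫
    Proj.map (gradedHomAt φ hφ U hU) (hirr U hU) ≫ (chartA U hU).inv ≫ (pA ⁻¹ᵁ U).ι)
    (fun U hU r => glue_compat φ hφ hirr hA hB U hU r)

theorem isRelProjMap_relProjMap :
    IsRelProjMap φ hφ hirr chartA chartB (relProjMap φ hφ hirr hA hB) := by
  intro U hU
  exact RelGlue.ι_glueOver pB _ _ U hU

omit hA hB in
theorem isRelProjMap_unique {h₁ h₂ : PB ⟶ PA} (hh₁ : IsRelProjMap φ hφ hirr chartA chartB h₁)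
    (hh₂ : IsRelProjMap φ hφ hirr chartA chartB h₂) : h₁ = h₂ :=
  RelGlue.hom_ext_over pB fun U hU => (hh₁ U hU).trans (hh₂ U hU).symm

omit hA hB in
theorem strZero_comp_gradedZero (U : Y.Opens) (hU : IsAffineOpen U) :
    𝒜.strZero U hU ≫ CommRingCat.ofHom (gradedHomAt φ hφ U hU).gradedZeroRingHom =
      ℬ.strZero U hU := by
  ext r
  have h := congr($(φ.comm).app (op U))
  exact congr($h r)

include hA hB in
/-- The induced morphism is a morphism over the base. -/
theorem comp_eq_of_isRelProjMap {h : PB ⟶ PA}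
    (hh : IsRelProjMap φ hφ hirr chartA chartB h) : h ≫ pA = pB := by
  refine RelGlue.hom_ext_over pB fun U hU => ?_
  rw [reassoc_of% hh U hU]
  rw [← hA.chart_over U hU, Iso.inv_hom_id_assoc, ← hB.chart_over U hU,
    ← strZero_comp_gradedZero φ hφ U hU, Spec.map_comp]
  rw [reassoc_of% ProjAux.map_toSpecZero (gradedHomAt φ hφ U hU) (hirr U hU)]
  simp only [Category.assoc]

include hA hB in
theorem preimage_eq_of_isRelProjMap {h : PB ⟶ PA}
    (hh : IsRelProjMap φ hφ hirr chartA chartB h) (U : Y.Opens) :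
    h ⁻¹ᵁ (pA ⁻¹ᵁ U) = pB ⁻¹ᵁ U := by
  rw [← Scheme.Hom.comp_preimage, comp_eq_of_isRelProjMap φ hφ hirr hA hB hh]

include hA hB in
/-- Over the preimage of an affine open, the induced morphism is, up to the charts, `Proj.map`. -/
theorem morphismRestrict_eq {h : PB ⟶ PA}
    (hh : IsRelProjMap φ hφ hirr chartA chartB h) (U : Y.Opens) (hU : IsAffineOpen U) :
    h ∣_ (pA ⁻¹ᵁ U) = (PB.isoOfEq (preimage_eq_of_isRelProjMap φ hφ hirr hA hB hh U)).hom ≫
      (chartB U hU).hom ≫ Proj.map (gradedHomAt φ hφ U hU) (hirr U hU) ≫ (chartA U hU).inv := by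
  rw [← cancel_mono (pA ⁻¹ᵁ U).ι, morphismRestrict_ι]
  simp only [Category.assoc]
  rw [← hh U hU, Scheme.isoOfEq_hom_ι_assoc]

include hA hB in
/-- A property of morphisms that is local on the target holds for the induced morphism of relative
homogeneous spectra as soon as it holds for the morphisms `Proj.map` over the affine opens. -/
theorem of_forall_projMap (P : MorphismProperty Scheme.{u}) [IsZariskiLocalAtTarget P]
    {h : PB ⟶ PA} (hh : IsRelProjMap φ hφ hirr chartA chartB h)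
    (H : ∀ (U : Y.Opens) (hU : IsAffineOpen U), P (Proj.map (gradedHomAt φ hφ U hU) (hirr U hU))) :
    P h := by
  refine IsZariskiLocalAtTarget.of_iSup_eq_top (P := P)
    (fun U : Y.affineOpens => pA ⁻¹ᵁ U.1) ?_ fun U => ?_
  · rw [← Scheme.Hom.preimage_iSup, iSup_affineOpens_eq_top, Scheme.Hom.preimage_top]
  · rw [morphismRestrict_eq φ hφ hirr hA hB hh U.1 U.2]
    rw [P.cancel_left_of_respectsIso, P.cancel_left_of_respectsIso, P.cancel_right_of_respectsIso]
    exact H U.1 U.2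

end Groth.Agent.Lib.Helper3.RelProjMap
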