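import Groth.Agent.Lib.Helper3.ConeMap2
import Groth.Agent.Lib.Helper3.RelProjMap
import Groth.Agent.Lib.Helper8.RelCone
/-!
# The canonical immersion of the affine cone into the projective cone
-/
universe u
open CategoryTheory CategoryTheory.Limits AlgebraicGeometry Opposite TopologicalSpace
open HomogeneousLocalization
open scoped HomogeneousIdeal

namespace Groth.Agent.Lib.Helper3.Cone
open RelProj RelSpec RelCone Groth.Agent.Lib.Helper3 Groth.Agent.Lib.Helper3.QProj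

theorem spec_hom_ext {S : Scheme.{u}} {A : QCAlg S} {Z : Scheme.{u}} (f g : A.spec ⟶ Z)
    (h : ∀ (U : S.Opens) (hU : IsAffineOpen U), A.ι U hU ≫ f = A.ι U hU ≫ g) : f = g := by
  apply colimit.hom_ext
  intro U
  exact h U.1 U.2

section Imm
variable {S PC : Scheme.{u}} {𝒮 𝒮h : QCGrAlg S} {ι : 𝒮.toQCAlg ⟶ 𝒮h.toQCAlg} {z : 𝒮h.presheaf.obj (op ⊤)}
  (h : IsPolyOver 𝒮 𝒮h ι z)
  {pC : PC ⟶ S}
  {chartC : ∀ (U : S.Opens) (hU : IsAffineOpen U), (((pC ⁻¹ᵁ U : PC.Opens) : Scheme.{u}) ≅ Proj (𝒮h.deg U hU))}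
  (hC : IsRelProj 𝒮h pC chartC)
  (i : 𝒮.toQCAlg.spec ⟶ PC) (hi : IsConeImm 𝒮 h pC chartC i)

include hC in
theorem emb_comp (U : S.Opens) (hU : IsAffineOpen U) :
    emb pC chartC U hU ≫ pC =
      Proj.toSpecZero (𝒮h.deg U hU) ≫ Spec.map (𝒮h.strZero U hU) ≫ hU.fromSpec := by
  rw [emb, Category.assoc, ← hC.chart_over U hU, Iso.inv_hom_id_assoc]

theorem str_h (U : S.Opens) (r : Γ(S, U)) :
    (𝒮h.str.app (op U)).hom r = (ι.hom.app (op U)).hom ((𝒮.str.app (op U)).hom r) :=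
  (congrArg (fun m : S.presheaf ⟶ 𝒮h.presheaf => (m.app (op U)).hom r) ι.comm).symm

theorem awayZToBase_fromZero (U : S.Opens) (hU : IsAffineOpen U) (r : Γ(S, U)) :
    h.awayZToBase U hU (fromZeroRingHom (𝒮h.deg U hU) (Submonoid.powers (restrictTop 𝒮h z U))
      ((𝒮h.strZero U hU).hom r)) = (𝒮.str.app (op U)).hom r := by
  rw [h.awayZToBase_of_val U hU _ ((𝒮h.str.app (op U)).hom r) 0, str_h, h.evalOne_ι]
  simp only [fromZeroRingHom, RingHom.coe_mk, MonoidHom.coe_mk, OneHom.coe_mk, HomogeneousLocalization.val_mk]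
  congr 1
  apply Subtype.ext
  simp

include hC hi in
/-- the cone immersion lies over the base -/
theorem coneImm_comp : i ≫ pC = 𝒮.toQCAlg.π := by
  refine spec_hom_ext _ _ fun U hU => ?_
  rw [← Category.assoc, hi U hU, 𝒮.toQCAlg.ι_π]
  simp only [Category.assoc]
  rw [emb_comp hC, Proj.awayι_toSpecZero_assoc, ← Spec.map_comp_assoc, ← Spec.map_comp_assoc]
  congr 2
  ext1
  ext r
  exact awayZToBase_fromZero h U hU r

include hi in
theorem coneImm_apply (U : S.Opens) (hU : IsAffineOpen U) (v : Spec (𝒮.presheaf.obj (op U))) :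
    i.base ((𝒮.toQCAlg.ι U hU).base v) =
      (emb pC chartC U hU).base ((Proj.awayι (𝒮h.deg U hU) (restrictTop 𝒮h z U) (h.deg_z U hU) one_pos).base
        ((Spec.map (CommRingCat.ofHom (h.awayZToBase U hU))).base v)) := by
  rw [← Scheme.Hom.comp_apply, hi U hU]
  rfl

end Imm

section Points
variable {A σ : Type u} [CommRing A] [SetLike σ A] [AddSubgroupClass σ A] {𝒜 : ℕ → σ} [GradedRing 𝒜]

/-- membership in the homogeneous prime attached to a point of a standard chart -/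
theorem mem_awayι_iff {m n : ℕ} {f g : A} (hf : f ∈ 𝒜 m) (hm : 0 < m) (hg : g ∈ 𝒜 n) (hn : 0 < n)
    (w : Spec (CommRingCat.of (Away 𝒜 f))) :
    g ∈ ((Proj.awayι 𝒜 f hf hm).base w).asHomogeneousIdeal ↔
      Away.isLocalizationElem hf hg ∈ w.asIdeal := by
  have h1 : w ∈ Proj.awayι 𝒜 f hf hm ⁻¹ᵁ Proj.basicOpen 𝒜 g ↔
      w ∈ PrimeSpectrum.basicOpen (Away.isLocalizationElem hf hg) := by
    rw [Proj.awayι_preimage_basicOpen 𝒜 hf hm hg hn]
    exact Iff.rfl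
  have h2 : w ∈ Proj.awayι 𝒜 f hf hm ⁻¹ᵁ Proj.basicOpen 𝒜 g ↔
      g ∉ ((Proj.awayι 𝒜 f hf hm).base w).asHomogeneousIdeal := Iff.rfl
  have h3 : w ∈ PrimeSpectrum.basicOpen (Away.isLocalizationElem hf hg) ↔
      Away.isLocalizationElem hf hg ∉ w.asIdeal := Iff.rfl
  rw [h2, h3] at h1
  exact not_iff_not.mp h1

theorem not_mem_awayι_self {m : ℕ} {f : A} (hf : f ∈ 𝒜 m) (hm : 0 < m) (w : Spec (CommRingCat.of (Away 𝒜 f))) :
    f ∉ ((Proj.awayι 𝒜 f hf hm).base w).asHomogeneousIdeal := by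
  have : (Proj.awayι 𝒜 f hf hm).base w ∈ (Proj.awayι 𝒜 f hf hm).opensRange := ⟨w, rfl⟩
  rw [Proj.opensRange_awayι] at this
  exact this

theorem exists_awayι_eq_of_not_mem {m : ℕ} {f : A} (hf : f ∈ 𝒜 m) (hm : 0 < m) (y : Proj 𝒜)
    (hy : f ∉ y.asHomogeneousIdeal) : ∃ w, (Proj.awayι 𝒜 f hf hm).base w = y := by
  have : y ∈ (Proj.awayι 𝒜 f hf hm).opensRange := by
    rw [Proj.opensRange_awayι]; exact hy
  exact this

end Points

section Points2
variable {A σ : Type u} [CommRing A] [SetLike σ A] [AddSubgroupClass σ A] {𝒜 : ℕ → σ} [GradedRing 𝒜]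

theorem exists_homogeneous_not_mem (I : Ideal A) {f : A} (hf : f ∈ 𝒜₊) (hfI : f ∉ I) :
    ∃ (n : ℕ) (_ : 0 < n) (a : A) (_ : a ∈ 𝒜 n), a ∉ I := by
  classical
  by_contra hcon
  push Not at hcon
  apply hfI
  rw [← DirectSum.sum_support_decompose 𝒜 f]
  refine Ideal.sum_mem _ fun i _ => ?_
  rcases Nat.eq_zero_or_pos i with rfl | hi
  · have h0 : (DirectSum.decompose 𝒜 f 0 : A) = 0 := by
      have := (HomogeneousIdeal.mem_irrelevant_iff 𝒜 f).mp hf
      simpa [GradedRing.proj_apply] using this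
    rw [h0]
    exact zero_mem _
  · exact hcon i hi _ (SetLike.coe_mem (DirectSum.decompose 𝒜 f i))

theorem mem_vertexCompl_iff {R : CommRingCat.{u}} (𝒜 : ℕ → AddSubgroup R) [GradedRing 𝒜] (v : Spec R) :
    v ∈ vertexCompl 𝒜 ↔ ∃ (n : ℕ) (_ : 0 < n) (a : R) (_ : a ∈ 𝒜 n), a ∉ v.asIdeal := by
  have h1 : v ∈ vertexCompl 𝒜 ↔ ¬ (((HomogeneousIdeal.irrelevant 𝒜).toIdeal : Set R) ⊆ v.asIdeal) := Iff.rfl
  rw [h1, Set.not_subset]
  constructor
  · rintro ⟨f, hf, hfv⟩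
    exact exists_homogeneous_not_mem v.asIdeal hf hfv
  · rintro ⟨n, hn, a, ha, hav⟩
    exact ⟨a, HomogeneousIdeal.mem_irrelevant_of_mem _ hn ha, hav⟩

end Points2

section Imm2
variable {S PC : Scheme.{u}} {𝒮 𝒮h : QCGrAlg S} {ι : 𝒮.toQCAlg ⟶ 𝒮h.toQCAlg} {z : 𝒮h.presheaf.obj (op ⊤)}
  (h : IsPolyOver 𝒮 𝒮h ι z)
  {pC : PC ⟶ S}
  {chartC : ∀ (U : S.Opens) (hU : IsAffineOpen U), (((pC ⁻¹ᵁ U : PC.Opens) : Scheme.{u}) ≅ Proj (𝒮h.deg U hU))}
  (hC : IsRelProj 𝒮h pC chartC)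
  (i : 𝒮.toQCAlg.spec ⟶ PC) (hi : IsConeImm 𝒮 h pC chartC i)
  (U : S.Opens) (hU : IsAffineOpen U)

/-- the point of `D₊(z)` attached to a point of the affine cone -/
noncomputable def ptZ (v : Spec (𝒮.presheaf.obj (op U))) : Proj (𝒮h.deg U hU) :=
  (Proj.awayι (𝒮h.deg U hU) (restrictTop 𝒮h z U) (h.deg_z U hU) one_pos).base
    ((Spec.map (CommRingCat.ofHom (h.awayZToBase U hU))).base v)

theorem z_not_mem_ptZ (v : Spec (𝒮.presheaf.obj (op U))) :
    restrictTop 𝒮h z U ∉ (ptZ h U hU v).asHomogeneousIdeal :=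
  not_mem_awayι_self _ _ _

theorem ι_mem_ptZ_iff (v : Spec (𝒮.presheaf.obj (op U))) {n : ℕ} (hn : 0 < n) (a : 𝒮.presheaf.obj (op U))
    (ha : a ∈ 𝒮.deg U hU n) :
    gradedHomAt ι h.graded U hU a ∈ (ptZ h U hU v).asHomogeneousIdeal ↔ a ∈ v.asIdeal := by
  refine (mem_awayι_iff (h.deg_z U hU) one_pos ((gradedHomAt ι h.graded U hU).map_mem ha) hn _).trans ?_
  change h.awayZToBase U hU (Away.isLocalizationElem (h.deg_z U hU) ((gradedHomAt ι h.graded U hU).map_mem ha)) ∈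
        v.asIdeal ↔ _
  have h3 : h.awayZToBase U hU
      (Away.isLocalizationElem (h.deg_z U hU) ((gradedHomAt ι h.graded U hU).map_mem ha)) = a := by
    refine (h.awayZToBase_of_val U hU
      (Away.isLocalizationElem (h.deg_z U hU) ((gradedHomAt ι h.graded U hU).map_mem ha))
      ((gradedHomAt ι h.graded U hU a) ^ 1) n (Away.val_mk _ _ _ _ _)).trans ?_
    rw [pow_one]
    exact h.evalOne_ι U hU a
  exact iff_of_eq (congrArg (fun t => t ∈ v.asIdeal) h3)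

theorem exists_ptZ_eq (y : Proj (𝒮h.deg U hU)) (hy : restrictTop 𝒮h z U ∉ y.asHomogeneousIdeal) :
    ∃ v, ptZ h U hU v = y := by
  obtain ⟨w, rfl⟩ := exists_awayι_eq_of_not_mem (h.deg_z U hU) one_pos y hy
  let e := RingEquiv.ofBijective _ (awayZToBase_bijective h U hU)
  refine ⟨(Spec.map (CommRingCat.ofHom e.symm.toRingHom)).base w, ?_⟩
  unfold ptZ
  congr 1
  rw [← Scheme.Hom.comp_apply, ← Spec.map_comp, ← CommRingCat.ofHom_comp]
  have : (e.symm.toRingHom).comp (h.awayZToBase U hU) = RingHom.id _ :=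
    RingHom.ext fun a => e.symm_apply_apply a
  rw [this, CommRingCat.ofHom_id, Spec.map_id]
  rfl

theorem ptZ_injective : Function.Injective (ptZ h U hU) := by
  intro v₁ v₂ hv
  have h1 := (Proj.awayι (𝒮h.deg U hU) (restrictTop 𝒮h z U) (h.deg_z U hU)
    one_pos).isOpenEmbedding.injective hv
  let e := RingEquiv.ofBijective _ (awayZToBase_bijective h U hU)
  have h2 := congrArg (Spec.map (CommRingCat.ofHom e.symm.toRingHom)).base h1
  rw [← Scheme.Hom.comp_apply, ← Scheme.Hom.comp_apply, ← Spec.map_comp, ← CommRingCat.ofHom_comp] at h2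
  have : (h.awayZToBase U hU).comp (e.symm.toRingHom) = RingHom.id _ :=
    RingHom.ext fun a => e.apply_symm_apply a
  rw [this, CommRingCat.ofHom_id, Spec.map_id] at h2
  exact h2

include hi in
theorem coneImm_apply' (v : Spec (𝒮.presheaf.obj (op U))) :
    i.base ((𝒮.toQCAlg.ι U hU).base v) = (emb pC chartC U hU).base (ptZ h U hU v) :=
  coneImm_apply h i hi U hU v

include hC hi in
theorem exists_ι_eq_of_coneImm_mem (c : 𝒮.toQCAlg.spec) (hc : pC.base (i.base c) ∈ U) :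
    ∃ v, (𝒮.toQCAlg.ι U hU).base v = c := by
  have h1 : 𝒮.toQCAlg.π.base c ∈ U := by
    rw [← coneImm_comp h hC i hi, Scheme.Hom.comp_apply]; exact hc
  have h2 : c ∈ (𝒮.toQCAlg.ι U hU).opensRange := by
    rw [← 𝒮.toQCAlg.π_preimage U hU]; exact h1
  exact h2

include hC hi in
theorem mem_range_coneImm_iff (y : Proj (𝒮h.deg U hU)) :
    (emb pC chartC U hU).base y ∈ Set.range i.base ↔ restrictTop 𝒮h z U ∉ y.asHomogeneousIdeal := by
  constructor
  · rintro ⟨c, hc⟩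
    have hcU : pC.base (i.base c) ∈ U := by
      rw [hc]
      have : (emb pC chartC U hU).base y ∈ Set.range (emb pC chartC U hU).base := ⟨y, rfl⟩
      rw [Idx.range_emb] at this
      exact this
    obtain ⟨v, rfl⟩ := exists_ι_eq_of_coneImm_mem h hC i hi U hU c hcU
    rw [coneImm_apply' h i hi U hU v] at hc
    have := (emb pC chartC U hU).isOpenEmbedding.injective hc
    rw [← this]
    exact z_not_mem_ptZ h U hU v
  · intro hy
    obtain ⟨v, rfl⟩ := exists_ptZ_eq h U hU y hy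
    exact ⟨_, coneImm_apply' h i hi U hU v⟩

include hC hi in
theorem coneImm_injective : Function.Injective i.base := by
  intro c₁ c₂ hc
  obtain ⟨_, ⟨U, hU, rfl⟩, hxU, -⟩ := S.isBasis_affineOpens.exists_subset_of_mem_open
    (Set.mem_univ (pC.base (i.base c₁))) isOpen_univ
  obtain ⟨v₁, rfl⟩ := exists_ι_eq_of_coneImm_mem h hC i hi U hU c₁ hxU
  obtain ⟨v₂, rfl⟩ := exists_ι_eq_of_coneImm_mem h hC i hi U hU c₂ (hc ▸ hxU)
  rw [coneImm_apply' h i hi U hU, coneImm_apply' h i hi U hU] at hc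
  have h1 := ptZ_injective h U hU ((emb pC chartC U hU).isOpenEmbedding.injective hc)
  rw [h1]

include hC in
theorem mem_pointed_iff (y : Proj (𝒮h.deg U hU)) :
    (emb pC chartC U hU).base y ∈ domQ (QGrHom.ofHom ι h.graded) pC chartC ↔
      y ∈ domOpen (gradedHomAt ι h.graded U hU) := by
  constructor
  · intro hx
    have hxU : (𝟙 S : S ⟶ S).base (pC.base ((emb pC chartC U hU).base y)) ∈ U := by
      have : (emb pC chartC U hU).base y ∈ Set.range (emb pC chartC U hU).base := ⟨y, rfl⟩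
      rw [Idx.range_emb] at this
      exact this
    obtain ⟨V', hV', hle, d, hd, f, hf, hxV⟩ := exists_awayEmb_of_mem_domQ (u := QGrHom.ofHom ι h.graded) hC U hU
      _ hx hxU
    obtain ⟨w, hw⟩ := range_awayEmb_mono (u := QGrHom.ofHom ι h.graded) hC U hU V' hV' U hU hle
      (le_id_preimage U) d hd f hf hxV
    have hw' : (emb pC chartC U hU).base ((Proj.awayι (𝒮h.deg U hU)
        ((QGrHom.ofHom ι h.graded).gradedAt U hU U hU (le_id_preimage U) f)
        (((QGrHom.ofHom ι h.graded).gradedAt U hU U hU (le_id_preimage U)).map_mem hf) hd).base w) =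
        (emb pC chartC U hU).base y := hw
    have hy := (emb pC chartC U hU).isOpenEmbedding.injective hw'
    rw [← domOpen_congr (gradedAt_ofHom_eq ι h.graded U hU (le_id_preimage U)), mem_domOpen]
    refine ⟨f, HomogeneousIdeal.mem_irrelevant_of_mem _ hd hf, ?_⟩
    rw [← hy]
    exact not_mem_awayι_self _ _ _
  · intro hy
    refine Opens.mem_iSup.mpr ⟨⟨(⟨U, hU⟩, ⟨U, hU⟩), le_refl _⟩, y, ?_, rfl⟩
    change y ∈ domOpen ((QGrHom.ofHom ι h.graded).gradedAt U hU U hU _)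
    rw [domOpen_congr (gradedAt_ofHom_eq ι h.graded U hU _)]
    exact hy

include hC hi in
theorem coneImm_mem_pointed_iff (v : Spec (𝒮.presheaf.obj (op U))) :
    i.base ((𝒮.toQCAlg.ι U hU).base v) ∈ domQ (QGrHom.ofHom ι h.graded) pC chartC ↔
      v ∈ vertexCompl (𝒮.deg U hU) := by
  rw [coneImm_apply' h i hi U hU v, mem_pointed_iff h hC U hU, mem_vertexCompl_iff]
  constructor
  · intro hy
    obtain ⟨d, hd, f, hf, hyf⟩ := Idx.exists_homogeneous_of_mem_domOpen (gradedHomAt ι h.graded U hU) _ hy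
    refine ⟨d, hd, f, hf, fun hfv => hyf ?_⟩
    exact (ι_mem_ptZ_iff h U hU v hd f hf).mpr hfv
  · rintro ⟨n, hn, a, ha, hav⟩
    rw [mem_domOpen]
    exact ⟨a, HomogeneousIdeal.mem_irrelevant_of_mem _ hn ha,
      fun hmem => hav ((ι_mem_ptZ_iff h U hU v hn a ha).mp hmem)⟩

end Imm2

section Points3
variable {A B σ τ : Type u} [CommRing A] [SetLike σ A] [AddSubgroupClass σ A]
  [CommRing B] [SetLike τ B] [AddSubgroupClass τ B]
  {𝒜 : ℕ → σ} {ℬ : ℕ → τ} [GradedRing 𝒜] [GradedRing ℬ]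

theorem map_apply_mem_iff (t : ℬ →+*ᵍ 𝒜) (hirr : 𝒜₊ ≤ ℬ₊.map t) (y₀ : Proj 𝒜) (b : B) :
    b ∈ ((Proj.map t hirr).base y₀).asHomogeneousIdeal ↔ t b ∈ y₀.asHomogeneousIdeal := Iff.rfl

/-- a point of `Proj 𝒜[z]` at which `z` vanishes comes from `Proj 𝒜` -/
theorem exists_point_of_z_mem (ι : 𝒜 →+*ᵍ ℬ) {z : B} (hz : z ∈ ℬ 1)
    (hsurj : ∀ x : B, ∃ p : Polynomial A, p.eval₂ (ι : A →+* B) z = x)
    (t : ℬ →+*ᵍ 𝒜) (htι : ∀ a, t (ι a) = a) (htz : t z = 0) (hirr : 𝒜₊ ≤ ℬ₊.map t)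
    (y : Proj ℬ) (hzy : z ∈ y.asHomogeneousIdeal) : ∃ y₀ : Proj 𝒜, (Proj.map t hirr).base y₀ = y := by
  have hnot : ¬ 𝒜₊ ≤ y.asHomogeneousIdeal.comap ι := by
    intro hle
    apply y.not_irrelevant_le
    change ℬ₊.toIdeal ≤ y.asHomogeneousIdeal.toIdeal
    exact PolyCone.irrelevant_le_of ι hz hsurj _ (fun f hf => hle hf) hzy
  let y₀ : ProjectiveSpectrum 𝒜 := ⟨y.asHomogeneousIdeal.comap ι, y.isPrime.comap ι, hnot⟩
  refine ⟨y₀, ?_⟩
  apply ProjectiveSpectrum.ext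
  apply HomogeneousIdeal.toIdeal_injective
  ext b
  change ι (t b) ∈ y.asHomogeneousIdeal ↔ b ∈ y.asHomogeneousIdeal
  obtain ⟨c, hc'⟩ := PolyCone.sub_ι_t ι (t : B →+* A) htι htz hsurj b
  have hc : b - ι (t b) = c * z := hc'
  have hcz : c * z ∈ y.asHomogeneousIdeal.toIdeal := Ideal.mul_mem_left _ _ hzy
  constructor
  · intro hb
    have : b = ι (t b) + c * z := by rw [← hc]; ring
    rw [this]
    exact Ideal.add_mem _ hb hcz
  · intro hb
    have : ι (t b) = b - c * z := by rw [← hc]; ring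
    rw [this]
    exact Ideal.sub_mem _ hb hcz

end Points3

section Imm3
variable {S PC : Scheme.{u}} {𝒮 𝒮h : QCGrAlg S} {ι : 𝒮.toQCAlg ⟶ 𝒮h.toQCAlg} {z : 𝒮h.presheaf.obj (op ⊤)}
  (h : IsPolyOver 𝒮 𝒮h ι z)
  {pC : PC ⟶ S}
  {chartC : ∀ (U : S.Opens) (hU : IsAffineOpen U), (((pC ⁻¹ᵁ U : PC.Opens) : Scheme.{u}) ≅ Proj (𝒮h.deg U hU))}
  (hC : IsRelProj 𝒮h pC chartC)
  (i : 𝒮.toQCAlg.spec ⟶ PC) (hi : IsConeImm 𝒮 h pC chartC i)

include hC hi in
theorem preimage_pointed_eq_pointedCone (W : PC.Opens) (hW : W = domQ (QGrHom.ofHom ι h.graded) pC chartC) :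
    i ⁻¹ᵁ W = pointedCone 𝒮 := by
  subst hW
  ext c
  constructor
  · intro hc
    obtain ⟨_, ⟨U, hU, rfl⟩, hxU, -⟩ := S.isBasis_affineOpens.exists_subset_of_mem_open
      (Set.mem_univ (pC.base (i.base c))) isOpen_univ
    obtain ⟨v, rfl⟩ := exists_ι_eq_of_coneImm_mem h hC i hi U hU c hxU
    have := (coneImm_mem_pointed_iff h hC i hi U hU v).mp hc
    exact Opens.mem_iSup.mpr ⟨⟨U, hU⟩, v, this, rfl⟩
  · intro hc
    obtain ⟨⟨U, hU⟩, v, hv, rfl⟩ := Opens.mem_iSup.mp hc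
    exact (coneImm_mem_pointed_iff h hC i hi U hU v).mpr hv

include hC in
/-- points at infinity lie in the pointed projective cone -/
theorem mem_pointed_of_z_mem (U : S.Opens) (hU : IsAffineOpen U) (y : Proj (𝒮h.deg U hU))
    (hzy : restrictTop 𝒮h z U ∈ y.asHomogeneousIdeal) :
    (emb pC chartC U hU).base y ∈ domQ (QGrHom.ofHom ι h.graded) pC chartC := by
  rw [mem_pointed_iff h hC U hU, mem_domOpen]
  by_contra hcon
  push Not at hcon
  apply y.not_irrelevant_le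
  change (𝒮h.deg U hU)₊.toIdeal ≤ y.asHomogeneousIdeal.toIdeal
  exact PolyCone.irrelevant_le_of (gradedHomAt ι h.graded U hU) (h.deg_z U hU) (hsurj h U hU) _ hcon hzy

variable {P : Scheme.{u}} {p : P ⟶ S}
  {chart : ∀ (U : S.Opens) (hU : IsAffineOpen U), (((p ⁻¹ᵁ U : P.Opens) : Scheme.{u}) ≅ Proj (𝒮.deg U hU))}
  (hP : IsRelProj 𝒮 p chart)
  (θ : 𝒮h.toQCAlg ⟶ 𝒮.toQCAlg) (hθ : IsGradedHom θ) (hιθ : ι ≫ θ = 𝟙 _)
  (hθz : (θ.hom.app (op ⊤)).hom z = 0)
  (hirr : ∀ (U : S.Opens) (hU : IsAffineOpen U),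
    (𝒮.deg U hU)₊ ≤ ((𝒮h.deg U hU)₊).map (gradedHomAt θ hθ U hU))
  (j : P ⟶ PC) (hj : IsRelProjMap θ hθ hirr chartC chart j)

include hj in
theorem emb_comp_j (U : S.Opens) (hU : IsAffineOpen U) :
    emb p chart U hU ≫ j = Proj.map (gradedHomAt θ hθ U hU) (hirr U hU) ≫ emb pC chartC U hU := by
  unfold emb
  rw [Category.assoc, hj U hU, Iso.inv_hom_id_assoc]

include h hC hP hιθ hθz hj in
theorem mem_range_j_iff (U : S.Opens) (hU : IsAffineOpen U) (y : Proj (𝒮h.deg U hU)) :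
    (emb pC chartC U hU).base y ∈ Set.range j.base ↔ restrictTop 𝒮h z U ∈ y.asHomogeneousIdeal := by
  constructor
  · rintro ⟨c, hc⟩
    have hcU : p.base c ∈ U := by
      rw [← RelProjMap.comp_eq_of_isRelProjMap θ hθ hirr hC hP hj, Scheme.Hom.comp_apply, hc]
      have : (emb pC chartC U hU).base y ∈ Set.range (emb pC chartC U hU).base := ⟨y, rfl⟩
      rw [Idx.range_emb] at this
      exact this
    have hc' : c ∈ Set.range (emb p chart U hU).base := by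
      rw [Idx.range_emb]; exact hcU
    obtain ⟨y₀, rfl⟩ := hc'
    rw [← Scheme.Hom.comp_apply, emb_comp_j θ hθ hirr j hj U hU, Scheme.Hom.comp_apply] at hc
    have := (emb pC chartC U hU).isOpenEmbedding.injective hc
    rw [← this, map_apply_mem_iff, θ_z θ hθ hθz U hU]
    exact zero_mem _
  · intro hzy
    obtain ⟨y₀, rfl⟩ := exists_point_of_z_mem (gradedHomAt ι h.graded U hU) (h.deg_z U hU) (hsurj h U hU)
      (gradedHomAt θ hθ U hU) (θ_ι h θ hθ hιθ U hU) (θ_z θ hθ hθz U hU) (hirr U hU) y hzy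
    refine ⟨(emb p chart U hU).base y₀, ?_⟩
    rw [← Scheme.Hom.comp_apply, emb_comp_j θ hθ hirr j hj U hU, Scheme.Hom.comp_apply]

include hC hi hP hιθ hθz hj in
/-- `i(C) = Ĉ − j(X)` -/
theorem range_coneImm_eq_compl : Set.range i.base = (Set.range j.base)ᶜ := by
  ext x
  obtain ⟨_, ⟨U, hU, rfl⟩, hxU, -⟩ := S.isBasis_affineOpens.exists_subset_of_mem_open
    (Set.mem_univ (pC.base x)) isOpen_univ
  have hx : x ∈ Set.range (emb pC chartC U hU).base := by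
    rw [Idx.range_emb]; exact hxU
  obtain ⟨y, rfl⟩ := hx
  rw [Set.mem_compl_iff, mem_range_coneImm_iff h hC i hi U hU y,
    mem_range_j_iff h hC hP θ hθ hιθ hθz hirr j hj U hU y]

end Imm3

section Points4
variable {A σ : Type u} [CommRing A] [SetLike σ A] [AddSubgroupClass σ A] {𝒜 : ℕ → σ} [GradedRing 𝒜]

theorem homogeneousIdeal_le_of (I J : HomogeneousIdeal 𝒜)
    (H : ∀ (n : ℕ) (a : A), a ∈ 𝒜 n → a ∈ I → a ∈ J) : I ≤ J := by
  classical
  intro b hb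
  change b ∈ J.toIdeal
  rw [← DirectSum.sum_support_decompose 𝒜 b]
  exact Ideal.sum_mem _ fun n _ => H n _ (SetLike.coe_mem _) (I.is_homogeneous' n hb)

/-- two points of `Proj` in `D₊(f)` with the same homogeneous elements of positive degree are equal -/
theorem proj_point_ext_of_pos (y y' : Proj 𝒜) {d : ℕ} (hd : 0 < d) {f : A} (hf : f ∈ 𝒜 d)
    (hfy : f ∉ y.asHomogeneousIdeal) (hfy' : f ∉ y'.asHomogeneousIdeal)
    (H : ∀ (n : ℕ), 0 < n → ∀ a ∈ 𝒜 n, (a ∈ y.asHomogeneousIdeal ↔ a ∈ y'.asHomogeneousIdeal)) : y = y' := by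
  have key : ∀ (n : ℕ) (a : A), a ∈ 𝒜 n → (a ∈ y.asHomogeneousIdeal ↔ a ∈ y'.asHomogeneousIdeal) := by
    intro n a ha
    have h1 : a ∈ y.asHomogeneousIdeal ↔ a * f ∈ y.asHomogeneousIdeal := by
      constructor
      · intro h; exact Ideal.mul_mem_right _ _ h
      · intro h
        rcases (y.isPrime.mem_or_mem h) with h | h
        · exact h
        · exact absurd h hfy
    have h2 : a ∈ y'.asHomogeneousIdeal ↔ a * f ∈ y'.asHomogeneousIdeal := by
      constructor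
      · intro h; exact Ideal.mul_mem_right _ _ h
      · intro h
        rcases (y'.isPrime.mem_or_mem h) with h | h
        · exact h
        · exact absurd h hfy'
    rw [h1, h2]
    exact H (n + d) (by omega) _ (SetLike.mul_mem_graded ha hf)
  apply ProjectiveSpectrum.ext
  exact le_antisymm (homogeneousIdeal_le_of _ _ fun n a ha => (key n a ha).mp)
    (homogeneousIdeal_le_of _ _ fun n a ha => (key n a ha).mpr)

end Points4

section Vertex
variable {S PC : Scheme.{u}} {𝒮 𝒮h : QCGrAlg S} {ι : 𝒮.toQCAlg ⟶ 𝒮h.toQCAlg} {z : 𝒮h.presheaf.obj (op ⊤)}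
  (h : IsPolyOver 𝒮 𝒮h ι z)
  {pC : PC ⟶ S}
  {chartC : ∀ (U : S.Opens) (hU : IsAffineOpen U), (((pC ⁻¹ᵁ U : PC.Opens) : Scheme.{u}) ≅ Proj (𝒮h.deg U hU))}
  (hC : IsRelProj 𝒮h pC chartC)
  (i : 𝒮.toQCAlg.spec ⟶ PC) (hi : IsConeImm 𝒮 h pC chartC i)

include hC hi in
/-- the pointed projective cone is the complement of the vertex -/
theorem pointed_eq_compl_vertex (h0 : StrZeroBij 𝒮) (aug : 𝒮.toQCAlg ⟶ QCAlg.unit S)
    (haug : IsAugmentation 𝒮 aug) (ε : S ⟶ 𝒮.toQCAlg.spec) (hε : IsVertex 𝒮 aug ε)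
    (W : PC.Opens) (hW : W = domQ (QGrHom.ofHom ι h.graded) pC chartC) :
    (W : Set PC) = (Set.range (ε ≫ i).base)ᶜ := by
  subst hW
  have hE := Groth.Agent.Lib.Helper8.RelCone.pointedCone_eq 𝒮 h0 aug haug ε hε
  have hpre := preimage_pointed_eq_pointedCone h hC i hi _ rfl
  ext x
  obtain ⟨_, ⟨U, hU, rfl⟩, hxU, -⟩ := S.isBasis_affineOpens.exists_subset_of_mem_open
    (Set.mem_univ (pC.base x)) isOpen_univ
  have hx : x ∈ Set.range (emb pC chartC U hU).base := by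
    rw [Idx.range_emb]; exact hxU
  obtain ⟨y, rfl⟩ := hx
  by_cases hzy : restrictTop 𝒮h z U ∈ y.asHomogeneousIdeal
  · constructor
    · rintro - ⟨y', hy'⟩
      have : (emb pC chartC U hU).base y ∈ Set.range i.base := ⟨ε.base y', by rw [← hy', Scheme.Hom.comp_apply]⟩
      exact (mem_range_coneImm_iff h hC i hi U hU y).mp this hzy
    · intro _
      exact mem_pointed_of_z_mem h hC U hU y hzy
  · obtain ⟨c, hc⟩ := (mem_range_coneImm_iff h hC i hi U hU y).mpr hzy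
    rw [← hc]
    have h1 : i.base c ∈ domQ (QGrHom.ofHom ι h.graded) pC chartC ↔ c ∈ pointedCone 𝒮 := by
      rw [← hpre]; rfl
    have h2 : c ∈ pointedCone 𝒮 ↔ c ∉ Set.range ε.base := by
      rw [← SetLike.mem_coe, hE]; rfl
    have h3 : i.base c ∈ Set.range (ε ≫ i).base ↔ c ∈ Set.range ε.base := by
      constructor
      · rintro ⟨y', hy'⟩
        rw [Scheme.Hom.comp_apply] at hy'
        exact ⟨y', coneImm_injective h hC i hi hy'⟩
      · rintro ⟨y', rfl⟩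
        exact ⟨y', Scheme.Hom.comp_apply _ _ _⟩
    rw [SetLike.mem_coe, h1, h2, Set.mem_compl_iff, h3]

end Vertex

end Groth.Agent.Lib.Helper3.Cone
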