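import Groth.Agent.Lib.Helper3.RelTwistAmpleP
import Groth.Agent.Lib.Helper3.RelTwistPull
import Groth.Agent.Lib.Helper29.QCohGen
/-!
# The canonical map `p^*E → O_{P(E)}(1)` is an epimorphism
-/
set_option autoImplicit false
set_option linter.unusedSectionVars false
universe u
open CategoryTheory CategoryTheory.Limits AlgebraicGeometry Opposite TopologicalSpace DirectSum
open AlgebraicGeometry.Scheme.AffineZariskiSite
open scoped HomogeneousIdeal
open Groth.Agent.Lib.Helper29

namespace Groth.Agent.Lib.Helper3.EpiTriv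
open Groth.Agent.Lib.Helper29.QCoh (IsTriv res germ_res germ_smul stalkMap_germ epi_iff_stalkMap_surjective
  stalkMapRange)

/-- A morphism whose image contains, locally, a trivialising section of the target is an epimorphism. -/
theorem epi_of_isTriv_app {X : Scheme.{u}} {F G : X.Modules} (φ : F ⟶ G)
    (h : ∀ x : X, ∃ (W : X.Opens) (_ : x ∈ W) (σ : Γ(F, W)), IsTriv G W (φ.app W σ)) : Epi φ := by
  rw [epi_iff_stalkMap_surjective]
  intro x t
  obtain ⟨W, hxW, σ, hσ⟩ := h x
  obtain ⟨W', hxW', m, rfl⟩ := G.presheaf.exists_germ_eq t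
  have hle : W ⊓ W' ≤ W := inf_le_left
  have hle' : W ⊓ W' ≤ W' := inf_le_right
  obtain ⟨r, hr⟩ := (hσ (W ⊓ W') hle).2 (res G hle' m)
  have hr' : r • res G hle (φ.app W σ) = res G hle' m := hr
  have hmem : G.presheaf.germ W' x hxW' m ∈ stalkMapRange φ x := by
    rw [← germ_res G hle' x ⟨hxW, hxW'⟩ m, ← hr', germ_smul, germ_res]
    refine Submodule.smul_mem _ _ ⟨F.presheaf.germ W x hxW σ, ?_⟩
    exact stalkMap_germ φ x W hxW σ
  exact hmem

end Groth.Agent.Lib.Helper3.EpiTriv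

namespace Groth.Agent.Lib.Helper3.ChartInv

section Ring
variable {A σ : Type u} [CommRing A] [SetLike σ A] [AddSubgroupClass σ A] (𝒜 : ℕ → σ) [GradedRing 𝒜]

/-- If `A` is generated by `A₀` and a set `S ⊆ A₁`, every point of `Proj A` lies in some `D₊(f)`, `f ∈ S`. -/
theorem exists_notMem_of_closure (S : Set A) (hS : ∀ s ∈ S, s ∈ 𝒜 1)
    (hgen : Subring.closure ((𝒜 0 : Set A) ∪ S) = ⊤) (y : ProjectiveSpectrum 𝒜) :
    ∃ f ∈ S, f ∉ y.asHomogeneousIdeal := by
  classical
  by_contra hcon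
  push Not at hcon
  have key : ∀ x : A, x - GradedRing.projZeroRingHom 𝒜 x ∈ y.asHomogeneousIdeal.toIdeal := by
    intro x
    have hx : x ∈ Subring.closure ((𝒜 0 : Set A) ∪ S) := by rw [hgen]; trivial
    induction hx using Subring.closure_induction with
    | mem x hx =>
      rcases hx with hx | hx
      · rw [GradedRing.projZeroRingHom_apply, decompose_of_mem_same 𝒜 hx, sub_self]
        exact zero_mem _
      · rw [GradedRing.projZeroRingHom_apply, decompose_of_mem_ne 𝒜 (hS x hx) one_ne_zero, sub_zero]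
        exact hcon x hx
    | zero => rw [map_zero, sub_zero]; exact zero_mem _
    | one => rw [map_one, sub_self]; exact zero_mem _
    | add a b _ _ ha hb =>
      rw [map_add]
      have : a + b - (GradedRing.projZeroRingHom 𝒜 a + GradedRing.projZeroRingHom 𝒜 b) =
        (a - GradedRing.projZeroRingHom 𝒜 a) + (b - GradedRing.projZeroRingHom 𝒜 b) := by ring
      rw [this]
      exact add_mem ha hb
    | neg a _ ha =>
      rw [map_neg]
      have : -a - -GradedRing.projZeroRingHom 𝒜 a = -(a - GradedRing.projZeroRingHom 𝒜 a) := by ring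
      rw [this]
      exact neg_mem ha
    | mul a b _ _ ha hb =>
      rw [map_mul]
      have : a * b - GradedRing.projZeroRingHom 𝒜 a * GradedRing.projZeroRingHom 𝒜 b =
        (a - GradedRing.projZeroRingHom 𝒜 a) * b +
          GradedRing.projZeroRingHom 𝒜 a * (b - GradedRing.projZeroRingHom 𝒜 b) := by ring
      rw [this]
      exact add_mem (Ideal.mul_mem_right _ _ ha) (Ideal.mul_mem_left _ _ hb)
  apply y.not_irrelevant_le
  rw [HomogeneousIdeal.irrelevant_le]
  intro i hi x hx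
  have := key x
  rw [GradedRing.projZeroRingHom_apply, decompose_of_mem_ne 𝒜 hx hi.ne', sub_zero] at this
  exact this

end Ring

end Groth.Agent.Lib.Helper3.ChartInv

namespace Groth.Agent.Lib.Helper3.RelGlued
open RelProj Groth.Agent.Lib.Helper3
open Groth.Agent.Lib.Helper3.RelTilde (e comap_mem range_e e_mem_R)
open Groth.Agent.Lib.Helper29.QCoh (IsTriv res)

/-- The sections algebra of the graded symmetric algebra of a quasi-coherent module is generated by degree
zero and the image of the module. -/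
theorem closure_range_of_isGrSymAlg {Y : Scheme.{u}} (E : Y.Modules) [E.IsQuasicoherent]
    (𝒮 : QCGrAlg Y) (j : E ⟶ 𝒮.toModule) (hj : IsGrSymAlg E 𝒮 j) (U : Y.Opens) (hU : IsAffineOpen U) :
    Subring.closure (((𝒮.deg U hU 0 : AddSubgroup _) : Set (𝒮.presheaf.obj (op U))) ∪
      Set.range (fun m : Γ(E, U) => ((j.app U) m : 𝒮.presheaf.obj (op U)))) = ⊤ := by
  obtain ⟨ε, h1, h2⟩ := SymQC.exists_ringEquiv_of_isSymAlg hj.1 U hU
  rw [eq_top_iff]
  rintro x -
  obtain ⟨y, rfl⟩ := ε.surjective x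
  induction y using SymmetricAlgebra.induction with
  | algebraMap r =>
    rw [h1]
    exact Subring.subset_closure (Or.inl (𝒮.str_mem U hU r))
  | ι m =>
    rw [h2]
    exact Subring.subset_closure (Or.inr ⟨m, rfl⟩)
  | mul a b ha hb => rw [map_mul]; exact mul_mem ha hb
  | add a b ha hb => rw [map_add]; exact add_mem ha hb

end Groth.Agent.Lib.Helper3.RelGlued

namespace Groth.Agent.Lib.Helper3.RelGlued
open RelProj Groth.Agent.Lib.Helper3
open Groth.Agent.Lib.Helper3.RelTilde (e comap_mem range_e e_mem_R)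
open Groth.Agent.Lib.Helper29.QCoh (IsTriv res)

variable {Y P : Scheme.{u}} {𝒮 : QCGrAlg Y} (p : P ⟶ Y)
  (chart : ∀ (U : Y.Opens) (hU : IsAffineOpen U), (((p ⁻¹ᵁ U : P.Opens) : Scheme.{u}) ≅ Proj (𝒮.deg U hU)))

/-- **The canonical map `p^*E → O_{P(E)}(1)` is an epimorphism.** -/
theorem epi_adjunct_of_isGrSymAlg (E : Y.Modules) [E.IsQuasicoherent]
    (j : E ⟶ 𝒮.toModule) (hj : IsGrSymAlg E 𝒮 j) {O1 : P.Modules}
    {lam : ∀ (U : Y.Opens) (hU : IsAffineOpen U),
      O1 ⟶ (Scheme.Modules.pushforward (emb p chart U hU)).obj (GrTwist.twist (𝒮.deg U hU) 1)}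
    (hO1 : IsRelTwist 𝒮 p chart 1 O1 lam)
    (φ : E ⟶ (Scheme.Modules.pushforward p).obj O1)
    (hφ : ∀ (U : Y.Opens) (hU : IsAffineOpen U) (m : Γ(E, U))
      (y : ↥(emb p chart U hU ⁻¹ᵁ (p ⁻¹ᵁ U))),
      GrTwist.val (V := emb p chart U hU ⁻¹ᵁ (p ⁻¹ᵁ U))
          ((lam U hU).app (p ⁻¹ᵁ U) ((φ.app U) m)) y =
        algebraMap (𝒮.presheaf.obj (op U)) (GrTwist.Loc (𝒮.deg U hU) y.1)
          ((j.app U) m : 𝒮.presheaf.obj (op U))) :
    Epi (((Scheme.Modules.pullbackPushforwardAdjunction p).homEquiv E O1).symm φ) := by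
  apply EpiTriv.epi_of_isTriv_app
  intro x
  obtain ⟨V, hV, hxV, -⟩ := exists_isAffineOpen_mem_and_subset (x := p.base x) (U := ⊤) trivial
  let V' : Y.AffineZariskiSite := ⟨V, hV⟩
  obtain ⟨y, hy⟩ := RelTilde.exists_of_mem_R p chart V' x hxV
  obtain ⟨f, ⟨m, rfl⟩, hf⟩ := ChartInv.exists_notMem_of_closure (𝒮.deg V hV) _
    (by rintro _ ⟨m, rfl⟩; exact hj.2 V hV m) (closure_range_of_isGrSymAlg E 𝒮 j hj V hV) y
  let t : 𝒮.deg V hV 1 := ⟨(j.app V) m, hj.2 V hV m⟩
  have hle : stdOpen p chart V' t ≤ p ⁻¹ᵁ V := stdOpen_le p chart V' t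
  have hxW : x ∈ stdOpen p chart V' t := by
    rw [← hy]
    exact (mem_stdOpen p chart V' t y).mpr hf
  refine ⟨stdOpen p chart V' t, hxW,
    res _ hle (QCoh.pullSect p E V m), ?_⟩
  rw [QCoh.app_res, PullTriv.adjunct_pullSect]
  obtain ⟨s', hs', hlam⟩ := exists_triv_section p chart 1 hO1 V' t 1 0 (by norm_num)
  have heq : res O1 hle (φ.app V m) = s' := by
    apply (hO1.bijective V hV _ hle).1
    refine (QCoh.app_res (lam V hV) hle (φ.app V m)).trans (Eq.trans ?_ hlam.symm)
    apply TwistTriv.tfun_ext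
    intro z
    have h1 := hφ V hV m ⟨z.1, hle z.2⟩
    refine Eq.trans (b := algebraMap (𝒮.presheaf.obj (op V)) (GrTwist.Loc (𝒮.deg V hV) z.1)
          ((j.app V) m : 𝒮.presheaf.obj (op V))) h1 ?_
    rw [TwistTriv.tfun_eSec]
    rw [← Localization.mk_one_eq_algebraMap]
    rw [Localization.mk_eq_mk_iff, Localization.r_iff_exists]
    refine ⟨1, ?_⟩
    simp only [OneMemClass.coe_one, one_mul, pow_one, pow_zero]
    rfl
  rw [heq]
  exact hs'

end Groth.Agent.Lib.Helper3.RelGlued
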