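import Groth.Agent.Lib.Helper3.SymQCAlg
/-!
# Uniqueness of the symmetric algebra; its sections over affine opens
-/
universe u
open CategoryTheory CategoryTheory.Limits AlgebraicGeometry Opposite TopologicalSpace
open RelSpec AlgebraicGeometry.Scheme.AffineZariskiSite
open Groth.Agent.Lib.Helper29.QCoh Groth.Agent.Lib.Helper3.SymAlg

namespace Groth.Agent.Lib.Helper3.SymQC

variable {S : Scheme.{u}}

theorem toModuleMap_id (A : QCAlg S) : QCAlg.Hom.toModuleMap (𝟙 A) = 𝟙 A.toModule := rfl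

theorem toModuleMap_comp {A B C : QCAlg S} (ψ : A ⟶ B) (ψ' : B ⟶ C) :
    QCAlg.Hom.toModuleMap (ψ ≫ ψ') = QCAlg.Hom.toModuleMap ψ ≫ QCAlg.Hom.toModuleMap ψ' := rfl

variable {E : S.Modules}

/-- Two symmetric algebras of the same module are canonically isomorphic. -/
theorem exists_iso_of_isSymAlg {A A' : QCAlg S} {j : E ⟶ A.toModule} {j' : E ⟶ A'.toModule}
    (hA : IsSymAlg E A j) (hA' : IsSymAlg E A' j') :
    ∃ e : A ≅ A', j ≫ QCAlg.Hom.toModuleMap e.hom = j' := by
  obtain ⟨f, hf, -⟩ := hA A' j'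
  obtain ⟨g, hg, -⟩ := hA' A j
  obtain ⟨i1, -, hu⟩ := hA A j
  obtain ⟨i2, -, hu'⟩ := hA' A' j'
  have h1 : f ≫ g = 𝟙 A := by
    have a1 := hu (f ≫ g) (by
      change j ≫ QCAlg.Hom.toModuleMap (f ≫ g) = j
      rw [toModuleMap_comp, ← Category.assoc, hf, hg])
    have a2 := hu (𝟙 A) (by
      change j ≫ QCAlg.Hom.toModuleMap (𝟙 A) = j
      rw [toModuleMap_id, Category.comp_id])
    rw [a1, a2]
  have h2 : g ≫ f = 𝟙 A' := by
    have a1 := hu' (g ≫ f) (by
      change j' ≫ QCAlg.Hom.toModuleMap (g ≫ f) = j'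
      rw [toModuleMap_comp, ← Category.assoc, hg, hf])
    have a2 := hu' (𝟙 A') (by
      change j' ≫ QCAlg.Hom.toModuleMap (𝟙 A') = j'
      rw [toModuleMap_id, Category.comp_id])
    rw [a1, a2]
  exact ⟨⟨f, g, h1, h2⟩, hf⟩

variable [E.IsQuasicoherent]

/-- Sections over an affine open of any symmetric algebra of `E`. -/
theorem exists_ringEquiv_of_isSymAlg {A : QCAlg S} {j : E ⟶ A.toModule} (hA : IsSymAlg E A j)
    (U : S.Opens) (hU : IsAffineOpen U) :
    ∃ e : SymmetricAlgebra Γ(S, U) Γ(E, U) ≃+* A.presheaf.obj (op U),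
      (∀ r, e (algebraMap _ _ r) = strB A U r) ∧
      (∀ m, e (SymmetricAlgebra.ι _ _ m) = (show A.presheaf.obj (op U) from j.app U m)) := by
  obtain ⟨e₀, he₀⟩ := exists_iso_of_isSymAlg (isSymAlg (E := E)) hA
  -- the ring equivalence on sections
  let ψ : (symAlg E).presheaf.obj (op U) →+* A.presheaf.obj (op U) := (e₀.hom.hom.app (op U)).hom
  let ψ' : A.presheaf.obj (op U) →+* (symAlg E).presheaf.obj (op U) := (e₀.inv.hom.app (op U)).hom
  have hψ1 : ∀ a, ψ' (ψ a) = a := fun a => by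
    have := congrArg (fun k : symAlg E ⟶ symAlg E => (k.hom.app (op U)).hom a) e₀.hom_inv_id
    exact this
  have hψ2 : ∀ b, ψ (ψ' b) = b := fun b => by
    have := congrArg (fun k : A ⟶ A => (k.hom.app (op U)).hom b) e₀.inv_hom_id
    exact this
  let e : SymmetricAlgebra Γ(S, U) Γ(E, U) ≃+* A.presheaf.obj (op U) :=
    RingEquiv.ofRingHom (ψ.comp (γi E U hU)) ((γh E U hU).comp ψ')
      (RingHom.ext fun x => by
        simp only [RingHom.comp_apply, RingHom.id_apply]
        rw [γi_γh, hψ2])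
      (RingHom.ext fun x => by
        simp only [RingHom.comp_apply, RingHom.id_apply]
        rw [hψ1, γh_γi])
  refine ⟨e, fun r => ?_, fun m => ?_⟩
  · change ψ (γi E U hU (algebraMap _ _ r)) = _
    rw [γi_algebraMap]
    exact congrArg (fun k => k.hom r) (NatTrans.congr_app e₀.hom.comm (op U))
  · change ψ (γi E U hU (SymmetricAlgebra.ι _ _ m)) = _
    rw [← j_app E U hU, ← he₀]
    rfl

end Groth.Agent.Lib.Helper3.SymQC
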