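import Groth.Agent.Lib.Helper3.CoprodImm
import Groth.Agent.Lib.Helper3.ProjBundleEpi
import Groth.Agent.Lib.Helper3.RelProjMap
import Groth.Agent.Lib.Helper3.ProjAux2
import Groth.Agent.Lib.Helper3.SymQCAlg2
import Groth.Agent.Lib.Helper3.ConeImm
import Groth.Agent.Lib.Helper29.QCohPullback
/-!
# `P(E) ⨿ P(F) ⟶ P(E ⊕ F)` is a closed immersion
-/
set_option autoImplicit false
set_option linter.unusedSectionVars false
universe u
open CategoryTheory CategoryTheory.Limits AlgebraicGeometry Opposite TopologicalSpace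
open scoped HomogeneousIdeal
open RelSpec RelProj

namespace Groth.Agent.Lib.Helper3.BiprodBundle

variable {Y : Scheme.{u}} {E F : Y.Modules}

/-- A homomorphism from a symmetric algebra of `M` compatible with a split epimorphism `M ⟶ E`
onto generators of a symmetric algebra of `E` is split, hence surjective on sections. -/
theorem surjective_of_split {M : Y.Modules} {A AE : QCAlg Y} {j : M ⟶ A.toModule}
    {jE : E ⟶ AE.toModule} (hjE : IsSymAlg E AE jE) (π : A ⟶ AE) (r : M ⟶ E) (s : E ⟶ M)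
    (hsr : s ≫ r = 𝟙 E) (hπ : j ≫ QCAlg.Hom.toModuleMap π = r ≫ jE) (U : Y.Opens) :
    Function.Surjective (π.hom.app (op U)).hom := by
  obtain ⟨σ, hσ, -⟩ := hjE A (s ≫ j)
  obtain ⟨i1, -, hu⟩ := hjE AE jE
  have h1 : σ ≫ π = 𝟙 AE := by
    have a1 := hu (σ ≫ π) (by
      change jE ≫ QCAlg.Hom.toModuleMap (σ ≫ π) = jE
      rw [SymQC.toModuleMap_comp, ← Category.assoc, hσ, Category.assoc, hπ, ← Category.assoc, hsr,
        Category.id_comp])
    have a2 := hu (𝟙 AE) (by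
      change jE ≫ QCAlg.Hom.toModuleMap (𝟙 AE) = jE
      rw [SymQC.toModuleMap_id, Category.comp_id])
    rw [a1, a2]
  intro x
  refine ⟨(σ.hom.app (op U)).hom x, ?_⟩
  have h2 := congrArg (fun t : AE ⟶ AE => (t.hom.app (op U)).hom x) h1
  exact h2

end Groth.Agent.Lib.Helper3.BiprodBundle

open CategoryTheory CategoryTheory.Limits AlgebraicGeometry Opposite TopologicalSpace
open scoped HomogeneousIdeal
open RelSpec RelProj

namespace Groth.Agent.Lib.Helper3.BiprodBundle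

variable {Y : Scheme.{u}} {E F : Y.Modules}

theorem comp_app_apply {M N K : Y.Modules} (f : M ⟶ N) (g : N ⟶ K) (U : Y.Opens) (x : Γ(M, U)) :
    (f ≫ g).app U x = g.app U (f.app U x) := rfl

theorem zero_app_apply {M N : Y.Modules} (U : Y.Opens) (x : Γ(M, U)) :
    (0 : M ⟶ N).app U x = 0 := rfl

theorem add_app_apply {M N : Y.Modules} (f g : M ⟶ N) (U : Y.Opens) (x : Γ(M, U)) :
    (f + g).app U x = f.app U x + g.app U x := rfl

theorem id_app_apply {M : Y.Modules} (U : Y.Opens) (x : Γ(M, U)) :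
    (𝟙 M : M ⟶ M).app U x = x := rfl

/-- every section of a biproduct is a sum of sections coming from the two summands -/
theorem biprod_section (U : Y.Opens) (x : Γ((E ⊞ F : Y.Modules), U)) :
    x = (biprod.inl : E ⟶ E ⊞ F).app U ((biprod.fst : E ⊞ F ⟶ E).app U x) +
      (biprod.inr : F ⟶ E ⊞ F).app U ((biprod.snd : E ⊞ F ⟶ F).app U x) := by
  have h := congrArg (fun t : (E ⊞ F : Y.Modules) ⟶ E ⊞ F => t.app U x) (biprod.total (X := E) (Y := F))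
  simp only [add_app_apply, comp_app_apply, id_app_apply] at h
  exact h.symm

end Groth.Agent.Lib.Helper3.BiprodBundle

open CategoryTheory CategoryTheory.Limits AlgebraicGeometry Opposite TopologicalSpace
open scoped HomogeneousIdeal
open RelSpec RelProj

namespace Groth.Agent.Lib.Helper3.BiprodBundle

section Ring
variable {A B₁ B₂ σ τ₁ τ₂ : Type u} [CommRing A] [SetLike σ A] [AddSubgroupClass σ A]
  [CommRing B₁] [SetLike τ₁ B₁] [AddSubgroupClass τ₁ B₁]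
  [CommRing B₂] [SetLike τ₂ B₂] [AddSubgroupClass τ₂ B₂]
  {𝒜 : ℕ → σ} {ℬ₁ : ℕ → τ₁} {ℬ₂ : ℕ → τ₂} [GradedRing 𝒜] [GradedRing ℬ₁] [GradedRing ℬ₂]

theorem map_ne_map (φ₁ : 𝒜 →+*ᵍ ℬ₁) (h₁ : ℬ₁₊ ≤ 𝒜₊.map φ₁) (φ₂ : 𝒜 →+*ᵍ ℬ₂) (h₂ : ℬ₂₊ ≤ 𝒜₊.map φ₂)
    (S : Set A) (hS : ∀ s ∈ S, s ∈ 𝒜 1)
    (hgen : Subring.closure ((𝒜 0 : Set A) ∪ S) = ⊤)
    (hsplit : ∀ s ∈ S, ∃ s₁ s₂ : A, s = s₁ + s₂ ∧ φ₁ s₂ = 0 ∧ φ₂ s₁ = 0)
    (a : Proj ℬ₁) (b : Proj ℬ₂) : (Proj.map φ₁ h₁).base a ≠ (Proj.map φ₂ h₂).base b := by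
  intro hab
  obtain ⟨s, hs, hsn⟩ := ChartInv.exists_notMem_of_closure 𝒜 S hS hgen ((Proj.map φ₁ h₁).base a)
  obtain ⟨s₁, s₂, rfl, e₁, e₂⟩ := hsplit s hs
  apply hsn
  refine add_mem ?_ ?_
  · rw [hab]
    refine (Cone.map_apply_mem_iff φ₂ h₂ b s₁).mpr ?_
    rw [e₂]
    exact zero_mem _
  · refine (Cone.map_apply_mem_iff φ₁ h₁ a s₂).mpr ?_
    rw [e₁]
    exact zero_mem _

end Ring

end Groth.Agent.Lib.Helper3.BiprodBundle

open CategoryTheory CategoryTheory.Limits AlgebraicGeometry Opposite TopologicalSpace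
open scoped HomogeneousIdeal
open RelSpec RelProj

namespace Groth.Agent.Lib.Helper3.BiprodBundle

theorem isQuasicoherent_biprod {S : Scheme.{u}} (E F : S.Modules) [E.IsQuasicoherent]
    [F.IsQuasicoherent] : (E ⊞ F).IsQuasicoherent := by
  have : (E ⨿ F).IsQuasicoherent := by
    apply Groth.Agent.Lib.Helper29.QCoh.isQuasicoherent_colimit_aux (pair E F)
    rintro ⟨_ | _⟩
    · exact inferInstanceAs E.IsQuasicoherent
    · exact inferInstanceAs F.IsQuasicoherent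
  exact Groth.Agent.Lib.Helper29.QCoh.isQuasicoherent_of_iso (biprod.isoCoprod E F).symm

theorem isClosedImmersion_coprod {Y PE PF P : Scheme.{u}} (E F : Y.Modules)
    (hE : Coh.IsQCoh E) (hF : Coh.IsQCoh F) (𝒮E 𝒮F 𝒮 : RelProj.QCGrAlg Y)
    (jE : E ⟶ 𝒮E.toModule) (hjE : RelProj.IsGrSymAlg E 𝒮E jE)
    (jF : F ⟶ 𝒮F.toModule) (hjF : RelProj.IsGrSymAlg F 𝒮F jF)
    (j : E ⊞ F ⟶ 𝒮.toModule) (hj : RelProj.IsGrSymAlg (E ⊞ F) 𝒮 j)
    (πE : 𝒮.toQCAlg ⟶ 𝒮E.toQCAlg) (hπE : RelProj.IsGradedHom πE)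
    (hjπE : j ≫ RelSpec.QCAlg.Hom.toModuleMap πE = biprod.fst ≫ jE)
    (πF : 𝒮.toQCAlg ⟶ 𝒮F.toQCAlg) (hπF : RelProj.IsGradedHom πF)
    (hjπF : j ≫ RelSpec.QCAlg.Hom.toModuleMap πF = biprod.snd ≫ jF)
    (hirrE : ∀ (U : Y.Opens) (hU : IsAffineOpen U),
      (𝒮E.deg U hU)₊ ≤ ((𝒮.deg U hU)₊).map (RelProj.gradedHomAt πE hπE U hU))
    (hirrF : ∀ (U : Y.Opens) (hU : IsAffineOpen U),
      (𝒮F.deg U hU)₊ ≤ ((𝒮.deg U hU)₊).map (RelProj.gradedHomAt πF hπF U hU))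
    (p : P ⟶ Y) (pE : PE ⟶ Y) (pF : PF ⟶ Y)
    (chart : ∀ (U : Y.Opens) (hU : IsAffineOpen U), ((p ⁻¹ᵁ U : P.Opens) : Scheme.{u}) ≅ Proj (𝒮.deg U hU))
    (chartE : ∀ (U : Y.Opens) (hU : IsAffineOpen U), ((pE ⁻¹ᵁ U : PE.Opens) : Scheme.{u}) ≅ Proj (𝒮E.deg U hU))
    (chartF : ∀ (U : Y.Opens) (hU : IsAffineOpen U), ((pF ⁻¹ᵁ U : PF.Opens) : Scheme.{u}) ≅ Proj (𝒮F.deg U hU))
    (hP : RelProj.IsRelProj 𝒮 p chart) (hPE : RelProj.IsRelProj 𝒮E pE chartE) (hPF : RelProj.IsRelProj 𝒮F pF chartF)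
    (hE' : PE ⟶ P) (hhE : RelProj.IsRelProjMap πE hπE hirrE chart chartE hE')
    (hF' : PF ⟶ P) (hhF : RelProj.IsRelProjMap πF hπF hirrF chart chartF hF') :
    IsClosedImmersion (coprod.desc hE' hF') := by
  have hE1 : E.IsQuasicoherent := hE
  have hF1 : F.IsQuasicoherent := hF
  have : (E ⊞ F : Y.Modules).IsQuasicoherent := isQuasicoherent_biprod E F
  have hsE : ∀ U : Y.Opens, Function.Surjective (πE.hom.app (op U)).hom := fun U =>
    surjective_of_split hjE.1 πE biprod.fst biprod.inl biprod.inl_fst hjπE U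
  have hsF : ∀ U : Y.Opens, Function.Surjective (πF.hom.app (op U)).hom := fun U =>
    surjective_of_split hjF.1 πF biprod.snd biprod.inr biprod.inr_snd hjπF U
  have : IsClosedImmersion hE' :=
    RelProjMap.of_forall_projMap πE hπE hirrE hP hPE @IsClosedImmersion hhE fun U hU =>
      ProjAux.isClosedImmersion_map _ _ (gradedHomAt πE hπE U hU) (hsE U) (hirrE U hU)
  have : IsClosedImmersion hF' :=
    RelProjMap.of_forall_projMap πF hπF hirrF hP hPF @IsClosedImmersion hhF fun U hU =>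
      ProjAux.isClosedImmersion_map _ _ (gradedHomAt πF hπF U hU) (hsF U) (hirrF U hU)
  refine CoprodImm.isClosedImmersion_coprod_desc hE' hF' ?_
  intro a b hab
  obtain ⟨U, hU, haU, -⟩ := exists_isAffineOpen_mem_and_subset (x := pE a) (U := ⊤) trivial
  have hcE := RelProjMap.comp_eq_of_isRelProjMap πE hπE hirrE hP hPE hhE
  have hcF := RelProjMap.comp_eq_of_isRelProjMap πF hπF hirrF hP hPF hhF
  have haU' : a ∈ pE ⁻¹ᵁ U := haU
  have hbU' : b ∈ pF ⁻¹ᵁ U := by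
    change pF b ∈ U
    rw [← hcF, Scheme.Hom.comp_apply, ← hab, ← Scheme.Hom.comp_apply, hcE]
    exact haU
  have eA := congrArg (fun t : (pE ⁻¹ᵁ U : Scheme.{u}) ⟶ P => t ⟨a, haU'⟩) (hhE U hU)
  have eB := congrArg (fun t : (pF ⁻¹ᵁ U : Scheme.{u}) ⟶ P => t ⟨b, hbU'⟩) (hhF U hU)
  simp only [Scheme.Hom.comp_apply] at eA eB
  have e1 : (pE ⁻¹ᵁ U).ι ⟨a, haU'⟩ = a := rfl
  have e2 : (pF ⁻¹ᵁ U).ι ⟨b, hbU'⟩ = b := rfl
  rw [e1] at eA
  rw [e2] at eB
  rw [eA, eB] at hab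
  have h3 := (p ⁻¹ᵁ U).ι.isOpenEmbedding.injective hab
  have h4 := (chart U hU).inv.isOpenEmbedding.injective h3
  refine map_ne_map (gradedHomAt πE hπE U hU) (hirrE U hU) (gradedHomAt πF hπF U hU) (hirrF U hU)
    (Set.range (fun m : Γ((E ⊞ F : Y.Modules), U) => ((j.app U) m : 𝒮.presheaf.obj (op U)))) ?_
    (RelGlued.closure_range_of_isGrSymAlg (E ⊞ F) 𝒮 j hj U hU) ?_ _ _ h4
  · rintro _ ⟨m, rfl⟩
    exact hj.2 U hU m
  · rintro _ ⟨m, rfl⟩
    refine ⟨((j.app U) ((biprod.inl : E ⟶ E ⊞ F).app U ((biprod.fst : E ⊞ F ⟶ E).app U m)) : 𝒮.presheaf.obj (op U)),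
      ((j.app U) ((biprod.inr : F ⟶ E ⊞ F).app U ((biprod.snd : E ⊞ F ⟶ F).app U m)) : 𝒮.presheaf.obj (op U)), ?_, ?_, ?_⟩
    · exact (congrArg (fun z => ((j.app U) z : 𝒮.presheaf.obj (op U))) (biprod_section U m)).trans
        (map_add (j.app U).hom _ _)
    · have h := congrArg (fun t : (E ⊞ F : Y.Modules) ⟶ 𝒮E.toModule =>
        t.app U ((biprod.inr : F ⟶ E ⊞ F).app U ((biprod.snd : E ⊞ F ⟶ F).app U m))) hjπE
      simp only [comp_app_apply] at h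
      refine h.trans ?_
      have h0 : (biprod.fst : E ⊞ F ⟶ E).app U ((biprod.inr : F ⟶ E ⊞ F).app U
          ((biprod.snd : E ⊞ F ⟶ F).app U m)) = 0 :=
        congrArg (fun t : F ⟶ E => t.app U ((biprod.snd : E ⊞ F ⟶ F).app U m))
          (biprod.inr_fst (X := E) (Y := F))
      rw [h0]
      exact map_zero (jE.app U).hom
    · have h := congrArg (fun t : (E ⊞ F : Y.Modules) ⟶ 𝒮F.toModule =>
        t.app U ((biprod.inl : E ⟶ E ⊞ F).app U ((biprod.fst : E ⊞ F ⟶ E).app U m))) hjπF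
      simp only [comp_app_apply] at h
      refine h.trans ?_
      have h0 : (biprod.snd : E ⊞ F ⟶ F).app U ((biprod.inl : E ⟶ E ⊞ F).app U
          ((biprod.fst : E ⊞ F ⟶ E).app U m)) = 0 :=
        congrArg (fun t : E ⟶ F => t.app U ((biprod.fst : E ⊞ F ⟶ E).app U m))
          (biprod.inl_snd (X := E) (Y := F))
      rw [h0]
      exact map_zero (jF.app U).hom

end Groth.Agent.Lib.Helper3.BiprodBundle
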