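import Mathlib.AlgebraicGeometry.Morphisms.ClosedImmersion
import Mathlib.AlgebraicGeometry.Limits
/-!
# The coproduct of two closed immersions with disjoint images is a closed immersion
-/
set_option autoImplicit false
universe u
open CategoryTheory CategoryTheory.Limits AlgebraicGeometry Opposite TopologicalSpace

namespace Groth.Agent.Lib.Helper3.CoprodImm

/-- The coproduct of two closed immersions with disjoint images is a closed immersion. -/
theorem isClosedImmersion_coprod_desc {X Y Z : Scheme.{u}} (f : X ⟶ Z) (g : Y ⟶ Z)
    [IsClosedImmersion f] [IsClosedImmersion g]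
    (hdisj : ∀ (x : X) (y : Y), f x ≠ g y) : IsClosedImmersion (coprod.desc f g) := by
  rw [IsClosedImmersion.eq_inf]
  refine ⟨?_, ?_⟩
  · change Topology.IsClosedEmbedding (coprod.desc f g)
    have h1 : (fun t => (coprod.desc f g) t) ∘ (coprodMk X Y) = Sum.elim (fun x => f x) (fun y => g y) := by
      funext t
      rcases t with x | y
      · simp only [Function.comp_apply, coprodMk_inl, Sum.elim_inl]
        rw [← Scheme.Hom.comp_apply, coprod.inl_desc]
      · simp only [Function.comp_apply, coprodMk_inr, Sum.elim_inr]
        rw [← Scheme.Hom.comp_apply, coprod.inr_desc]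
    have h2 : Topology.IsClosedEmbedding (Sum.elim (fun x => f x) (fun y => g y)) := by
      refine Topology.IsClosedEmbedding.sumElim f.isClosedEmbedding g.isClosedEmbedding ?_
      rintro (x | x) (y | y) h
      · exact congrArg Sum.inl (f.isClosedEmbedding.injective h)
      · exact absurd h (hdisj x y)
      · exact absurd h.symm (hdisj y x)
      · exact congrArg Sum.inr (g.isClosedEmbedding.injective h)
    have h3 : (fun t => (coprod.desc f g) t) =
        Sum.elim (fun x => f x) (fun y => g y) ∘ (coprodMk X Y).symm := by
      rw [← h1]
      funext t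
      simp
    rw [show ((coprod.desc f g : X ⨿ Y ⟶ Z) : (X ⨿ Y : Scheme.{u}) → Z) = _ from h3]
    exact h2.comp (coprodMk X Y).symm.isClosedEmbedding
  · rw [IsZariskiLocalAtSource.iff_of_openCover (P := @SurjectiveOnStalks) (coprodOpenCover.{u, 0} X Y)]
    rintro (i | i)
    · change SurjectiveOnStalks (coprod.inl ≫ coprod.desc f g)
      rw [coprod.inl_desc]
      infer_instance
    · change SurjectiveOnStalks (coprod.inr ≫ coprod.desc f g)
      rw [coprod.inr_desc]
      infer_instance

end Groth.Agent.Lib.Helper3.CoprodImm
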