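import Groth.Agent.Lib.Helper3.TwistAmpleD
import Groth.Agent.Lib.Helper3.RelTwistAmple
/-!
# Some `O_P(d)` is invertible and relatively ample on the relative Proj of a finite type graded algebra
-/
set_option autoImplicit false
set_option linter.unusedSectionVars false
universe u
open CategoryTheory CategoryTheory.Limits AlgebraicGeometry Opposite TopologicalSpace DirectSum
open AlgebraicGeometry.Scheme.AffineZariskiSite
open scoped HomogeneousIdeal
open Groth.Agent.Lib.Helper29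

namespace Groth.Agent.Lib.Helper3.RelGlued
open RelProj Groth.Agent.Lib.Helper3
open Groth.Agent.Lib.Helper3.RelTilde (e comap_mem range_e e_mem_R)

section Alg
variable {A σ : Type u} [CommRing A] [SetLike σ A] [AddSubgroupClass σ A] (𝒜 : ℕ → σ) [GradedRing 𝒜]

theorem compactSpace_proj_of_finiteType {R : Type u} [CommRing R] (φ : R →+* A)
    (hφ0 : ∀ r, φ r ∈ 𝒜 0) (hφ : φ.FiniteType) : CompactSpace (Proj 𝒜) := by
  let φ0 : R →+* 𝒜 0 :=
    { toFun := fun r => ⟨φ r, hφ0 r⟩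
      map_one' := Subtype.ext (map_one _)
      map_mul' := fun a b => Subtype.ext (map_mul _ a b)
      map_zero' := Subtype.ext (map_zero _)
      map_add' := fun a b => Subtype.ext (map_add _ a b) }
  let _ : Algebra R A := φ.toAlgebra
  let _ : Algebra R (𝒜 0) := φ0.toAlgebra
  have : IsScalarTower R (𝒜 0) A := IsScalarTower.of_algebraMap_eq fun r => rfl
  have hft : Algebra.FiniteType R A := hφ
  have hft0 : Algebra.FiniteType (𝒜 0) A := Algebra.FiniteType.of_restrictScalars_finiteType R (𝒜 0) A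
  have hqc : QuasiCompact (Proj.toSpecZero 𝒜) := inferInstance
  exact QuasiCompact.compactSpace_of_compactSpace (Proj.toSpecZero 𝒜)

end Alg

variable {Y P : Scheme.{u}} {𝒮 : QCGrAlg Y} (p : P ⟶ Y)
  (chart : ∀ (U : Y.Opens) (hU : IsAffineOpen U), (((p ⁻¹ᵁ U : P.Opens) : Scheme.{u}) ≅ Proj (𝒮.deg U hU)))
  (hP : IsRelProj 𝒮 p chart)

theorem compactSpace_chart_of_ft
    (hft : ∀ (U : Y.Opens) (_ : IsAffineOpen U), (𝒮.str.app (op U)).hom.FiniteType)
    (V : Y.AffineZariskiSite) : CompactSpace (Proj (𝒮.deg V.1 V.2)) :=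
  compactSpace_proj_of_finiteType (𝒮.deg V.1 V.2) (𝒮.str.app (op V.1)).hom (𝒮.str_mem V.1 V.2)
    (hft V.1 V.2)

include chart in
theorem quasiCompact_of_ft
    (hft : ∀ (U : Y.Opens) (_ : IsAffineOpen U), (𝒮.str.app (op U)).hom.FiniteType) :
    QuasiCompact p := by
  rw [quasiCompact_iff_forall_isAffineOpen]
  intro U hU
  have := compactSpace_chart_of_ft hft ⟨U, hU⟩
  rw [← range_e p chart ⟨U, hU⟩]
  exact isCompact_range (e p chart ⟨U, hU⟩).continuous

/-- ampleness of `O_P(d)` over one chart with period `d` -/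
theorem isAmple_restrict_of_period (V : Y.AffineZariskiSite) {d : ℕ} (hd : 0 < d)
    (hcov : ∀ y : Proj (𝒮.deg V.1 V.2), ∃ g : 𝒮.deg V.1 V.2 d, y ∈ Proj.basicOpen (𝒮.deg V.1 V.2) g.1)
    [CompactSpace (Proj (𝒮.deg V.1 V.2))] {L : P.Modules}
    {lam : ∀ (U : Y.Opens) (hU : IsAffineOpen U),
      L ⟶ (Scheme.Modules.pushforward (emb p chart U hU)).obj (GrTwist.twist (𝒮.deg U hU) (d : ℤ))}
    (hL : IsRelTwist 𝒮 p chart (d : ℤ) L lam) : CohB1.IsAmple (L.restrict (p ⁻¹ᵁ V.1).ι) := by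
  have hA : CohB1.IsAmple (GrTwist.twist (𝒮.deg V.1 V.2) (d : ℤ)) :=
    TwistAmple.isAmple_twist_of_period (𝒮.deg V.1 V.2) hd hcov
  have hiso := ChartQC.isIso_adjunct (e p chart V) L _ (lam V.1 V.2) (fun W hW =>
    hL.bijective V.1 V.2 W (by rw [opensRange_e] at hW; exact hW))
  have hA2 : CohB1.IsAmple (L.restrict (e p chart V)) :=
    QCoh.isAmple_of_iso (asIso (((Scheme.Modules.restrictAdjunction (e p chart V)).homEquiv L
      _).symm (lam V.1 V.2))).symm hA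
  exact (QCoh.isAmple_restrict_iff_of_opensRange_eq (e p chart V) L (opensRange_e p chart V)).mp hA2

include hP in
/-- For a quasi-coherent graded algebra of finite type over a quasi-compact base, some `O_P(d)`, `d > 0`, is
invertible and relatively ample. -/
theorem exists_relAmple_twist [CompactSpace Y]
    (hft : ∀ (U : Y.Opens) (_ : IsAffineOpen U), (𝒮.str.app (op U)).hom.FiniteType) :
    ∃ d : ℕ, 0 < d ∧ ∀ (L : P.Modules)
      (lam : ∀ (U : Y.Opens) (hU : IsAffineOpen U),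
        L ⟶ (Scheme.Modules.pushforward (emb p chart U hU)).obj (GrTwist.twist (𝒮.deg U hU) (d : ℤ))),
      IsRelTwist 𝒮 p chart (d : ℤ) L lam → PicF.IsInvertible L ∧ RelAmple.IsRelAmple p L := by
  classical
  have hcs : ∀ V : Y.affineOpens, CompactSpace (Proj (𝒮.deg V.1 V.2)) :=
    fun V => compactSpace_chart_of_ft hft ⟨V.1, V.2⟩
  have hper : ∀ V : Y.affineOpens, ∃ d : ℕ, 0 < d ∧
      ∀ y : Proj (𝒮.deg V.1 V.2), ∃ g : 𝒮.deg V.1 V.2 d, y ∈ Proj.basicOpen (𝒮.deg V.1 V.2) g.1 := by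
    intro V
    have := hcs V
    obtain ⟨d, hd, h⟩ := TwistTriv.exists_period_of_isCompact (𝒮.deg V.1 V.2) ⊤ isCompact_univ
    exact ⟨d, hd, fun y => h y trivial⟩
  choose dV hdV hcovV using hper
  obtain ⟨t, ht⟩ := isCompact_univ.elim_finite_subcover
    (fun U : Y.affineOpens => ((U : Y.Opens) : Set Y)) (fun U => U.1.2)
    (by
      intro x _
      obtain ⟨U, hU, hx, -⟩ := exists_isAffineOpen_mem_and_subset (x := x) (U := ⊤) trivial
      exact Set.mem_iUnion.2 ⟨⟨U, hU⟩, hx⟩)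
  have hdpos : 0 < ∏ V ∈ t, dV V := Finset.prod_pos fun V _ => hdV V
  -- the product is a period of every chart of the finite cover
  have hcov : ∀ V ∈ t, ∀ y : Proj (𝒮.deg V.1 V.2),
      ∃ g : 𝒮.deg V.1 V.2 (∏ V ∈ t, dV V), y ∈ Proj.basicOpen (𝒮.deg V.1 V.2) g.1 := by
    intro V hVt
    obtain ⟨k, hk⟩ := Finset.dvd_prod_of_mem dV hVt
    have hkpos : 0 < k := by
      rcases Nat.eq_zero_or_pos k with h0 | h0
      · exfalso
        rw [hk, h0, mul_zero] at hdpos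
        exact lt_irrefl _ hdpos
      · exact h0
    rw [hk]
    exact TwistAmple.period_mul (𝒮.deg V.1 V.2) (hcovV V) k hkpos
  refine ⟨∏ V ∈ t, dV V, hdpos, fun L lam hL => ?_⟩
  have hqc : QuasiCompact p := quasiCompact_of_ft p chart hft
  have hinv : PicF.IsInvertible L := by
    refine QCoh.isInvertible_of_isTriv' fun x => ?_
    have hxu := ht (Set.mem_univ (p.base x))
    simp only [Set.mem_iUnion] at hxu
    obtain ⟨V, hVt, hxV⟩ := hxu
    obtain ⟨y, hy⟩ := RelTilde.exists_of_mem_R p chart ⟨V.1, V.2⟩ x hxV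
    obtain ⟨g, hg⟩ := hcov V hVt y
    obtain ⟨s, hs, -⟩ := exists_triv_section p chart _ hL ⟨V.1, V.2⟩ g 1 0 (TwistAmple.hD _)
    refine ⟨stdOpen p chart ⟨V.1, V.2⟩ g, s, ?_, hs⟩
    rw [← hy]
    exact (mem_stdOpen p chart ⟨V.1, V.2⟩ g y).mpr hg
  refine ⟨hinv, hqc, fun W => ?_⟩
  have hc : ∀ W' : Y.Opens, IsAffineOpen W' → IsCompact ((p ⁻¹ᵁ W' : P.Opens) : Set P) :=
    fun W' hW' => QuasiCompact.isCompact_preimage (f := p) _ W'.2 hW'.isCompact
  have key : ∀ y : W.1, ∃ r : Γ(Y, W.1), (y : Y) ∈ Y.basicOpen r ∧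
      CohB1.IsAmple (L.restrict (p ⁻¹ᵁ (Y.basicOpen r)).ι) := by
    rintro ⟨y, hy⟩
    have hxu := ht (Set.mem_univ y)
    simp only [Set.mem_iUnion] at hxu
    obtain ⟨V, hVt, hyV⟩ := hxu
    obtain ⟨r, hr, hyr⟩ := W.2.exists_basicOpen_le (V := V.1) ⟨y, hyV⟩ hy
    refine ⟨r, hyr, ?_⟩
    have := hcs V
    refine QCoh.isAmple_restrict_mono (U := p ⁻¹ᵁ V.1) (p.preimage_mono hr)
      (hc _ (W.2.basicOpen r)) ?_
    exact isAmple_restrict_of_period p chart ⟨V.1, V.2⟩ hdpos (hcov V hVt) hL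
  choose r hr1 hr2 using key
  exact QCoh.isAmple_restrict_preimage_of_basicOpen_cover p hinv W.1 (hc W.1 W.2) r
    (fun y hy => ⟨⟨y, hy⟩, hr1 ⟨y, hy⟩⟩) hr2

end Groth.Agent.Lib.Helper3.RelGlued
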