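import Groth.Agent.Lib.Helper3.TwistAmpleR
import Groth.Agent.Lib.Helper3.SymQCAlg2
import Groth.Agent.Lib.Helper3.RelTwistAmpleD
/-!
# Pullback of `O_P(1)` along an embedding into a projective bundle is relatively ample
-/
set_option autoImplicit false
set_option linter.unusedSectionVars false
universe u
open CategoryTheory CategoryTheory.Limits AlgebraicGeometry Opposite TopologicalSpace DirectSum
open AlgebraicGeometry.Scheme.AffineZariskiSite
open scoped HomogeneousIdeal
open Groth.Agent.Lib.Helper29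

namespace Groth.Agent.Lib.Helper3.RelGlued
open RelProj Groth.Agent.Lib.Helper3
open Groth.Agent.Lib.Helper3.RelTilde (e comap_mem range_e e_mem_R)

/-- The graded symmetric algebra of a quasi-coherent module is generated in degree one. -/
theorem isGenDegOne_of_isGrSymAlg {Y : Scheme.{u}} (E : Y.Modules) [E.IsQuasicoherent]
    (𝒮 : QCGrAlg Y) (j : E ⟶ 𝒮.toModule) (hj : IsGrSymAlg E 𝒮 j) : 𝒮.IsGenDegOne := by
  intro U hU
  obtain ⟨ε, h1, h2⟩ := SymQC.exists_ringEquiv_of_isSymAlg hj.1 U hU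
  rw [eq_top_iff]
  rintro x -
  obtain ⟨y, rfl⟩ := ε.surjective x
  induction y using SymmetricAlgebra.induction with
  | algebraMap r =>
    rw [h1]
    exact Subring.subset_closure (Or.inl (𝒮.str_mem U hU r))
  | ι m =>
    rw [h2]
    exact Subring.subset_closure (Or.inr (hj.2 U hU m))
  | mul a b ha hb => rw [map_mul]; exact mul_mem ha hb
  | add a b ha hb => rw [map_add]; exact add_mem ha hb

variable {Y P : Scheme.{u}} {𝒮 : QCGrAlg Y} (p : P ⟶ Y)
  (chart : ∀ (U : Y.Opens) (hU : IsAffineOpen U), (((p ⁻¹ᵁ U : P.Opens) : Scheme.{u}) ≅ Proj (𝒮.deg U hU)))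

/-- `O_P(1)` restricted to a finite union of standard opens `D_+(t)`, `t` of degree one, over one chart
is ample. -/
theorem isAmple_restrict_iSup_stdOpen (V : Y.AffineZariskiSite)
    (T : Finset (𝒮.deg V.1 V.2 1)) {L : P.Modules}
    {lam : ∀ (U : Y.Opens) (hU : IsAffineOpen U),
      L ⟶ (Scheme.Modules.pushforward (emb p chart U hU)).obj (GrTwist.twist (𝒮.deg U hU) 1)}
    (hL : IsRelTwist 𝒮 p chart 1 L lam) :
    CohB1.IsAmple (L.restrict (⨆ t ∈ T, stdOpen p chart V t : P.Opens).ι) := by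
  set W₀ : P.Opens := ⨆ t ∈ T, stdOpen p chart V t with hW₀
  have hW₀le : W₀ ≤ (e p chart V).opensRange := by
    rw [hW₀]
    exact iSup₂_le fun t _ => stdOpen_le_range p chart V t
  set W : (Proj (𝒮.deg V.1 V.2)).Opens := e p chart V ⁻¹ᵁ W₀ with hW
  have hmemW : ∀ y : Proj (𝒮.deg V.1 V.2), y ∈ W ↔ ∃ t ∈ T, y ∈ Proj.basicOpen (𝒮.deg V.1 V.2) t.1 := by
    intro y
    change (e p chart V).base y ∈ W₀ ↔ _
    rw [hW₀]
    simp only [Opens.mem_iSup]
    constructor
    · rintro ⟨t, ht, h⟩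
      exact ⟨t, ht, (mem_stdOpen p chart V t y).mp h⟩
    · rintro ⟨t, ht, h⟩
      exact ⟨t, ht, (mem_stdOpen p chart V t y).mpr h⟩
  have hWc : IsCompact (W : Set (Proj (𝒮.deg V.1 V.2))) := by
    have : (W : Set (Proj (𝒮.deg V.1 V.2))) =
        ⋃ t ∈ T, ((Proj.basicOpen (𝒮.deg V.1 V.2) t.1 : (Proj (𝒮.deg V.1 V.2)).Opens) : Set _) := by
      ext y
      simp only [Set.mem_iUnion]
      constructor
      · intro h
        obtain ⟨t, ht, h'⟩ := (hmemW y).mp h
        exact ⟨t, ht, h'⟩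
      · rintro ⟨t, ht, h'⟩
        exact (hmemW y).mpr ⟨t, ht, h'⟩
    rw [this]
    exact T.isCompact_biUnion fun t _ =>
      (Proj.isAffineOpen_basicOpen (𝒮.deg V.1 V.2) t.1 t.2 Nat.one_pos).isCompact
  have hA : CohB1.IsAmple ((GrTwist.twist (𝒮.deg V.1 V.2) ((1 : ℕ) : ℤ)).restrict W.ι) := by
    refine TwistAmple.isAmple_twist_restrict_of_period (𝒮.deg V.1 V.2) W hWc Nat.one_pos ?_
    intro y hy
    obtain ⟨t, ht, h'⟩ := (hmemW y).mp hy
    exact ⟨t, h', fun z hz => (hmemW z).mpr ⟨t, ht, hz⟩⟩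
  have hiso := ChartQC.isIso_adjunct (e p chart V) L _ (lam V.1 V.2) (fun W' hW' =>
    hL.bijective V.1 V.2 W' (by rw [opensRange_e] at hW'; exact hW'))
  let α : L.restrict (e p chart V) ≅ GrTwist.twist (𝒮.deg V.1 V.2) 1 :=
    asIso (((Scheme.Modules.restrictAdjunction (e p chart V)).homEquiv L _).symm (lam V.1 V.2))
  have hA2 : CohB1.IsAmple ((L.restrict (e p chart V)).restrict W.ι) :=
    QCoh.isAmple_of_iso ((Scheme.Modules.restrictFunctor W.ι).mapIso α).symm hA
  have hA3 : CohB1.IsAmple (L.restrict (W.ι ≫ e p chart V)) :=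
    (QCoh.isAmple_restrict_restrict_iff W.ι (e p chart V) L).mp hA2
  refine (QCoh.isAmple_restrict_iff_of_opensRange_eq (W.ι ≫ e p chart V) L ?_).mp hA3
  rw [Scheme.Hom.opensRange_comp, Scheme.Opens.opensRange_ι, hW,
    Scheme.Hom.image_preimage_eq_opensRange_inf]
  exact inf_eq_right.mpr hW₀le

/-- **The pullback of `O_P(1)` along a `Y`-morphism `g : X → P` which is a topological embedding is
relatively ample**, when the algebra is generated in degree one. -/
theorem isRelAmple_pullback_relTwist_one (hgen : 𝒮.IsGenDegOne) {X : Scheme.{u}} (f : X ⟶ Y)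
    [QuasiCompact f] {L : P.Modules}
    {lam : ∀ (U : Y.Opens) (hU : IsAffineOpen U),
      L ⟶ (Scheme.Modules.pushforward (emb p chart U hU)).obj (GrTwist.twist (𝒮.deg U hU) 1)}
    (hL : IsRelTwist 𝒮 p chart 1 L lam) (g : X ⟶ P) (hg : g ≫ p = f)
    (hemb : Topology.IsEmbedding g.base) :
    RelAmple.IsRelAmple f ((Scheme.Modules.pullback g).obj L) := by
  classical
  refine ⟨inferInstance, fun V => ?_⟩
  have hc : IsCompact ((f ⁻¹ᵁ V.1 : X.Opens) : Set X) :=
    QuasiCompact.isCompact_preimage (f := f) _ V.1.2 V.2.isCompact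
  let V' : Y.AffineZariskiSite := ⟨V.1, V.2⟩
  -- cover by preimages of standard opens
  obtain ⟨T, hT⟩ := hc.elim_finite_subcover
    (fun t : 𝒮.deg V.1 V.2 1 => ((g ⁻¹ᵁ stdOpen p chart V' t : X.Opens) : Set X))
    (fun t => (g ⁻¹ᵁ stdOpen p chart V' t).2)
    (by
      intro x hx
      have hx' : g.base x ∈ p ⁻¹ᵁ V.1 := by
        change p.base (g.base x) ∈ V.1
        have : p.base (g.base x) = f.base x := by
          rw [← hg]; rfl
        rw [this]; exact hx
      obtain ⟨y, hy⟩ := RelTilde.exists_of_mem_R p chart V' (g.base x) hx'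
      obtain ⟨t, ht⟩ := ChartInv.exists_deg_one_notMem (𝒮.deg V.1 V.2) (hgen V.1 V.2) y
      refine Set.mem_iUnion.2 ⟨t, ?_⟩
      change g.base x ∈ stdOpen p chart V' t
      rw [← hy]
      exact (mem_stdOpen p chart V' t y).mpr ht)
  have hA := isAmple_restrict_iSup_stdOpen p chart V' T hL
  have heq : g ⁻¹ᵁ (⨆ t ∈ T, stdOpen p chart V' t : P.Opens) = f ⁻¹ᵁ V.1 := by
    apply le_antisymm
    · intro x hx
      have hx1 : g.base x ∈ (⨆ t ∈ T, stdOpen p chart V' t : P.Opens) := hx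
      simp only [Opens.mem_iSup] at hx1
      obtain ⟨t, -, h⟩ := hx1
      have h2 : p.base (g.base x) ∈ V.1 := stdOpen_le p chart V' t h
      have : p.base (g.base x) = f.base x := by
        rw [← hg]; rfl
      rw [this] at h2
      exact h2
    · intro x hx
      have := hT hx
      simp only [Set.mem_iUnion] at this
      obtain ⟨t, ht, h⟩ := this
      change g.base x ∈ (⨆ t ∈ T, stdOpen p chart V' t : P.Opens)
      simp only [Opens.mem_iSup]
      exact ⟨t, ht, h⟩
  have hc' : IsCompact ((g ⁻¹ᵁ (⨆ t ∈ T, stdOpen p chart V' t : P.Opens) : X.Opens) : Set X) := by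
    rw [heq]; exact hc
  have hB := QCoh.isAmple_restrict_pullback_of_isEmbedding g hemb _ hc' hA
  rw [heq] at hB
  exact hB

end Groth.Agent.Lib.Helper3.RelGlued
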