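import Groth.Agent.Lib.Helper3.GrSymLift
import Groth.Agent.Lib.Helper3.RelProjExist
import Groth.Agent.Lib.Helper3.RelTwistPull
import Groth.Agent.Lib.Helper3.RelTwistAmpleP
/-!
# An immersion into `Proj(𝒮)` with `𝒮` generated in degree one gives a very ample module (via `P(𝒮)`)
-/
set_option autoImplicit false
set_option linter.unusedSectionVars false
universe u
open CategoryTheory CategoryTheory.Limits AlgebraicGeometry Opposite TopologicalSpace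
open RelSpec AlgebraicGeometry.Scheme.AffineZariskiSite
open scoped HomogeneousIdeal

namespace Groth.Agent.Lib.Helper3.ProjBundle
open Groth.Agent.Lib.Helper3 Groth.Agent.Lib.Helper3.SymQC
open RelProj

variable {X Y P : Scheme.{u}}

/-- **An immersion into `Proj(𝒮)`, `𝒮` generated in degree one, exhibits `i^*O(1)` as very ample.** -/
theorem isRelVeryAmple_of_immersion_relProj (q : X ⟶ Y) (L : X.Modules)
    (𝒮 : QCGrAlg Y) (h𝒮 : 𝒮.IsGenDegOne) (p : P ⟶ Y)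
    (chart : ∀ (U : Y.Opens) (hU : IsAffineOpen U), ((p ⁻¹ᵁ U : P.Opens) : Scheme.{u}) ≅ Proj (𝒮.deg U hU))
    (hP : IsRelProj 𝒮 p chart) (O1 : P.Modules)
    (lam : ∀ (U : Y.Opens) (hU : IsAffineOpen U),
      O1 ⟶ (Scheme.Modules.pushforward (emb p chart U hU)).obj (GrTwist.twist (𝒮.deg U hU) 1))
    (hO1 : IsRelTwist 𝒮 p chart 1 O1 lam) (i : X ⟶ P) [IsImmersion i] (hi : i ≫ p = q)
    (e : L ≅ (Scheme.Modules.pullback i).obj O1) : IsRelVeryAmple q L := by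
  classical
  have hu1 := projOne_mem 𝒮
  have hψ : IsGradedHom (𝒜 := grSymAlg 𝒮.toModule) (ℬ := 𝒮) (liftHom 𝒮.toQCAlg (projOne 𝒮)) :=
    isGradedHom_liftHom 𝒮 (projOne 𝒮) hu1
  have hju : SymQC.j 𝒮.toModule ≫ QCAlg.Hom.toModuleMap (liftHom 𝒮.toQCAlg (projOne 𝒮)) = projOne 𝒮 :=
    j_liftHom 𝒮.toQCAlg (projOne 𝒮)
  have hT := isGrSymAlg 𝒮.toModule
  have hsurj : ∀ (U : Y.Opens) (hU : IsAffineOpen U) (n : ℕ), 0 < n → ∀ b ∈ 𝒮.deg U hU n,
      ∃ a ∈ (grSymAlg 𝒮.toModule).deg U hU n,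
        gradedHomAt (𝒜 := grSymAlg 𝒮.toModule) (ℬ := 𝒮) _ hψ U hU a = b := by
    intro U hU
    refine ProjAux.surjOn_pos_of_genDegOne _ _
      (gradedHomAt (𝒜 := grSymAlg 𝒮.toModule) (ℬ := 𝒮) _ hψ U hU) (h𝒮 U hU) ?_
    intro b hb
    refine ⟨(SymQC.j 𝒮.toModule).app U b, hT.2 U hU b, ?_⟩
    have := congrArg (fun k => (show 𝒮.presheaf.obj (op U) from k.app U b)) hju
    exact this.trans (projOne_of_mem 𝒮 U hU b hb)
  have hirr : ∀ (U : Y.Opens) (hU : IsAffineOpen U), (𝒮.deg U hU)₊ ≤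
      (((grSymAlg 𝒮.toModule).deg U hU)₊).map
        (gradedHomAt (𝒜 := grSymAlg 𝒮.toModule) (ℬ := 𝒮) _ hψ U hU) := by
    intro U hU
    rw [HomogeneousIdeal.irrelevant_le]
    intro k hk x hx
    obtain ⟨a, ha, rfl⟩ := hsurj U hU k hk x hx
    apply Ideal.mem_map_of_mem
    exact HomogeneousIdeal.mem_irrelevant_of_mem _ hk ha
  have hPT := RelProjExist.isRelProj (grSymAlg 𝒮.toModule)
  have hh := RelProjMap.isRelProjMap_relProjMap (𝒜 := grSymAlg 𝒮.toModule) (ℬ := 𝒮) _ hψ hirr hPT hP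
  have hci : IsClosedImmersion (RelProjMap.relProjMap (𝒜 := grSymAlg 𝒮.toModule) (ℬ := 𝒮) _ hψ hirr hPT hP) := by
    refine RelProjMap.of_forall_projMap _ hψ hirr hPT hP @IsClosedImmersion hh fun U hU => ?_
    exact ProjAux.isClosedImmersion_map_of_pos _ _ _ (hsurj U hU) (hirr U hU)
  have hOT := RelTwist.isRelTwist _ _ hPT 1
  have hgenT : (grSymAlg 𝒮.toModule).IsGenDegOne :=
    RelGlued.isGenDegOne_of_isGrSymAlg 𝒮.toModule _ _ hT
  have hiso := RelTwistMap.isIso_adjunct_θ _ hψ hirr hPT hP _ hh 1 hOT hO1 hgenT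
  refine ⟨𝒮.toModule, (inferInstance : 𝒮.toModule.IsQuasicoherent), grSymAlg 𝒮.toModule,
    SymQC.j 𝒮.toModule, hT, _, _, _, hPT, _, _, hOT,
    i ≫ RelProjMap.relProjMap (𝒜 := grSymAlg 𝒮.toModule) (ℬ := 𝒮) _ hψ hirr hPT hP,
    inferInstance, ?_, ⟨?_⟩⟩
  · rw [Category.assoc, RelProjMap.comp_eq_of_isRelProjMap _ hψ hirr hPT hP hh, hi]
  · exact e ≪≫ (Scheme.Modules.pullback i).mapIso (@asIso _ _ _ _ _ hiso).symm ≪≫
      (Scheme.Modules.pullbackComp i _).app _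

end Groth.Agent.Lib.Helper3.ProjBundle
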