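import Groth.Agent.Lib.Helper3.ModGlue
import Groth.Agent.Lib.Helper3.BiprodBundle
import Groth.Agent.Lib.Helper3.ProjBundleVA
import Groth.Agent.Lib.Helper3.CoprodImm
/-!
# Modules on a disjoint union are determined by their restrictions; very ampleness on disjoint unions
-/
set_option autoImplicit false
set_option linter.unusedSectionVars false
universe u
open CategoryTheory CategoryTheory.Limits AlgebraicGeometry Opposite TopologicalSpace
open Groth.Agent.Lib.Helper29

namespace Groth.Agent.Lib.Helper3.CoprodMod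
open Groth.Agent.Lib.Helper3 Groth.Agent.Lib.Helper3.BiprodBundle

variable {X X' Z : Scheme.{u}} (a : X ⟶ Z) (b : X' ⟶ Z) [IsOpenImmersion a] [IsOpenImmersion b]

/-- restriction along an equality of opens is bijective -/
theorem bijective_map_of_eq (M : Z.Modules) {U V : Z.Opens} (h : U = V) (hle : U ≤ V) :
    Function.Bijective (M.presheaf.map (homOfLE hle).op) := by
  subst h
  have : (homOfLE hle).op = 𝟙 (op U) := rfl
  rw [this, M.presheaf.map_id]
  exact Function.bijective_id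

/-- sections over the empty open are trivial -/
theorem subsingleton_of_eq_bot (M : Z.Modules) {U : Z.Opens} (h : U = ⊥) : Subsingleton Γ(M, U) := by
  subst h
  refine ⟨fun s t => ?_⟩
  exact ModGlue.ext_of_cover M (fun i : PEmpty.{1} => i.elim) ⊥ (fun i => i.elim) bot_le s t (fun i => i.elim)

/-- the comparison of a module with the product of its restrictions to two open subschemes -/
noncomputable def Φ (M : Z.Modules) :
    M ⟶ (Scheme.Modules.pushforward a).obj (M.restrict a) ⊞ (Scheme.Modules.pushforward b).obj (M.restrict b) :=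
  biprod.lift ((Scheme.Modules.restrictAdjunction a).unit.app M) ((Scheme.Modules.restrictAdjunction b).unit.app M)

theorem bijective_lift_left {M A B : Z.Modules} (f : M ⟶ A) (g : M ⟶ B) (W : Z.Opens)
    (hf : Function.Bijective (f.app W)) (hB : Subsingleton Γ(B, W)) :
    Function.Bijective ((biprod.lift f g).app W) := by
  constructor
  · intro x y hxy
    apply hf.1
    have h1 := congrArg (fun t => (biprod.fst : A ⊞ B ⟶ A).app W t) hxy
    have h2 : ∀ x, (biprod.fst : A ⊞ B ⟶ A).app W ((biprod.lift f g).app W x) = f.app W x := fun x => by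
      rw [← comp_app_apply, biprod.lift_fst]
    simpa only [h2] using h1
  · intro z
    obtain ⟨x, hx⟩ := hf.2 ((biprod.fst : A ⊞ B ⟶ A).app W z)
    refine ⟨x, ?_⟩
    rw [biprod_section W z, biprod_section W ((biprod.lift f g).app W x)]
    have h2 : (biprod.fst : A ⊞ B ⟶ A).app W ((biprod.lift f g).app W x) = f.app W x := by
      rw [← comp_app_apply, biprod.lift_fst]
    rw [h2, hx]
    congr 2
    exact Subsingleton.elim _ _

theorem bijective_lift_right {M A B : Z.Modules} (f : M ⟶ A) (g : M ⟶ B) (W : Z.Opens)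
    (hg : Function.Bijective (g.app W)) (hA : Subsingleton Γ(A, W)) :
    Function.Bijective ((biprod.lift f g).app W) := by
  constructor
  · intro x y hxy
    apply hg.1
    have h1 := congrArg (fun t => (biprod.snd : A ⊞ B ⟶ B).app W t) hxy
    have h2 : ∀ x, (biprod.snd : A ⊞ B ⟶ B).app W ((biprod.lift f g).app W x) = g.app W x := fun x => by
      rw [← comp_app_apply, biprod.lift_snd]
    simpa only [h2] using h1
  · intro z
    obtain ⟨x, hx⟩ := hg.2 ((biprod.snd : A ⊞ B ⟶ B).app W z)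
    refine ⟨x, ?_⟩
    rw [biprod_section W z, biprod_section W ((biprod.lift f g).app W x)]
    have h2 : (biprod.snd : A ⊞ B ⟶ B).app W ((biprod.lift f g).app W x) = g.app W x := by
      rw [← comp_app_apply, biprod.lift_snd]
    rw [h2, hx]
    congr 2
    exact Subsingleton.elim _ _

theorem isIso_Φ (hab : IsCompl a.opensRange b.opensRange) (M : Z.Modules) : IsIso (Φ a b M) := by
  have hdis : a.opensRange ⊓ b.opensRange = ⊥ := hab.inf_eq_bot
  apply ModGlue.isIso_of_bijective_on_basis _ (fun W => W ≤ a.opensRange ∨ W ≤ b.opensRange)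
  · rintro W W' hle (h | h)
    · exact Or.inl (hle.trans h)
    · exact Or.inr (hle.trans h)
  · intro w
    have hw : w ∈ a.opensRange ⊔ b.opensRange := by rw [hab.sup_eq_top]; trivial
    rcases hw with hw | hw
    · exact ⟨a.opensRange, Or.inl le_rfl, hw⟩
    · exact ⟨b.opensRange, Or.inr le_rfl, hw⟩
  · rintro W (hW | hW)
    · refine bijective_lift_left _ _ W ?_ ?_
      · exact bijective_map_of_eq M
          ((a.image_preimage_eq_opensRange_inf W).trans (inf_eq_right.mpr hW)) (a.image_preimage_le W)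
      · refine subsingleton_of_eq_bot M (U := b ''ᵁ b ⁻¹ᵁ W) ?_
        rw [b.image_preimage_eq_opensRange_inf, eq_bot_iff, ← hdis]
        exact le_inf (inf_le_right.trans hW) inf_le_left
    · refine bijective_lift_right _ _ W ?_ ?_
      · exact bijective_map_of_eq M
          ((b.image_preimage_eq_opensRange_inf W).trans (inf_eq_right.mpr hW)) (b.image_preimage_le W)
      · refine subsingleton_of_eq_bot M (U := a ''ᵁ a ⁻¹ᵁ W) ?_
        rw [a.image_preimage_eq_opensRange_inf, eq_bot_iff, ← hdis]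
        exact le_inf inf_le_left (inf_le_right.trans hW)

/-- **Modules on `Z = X ⊔ X'` are determined by their restrictions.** -/
theorem nonempty_iso_of_restrict_iso (hab : IsCompl a.opensRange b.opensRange) (M N : Z.Modules)
    (α : M.restrict a ≅ N.restrict a) (β : M.restrict b ≅ N.restrict b) : Nonempty (M ≅ N) := by
  have hM := isIso_Φ a b hab M
  have hN := isIso_Φ a b hab N
  exact ⟨asIso (Φ a b M) ≪≫
    biprod.mapIso ((Scheme.Modules.pushforward a).mapIso α) ((Scheme.Modules.pushforward b).mapIso β) ≪≫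
    (asIso (Φ a b N)).symm⟩

end Groth.Agent.Lib.Helper3.CoprodMod

open CategoryTheory CategoryTheory.Limits AlgebraicGeometry Opposite TopologicalSpace
open scoped HomogeneousIdeal
open Groth.Agent.Lib.Helper29

namespace Groth.Agent.Lib.Helper3.CoprodMod
open Groth.Agent.Lib.Helper3

variable {X X' Z : Scheme.{u}} (a : X ⟶ Z) (b : X' ⟶ Z) [IsOpenImmersion a] [IsOpenImmersion b]

theorem nonempty_iso_of_pullback_iso (hab : IsCompl a.opensRange b.opensRange) (M N : Z.Modules)
    (α : (Scheme.Modules.pullback a).obj M ≅ (Scheme.Modules.pullback a).obj N)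
    (β : (Scheme.Modules.pullback b).obj M ≅ (Scheme.Modules.pullback b).obj N) : Nonempty (M ≅ N) :=
  nonempty_iso_of_restrict_iso a b hab M N
    ((Scheme.Modules.restrictFunctorIsoPullback a).app M ≪≫ α ≪≫
      ((Scheme.Modules.restrictFunctorIsoPullback a).app N).symm)
    ((Scheme.Modules.restrictFunctorIsoPullback b).app M ≪≫ β ≪≫
      ((Scheme.Modules.restrictFunctorIsoPullback b).app N).symm)

/-- the coproduct of two immersions is an immersion -/
theorem isImmersion_coprod_map {X Y X' Y' : Scheme.{u}} (f : X ⟶ X') (g : Y ⟶ Y') [IsImmersion f]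
    [IsImmersion g] : IsImmersion (coprod.map f g) := by
  rw [IsZariskiLocalAtTarget.iff_of_openCover (P := @IsImmersion) (coprodOpenCover.{u, 0} X' Y')]
  rintro (i | i)
  · have h := (isPullback_inl_inl_coprodMap f g).flip
    change IsImmersion (pullback.snd (coprod.map f g) coprod.inl)
    refine (MorphismProperty.cancel_left_of_respectsIso @IsImmersion h.isoPullback.hom _).mp ?_
    rw [h.isoPullback_hom_snd]
    infer_instance
  · have h := (isPullback_inr_inr_coprodMap f g).flip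
    change IsImmersion (pullback.snd (coprod.map f g) coprod.inr)
    refine (MorphismProperty.cancel_left_of_respectsIso @IsImmersion h.isoPullback.hom _).mp ?_
    rw [h.isoPullback_hom_snd]
    infer_instance

end Groth.Agent.Lib.Helper3.CoprodMod

open CategoryTheory CategoryTheory.Limits AlgebraicGeometry Opposite TopologicalSpace
open scoped HomogeneousIdeal
open Groth.Agent.Lib.Helper29

namespace Groth.Agent.Lib.Helper3.ProjBundle
open Groth.Agent.Lib.Helper3 Groth.Agent.Lib.Helper3.SymQC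
open RelProj RelSpec

/-- a graded homomorphism which is surjective on sections is surjective in each degree -/
theorem surj_deg_of_surjective {Y : Scheme.{u}} {𝒜 ℬ : QCGrAlg Y} (π : 𝒜.toQCAlg ⟶ ℬ.toQCAlg)
    (hπ : IsGradedHom π) (hs : ∀ U : Y.Opens, Function.Surjective (π.hom.app (op U)).hom)
    (U : Y.Opens) (hU : IsAffineOpen U) (n : ℕ) (b : ℬ.presheaf.obj (op U)) (hb : b ∈ ℬ.deg U hU n) :
    ∃ a ∈ 𝒜.deg U hU n, gradedHomAt π hπ U hU a = b := by
  classical
  obtain ⟨a, ha⟩ := hs U b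
  refine ⟨(DirectSum.decompose (𝒜.deg U hU) a n : 𝒜.presheaf.obj (op U)), SetLike.coe_mem _, ?_⟩
  rw [GradedRingHom.map_directSumDecompose]
  have : gradedHomAt π hπ U hU a = b := ha
  rw [this, DirectSum.decompose_of_mem_same _ hb]

theorem irr_of_surjective {Y : Scheme.{u}} {𝒜 ℬ : QCGrAlg Y} (π : 𝒜.toQCAlg ⟶ ℬ.toQCAlg)
    (hπ : IsGradedHom π) (hs : ∀ U : Y.Opens, Function.Surjective (π.hom.app (op U)).hom)
    (U : Y.Opens) (hU : IsAffineOpen U) :
    (ℬ.deg U hU)₊ ≤ ((𝒜.deg U hU)₊).map (gradedHomAt π hπ U hU) := by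
  rw [HomogeneousIdeal.irrelevant_le]
  intro k hk x hx
  obtain ⟨a, ha, rfl⟩ := surj_deg_of_surjective π hπ hs U hU k x hx
  apply Ideal.mem_map_of_mem
  exact HomogeneousIdeal.mem_irrelevant_of_mem _ hk ha

/-- **Very ampleness on a disjoint union.** -/
theorem isRelVeryAmple_coprod {X X' Y : Scheme.{u}} (f'' : X ⨿ X' ⟶ Y) (L'' : (X ⨿ X').Modules)
    (hva₁ : IsRelVeryAmple (coprod.inl ≫ f'') ((Scheme.Modules.pullback (coprod.inl : X ⟶ X ⨿ X')).obj L''))
    (hva₂ : IsRelVeryAmple (coprod.inr ≫ f'') ((Scheme.Modules.pullback (coprod.inr : X' ⟶ X ⨿ X')).obj L'')) :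
    IsRelVeryAmple f'' L'' := by
  obtain ⟨E, hE, 𝒮E, jE, hjE, PE, pE, chartE, hPE, O1E, lamE, hO1E, i, hi, hip, ⟨eL⟩⟩ := hva₁
  obtain ⟨F, hF, 𝒮F, jF, hjF, PF, pF, chartF, hPF, O1F, lamF, hO1F, i', hi', hip', ⟨eL'⟩⟩ := hva₂
  have hE1 : E.IsQuasicoherent := hE
  have hF1 : F.IsQuasicoherent := hF
  have hEF : (E ⊞ F : Y.Modules).IsQuasicoherent := BiprodBundle.isQuasicoherent_biprod E F
  have hj := isGrSymAlg (E ⊞ F)
  have hP := RelProjExist.isRelProj (grSymAlg (E ⊞ F))
  have hO1 := RelTwist.isRelTwist _ _ hP 1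
  have hgen : (grSymAlg (E ⊞ F)).IsGenDegOne := RelGlued.isGenDegOne_of_isGrSymAlg (E ⊞ F) _ _ hj
  -- the two projections
  have h1E : ∀ (U : Y.Opens) (hU : IsAffineOpen U) (m : Γ((E ⊞ F : Y.Modules), U)),
      (show 𝒮E.presheaf.obj (op U) from (biprod.fst ≫ jE).app U m) ∈ 𝒮E.deg U hU 1 :=
    fun U hU m => hjE.2 U hU _
  have h1F : ∀ (U : Y.Opens) (hU : IsAffineOpen U) (m : Γ((E ⊞ F : Y.Modules), U)),
      (show 𝒮F.presheaf.obj (op U) from (biprod.snd ≫ jF).app U m) ∈ 𝒮F.deg U hU 1 :=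
    fun U hU m => hjF.2 U hU _
  have hπE : IsGradedHom (𝒜 := grSymAlg (E ⊞ F)) (ℬ := 𝒮E) (liftHom 𝒮E.toQCAlg (biprod.fst ≫ jE)) :=
    isGradedHom_liftHom 𝒮E (biprod.fst ≫ jE) h1E
  have hπF : IsGradedHom (𝒜 := grSymAlg (E ⊞ F)) (ℬ := 𝒮F) (liftHom 𝒮F.toQCAlg (biprod.snd ≫ jF)) :=
    isGradedHom_liftHom 𝒮F (biprod.snd ≫ jF) h1F
  have hjπE : SymQC.j (E ⊞ F) ≫ QCAlg.Hom.toModuleMap (liftHom 𝒮E.toQCAlg (biprod.fst ≫ jE)) =
      biprod.fst ≫ jE := j_liftHom 𝒮E.toQCAlg (biprod.fst ≫ jE)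
  have hjπF : SymQC.j (E ⊞ F) ≫ QCAlg.Hom.toModuleMap (liftHom 𝒮F.toQCAlg (biprod.snd ≫ jF)) =
      biprod.snd ≫ jF := j_liftHom 𝒮F.toQCAlg (biprod.snd ≫ jF)
  have hsE : ∀ U : Y.Opens, Function.Surjective
      ((liftHom 𝒮E.toQCAlg (biprod.fst ≫ jE)).hom.app (op U)).hom := fun U =>
    BiprodBundle.surjective_of_split hjE.1 _ biprod.fst biprod.inl biprod.inl_fst hjπE U
  have hsF : ∀ U : Y.Opens, Function.Surjective
      ((liftHom 𝒮F.toQCAlg (biprod.snd ≫ jF)).hom.app (op U)).hom := fun U =>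
    BiprodBundle.surjective_of_split hjF.1 _ biprod.snd biprod.inr biprod.inr_snd hjπF U
  have hirrE := irr_of_surjective (𝒜 := grSymAlg (E ⊞ F)) (ℬ := 𝒮E) _ hπE hsE
  have hirrF := irr_of_surjective (𝒜 := grSymAlg (E ⊞ F)) (ℬ := 𝒮F) _ hπF hsF
  obtain ⟨hE', hhE⟩ : ∃ h, IsRelProjMap (𝒜 := grSymAlg (E ⊞ F)) (ℬ := 𝒮E) _ hπE hirrE _ chartE h :=
    ⟨_, RelProjMap.isRelProjMap_relProjMap (𝒜 := grSymAlg (E ⊞ F)) (ℬ := 𝒮E) _ hπE hirrE hP hPE⟩
  obtain ⟨hF', hhF⟩ : ∃ h, IsRelProjMap (𝒜 := grSymAlg (E ⊞ F)) (ℬ := 𝒮F) _ hπF hirrF _ chartF h :=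
    ⟨_, RelProjMap.isRelProjMap_relProjMap (𝒜 := grSymAlg (E ⊞ F)) (ℬ := 𝒮F) _ hπF hirrF hP hPF⟩
  have hci := BiprodBundle.isClosedImmersion_coprod E F hE hF 𝒮E 𝒮F (grSymAlg (E ⊞ F)) jE hjE jF hjF
    (SymQC.j (E ⊞ F)) hj _ hπE hjπE _ hπF hjπF hirrE hirrF _ pE pF _ chartE chartF hP hPE hPF _ hhE _ hhF
  have hisoE := RelTwistMap.isIso_adjunct_θ _ hπE hirrE hP hPE _ hhE 1 hO1 hO1E hgen
  have hisoF := RelTwistMap.isIso_adjunct_θ _ hπF hirrF hP hPF _ hhF 1 hO1 hO1F hgen
  have hcE := RelProjMap.comp_eq_of_isRelProjMap _ hπE hirrE hP hPE hhE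
  have hcF := RelProjMap.comp_eq_of_isRelProjMap _ hπF hirrF hP hPF hhF
  have himm : IsImmersion (coprod.map i i') := CoprodMod.isImmersion_coprod_map i i'
  refine ⟨E ⊞ F, hEF, grSymAlg (E ⊞ F), SymQC.j (E ⊞ F), hj, _, _, _, hP, _, _, hO1,
    coprod.map i i' ≫ coprod.desc hE' hF', inferInstance, ?_, ?_⟩
  · apply coprod.hom_ext
    · rw [Category.assoc, coprod.inl_map_assoc, coprod.inl_desc_assoc, hcE, hip]
    · rw [Category.assoc, coprod.inr_map_assoc, coprod.inr_desc_assoc, hcF, hip']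
  · refine CoprodMod.nonempty_iso_of_pullback_iso (coprod.inl : X ⟶ X ⨿ X') (coprod.inr : X' ⟶ X ⨿ X')
      (isCompl_opensRange_inl_inr X X') _ _ ?_ ?_
    · exact eL ≪≫ (Scheme.Modules.pullback i).mapIso (@asIso _ _ _ _ _ hisoE).symm ≪≫
        (Scheme.Modules.pullbackComp i _).app _ ≪≫
        (Scheme.Modules.pullbackCongr (by rw [coprod.inl_map_assoc, coprod.inl_desc])).app _ ≪≫
        ((Scheme.Modules.pullbackComp coprod.inl (coprod.map i i' ≫ coprod.desc hE' hF')).app _).symm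
    · exact eL' ≪≫ (Scheme.Modules.pullback i').mapIso (@asIso _ _ _ _ _ hisoF).symm ≪≫
        (Scheme.Modules.pullbackComp i' _).app _ ≪≫
        (Scheme.Modules.pullbackCongr (by rw [coprod.inr_map_assoc, coprod.inr_desc])).app _ ≪≫
        ((Scheme.Modules.pullbackComp coprod.inr (coprod.map i i' ≫ coprod.desc hE' hF')).app _).symm

/-- restriction of a very ample module to an open subscheme -/
theorem isRelVeryAmple_of_openImmersion {X Z Y : Scheme.{u}} (a : X ⟶ Z) [IsOpenImmersion a] (f : Z ⟶ Y)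
    (L : Z.Modules) (hva : IsRelVeryAmple f L) :
    IsRelVeryAmple (a ≫ f) ((Scheme.Modules.pullback a).obj L) := by
  obtain ⟨E, hE, 𝒮, j, hj, P, p, chart, hP, O1, lam, hO1, i, hi, hip, ⟨eL⟩⟩ := hva
  exact ⟨E, hE, 𝒮, j, hj, P, p, chart, hP, O1, lam, hO1, a ≫ i, inferInstance,
    by rw [Category.assoc, hip],
    ⟨(Scheme.Modules.pullback a).mapIso eL ≪≫ (Scheme.Modules.pullbackComp a i).app O1⟩⟩

end Groth.Agent.Lib.Helper3.ProjBundle
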