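import Mathlib
import Groth.Prelude.Def_W4bk4goldsch45p2

/-!
# Jump indices of a sequence of vectors (`FunFld.IsJump`, `FunFld.IsOrders`)
-/

set_option autoImplicit false

namespace Groth.Agent.Lib.Helper3.Jumps

open FunFld

variable {R M : Type*} [Field R] [AddCommGroup M] [Module R M] (c : ℕ → M)

open scoped Classical in
/-- The finite set of jump indices below `m`. -/
noncomputable def jumpsBelow (m : ℕ) : Finset ℕ := (Finset.range m).filter (IsJump R c)

theorem mem_jumpsBelow {m j : ℕ} : j ∈ jumpsBelow (R := R) c m ↔ j < m ∧ IsJump R c j := by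
  classical
  simp [jumpsBelow]

theorem mem_span_jumpsBelow (m : ℕ) : ∀ j, j < m →
    c j ∈ Submodule.span R (c '' (jumpsBelow (R := R) c m : Set ℕ)) := by
  intro j
  induction j using Nat.strong_induction_on with
  | _ j ih =>
    intro hj
    by_cases hjump : IsJump R c j
    · exact Submodule.subset_span ⟨j, Finset.mem_coe.2 ((mem_jumpsBelow c).2 ⟨hj, hjump⟩), rfl⟩
    · have h1 : c j ∈ Submodule.span R (c '' Set.Iio j) := not_not.1 hjump
      refine (Submodule.span_le.2 ?_) h1
      rintro _ ⟨i, hi, rfl⟩
      exact ih i hi (lt_trans hi hj)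

theorem span_Iio_eq (m : ℕ) :
    Submodule.span R (c '' Set.Iio m) =
      Submodule.span R (c '' (jumpsBelow (R := R) c m : Set ℕ)) := by
  apply le_antisymm
  · rw [Submodule.span_le]
    rintro _ ⟨j, hj, rfl⟩
    exact mem_span_jumpsBelow c m j hj
  · apply Submodule.span_mono
    rintro _ ⟨j, hj, rfl⟩
    exact ⟨j, ((mem_jumpsBelow c).1 (Finset.mem_coe.1 hj)).1, rfl⟩

theorem linearIndepOn_jumpsBelow (m : ℕ) :
    LinearIndepOn R c (jumpsBelow (R := R) c m : Set ℕ) := by
  classical
  induction m with
  | zero =>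
    have : (jumpsBelow (R := R) c 0 : Set ℕ) = ∅ := by
      ext j
      simp [mem_jumpsBelow]
    rw [this]
    exact linearIndepOn_empty R c
  | succ m ih =>
    by_cases hjump : IsJump R c m
    · have hset : (jumpsBelow (R := R) c (m + 1) : Set ℕ) =
          insert m (jumpsBelow (R := R) c m : Set ℕ) := by
        ext j
        simp only [Finset.mem_coe, mem_jumpsBelow, Set.mem_insert_iff]
        constructor
        · rintro ⟨h1, h2⟩
          rcases Nat.lt_succ_iff_lt_or_eq.1 h1 with h | h
          · exact Or.inr ⟨h, h2⟩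
          · exact Or.inl h
        · rintro (rfl | ⟨h1, h2⟩)
          · exact ⟨Nat.lt_succ_self _, hjump⟩
          · exact ⟨Nat.lt_succ_of_lt h1, h2⟩
      rw [hset]
      refine ih.insert ?_
      intro hmem
      apply hjump
      refine (Submodule.span_mono ?_) hmem
      rintro _ ⟨j, hj, rfl⟩
      exact ⟨j, ((mem_jumpsBelow c).1 (Finset.mem_coe.1 hj)).1, rfl⟩
    · have hset : (jumpsBelow (R := R) c (m + 1) : Set ℕ) = (jumpsBelow (R := R) c m : Set ℕ) := by
        ext j
        simp only [Finset.mem_coe, mem_jumpsBelow]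
        constructor
        · rintro ⟨h1, h2⟩
          rcases Nat.lt_succ_iff_lt_or_eq.1 h1 with h | h
          · exact ⟨h, h2⟩
          · subst h; exact absurd h2 hjump
        · rintro ⟨h1, h2⟩
          exact ⟨Nat.lt_succ_of_lt h1, h2⟩
      rw [hset]
      exact ih

theorem finrank_span_Iio (m : ℕ) :
    Module.finrank R (Submodule.span R (c '' Set.Iio m)) = (jumpsBelow (R := R) c m).card := by
  classical
  rw [span_Iio_eq]
  have h := linearIndepOn_jumpsBelow (R := R) c m
  have h2 : LinearIndependent R (fun x : (jumpsBelow (R := R) c m : Set ℕ) => c x) := h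
  have h3 := finrank_span_eq_card h2
  rw [← Set.image_eq_range] at h3
  rw [h3]
  simp

/-- If `k` linearly independent vectors lie in the span of the first `m` vectors, there are at
least `k` jumps below `m`. -/
theorem card_le_jumpsBelow {ι : Type*} [Fintype ι] (v : ι → M) (hv : LinearIndependent R v) (m : ℕ)
    (hmem : ∀ i, v i ∈ Submodule.span R (c '' Set.Iio m)) :
    Fintype.card ι ≤ (jumpsBelow (R := R) c m).card := by
  classical
  rw [← finrank_span_Iio]
  have hfin : Module.Finite R (Submodule.span R (c '' Set.Iio m)) := by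
    rw [span_Iio_eq]
    exact Module.Finite.span_of_finite R ((jumpsBelow (R := R) c m).finite_toSet.image c)
  let v' : ι → Submodule.span R (c '' Set.Iio m) := fun i => ⟨v i, hmem i⟩
  have hv' : LinearIndependent R v' := by
    apply LinearIndependent.of_comp (Submodule.span R (c '' Set.Iio m)).subtype
    exact hv
  exact hv'.fintype_card_le_finrank

/-- If `J` is the order sequence of `c` and the columns `c 0, c (J' 0 + 1), …, c (J' (n-1) + 1)`
are linearly independent for a strictly increasing `J'`, then `J l ≤ J' l` for all `l`. -/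
theorem orders_le {n : ℕ} (J : Fin n → ℕ) (hJ : IsOrders R c J) (J' : Fin n → ℕ)
    (hJ' : StrictMono J')
    (hind : LinearIndependent R
      (fun i : Fin (n + 1) => c (Fin.cases (motive := fun _ => ℕ) 0 (fun l => J' l + 1) i))) :
    ∀ l, J l ≤ J' l := by
  classical
  intro l
  by_contra hlt
  push Not at hlt
  have hle : l.val + 2 ≤ n + 1 := by have := l.isLt; omega
  set idx : Fin (n + 1) → ℕ := fun i => Fin.cases (motive := fun _ => ℕ) 0 (fun l => J' l + 1) i
    with hidx
  have hv : LinearIndependent R (fun i : Fin (l.val + 2) => c (idx (Fin.castLE hle i))) :=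
    hind.comp (Fin.castLE hle) (Fin.castLE_injective hle)
  have hmem : ∀ i : Fin (l.val + 2), c (idx (Fin.castLE hle i)) ∈
      Submodule.span R (c '' Set.Iio (J' l + 2)) := by
    intro i
    apply Submodule.subset_span
    refine ⟨_, ?_, rfl⟩
    simp only [Set.mem_Iio]
    obtain ⟨i, hi⟩ := i
    rcases Nat.eq_zero_or_pos i with rfl | hpos
    · have : (Fin.castLE hle ⟨0, hi⟩ : Fin (n + 1)) = 0 := rfl
      rw [this, hidx]
      simp
    · obtain ⟨i', rfl⟩ : ∃ i', i = i' + 1 := ⟨i - 1, by omega⟩
      have hi' : i' < n := by omega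
      have : (Fin.castLE hle ⟨i' + 1, hi⟩ : Fin (n + 1)) = Fin.succ ⟨i', hi'⟩ := rfl
      rw [this, hidx]
      simp only [Fin.cases_succ]
      have : J' ⟨i', hi'⟩ ≤ J' l := hJ'.monotone (by
        change i' ≤ l.val
        omega)
      omega
  have hcard := card_le_jumpsBelow (R := R) c _ hv (J' l + 2) hmem
  rw [Fintype.card_fin] at hcard
  have hsub : jumpsBelow (R := R) c (J' l + 2) ⊆
      insert 0 ((Finset.Iio l).image (fun l'' => J l'' + 1)) := by
    intro j hj
    rw [mem_jumpsBelow] at hj
    obtain ⟨hj1, hj2⟩ := hj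
    rcases Nat.eq_zero_or_pos j with rfl | hpos
    · exact Finset.mem_insert_self _ _
    · obtain ⟨j', rfl⟩ : ∃ j', j = j' + 1 := ⟨j - 1, by omega⟩
      apply Finset.mem_insert_of_mem
      obtain ⟨l'', rfl⟩ := (hJ.2 j').2 hj2
      refine Finset.mem_image.2 ⟨l'', ?_, rfl⟩
      rw [Finset.mem_Iio]
      apply hJ.1.lt_iff_lt.1
      omega
  have h1 := Finset.card_le_card hsub
  have h2 := Finset.card_insert_le 0 ((Finset.Iio l).image (fun l'' => J l'' + 1))
  have h3 := Finset.card_image_le (s := Finset.Iio l) (f := fun l'' => J l'' + 1)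
  rw [Fin.card_Iio] at h3
  omega

/-- Jumps are preserved by an injective linear map. -/
theorem isJump_map_injective {N : Type*} [AddCommGroup N] [Module R N] (f : M →ₗ[R] N)
    (hf : Function.Injective f) (j : ℕ) :
    IsJump R (fun m => f (c m)) j ↔ IsJump R c j := by
  unfold IsJump
  have h1 : (fun m => f (c m)) '' Set.Iio j = f '' (c '' Set.Iio j) := by
    rw [Set.image_image]
  rw [h1, ← Submodule.map_span, not_iff_not]
  constructor
  · rintro ⟨x, hx, hxe⟩
    rw [← hf hxe]
    exact hx
  · intro h
    exact Submodule.mem_map_of_mem h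

/-- `IsOrders` only depends on the set of jumps. -/
theorem isOrders_congr {N : Type*} [AddCommGroup N] [Module R N] (c' : ℕ → N)
    (h : ∀ j, IsJump R c' (j + 1) ↔ IsJump R c (j + 1)) {n : ℕ} (J : Fin n → ℕ) :
    IsOrders R c' J ↔ IsOrders R c J := by
  unfold IsOrders
  constructor
  · rintro ⟨h1, h2⟩
    exact ⟨h1, fun j => (h2 j).trans (h j)⟩
  · rintro ⟨h1, h2⟩
    exact ⟨h1, fun j => (h2 j).trans (h j).symm⟩

section Triangular

variable (c' : ℕ → M) (u : ℕ → R)

/-- A triangular change of the sequence with unit diagonal does not change the spans of the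
initial segments. -/
theorem span_Iio_eq_of_triangular (hu : ∀ j, u j ≠ 0)
    (h : ∀ j, c' j - u j • c j ∈ Submodule.span R (c '' Set.Iio j)) (m : ℕ) :
    Submodule.span R (c' '' Set.Iio m) = Submodule.span R (c '' Set.Iio m) := by
  induction m with
  | zero => simp
  | succ m ih =>
    have hIio : Set.Iio (m + 1) = insert m (Set.Iio m) := by
      ext j
      simp only [Set.mem_Iio, Set.mem_insert_iff]
      omega
    rw [hIio, Set.image_insert_eq, Set.image_insert_eq, Submodule.span_insert,
      Submodule.span_insert, ih]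
    have hm := h m
    apply le_antisymm
    · apply sup_le _ le_sup_right
      rw [Submodule.span_singleton_le_iff_mem]
      have : c' m = u m • c m + (c' m - u m • c m) := by abel
      rw [this]
      apply Submodule.add_mem
      · exact Submodule.mem_sup_left (Submodule.smul_mem _ _ (Submodule.mem_span_singleton_self _))
      · exact Submodule.mem_sup_right hm
    · apply sup_le _ le_sup_right
      rw [Submodule.span_singleton_le_iff_mem]
      have : c m = (u m)⁻¹ • c' m - (u m)⁻¹ • (c' m - u m • c m) := by
        rw [smul_sub, smul_smul, inv_mul_cancel₀ (hu m), one_smul]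
        abel
      rw [this]
      apply Submodule.sub_mem
      · exact Submodule.mem_sup_left (Submodule.smul_mem _ _ (Submodule.mem_span_singleton_self _))
      · exact Submodule.mem_sup_right (Submodule.smul_mem _ _ hm)

theorem isJump_iff_of_triangular (hu : ∀ j, u j ≠ 0)
    (h : ∀ j, c' j - u j • c j ∈ Submodule.span R (c '' Set.Iio j)) (j : ℕ) :
    IsJump R c' j ↔ IsJump R c j := by
  unfold IsJump
  rw [span_Iio_eq_of_triangular c c' u hu h j, not_iff_not]
  have hj := h j
  constructor
  · intro h1
    have h2 : u j • c j ∈ Submodule.span R (c '' Set.Iio j) := by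
      have : u j • c j = c' j - (c' j - u j • c j) := by abel
      rw [this]
      exact Submodule.sub_mem _ h1 hj
    have h3 := Submodule.smul_mem _ (u j)⁻¹ h2
    rwa [smul_smul, inv_mul_cancel₀ (hu j), one_smul] at h3
  · intro h1
    have : c' j = u j • c j + (c' j - u j • c j) := by abel
    rw [this]
    exact Submodule.add_mem _ (Submodule.smul_mem _ _ h1) hj

end Triangular

/-- Determinant of a matrix whose columns are a triangular combination of the columns of
another matrix. -/
theorem det_eq_of_triangular_cols {m : ℕ} (A A' : Matrix (Fin m) (Fin m) R) (u : Fin m → R)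
    (h : ∀ i, A'.col i - u i • A.col i ∈ Submodule.span R (A.col '' Set.Iio i)) :
    A'.det = (∏ i, u i) * A.det := by
  classical
  have hex : ∀ i, ∃ g : Fin m → R, (∀ i', ¬ i' < i → g i' = 0) ∧
      ∑ i', g i' • A.col i' = A'.col i - u i • A.col i := by
    intro i
    obtain ⟨l, hl, hl2⟩ := (Finsupp.mem_span_image_iff_linearCombination R).1 (h i)
    refine ⟨l, ?_, ?_⟩
    · intro i' hi'
      by_contra hne
      have : i' ∈ l.support := Finsupp.mem_support_iff.2 hne
      exact hi' (hl this)
    · rw [← hl2, Finsupp.linearCombination_apply, Finsupp.sum_fintype]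
      simp
  choose g hg1 hg2 using hex
  let U : Matrix (Fin m) (Fin m) R := Matrix.of fun i' i => g i i' + if i' = i then u i else 0
  have hmul : A' = A * U := by
    ext r i
    rw [Matrix.mul_apply]
    have h1 := congrFun (hg2 i) r
    simp only [Finset.sum_apply, Pi.smul_apply, Pi.sub_apply, Matrix.col_apply, smul_eq_mul] at h1
    simp only [U, Matrix.of_apply, mul_add, Finset.sum_add_distrib, mul_ite, mul_zero,
      Finset.sum_ite_eq', Finset.mem_univ, if_true]
    have h2 : ∑ x, A r x * g i x = ∑ x, g i x * A r x := by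
      apply Finset.sum_congr rfl
      intro x _
      ring
    rw [h2, h1]
    ring
  have hU : U.IsUpperTriangular := by
    intro i' i hlt
    have hlt' : i < i' := hlt
    simp only [U, Matrix.of_apply]
    rw [hg1 i i' (not_lt.2 hlt'.le), if_neg (ne_of_gt hlt'), add_zero]
  rw [hmul, Matrix.det_mul, Matrix.det_of_isUpperTriangular hU, mul_comm]
  congr 1
  apply Finset.prod_congr rfl
  intro i _
  simp only [U, Matrix.of_apply]
  rw [hg1 i i (lt_irrefl _)]
  simp

/-- If `J` is the order sequence of `c`, the span of the columns before `J l + 1` is contained in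
the span of the columns `c 0`, `c (J l' + 1)`, `l' < l`. -/
theorem span_Iio_le_of_isOrders {n : ℕ} (J : Fin n → ℕ) (hJ : IsOrders R c J) (l : Fin n) :
    Submodule.span R (c '' Set.Iio (J l + 1)) ≤
      Submodule.span R ((fun i : Fin (n + 1) =>
        c (Fin.cases (motive := fun _ => ℕ) 0 (fun l => J l + 1) i)) '' Set.Iio l.succ) := by
  rw [span_Iio_eq]
  apply Submodule.span_mono
  rintro _ ⟨j, hj, rfl⟩
  rw [Finset.mem_coe, mem_jumpsBelow] at hj
  obtain ⟨hj1, hj2⟩ := hj
  rcases Nat.eq_zero_or_pos j with rfl | hpos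
  · exact ⟨0, Fin.succ_pos l, rfl⟩
  · obtain ⟨j', rfl⟩ : ∃ j', j = j' + 1 := ⟨j - 1, by omega⟩
    obtain ⟨l', rfl⟩ := (hJ.2 j').2 hj2
    refine ⟨l'.succ, ?_, rfl⟩
    rw [Set.mem_Iio, Fin.succ_lt_succ_iff]
    apply hJ.1.lt_iff_lt.1
    omega

/-- Replacing the leading column: if `d 0 = d 1`, `c` agrees with `d` after the leading column,
and `c 0`, `c 1` are jumps, then in a space of dimension `n + 1` the jumps of `c` after the leading
column are `0` and all but exactly one of the `n` orders of `d`. -/
theorem exists_dropped_order [Module.Finite R M] {n : ℕ} (hrank : Module.finrank R M = n + 1)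
    (d : ℕ → M) (hcd : ∀ j, c (j + 1) = d (j + 1)) (hd01 : d 0 = d 1)
    (J : Fin n → ℕ) (hJ : IsOrders R d J) (hd0 : IsJump R d 0) (hc0 : IsJump R c 0)
    (hc1 : IsJump R c 1) :
    ∃ m : Fin n, ∀ j, IsJump R c (j + 1) ↔ (j = 0 ∨ ∃ l, l ≠ m ∧ J l = j) := by
  classical
  -- all orders are positive
  have hJpos : ∀ l, 1 ≤ J l := by
    intro l
    by_contra h0
    have h0' : J l = 0 := by omega
    have hj : IsJump R d (J l + 1) := (hJ.2 (J l)).1 ⟨l, rfl⟩
    rw [h0'] at hj
    apply hj
    apply Submodule.subset_span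
    exact ⟨0, by simp, hd01⟩
  have hJinj : Function.Injective (fun l => J l + 1) := by
    intro a b hab
    exact hJ.1.injective (by simpa using hab)
  -- comparison of spans
  have hspan : ∀ m, 2 ≤ m →
      Submodule.span R (d '' Set.Iio m) ≤ Submodule.span R (c '' Set.Iio m) := by
    intro m hm
    apply Submodule.span_mono
    rintro _ ⟨i, hi, rfl⟩
    rw [Set.mem_Iio] at hi
    rcases Nat.eq_zero_or_pos i with rfl | hpos
    · exact ⟨1, by rw [Set.mem_Iio]; omega, by rw [hcd 0, hd01]⟩
    · obtain ⟨i', rfl⟩ : ∃ i', i = i' + 1 := ⟨i - 1, by omega⟩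
      exact ⟨i' + 1, hi, hcd i'⟩
  have hA : ∀ j, 1 ≤ j → IsJump R c (j + 1) → IsJump R d (j + 1) := by
    intro j hj hjump hmem
    apply hjump
    rw [hcd j]
    exact hspan (j + 1) (by omega) hmem
  set N := Finset.univ.sup J + 2 with hN
  have hJN : ∀ l, J l + 1 < N := by
    intro l
    have : J l ≤ Finset.univ.sup J := Finset.le_sup (f := J) (Finset.mem_univ l)
    omega
  -- count jumps of d
  have hd_sub : insert 0 (Finset.univ.image (fun l => J l + 1)) ⊆ jumpsBelow (R := R) d N := by
    intro j hj
    rw [Finset.mem_insert] at hj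
    rw [mem_jumpsBelow]
    rcases hj with rfl | hj
    · exact ⟨by omega, hd0⟩
    · obtain ⟨l, -, rfl⟩ := Finset.mem_image.1 hj
      exact ⟨hJN l, (hJ.2 (J l)).1 ⟨l, rfl⟩⟩
  have hd_card : n + 1 ≤ (jumpsBelow (R := R) d N).card := by
    refine le_trans ?_ (Finset.card_le_card hd_sub)
    rw [Finset.card_insert_of_notMem, Finset.card_image_of_injective _ hJinj]
    · simp
    · simp
  have hc_card : (jumpsBelow (R := R) c N).card = n + 1 := by
    apply le_antisymm
    · rw [← finrank_span_Iio, ← hrank]
      exact Submodule.finrank_le _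
    · refine le_trans hd_card ?_
      rw [← finrank_span_Iio, ← finrank_span_Iio]
      exact Submodule.finrank_mono (hspan N (by omega))
  set P : Fin n → Prop := fun l => IsJump R c (J l + 1) with hP
  -- upper bound
  have hc_sub : jumpsBelow (R := R) c N ⊆
      insert 0 (insert 1 ((Finset.univ.filter P).image (fun l => J l + 1))) := by
    intro j hj
    rw [mem_jumpsBelow] at hj
    obtain ⟨hj1, hj2⟩ := hj
    rw [Finset.mem_insert, Finset.mem_insert]
    rcases Nat.eq_zero_or_pos j with rfl | hpos
    · exact Or.inl rfl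
    · obtain ⟨j', rfl⟩ : ∃ j', j = j' + 1 := ⟨j - 1, by omega⟩
      rcases Nat.eq_zero_or_pos j' with rfl | hpos'
      · exact Or.inr (Or.inl rfl)
      · right; right
        obtain ⟨l, rfl⟩ := (hJ.2 j').2 (hA j' hpos' hj2)
        exact Finset.mem_image.2 ⟨l, Finset.mem_filter.2 ⟨Finset.mem_univ _, hj2⟩, rfl⟩
  have hc_sup : insert 0 (insert 1 ((Finset.univ.filter P).image (fun l => J l + 1))) ⊆
      jumpsBelow (R := R) c N := by
    intro j hj
    rw [Finset.mem_insert, Finset.mem_insert] at hj
    rw [mem_jumpsBelow]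
    rcases hj with rfl | rfl | hj
    · exact ⟨by omega, hc0⟩
    · exact ⟨by omega, hc1⟩
    · obtain ⟨l, hl, rfl⟩ := Finset.mem_image.1 hj
      exact ⟨hJN l, (Finset.mem_filter.1 hl).2⟩
  have hcard_eq : (insert 0 (insert 1 ((Finset.univ.filter P).image (fun l => J l + 1)))).card =
      (Finset.univ.filter P).card + 2 := by
    rw [Finset.card_insert_of_notMem, Finset.card_insert_of_notMem,
      Finset.card_image_of_injective _ hJinj]
    · intro h
      obtain ⟨l, -, hl⟩ := Finset.mem_image.1 h
      have := hJpos l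
      omega
    · intro h
      rw [Finset.mem_insert] at h
      rcases h with h | h
      · omega
      · obtain ⟨l, -, hl⟩ := Finset.mem_image.1 h
        omega
  have h1 := Finset.card_le_card hc_sub
  have h2 := Finset.card_le_card hc_sup
  rw [hcard_eq] at h1 h2
  rw [hc_card] at h1 h2
  have h3 := Finset.card_filter_add_card_filter_not (s := (Finset.univ : Finset (Fin n))) P
  rw [Finset.card_univ, Fintype.card_fin] at h3
  have h4 : (Finset.univ.filter (fun l => ¬ P l)).card = 1 := by omega
  obtain ⟨m, hm⟩ := Finset.card_eq_one.1 h4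
  refine ⟨m, ?_⟩
  have hPm : ∀ l, P l ↔ l ≠ m := by
    intro l
    have : l ∈ Finset.univ.filter (fun l => ¬ P l) ↔ l ∈ ({m} : Finset (Fin n)) := by rw [hm]
    rw [Finset.mem_filter, Finset.mem_singleton] at this
    constructor
    · intro hl hlm
      exact (this.2 hlm).2 hl
    · intro hl
      by_contra hnP
      exact hl (this.1 ⟨Finset.mem_univ _, hnP⟩)
  intro j
  constructor
  · intro hj
    rcases Nat.eq_zero_or_pos j with rfl | hpos
    · exact Or.inl rfl
    · right
      obtain ⟨l, rfl⟩ := (hJ.2 j).2 (hA j hpos hj)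
      exact ⟨l, (hPm l).1 hj, rfl⟩
  · rintro (rfl | ⟨l, hl, rfl⟩)
    · exact hc1
    · exact (hPm l).2 hl

/-- If the sequence spans a space of dimension `n + 1` and its leading vector is nonzero, it has
an order sequence of length `n`, and the corresponding `n + 1` columns are linearly independent. -/
theorem exists_isOrders_of_span_eq_top [Module.Finite R M] {n : ℕ}
    (hrank : Module.finrank R M = n + 1) (hc0 : IsJump R c 0)
    (hspan : Submodule.span R (Set.range c) = ⊤) :
    ∃ J : Fin n → ℕ, IsOrders R c J ∧ LinearIndependent R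
      (fun i : Fin (n + 1) => c (Fin.cases (motive := fun _ => ℕ) 0 (fun l => J l + 1) i)) := by
  classical
  -- the spans of initial segments stabilise at `⊤`
  obtain ⟨N, hN⟩ : ∃ N, Submodule.span R (c '' Set.Iio N) = ⊤ := by
    let f : ℕ →o Submodule R M :=
      ⟨fun m => Submodule.span R (c '' Set.Iio m), fun a b hab =>
        Submodule.span_mono (Set.image_mono (Set.Iio_subset_Iio hab))⟩
    obtain ⟨N, hN⟩ := (monotone_stabilizes_iff_noetherian (R := R) (M := M)).2 inferInstance f
    refine ⟨N, ?_⟩
    rw [eq_top_iff, ← hspan, Submodule.span_le]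
    rintro _ ⟨j, rfl⟩
    have h1 : c j ∈ f (max N (j + 1)) :=
      Submodule.subset_span ⟨j, by rw [Set.mem_Iio]; omega, rfl⟩
    rw [← hN (max N (j + 1)) (le_max_left _ _)] at h1
    exact h1
  have hcard : (jumpsBelow (R := R) c N).card = n + 1 := by
    rw [← finrank_span_Iio, hN, finrank_top, hrank]
  have hlt : ∀ j, IsJump R c j → j < N := by
    intro j hj
    by_contra hle
    push Not at hle
    apply hj
    have : Submodule.span R (c '' Set.Iio N) ≤ Submodule.span R (c '' Set.Iio j) :=
      Submodule.span_mono (Set.image_mono (Set.Iio_subset_Iio hle))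
    rw [hN] at this
    exact this trivial
  have hmemS : ∀ j, j ∈ jumpsBelow (R := R) c N ↔ IsJump R c j := by
    intro j
    rw [mem_jumpsBelow]
    exact ⟨fun h => h.2, fun h => ⟨hlt j h, h⟩⟩
  have h0S : 0 ∈ jumpsBelow (R := R) c N := (hmemS 0).2 hc0
  have hcard' : ((jumpsBelow (R := R) c N).erase 0).card = n := by
    rw [Finset.card_erase_of_mem h0S, hcard]
    rfl
  set e := ((jumpsBelow (R := R) c N).erase 0).orderEmbOfFin hcard' with he
  have hepos : ∀ l, 1 ≤ e l := by
    intro l
    have := Finset.orderEmbOfFin_mem ((jumpsBelow (R := R) c N).erase 0) hcard' l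
    rw [Finset.mem_erase] at this
    have h1 := this.1
    change e l ≠ 0 at h1
    omega
  have hejump : ∀ l, IsJump R c (e l) := by
    intro l
    have := Finset.orderEmbOfFin_mem ((jumpsBelow (R := R) c N).erase 0) hcard' l
    rw [Finset.mem_erase] at this
    exact (hmemS _).1 this.2
  refine ⟨fun l => e l - 1, ⟨?_, ?_⟩, ?_⟩
  · intro a b hab
    have h1 : e a < e b := e.strictMono hab
    have h2 := hepos a
    have h3 := hepos b
    change e a - 1 < e b - 1
    omega
  · intro j
    constructor
    · rintro ⟨l, rfl⟩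
      have h2 := hepos l
      have : e l - 1 + 1 = e l := by omega
      change IsJump R c (e l - 1 + 1)
      rw [this]
      exact hejump l
    · intro hj
      have h1 : j + 1 ∈ (jumpsBelow (R := R) c N).erase 0 := by
        rw [Finset.mem_erase]
        exact ⟨by omega, (hmemS _).2 hj⟩
      have h2 : j + 1 ∈ Set.range e := by
        rw [he, Finset.range_orderEmbOfFin]
        exact h1
      obtain ⟨l, hl⟩ := h2
      refine ⟨l, ?_⟩
      change e l - 1 = j
      omega
  · have hind := linearIndepOn_jumpsBelow (R := R) c N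
    have hind' : LinearIndependent R (fun x : (jumpsBelow (R := R) c N : Set ℕ) => c x) := hind
    let idx : Fin (n + 1) → (jumpsBelow (R := R) c N : Set ℕ) := fun i =>
      Fin.cases (motive := fun _ => (jumpsBelow (R := R) c N : Set ℕ)) ⟨0, h0S⟩
        (fun l => ⟨e l, (hmemS _).2 (hejump l)⟩) i
    have hidx_inj : Function.Injective idx := by
      intro a b hab
      have hab' : (idx a : ℕ) = idx b := congrArg Subtype.val hab
      cases a using Fin.cases with
      | zero =>
        cases b using Fin.cases with
        | zero => rfl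
        | succ b =>
          exfalso
          have h1 : (0 : ℕ) = e b := hab'
          have := hepos b
          omega
      | succ a =>
        cases b using Fin.cases with
        | zero =>
          exfalso
          have h1 : e a = (0 : ℕ) := hab'
          have := hepos a
          omega
        | succ b =>
          have h1 : e a = e b := hab'
          rw [e.injective h1]
    have h3 := hind'.comp idx hidx_inj
    have h4 : (fun i : Fin (n + 1) =>
        c (Fin.cases (motive := fun _ => ℕ) 0 (fun l => (e l - 1) + 1) i)) =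
        (fun x : (jumpsBelow (R := R) c N : Set ℕ) => c x) ∘ idx := by
      funext i
      cases i using Fin.cases with
      | zero => rfl
      | succ l =>
        have h2 := hepos l
        have : e l - 1 + 1 = e l := by omega
        simp only [Fin.cases_succ, Function.comp_apply, idx, this]
    rw [h4]
    exact h3

section wrMat

variable {k K : Type*} [Field k] [Field K] [Algebra k K]

/-- The columns of `wrMat τ H φ I` are the columns `hcol τ H φ 0`, `hcol τ H φ (I l + 1)`. -/
theorem wrMat_col {n : ℕ} (τ : K →ₐ[k] K) (H : K →ₐ[k] PowerSeries K)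
    (φ : Fin (n + 1) → K) (I : Fin n → ℕ) (i : Fin (n + 1)) :
    (wrMat τ H φ I).col i =
      hcol τ H φ (Fin.cases (motive := fun _ => ℕ) 0 (fun l => I l + 1) i) := by
  funext r
  cases i using Fin.cases with
  | zero => rfl
  | succ l => rfl

/-- Product rule: the columns of `y • φ` in terms of those of `φ`. -/
theorem hcol_smul_zero {ι : Type*} (τ : K →ₐ[k] K) (H : K →ₐ[k] PowerSeries K) (φ : ι → K)
    (y : K) : hcol τ H (y • φ) 0 = τ y • hcol τ H φ 0 := by
  funext i
  change τ (y * φ i) = τ y * τ (φ i)
  rw [map_mul]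

theorem hcol_smul_succ {ι : Type*} (τ : K →ₐ[k] K) (H : K →ₐ[k] PowerSeries K)
    (hH : ∀ y : K, PowerSeries.constantCoeff (H y) = y) (φ : ι → K)
    (y : K) (j : ℕ) : hcol τ H (y • φ) (j + 1) - y • hcol τ H φ (j + 1) =
      ∑ a ∈ Finset.range j, LocRes.hasseD H (a + 1) y • hcol τ H φ (j - (a + 1) + 1) := by
  funext i
  change PowerSeries.coeff j (H (y * φ i)) - y * PowerSeries.coeff j (H (φ i)) = _
  rw [map_mul, PowerSeries.coeff_mul, Finset.Nat.sum_antidiagonal_eq_sum_range_succ_mk,
    Finset.sum_range_succ', Finset.sum_apply]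
  simp only [PowerSeries.coeff_zero_eq_constantCoeff_apply, hH, Nat.sub_zero, add_sub_cancel_right]
  rfl

theorem hcol_smul_sub_mem {ι : Type*} (τ : K →ₐ[k] K) (H : K →ₐ[k] PowerSeries K)
    (hH : ∀ y : K, PowerSeries.constantCoeff (H y) = y) (φ : ι → K)
    (y : K) (j : ℕ) : hcol τ H (y • φ) j - (Nat.casesOn j (τ y) (fun _ => y) : K) • hcol τ H φ j ∈
      Submodule.span K (hcol τ H φ '' Set.Iio j) := by
  cases j with
  | zero =>
    change hcol τ H (y • φ) 0 - τ y • hcol τ H φ 0 ∈ _
    rw [hcol_smul_zero, sub_self]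
    exact Submodule.zero_mem _
  | succ j =>
    change hcol τ H (y • φ) (j + 1) - y • hcol τ H φ (j + 1) ∈ _
    rw [hcol_smul_succ τ H hH]
    apply Submodule.sum_mem
    intro a ha
    apply Submodule.smul_mem
    apply Submodule.subset_span
    refine ⟨_, ?_, rfl⟩
    rw [Finset.mem_range] at ha
    rw [Set.mem_Iio]
    omega

end wrMat

end Groth.Agent.Lib.Helper3.Jumps
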