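import Mathlib
import Groth.Prelude.Def_W4bk4goldsch45p2
import Groth.Agent.Lib.Helper21.TensorDomain
import Groth.Agent.Lib.Helper2.FunFld.Trans

/-!
# Linear independence of total Hasse derivatives (generalised Wronskian has full rank)
-/

set_option autoImplicit false

namespace Groth.Agent.Lib.Helper3.HasseIndep

open TensorProduct Polynomial

section Domain

variable (k : Type*) [Field k] [IsAlgClosed k] (K L : Type*) [Field K] [Field L]
  [Algebra k K] [Algebra k L]

/-- Over an algebraically closed field, the tensor product of two field extensions is a domain. -/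
theorem isDomain_tensor_field : IsDomain (K ⊗[k] L) := by
  have hnt : Nontrivial (K ⊗[k] L) :=
    (Algebra.TensorProduct.includeLeft_injective (S := K) (algebraMap k L).injective).nontrivial
  have hnzd : NoZeroDivisors (K ⊗[k] L) := by
    constructor
    intro x y hxy
    obtain ⟨C₁, hC₁, hx⟩ := exists_fg_and_mem_baseChange x
    obtain ⟨C₂, hC₂, hy⟩ := exists_fg_and_mem_baseChange y
    obtain ⟨C, hC, h1, h2⟩ : ∃ C : Subalgebra k L, C.FG ∧ C₁ ≤ C ∧ C₂ ≤ C :=
      ⟨C₁ ⊔ C₂, hC₁.sup hC₂, le_sup_left, le_sup_right⟩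
    have hmono : ∀ C' : Subalgebra k L, C' ≤ C → ∀ z ∈ C'.baseChange K, z ∈ C.baseChange K := by
      rintro C' hC' _ ⟨z', rfl⟩
      refine ⟨Algebra.TensorProduct.map (AlgHom.id K K) (Subalgebra.inclusion hC') z', ?_⟩
      induction z' using TensorProduct.induction_on with
      | zero => simp
      | tmul a c => rfl
      | add a b ha hb => simp only [map_add, ha, hb]
    obtain ⟨x', rfl⟩ := hmono C₁ h1 x hx
    obtain ⟨y', rfl⟩ := hmono C₂ h2 y hy
    haveI : Algebra.FiniteType k C := (Subalgebra.fg_iff_finiteType C).1 hC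
    haveI : IsDomain (K ⊗[k] C) := Groth.Agent.Lib.Helper21.isDomain_tensor_of_isAlgClosed' k C K
    have hinj : Function.Injective (Algebra.TensorProduct.map (AlgHom.id K K) C.val) := by
      have := Module.Flat.lTensor_preserves_injective_linearMap (M := K) C.val.toLinearMap
        Subtype.val_injective
      intro a b hab
      apply this
      exact hab
    replace hxy : Algebra.TensorProduct.map (AlgHom.id K K) C.val (x' * y') = 0 := by
      rw [map_mul]
      exact hxy
    have h0 := hinj (hxy.trans (map_zero _).symm)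
    rcases mul_eq_zero.1 h0 with h | h
    · left; rw [h]; exact map_zero _
    · right; rw [h]; exact map_zero _
  exact NoZeroDivisors.to_isDomain _

end Domain

section Transc

variable {K : Type*} [Field K]

/-- `s + T` is transcendental over `K` in `K⟦T⟧`. -/
theorem aeval_C_add_X_injective (s : K) :
    Function.Injective (Polynomial.aeval (PowerSeries.C s + PowerSeries.X) : K[X] →ₐ[K] PowerSeries K) := by
  have h : (Polynomial.aeval (PowerSeries.C s + PowerSeries.X) : K[X] →ₐ[K] PowerSeries K) =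
      (Polynomial.coeToPowerSeries.algHom K).comp (Polynomial.aeval (X + C s)) := by
    apply Polynomial.algHom_ext
    simp [Polynomial.coeToPowerSeries.algHom_apply, add_comm]
  rw [h]
  intro p q hpq
  simp only [AlgHom.comp_apply, Polynomial.coeToPowerSeries.algHom_apply] at hpq
  have h2 : Polynomial.aeval (X + C s) p = Polynomial.aeval (X + C s) q := by
    have := hpq
    simpa using this
  have h3 : ∀ r : K[X], Polynomial.aeval (X + C s) r = Polynomial.taylor s r := by
    intro r
    rw [Polynomial.taylor_apply, Polynomial.comp, Polynomial.aeval_def]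
    rfl
  rw [h3, h3] at h2
  exact Polynomial.taylor_injective s h2

end Transc

section Main

open scoped IntermediateField
open IntermediateField.algebraAdjoinAdjoin

variable {k K : Type*} [Field k] [Field K] [Algebra k K]

/-- If `K` is algebraic over `k(s)`, then every `y : K` satisfies a nonzero polynomial with
coefficients in `k[X]` evaluated at `X = s`. -/
theorem exists_biv (s : K) (halg : Algebra.IsAlgebraic k⟮s⟯ K) (y : K) :
    ∃ p : k[X][X], p ≠ 0 ∧ p.eval₂ (Polynomial.aeval s : k[X] →ₐ[k] K).toRingHom y = 0 := by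
  have h1 : Algebra.IsAlgebraic (Algebra.adjoin k ({s} : Set K)) K :=
    Algebra.IsAlgebraic.trans (Algebra.adjoin k ({s} : Set K)) k⟮s⟯ K
  obtain ⟨q, hq0, hq⟩ := h1.isAlgebraic y
  -- lift coefficients
  let f : k[X] →ₐ[k] Algebra.adjoin k ({s} : Set K) :=
    AlgHom.codRestrict (Polynomial.aeval s) (Algebra.adjoin k ({s} : Set K))
      (fun p => Polynomial.aeval_mem_adjoin_singleton k s)
  have hsurj : Function.Surjective f := by
    rintro ⟨z, hz⟩
    rw [Algebra.adjoin_singleton_eq_range_aeval] at hz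
    obtain ⟨p, rfl⟩ := hz
    exact ⟨p, rfl⟩
  obtain ⟨p, rfl⟩ := Polynomial.map_surjective (f : k[X] →+* _) hsurj q
  refine ⟨p, ?_, ?_⟩
  · rintro rfl
    exact hq0 (Polynomial.map_zero _)
  · rw [Polynomial.aeval_def, Polynomial.eval₂_map] at hq
    exact hq

theorem one_tmul_alg (s : K) (halg : Algebra.IsAlgebraic k⟮s⟯ K) (y : K) :
    ∃ p : K[X][X], p ≠ 0 ∧
      p.eval₂ (Polynomial.aeval ((1 : K) ⊗ₜ[k] s) : K[X] →ₐ[K] K ⊗[k] K).toRingHom
        ((1 : K) ⊗ₜ[k] y) = 0 := by
  obtain ⟨p₀, hp₀, hp⟩ := exists_biv s halg y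
  refine ⟨p₀.map (Polynomial.mapRingHom (algebraMap k K)), ?_, ?_⟩
  · rw [Polynomial.map_ne_zero_iff]
    · exact hp₀
    · exact Polynomial.map_injective _ (algebraMap k K).injective
  · rw [Polynomial.eval₂_map]
    have hcomp : ((Polynomial.aeval ((1 : K) ⊗ₜ[k] s) : K[X] →ₐ[K] K ⊗[k] K).toRingHom).comp
        (Polynomial.mapRingHom (algebraMap k K)) =
        ((Algebra.TensorProduct.includeRight : K →ₐ[k] K ⊗[k] K) : K →+* K ⊗[k] K).comp
          (Polynomial.aeval s : k[X] →ₐ[k] K).toRingHom := by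
      apply Polynomial.ringHom_ext
      · intro a
        simp [Algebra.TensorProduct.algebraMap_apply]
      · simp
    rw [hcomp]
    have := Polynomial.hom_eval₂ p₀ (Polynomial.aeval s : k[X] →ₐ[k] K).toRingHom
      ((Algebra.TensorProduct.includeRight : K →ₐ[k] K ⊗[k] K) : K →+* K ⊗[k] K) y
    rw [hp, map_zero] at this
    exact this.symm

theorem all_alg (s : K) (halg : Algebra.IsAlgebraic k⟮s⟯ K) (z : K ⊗[k] K) :
    ∃ p : K[X][X], p ≠ 0 ∧
      p.eval₂ (Polynomial.aeval ((1 : K) ⊗ₜ[k] s) : K[X] →ₐ[K] K ⊗[k] K).toRingHom z = 0 := by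
  let _ : Algebra K[X] (K ⊗[k] K) :=
    (Polynomial.aeval ((1 : K) ⊗ₜ[k] s) : K[X] →ₐ[K] K ⊗[k] K).toRingHom.toAlgebra
  have key : ∀ z : K ⊗[k] K, IsAlgebraic K[X] z := by
    intro z
    induction z using TensorProduct.induction_on with
    | zero => exact isAlgebraic_zero
    | add a b ha hb => exact ha.add hb
    | tmul a y =>
      have h1 : a ⊗ₜ[k] y = algebraMap K[X] (K ⊗[k] K) (Polynomial.C a) * ((1 : K) ⊗ₜ[k] y) := by
        rw [RingHom.algebraMap_toAlgebra]
        simp [Algebra.TensorProduct.algebraMap_apply]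
      rw [h1]
      apply IsAlgebraic.mul (isAlgebraic_algebraMap _)
      obtain ⟨p, hp0, hp⟩ := one_tmul_alg s halg y
      exact ⟨p, hp0, hp⟩
  obtain ⟨p, hp0, hp⟩ := key z
  exact ⟨p, hp0, hp⟩

theorem transcendental_of_hasse [hK : Fact (FunFld.IsFunctionField k K)] (s : K)
    (H : K →ₐ[k] PowerSeries K) (hH : LocRes.IsHasseFamily s H) : Transcendental k s := by
  intro halg
  obtain ⟨a, rfl⟩ := hK.out.2 s halg
  have h1 := hH.1
  rw [H.commutes] at h1
  have h2 : (algebraMap k (PowerSeries K)) a = PowerSeries.C (algebraMap k K a) := by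
    rw [IsScalarTower.algebraMap_apply k K (PowerSeries K)]
    rfl
  rw [h2] at h1
  have h3 : (PowerSeries.X : PowerSeries K) = 0 := by
    have := congrArg (fun f => f - PowerSeries.C (algebraMap k K a)) h1
    simpa using this.symm
  exact PowerSeries.X_ne_zero h3

theorem phi_injective [IsAlgClosed k] (hK : FunFld.IsFunctionField k K) (s : K)
    (H : K →ₐ[k] PowerSeries K) (hH : LocRes.IsHasseFamily s H) :
    Function.Injective (Algebra.TensorProduct.lift (Algebra.ofId K (PowerSeries K)) H
      (fun _ _ => Commute.all _ _) : K ⊗[k] K →ₐ[K] PowerSeries K) := by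
  have : Fact (FunFld.IsFunctionField k K) := ⟨hK⟩
  have hs : Transcendental k s := transcendental_of_hasse s H hH
  have halg := Groth.Agent.Lib.Helper2.FF.isAlgebraic_adjoin_simple hK hs
  have : IsDomain (K ⊗[k] K) := Groth.Agent.Lib.Helper3.HasseIndep.isDomain_tensor_field k K K
  rw [injective_iff_map_eq_zero]
  intro z hz
  by_contra hz0
  obtain ⟨p, hp0, hp⟩ := all_alg s halg z
  set Φ : K ⊗[k] K →ₐ[K] PowerSeries K := Algebra.TensorProduct.lift (Algebra.ofId K (PowerSeries K)) H
      (fun _ _ => Commute.all _ _) with hΦ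
  have hzI : z ∈ RingHom.ker (Φ : K ⊗[k] K →+* PowerSeries K) := hz
  have hne := Ideal.comap_ne_bot_of_root_mem hz0 hzI hp0 hp
  apply hne
  rw [eq_bot_iff]
  intro q hq
  rw [Ideal.mem_comap, RingHom.mem_ker] at hq
  have h1 : Φ (Polynomial.aeval ((1 : K) ⊗ₜ[k] s) q) = Polynomial.aeval (PowerSeries.C s + PowerSeries.X) q := by
    rw [← Polynomial.aeval_algHom_apply]
    congr 1
    rw [hΦ, Algebra.TensorProduct.lift_tmul, map_one, one_mul, hH.1]
  have h2 : Polynomial.aeval (PowerSeries.C s + PowerSeries.X) q = 0 := by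
    rw [← h1]
    exact hq
  rw [Ideal.mem_bot]
  apply Groth.Agent.Lib.Helper3.HasseIndep.aeval_C_add_X_injective s
  rw [h2, map_zero]

theorem linearIndependent_H [IsAlgClosed k] (hK : FunFld.IsFunctionField k K) (s : K)
    (H : K →ₐ[k] PowerSeries K) (hH : LocRes.IsHasseFamily s H) {ι : Type*} (φ : ι → K)
    (hφ : LinearIndependent k φ) : LinearIndependent K (fun i => H (φ i)) := by
  have h1 : LinearIndependent K (fun i => (1 : K) ⊗ₜ[k] φ i) :=
    Module.Flat.linearIndependent_one_tmul hφ
  have hinj := phi_injective hK s H hH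
  have h2 := h1.map' (Algebra.TensorProduct.lift (Algebra.ofId K (PowerSeries K)) H
      (fun _ _ => Commute.all _ _) : K ⊗[k] K →ₐ[K] PowerSeries K).toLinearMap
    (LinearMap.ker_eq_bot.2 hinj)
  have h3 : (fun i => H (φ i)) = (Algebra.TensorProduct.lift (Algebra.ofId K (PowerSeries K)) H
      (fun _ _ => Commute.all _ _) : K ⊗[k] K →ₐ[K] PowerSeries K).toLinearMap ∘
        (fun i => (1 : K) ⊗ₜ[k] φ i) := by
    funext i
    simp
  rw [h3]
  exact h2

theorem span_hcol_eq_top [IsAlgClosed k] (hK : FunFld.IsFunctionField k K) (s : K)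
    (H : K →ₐ[k] PowerSeries K) (hH : LocRes.IsHasseFamily s H) {n : ℕ} (φ : Fin (n + 1) → K)
    (hφ : LinearIndependent k φ) (τ : K →ₐ[k] K) :
    Submodule.span K (Set.range (fun j => FunFld.hcol τ H φ (j + 1))) = ⊤ := by
  by_contra hne
  obtain ⟨f, hf0, hle⟩ := Submodule.exists_le_ker_of_lt_top _ (lt_top_iff_ne_top.2 hne)
  have hrows := linearIndependent_H hK s H hH φ hφ
  rw [Fintype.linearIndependent_iff] at hrows
  set a : Fin (n + 1) → K := fun i => f (fun j => if i = j then 1 else 0) with ha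
  have hsum : ∑ i, a i • H (φ i) = 0 := by
    ext j
    have hj : FunFld.hcol τ H φ (j + 1) ∈ LinearMap.ker f :=
      hle (Submodule.subset_span ⟨j, rfl⟩)
    rw [LinearMap.mem_ker, LinearMap.pi_apply_eq_sum_univ] at hj
    rw [map_sum, map_zero, ← hj]
    apply Finset.sum_congr rfl
    intro i _
    rw [PowerSeries.coeff_smul, smul_eq_mul, smul_eq_mul, mul_comm]
    rfl
  have ha0 := hrows a hsum
  apply hf0
  apply LinearMap.ext
  intro x
  rw [LinearMap.pi_apply_eq_sum_univ, LinearMap.zero_apply]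
  apply Finset.sum_eq_zero
  intro i _
  have := ha0 i
  rw [ha] at this
  simp only at this
  rw [this, smul_zero]

end Main

end Groth.Agent.Lib.Helper3.HasseIndep
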