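import Groth.Agent.Lib.Helper29.QCohFinite
import Groth.Agent.Lib.Helper29.QCohExt
/-!
# Gluing modules as a limit: the projections of a limit of a "locally directed system of
modules supported on opens" are bijective over these opens
-/
universe u
open CategoryTheory CategoryTheory.Limits AlgebraicGeometry Opposite TopologicalSpace
open Groth.Agent.Lib.Helper29

namespace Groth.Agent.Lib.Helper3.ModGlue

variable {P : Scheme.{u}}

theorem ext_of_cover (M : P.Modules) {ι : Type*} (V : ι → P.Opens) (U : P.Opens)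
    (hVU : ∀ i, V i ≤ U) (hcover : U ≤ iSup V) (s t : Γ(M, U))
    (h : ∀ i, QCoh.res M (hVU i) s = QCoh.res M (hVU i) t) : s = t :=
  ((QCoh.toSheafAb P).obj M).eq_of_locally_eq' V U (fun i => homOfLE (hVU i)) hcover s t h

variable {I : Type u} [Preorder I] (D : Iᵒᵖ ⥤ P.Modules) (R : I → P.Opens)

/-- The transition map on sections. -/
noncomputable def tr {i j : I} (h : j ≤ i) (W : P.Opens) (s : Γ(D.obj (op i), W)) :
    Γ(D.obj (op j), W) :=
  (D.map (homOfLE h).op).app W s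

theorem tr_res {i j : I} (h : j ≤ i) {W W' : P.Opens} (hW : W' ≤ W) (s : Γ(D.obj (op i), W)) :
    tr D h W' (QCoh.res _ hW s) = QCoh.res _ hW (tr D h W s) :=
  QCoh.app_res _ hW s

theorem tr_tr {i j k : I} (h : j ≤ i) (h' : k ≤ j) (W : P.Opens) (s : Γ(D.obj (op i), W)) :
    tr D h' W (tr D h W s) = tr D (h'.trans h) W s := by
  unfold tr
  have : D.map (homOfLE (h'.trans h)).op = D.map (homOfLE h).op ≫ D.map (homOfLE h').op := by
    rw [← D.map_comp]; rfl
  rw [this]; rfl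

theorem tr_self (i : I) (W : P.Opens) (s : Γ(D.obj (op i), W)) : tr D (le_refl i) W s = s := by
  unfold tr
  have : D.map (homOfLE (le_refl i)).op = 𝟙 _ := by
    rw [← D.map_id]; rfl
  rw [this]; rfl

/-- The hypotheses: the `i`-th module is supported on the open `R i`, the system of opens is
locally directed and the transition maps are bijective over the smaller open. -/
structure Hyp : Prop where
  mono : ∀ {i j : I}, j ≤ i → R j ≤ R i
  dir : ∀ (i i' : I) (w : P), w ∈ R i → w ∈ R i' → ∃ j, j ≤ i ∧ j ≤ i' ∧ w ∈ R j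
  supp : ∀ (i : I) (W : P.Opens),
    Function.Bijective (QCoh.res (D.obj (op i)) (inf_le_left : W ⊓ R i ≤ W))
  bij : ∀ {i j : I} (h : j ≤ i) (W : P.Opens), W ≤ R j → Function.Bijective (tr D h W)

variable {D R}

/-- `s` is the section over `W` of the `i`-th module determined by `t`. -/
def Good (i₀ : I) (W : P.Opens) (t : Γ(D.obj (op i₀), W)) (i : I) (s : Γ(D.obj (op i), W)) : Prop :=
  ∀ (j : I) (hj : j ≤ i) (hj₀ : j ≤ i₀),
    QCoh.res _ (inf_le_left : W ⊓ R j ≤ W) (tr D hj W s) =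
      QCoh.res _ (inf_le_left : W ⊓ R j ≤ W) (tr D hj₀ W t)

theorem cover_le (h : Hyp D R) {i i' : I} (O : P.Opens) (hO : O ≤ R i) (hO' : O ≤ R i')
    (W : P.Opens) (hOW : O ≤ W) :
    O ≤ ⨆ j : {j : I // j ≤ i ∧ j ≤ i'}, W ⊓ R j.1 := by
  intro w hw
  obtain ⟨j, hji, hji', hwj⟩ := h.dir i i' w (hO hw) (hO' hw)
  exact Opens.mem_iSup.mpr ⟨⟨j, hji, hji'⟩, hOW hw, hwj⟩

theorem good_unique (h : Hyp D R) {i₀ : I} {W : P.Opens} (hW : W ≤ R i₀) {t : Γ(D.obj (op i₀), W)}
    {i : I} {s s' : Γ(D.obj (op i), W)} (hs : Good (R := R) i₀ W t i s)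
    (hs' : Good (R := R) i₀ W t i s') : s = s' := by
  apply (h.supp i W).1
  refine ext_of_cover _ (fun j : {j : I // j ≤ i ∧ j ≤ i₀} => W ⊓ R j.1) _
    (fun j => inf_le_inf le_rfl (h.mono j.2.1)) (cover_le h _ inf_le_right (inf_le_left.trans hW) W inf_le_left)
    _ _ ?_
  rintro ⟨j, hji, hj₀⟩
  rw [QCoh.res_res, QCoh.res_res]
  apply (h.bij hji (W ⊓ R j) inf_le_right).1
  rw [tr_res, tr_res, hs j hji hj₀, hs' j hji hj₀]

theorem good_exists (h : Hyp D R) {i₀ : I} {W : P.Opens} (hW : W ≤ R i₀) (t : Γ(D.obj (op i₀), W))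
    (i : I) : ∃ s : Γ(D.obj (op i), W), Good (R := R) i₀ W t i s := by
  let ι := {j : I // j ≤ i ∧ j ≤ i₀}
  have hsf : ∀ j : ι, ∃ a : Γ(D.obj (op i), W ⊓ R j.1), tr D j.2.1 _ a =
      QCoh.res _ (inf_le_left : W ⊓ R j.1 ≤ W) (tr D j.2.2 W t) := fun j =>
    (h.bij j.2.1 (W ⊓ R j.1) inf_le_right).2 _
  choose sf hsf using hsf
  have hcompat : ∀ j j' : ι, QCoh.res _ (inf_le_left : (W ⊓ R j.1) ⊓ (W ⊓ R j'.1) ≤ W ⊓ R j.1) (sf j) =
      QCoh.res _ (inf_le_right : (W ⊓ R j.1) ⊓ (W ⊓ R j'.1) ≤ W ⊓ R j'.1) (sf j') := by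
    rintro ⟨j, hji, hj₀⟩ ⟨j', hj'i, hj'₀⟩
    refine ext_of_cover _ (fun k : {k : I // k ≤ j ∧ k ≤ j'} => W ⊓ R k.1) _
      (fun k => le_inf (inf_le_inf le_rfl (h.mono k.2.1)) (inf_le_inf le_rfl (h.mono k.2.2)))
      (cover_le h _ (inf_le_left.trans inf_le_right) (inf_le_right.trans inf_le_right) W
        (inf_le_left.trans inf_le_left)) _ _ ?_
    rintro ⟨k, hkj, hkj'⟩
    rw [QCoh.res_res, QCoh.res_res]
    apply (h.bij (hkj.trans hji) (W ⊓ R k) inf_le_right).1
    have e1 : tr D (hkj.trans hji) (W ⊓ R k)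
        (QCoh.res _ (inf_le_inf le_rfl (h.mono hkj) : W ⊓ R k ≤ W ⊓ R j) (sf ⟨j, hji, hj₀⟩)) =
        QCoh.res _ (inf_le_left : W ⊓ R k ≤ W) (tr D (hkj.trans hj₀) W t) := by
      rw [tr_res, ← tr_tr D hji hkj, hsf ⟨j, hji, hj₀⟩, tr_res, tr_tr, QCoh.res_res]
    have e2 : tr D (hkj.trans hji) (W ⊓ R k)
        (QCoh.res _ (inf_le_inf le_rfl (h.mono hkj') : W ⊓ R k ≤ W ⊓ R j') (sf ⟨j', hj'i, hj'₀⟩)) =
        QCoh.res _ (inf_le_left : W ⊓ R k ≤ W) (tr D (hkj.trans hj₀) W t) := by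
      rw [tr_res, ← tr_tr D hj'i hkj', hsf ⟨j', hj'i, hj'₀⟩, tr_res, tr_tr, QCoh.res_res]
    exact e1.trans e2.symm
  obtain ⟨s', hs'⟩ := QCoh.exists_gluing (D.obj (op i)) (fun j : ι => W ⊓ R j.1) (W ⊓ R i)
    (fun j => inf_le_inf le_rfl (h.mono j.2.1))
    (cover_le h _ inf_le_right (inf_le_left.trans hW) W inf_le_left) sf hcompat
  obtain ⟨s, hs⟩ := (h.supp i W).2 s'
  refine ⟨s, fun j hji hj₀ => ?_⟩
  rw [← tr_res, ← hsf ⟨j, hji, hj₀⟩, ← hs' ⟨j, hji, hj₀⟩, ← hs, QCoh.res_res]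

/-- Over an open inside `R i₀`, a section of the `i₀`-th module extends uniquely to a compatible
family of sections of all the modules. -/
theorem existsUnique_family (h : Hyp D R) (i₀ : I) (W : P.Opens) (hW : W ≤ R i₀)
    (t : Γ(D.obj (op i₀), W)) :
    ∃! s : (∀ i : I, Γ(D.obj (op i), W)),
      (∀ (i j : I) (hij : j ≤ i), tr D hij W (s i) = s j) ∧ s i₀ = t := by
  choose s hs using good_exists h hW t
  have ht : Good (R := R) i₀ W t i₀ t := fun j hj hj₀ => rfl
  refine ⟨s, ⟨fun i k hik => ?_, good_unique h hW (hs i₀) ht⟩, ?_⟩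
  · refine good_unique h hW (fun j hj hj₀ => ?_) (hs k)
    rw [tr_tr]
    exact hs i j (hj.trans hik) hj₀
  · rintro s' ⟨hs'c, hs't⟩
    funext i
    refine good_unique h hW (fun j hj hj₀ => ?_) (hs i)
    rw [hs'c i j hj, ← hs't, hs'c i₀ j hj₀]

/-- Sections over `W` as a type-valued functor. -/
noncomputable abbrev secF (P : Scheme.{u}) (W : P.Opens) : P.Modules ⥤ Type u :=
  QCoh.sectionsFunctor P W ⋙ forget AddCommGrpCat

noncomputable instance (W : P.Opens) : PreservesLimits (secF P W) := by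
  have : PreservesLimits (Scheme.Modules.toPresheaf P) := inferInstance
  have : PreservesLimits ((evaluation (TopologicalSpace.Opens P)ᵒᵖ AddCommGrpCat.{u}).obj (op W)) :=
    inferInstance
  have : PreservesLimits (QCoh.sectionsFunctor P W) := comp_preservesLimits _ _
  exact comp_preservesLimits _ _

variable {I : Type u} [Preorder I] {D : Iᵒᵖ ⥤ P.Modules} {R : I → P.Opens}

theorem bijective_of_isLimit (h : Hyp D R) (c : Cone D) (hc : IsLimit c) (i₀ : I) (W : P.Opens)
    (hW : W ≤ R i₀) : Function.Bijective ((c.π.app (op i₀)).app W) := by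
  have hlim : IsLimit ((secF P W).mapCone c) := isLimitOfPreserves _ hc
  let e := Types.isLimitEquivSections hlim
  have he : ∀ (x : Γ(c.pt, W)) (i : I), (e x).1 (op i) = (c.π.app (op i)).app W x := fun x i => rfl
  have hcompat : ∀ (x : Γ(c.pt, W)) (i j : I) (hij : j ≤ i),
      tr D hij W ((c.π.app (op i)).app W x) = (c.π.app (op j)).app W x := by
    intro x i j hij
    have := c.w (homOfLE hij).op
    unfold tr
    rw [← this]
    rfl
  constructor
  · intro x x' hxx'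
    obtain ⟨s, -, hs⟩ := existsUnique_family h i₀ W hW ((c.π.app (op i₀)).app W x)
    have h1 := hs (fun i => (c.π.app (op i)).app W x) ⟨hcompat x, rfl⟩
    have h2 := hs (fun i => (c.π.app (op i)).app W x') ⟨hcompat x', hxx'.symm⟩
    apply e.injective
    apply Subtype.ext
    funext j
    induction j using Opposite.rec with
    | op i => exact (congrFun h1 i).trans (congrFun h2 i).symm
  · intro t
    obtain ⟨s, ⟨hs, hst⟩, -⟩ := existsUnique_family h i₀ W hW t
    refine ⟨e.symm ⟨fun j => s j.unop, ?_⟩, ?_⟩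
    · intro x y f
      induction x using Opposite.rec with
      | op i =>
        induction y using Opposite.rec with
        | op j =>
          have hf : f = (homOfLE f.unop.le).op := Subsingleton.elim _ _
          rw [hf]
          exact hs i j f.unop.le
    · rw [← he, Equiv.apply_symm_apply]
      exact hst


/-- A morphism of modules which is bijective on sections over a downward closed covering family
of opens is an isomorphism. -/
theorem isIso_of_bijective_on_basis {M N : P.Modules} (φ : M ⟶ N) (𝓑 : P.Opens → Prop)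
    (hdown : ∀ W W' : P.Opens, W' ≤ W → 𝓑 W → 𝓑 W') (hcov : ∀ w : P, ∃ W, 𝓑 W ∧ w ∈ W)
    (hbij : ∀ W, 𝓑 W → Function.Bijective (φ.app W)) : IsIso φ := by
  rw [Scheme.Modules.Hom.isIso_iff_isIso_app]
  intro U
  rw [ConcreteCategory.isIso_iff_bijective]
  let ι := {W : P.Opens // 𝓑 W ∧ W ≤ U}
  have hcover : U ≤ ⨆ W : ι, W.1 := by
    intro w hw
    obtain ⟨W₀, hW₀, hw₀⟩ := hcov w
    exact Opens.mem_iSup.mpr ⟨⟨W₀ ⊓ U, hdown _ _ inf_le_left hW₀, inf_le_right⟩, hw₀, hw⟩
  constructor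
  · intro s s' hss'
    refine ext_of_cover M (fun W : ι => W.1) U (fun W => W.2.2) hcover s s' fun W => ?_
    apply (hbij W.1 W.2.1).1
    rw [QCoh.app_res, QCoh.app_res]
    exact congrArg _ hss'
  · intro t
    have hsf : ∀ W : ι, ∃ a : Γ(M, W.1), φ.app W.1 a = QCoh.res N W.2.2 t := fun W =>
      (hbij W.1 W.2.1).2 _
    choose sf hsf using hsf
    obtain ⟨s, hs⟩ := QCoh.exists_gluing M (fun W : ι => W.1) U (fun W => W.2.2) hcover sf (by
      intro W W'
      apply (hbij (W.1 ⊓ W'.1) (hdown _ _ inf_le_left W.2.1)).1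
      rw [QCoh.app_res, QCoh.app_res, hsf, hsf, QCoh.res_res, QCoh.res_res])
    refine ⟨s, ?_⟩
    refine ext_of_cover N (fun W : ι => W.1) U (fun W => W.2.2) hcover _ _ fun W => ?_
    rw [← QCoh.app_res, hs, hsf]

end Groth.Agent.Lib.Helper3.ModGlue
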