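import Groth.Agent.Lib.Helper3.QProj3
import Groth.Agent.Lib.Helper3.ProjAux2
/-!
# `Proj(φ)` for a same-base graded homomorphism: local structure over the standard charts; (TN)-conditions
-/
universe u
open CategoryTheory CategoryTheory.Limits AlgebraicGeometry Opposite TopologicalSpace
open HomogeneousLocalization
open scoped HomogeneousIdeal

namespace Groth.Agent.Lib.Helper3.AwayTo
variable {A B σ τ : Type u} [CommRing A] [SetLike σ A] [AddSubgroupClass σ A]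
  [CommRing B] [SetLike τ B] [AddSubgroupClass τ B]
  {𝒜 : ℕ → σ} {ℬ : ℕ → τ} [GradedRing 𝒜] [GradedRing ℬ]

/-- `x / s ^ n = x s ^ m / s ^ (n + m)`. -/
theorem mk_add_pow {i : ℕ} {s : B} (hs : s ∈ ℬ i) (n m : ℕ) (x : B) (hx : x ∈ ℬ (n • i)) :
    Away.mk ℬ hs n x hx = Away.mk ℬ hs (n + m) (x * s ^ m)
      (by rw [add_smul]; exact SetLike.mul_mem_graded hx (SetLike.pow_mem_graded m hs)) := by
  apply HomogeneousLocalization.val_injective
  simp only [Away.val_mk]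
  rw [Localization.mk_eq_mk_iff, Localization.r_iff_exists]
  refine ⟨1, ?_⟩
  simp only [OneMemClass.coe_one, one_mul]
  ring

theorem awayMap_surjective_of_TN (ψ : 𝒜 →+*ᵍ ℬ) (n : ℕ)
    (hTN : ∀ k, n ≤ k → ∀ y ∈ ℬ k, ∃ x ∈ 𝒜 k, ψ x = y) {d : ℕ} (hd : 0 < d) (f : A) (hf : f ∈ 𝒜 d) :
    Function.Surjective (Away.map ψ f) := by
  intro y
  have hψf : ψ f ∈ ℬ d := ψ.map_mem hf
  obtain ⟨k, b, hb, rfl⟩ := Away.mk_surjective ℬ hψf y
  rw [mk_add_pow hψf k n b hb]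
  have hle : n ≤ (k + n) • d := by
    rw [smul_eq_mul]
    calc n ≤ k + n := Nat.le_add_left _ _
      _ = (k + n) * 1 := (Nat.mul_one _).symm
      _ ≤ (k + n) * d := Nat.mul_le_mul_left _ hd
  obtain ⟨a, ha, hab⟩ := hTN _ hle (b * ψ f ^ n)
    (by rw [add_smul]; exact SetLike.mul_mem_graded hb (SetLike.pow_mem_graded n hψf))
  refine ⟨Away.mk 𝒜 hf (k + n) a ha, ?_⟩
  rw [Away.map_mk]
  congr 1

theorem awayMap_injective_of_TN (ψ : 𝒜 →+*ᵍ ℬ) (n : ℕ)
    (hTN : ∀ k, n ≤ k → ∀ x ∈ 𝒜 k, ψ x = 0 → x = 0) {d : ℕ} (hd : 0 < d) (f : A) (hf : f ∈ 𝒜 d) :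
    Function.Injective (Away.map ψ f) := by
  rw [injective_iff_map_eq_zero]
  intro x hx
  have hψf : ψ f ∈ ℬ d := ψ.map_mem hf
  obtain ⟨k, a, ha, rfl⟩ := Away.mk_surjective 𝒜 hf x
  rw [mk_add_pow hf k n a ha] at hx ⊢
  rw [Away.map_mk] at hx
  have hval := congrArg HomogeneousLocalization.val hx
  rw [Away.val_mk, HomogeneousLocalization.val_zero, Localization.mk_eq_mk',
    IsLocalization.mk'_eq_zero_iff] at hval
  obtain ⟨⟨_, m, rfl⟩, hm⟩ := hval
  have hmem : f ^ m * (a * f ^ n) ∈ 𝒜 (m • d + (k + n) • d) := by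
    refine SetLike.mul_mem_graded (SetLike.pow_mem_graded m hf) ?_
    rw [add_smul]; exact SetLike.mul_mem_graded ha (SetLike.pow_mem_graded n hf)
  have hle : n ≤ m • d + (k + n) • d := by
    simp only [smul_eq_mul]
    calc n ≤ k + n := Nat.le_add_left _ _
      _ = (k + n) * 1 := (Nat.mul_one _).symm
      _ ≤ (k + n) * d := Nat.mul_le_mul_left _ hd
      _ ≤ m * d + (k + n) * d := Nat.le_add_left _ _
  have hzero : ψ (f ^ m * (a * f ^ n)) = 0 := by
    rw [map_mul, map_pow]; exact hm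
  have h0 := hTN _ hle _ hmem hzero
  apply HomogeneousLocalization.val_injective
  rw [Away.val_mk, HomogeneousLocalization.val_zero, Localization.mk_eq_mk',
    IsLocalization.mk'_eq_zero_iff]
  exact ⟨⟨f ^ m, m, rfl⟩, h0⟩

/-- under (TN)-surjectivity the induced morphism is everywhere defined -/
theorem mem_domOpen_of_TN (ψ : 𝒜 →+*ᵍ ℬ) (n : ℕ)
    (hTN : ∀ k, n ≤ k → ∀ y ∈ ℬ k, ∃ x ∈ 𝒜 k, ψ x = y) (q : Proj ℬ) : q ∈ RelCone.domOpen ψ := by
  obtain ⟨b, e, he, hb, hqb, -⟩ :=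
    ProjIntegral.exists_homogeneous_basicOpen ℬ q Set.univ isOpen_univ trivial
  have hle : n ≤ (n + 1) • e := by
    rw [smul_eq_mul]
    calc n ≤ n + 1 := Nat.le_succ _
      _ = (n + 1) * 1 := (Nat.mul_one _).symm
      _ ≤ (n + 1) * e := Nat.mul_le_mul_left _ he
  obtain ⟨a, ha, hab⟩ := hTN _ hle (b ^ (n + 1)) (SetLike.pow_mem_graded (n + 1) hb)
  refine (RelCone.mem_domOpen ψ q).mpr ⟨a, HomogeneousIdeal.mem_irrelevant_of_mem _
    (by rw [smul_eq_mul]; positivity) ha, ?_⟩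
  rw [hab]
  intro hmem
  exact (ProjectiveSpectrum.mem_basicOpen _ _ _).mp hqb (q.isPrime.mem_of_pow_mem _ hmem)

end Groth.Agent.Lib.Helper3.AwayTo

namespace Groth.Agent.Lib.Helper3.QProj
open RelProj RelSpec Groth.Agent.Lib.Helper3

section General
variable {S S' : Scheme.{u}} {g : S' ⟶ S} {𝒮 : QCGrAlg S} {𝒮' : QCGrAlg S'} {u : QGrHom g 𝒮 𝒮'}
  {P : Scheme.{u}} {p : P ⟶ S}
  {chart : ∀ (U : S.Opens) (hU : IsAffineOpen U), (((p ⁻¹ᵁ U : P.Opens) : Scheme.{u}) ≅ Proj (𝒮.deg U hU))}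
  {P' : Scheme.{u}} {p' : P' ⟶ S'}
  {chart' : ∀ (U' : S'.Opens) (hU' : IsAffineOpen U'), (((p' ⁻¹ᵁ U' : P'.Opens) : Scheme.{u}) ≅ Proj (𝒮'.deg U' hU'))}

theorem isProjQMapOn_of_isProjQMap {h : P' ⟶ P} (hh : IsProjQMap u p chart p' chart' h) (W : P'.Opens) :
    IsProjQMapOn u p chart p' chart' W (W.ι ≫ h) := by
  intro U hU U' hU' hle d hd f hf hW
  rw [← Category.assoc, IsOpenImmersion.lift_fac]
  exact hh.2 U hU U' hU' hle d hd f hf

instance (U : S.Opens) (hU : IsAffineOpen U) (U' : S'.Opens) (hU' : IsAffineOpen U') (hle : U' ≤ g ⁻¹ᵁ U)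
    {d : ℕ} (hd : 0 < d) (f : 𝒮.presheaf.obj (op U)) (hf : f ∈ 𝒮.deg U hU d) :
    IsOpenImmersion (awayEmb u p' chart' U hU U' hU' hle hd f hf) := by
  unfold awayEmb; infer_instance

variable (hP : IsRelProj 𝒮 p chart) (hP' : IsRelProj 𝒮' p' chart')

include hP hP' in
theorem comp_eq_of_isProjQMap {h : P' ⟶ P} (hh : IsProjQMap u p chart p' chart' h) :
    h ≫ p = p' ≫ g := by
  have h1 := comp_eq_of_isProjQMapOn_domQ hP hP' _ (isProjQMapOn_of_isProjQMap hh (domQ u p' chart'))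
  rw [Category.assoc] at h1
  have : IsIso (domQ u p' chart').ι := by
    rw [hh.1]; exact P'.topIso.isIso_hom
  exact (cancel_epi (domQ u p' chart').ι).mp h1

include hP hP' in
/-- The preimage under `Proj(u)` of a standard chart of the target is covered by the standard charts. -/
theorem exists_awayEmb_of_isProjQMap {h : P' ⟶ P} (hh : IsProjQMap u p chart p' chart' h)
    (U : S.Opens) (hU : IsAffineOpen U) (d : ℕ) (hd : 0 < d) (f : 𝒮.presheaf.obj (op U)) (hf : f ∈ 𝒮.deg U hU d)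
    (x : P') (hx : h.base x ∈ Set.range (Proj.awayι (𝒮.deg U hU) f hf hd ≫ emb p chart U hU).base) :
    ∃ (V' : S'.Opens) (hV' : IsAffineOpen V') (hle : V' ≤ g ⁻¹ᵁ U),
      x ∈ Set.range (awayEmb u p' chart' U hU V' hV' hle hd f hf).base := by
  have hxd : x ∈ domQ u p' chart' := by rw [hh.1]; trivial
  exact exists_awayEmb_of_mem hP hP' _ (isProjQMapOn_of_isProjQMap hh (domQ u p' chart')) U hU d hd f hf
    ⟨x, hxd⟩ hx

end General

section SameBase
variable {Y PA PB : Scheme.{u}} {𝒜 ℬ : RelProj.QCGrAlg Y}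
    (φ : 𝒜.toQCAlg ⟶ ℬ.toQCAlg) (hφ : RelProj.IsGradedHom φ)
    {pA : PA ⟶ Y} {pB : PB ⟶ Y}
    {chartA : ∀ (U : Y.Opens) (hU : IsAffineOpen U),
      (((pA ⁻¹ᵁ U : PA.Opens) : Scheme.{u}) ≅ Proj (𝒜.deg U hU))}
    {chartB : ∀ (U : Y.Opens) (hU : IsAffineOpen U),
      (((pB ⁻¹ᵁ U : PB.Opens) : Scheme.{u}) ≅ Proj (ℬ.deg U hU))}
    (hA : RelProj.IsRelProj 𝒜 pA chartA) (hB : RelProj.IsRelProj ℬ pB chartB)

theorem le_id_preimage (U : Y.Opens) : U ≤ (𝟙 Y : Y ⟶ Y) ⁻¹ᵁ U := le_refl _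

include hA hB in
theorem preimage_opensRange_eq {h : PB ⟶ PA}
    (hh : IsProjQMap (QGrHom.ofHom φ hφ) pA chartA pB chartB h)
    (U : Y.Opens) (hU : IsAffineOpen U) (d : ℕ) (hd : 0 < d) (f : 𝒜.presheaf.obj (op U)) (hf : f ∈ 𝒜.deg U hU d) :
    h ⁻¹ᵁ (Proj.awayι (𝒜.deg U hU) f hf hd ≫ emb pA chartA U hU).opensRange =
      (awayEmb (QGrHom.ofHom φ hφ) pB chartB U hU U hU (le_id_preimage U) hd f hf).opensRange := by
  ext x
  constructor
  · intro hx
    obtain ⟨V', hV', hle, hxV⟩ := exists_awayEmb_of_isProjQMap hA hB hh U hU d hd f hf x hx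
    exact range_awayEmb_mono (u := QGrHom.ofHom φ hφ) hB U hU V' hV' U hU hle (le_id_preimage U) d hd f hf hxV
  · rintro ⟨z, rfl⟩
    change h.base _ ∈ Set.range _
    rw [← Scheme.Hom.comp_apply, hh.2 U hU U hU (le_id_preimage U) d hd f hf]
    exact ⟨(Spec.map (CommRingCat.ofHom (HomogeneousLocalization.Away.map
      ((QGrHom.ofHom φ hφ).gradedAt U hU U hU (le_id_preimage U)) f))).base z, by
        rw [← Scheme.Hom.comp_apply]⟩

include hA hB in
theorem isPullback_chart {h : PB ⟶ PA}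
    (hh : IsProjQMap (QGrHom.ofHom φ hφ) pA chartA pB chartB h)
    (U : Y.Opens) (hU : IsAffineOpen U) (d : ℕ) (hd : 0 < d) (f : 𝒜.presheaf.obj (op U)) (hf : f ∈ 𝒜.deg U hU d) :
    IsPullback (Spec.map (CommRingCat.ofHom (HomogeneousLocalization.Away.map
        ((QGrHom.ofHom φ hφ).gradedAt U hU U hU (le_id_preimage U)) f)))
      (awayEmb (QGrHom.ofHom φ hφ) pB chartB U hU U hU (le_id_preimage U) hd f hf)
      (Proj.awayι (𝒜.deg U hU) f hf hd ≫ emb pA chartA U hU) h :=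
  IsOpenImmersion.isPullback _ _ _ _
    (hh.2 U hU U hU (le_id_preimage U) d hd f hf)
    (preimage_opensRange_eq φ hφ hA hB hh U hU d hd f hf)

/-- index type for the standard charts of a relative Proj -/
structure ChartIdx (𝒜 : RelProj.QCGrAlg Y) where
  U : Y.Opens
  hU : IsAffineOpen U
  d : ℕ
  hd : 0 < d
  f : 𝒜.presheaf.obj (op U)
  hf : f ∈ 𝒜.deg U hU d

/-- the cover of a relative Proj by its standard charts -/
noncomputable def chartCover (pA : PA ⟶ Y) (chartA : ∀ (U : Y.Opens) (hU : IsAffineOpen U),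
      (((pA ⁻¹ᵁ U : PA.Opens) : Scheme.{u}) ≅ Proj (𝒜.deg U hU))) : PA.OpenCover :=
  Scheme.Cover.mkOfCovers (ChartIdx 𝒜)
    (fun c => Spec (CommRingCat.of (HomogeneousLocalization.Away (𝒜.deg c.U c.hU) c.f)))
    (fun c => Proj.awayι (𝒜.deg c.U c.hU) c.f c.hf c.hd ≫ emb pA chartA c.U c.hU)
    (fun x => by
      obtain ⟨_, ⟨U, hU, rfl⟩, hxU, -⟩ := Y.isBasis_affineOpens.exists_subset_of_mem_open
        (Set.mem_univ (pA.base x)) isOpen_univ
      obtain ⟨d, hd, f, hf, z, hz⟩ := exists_std_chart pA chartA x U hU hxU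
      exact ⟨⟨U, hU, d, hd, f, hf⟩, z, hz⟩)
    (fun c => inferInstance)

include hA hB in
/-- A property local on the target holds for `Proj(φ)` as soon as it holds for the maps of spectra of the
degree-zero localizations. -/
theorem of_forall_awayMap (Q : MorphismProperty Scheme.{u}) [IsZariskiLocalAtTarget Q] {h : PB ⟶ PA}
    (hh : IsProjQMap (QGrHom.ofHom φ hφ) pA chartA pB chartB h)
    (H : ∀ (U : Y.Opens) (hU : IsAffineOpen U) (d : ℕ) (_ : 0 < d) (f : 𝒜.presheaf.obj (op U))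
      (_ : f ∈ 𝒜.deg U hU d), Q (Spec.map (CommRingCat.ofHom (HomogeneousLocalization.Away.map
        ((QGrHom.ofHom φ hφ).gradedAt U hU U hU (le_id_preimage U)) f)))) : Q h := by
  refine IsZariskiLocalAtTarget.of_openCover (P := Q) (chartCover pA chartA) fun c => ?_
  have hpb := isPullback_chart φ hφ hA hB hh c.U c.hU c.d c.hd c.f c.hf
  change Q (pullback.snd h (Proj.awayι (𝒜.deg c.U c.hU) c.f c.hf c.hd ≫ emb pA chartA c.U c.hU))
  have heq : pullback.snd h (Proj.awayι (𝒜.deg c.U c.hU) c.f c.hf c.hd ≫ emb pA chartA c.U c.hU) =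
      hpb.flip.isoPullback.inv ≫ Spec.map (CommRingCat.ofHom (HomogeneousLocalization.Away.map
        ((QGrHom.ofHom φ hφ).gradedAt c.U c.hU c.U c.hU (le_id_preimage c.U)) c.f)) := by
    rw [Iso.eq_inv_comp]
    exact hpb.flip.isoPullback_hom_snd
  rw [heq, Q.cancel_left_of_respectsIso]
  exact H c.U c.hU c.d c.hd c.f c.hf

end SameBase

end Groth.Agent.Lib.Helper3.QProj
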