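import Groth.Agent.Lib.Helper3.AwayBC
/-!
# Base change of relative homogeneous spectra
-/
universe u
open CategoryTheory CategoryTheory.Limits AlgebraicGeometry Opposite TopologicalSpace
open HomogeneousLocalization
open scoped HomogeneousIdeal

namespace Groth.Agent.Lib.Helper3.QProj
open RelProj RelSpec Groth.Agent.Lib.Helper3

section Pair
variable {S S' : Scheme.{u}} {g : S' ⟶ S} {𝒮 : QCGrAlg S} {𝒮' : QCGrAlg S'} (u : QGrHom g 𝒮 𝒮')
  (hu : IsQBaseChange u.toQHom)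
  (U : S.Opens) (hU : IsAffineOpen U) (U' : S'.Opens) (hU' : IsAffineOpen U') (hle : U' ≤ g ⁻¹ᵁ U)

include hu in
theorem pair_facts :
    ∃ hirr : (𝒮'.deg U' hU')₊ ≤ ((𝒮.deg U hU)₊).map (u.gradedAt U hU U' hU' hle),
      IsPullback (Proj.map (u.gradedAt U hU U' hU' hle) hirr)
        (Proj.toSpecZero (𝒮'.deg U' hU') ≫ Spec.map (𝒮'.strZero U' hU'))
        (Proj.toSpecZero (𝒮.deg U hU) ≫ Spec.map (𝒮.strZero U hU))
        (Spec.map (g.appLE U U' hle)) := by
  let i1 : Algebra Γ(S, U) Γ(S', U') := (g.appLE U U' hle).hom.toAlgebra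
  let i2 : Algebra Γ(S, U) (𝒮.presheaf.obj (op U)) := (𝒮.str.app (op U)).hom.toAlgebra
  let i3 : Algebra Γ(S', U') (𝒮'.presheaf.obj (op U')) := (𝒮'.str.app (op U')).hom.toAlgebra
  let i4 : Algebra (𝒮.presheaf.obj (op U)) (𝒮'.presheaf.obj (op U')) := (u.appLE U U' hle).hom.toAlgebra
  let i5 : Algebra Γ(S, U) (𝒮'.presheaf.obj (op U')) :=
    ((algebraMap Γ(S', U') (𝒮'.presheaf.obj (op U'))).comp (algebraMap Γ(S, U) Γ(S', U'))).toAlgebra
  have t1 : IsScalarTower Γ(S, U) Γ(S', U') (𝒮'.presheaf.obj (op U')) := .of_algebraMap_eq' rfl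
  have t2 : IsScalarTower Γ(S, U) (𝒮.presheaf.obj (op U)) (𝒮'.presheaf.obj (op U')) :=
    .of_algebraMap_eq' (congrArg CommRingCat.Hom.hom (u.toQHom.str_appLE U U' hle)).symm
  have hpo : Algebra.IsPushout Γ(S, U) Γ(S', U') (𝒮.presheaf.obj (op U)) (𝒮'.presheaf.obj (op U')) :=
    CommRingCat.isPushout_iff_isPushout.mp (hu U hU U' hU' hle)
  have hirr := AwayBC.irrelevant_le_map (𝒮.deg U hU) (𝒮'.deg U' hU') (𝒮.strZero U hU).hom (fun r => rfl)
    (𝒮'.strZero U' hU').hom (fun r => rfl) (u.gradedAt U hU U' hU' hle) (fun a => rfl)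
  exact ⟨hirr, AwayBC.isPullback_proj (𝒮.deg U hU) (𝒮'.deg U' hU') (𝒮.strZero U hU).hom (fun r => rfl)
    (𝒮'.strZero U' hU').hom (fun r => rfl) (u.gradedAt U hU U' hU' hle) (fun a => rfl) hirr⟩

end Pair

section Global
variable {S S' : Scheme.{u}} {g : S' ⟶ S} {𝒮 : QCGrAlg S} {𝒮' : QCGrAlg S'} {u : QGrHom g 𝒮 𝒮'}
  {P : Scheme.{u}} {p : P ⟶ S}
  {chart : ∀ (U : S.Opens) (hU : IsAffineOpen U), (((p ⁻¹ᵁ U : P.Opens) : Scheme.{u}) ≅ Proj (𝒮.deg U hU))}
  {P' : Scheme.{u}} {p' : P' ⟶ S'}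
  {chart' : ∀ (U' : S'.Opens) (hU' : IsAffineOpen U'), (((p' ⁻¹ᵁ U' : P'.Opens) : Scheme.{u}) ≅ Proj (𝒮'.deg U' hU'))}
  (hP : IsRelProj 𝒮 p chart) (hP' : IsRelProj 𝒮' p' chart')

include hP in
/-- The part of a relative Proj over an affine open, as a pullback. -/
theorem isPullback_emb (U : S.Opens) (hU : IsAffineOpen U) :
    IsPullback (Proj.toSpecZero (𝒮.deg U hU) ≫ Spec.map (𝒮.strZero U hU)) (emb p chart U hU) hU.fromSpec p := by
  refine IsOpenImmersion.isPullback _ _ _ _ ?_ ?_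
  · rw [emb, Category.assoc, ← hP.chart_over U hU, Iso.inv_hom_id_assoc, Category.assoc]
  · ext x
    change p.base x ∈ Set.range hU.fromSpec.base ↔ x ∈ Set.range (emb p chart U hU).base
    rw [Idx.range_emb, hU.range_fromSpec]
    rfl

/-- index type: affine pairs -/
structure PairIdx (g : S' ⟶ S) where
  U : S.Opens
  hU : IsAffineOpen U
  U' : S'.Opens
  hU' : IsAffineOpen U'
  hle : U' ≤ g ⁻¹ᵁ U

/-- the cover of the source by the second members of the affine pairs -/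
noncomputable def pairCover (g : S' ⟶ S) : S'.OpenCover :=
  Scheme.Cover.mkOfCovers (PairIdx g) (fun c => Spec Γ(S', c.U')) (fun c => c.hU'.fromSpec)
    (fun y' => by
      obtain ⟨_, ⟨U, hU, rfl⟩, hyU, -⟩ := S.isBasis_affineOpens.exists_subset_of_mem_open
        (Set.mem_univ (g.base y')) isOpen_univ
      obtain ⟨_, ⟨U', hU', rfl⟩, hyU', hU'le⟩ := S'.isBasis_affineOpens.exists_subset_of_mem_open
        (show y' ∈ ((g ⁻¹ᵁ U : S'.Opens) : Set S') from hyU) (g ⁻¹ᵁ U).isOpen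
      have : y' ∈ Set.range hU'.fromSpec.base := by rw [hU'.range_fromSpec]; exact hyU'
      obtain ⟨z, hz⟩ := this
      exact ⟨⟨U, hU, U', hU', hU'le⟩, z, hz⟩)
    (fun c => inferInstance)

include hP hP' in
/-- Base change of a relative Proj: the general form. -/
theorem isPullback_of_forall_pair (hu : IsQBaseChange u.toQHom) (h : P' ⟶ P)
    (hh : ∀ (U : S.Opens) (hU : IsAffineOpen U) (U' : S'.Opens) (hU' : IsAffineOpen U') (hle : U' ≤ g ⁻¹ᵁ U)
      (hirr : (𝒮'.deg U' hU')₊ ≤ ((𝒮.deg U hU)₊).map (u.gradedAt U hU U' hU' hle)),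
      emb p' chart' U' hU' ≫ h = Proj.map (u.gradedAt U hU U' hU' hle) hirr ≫ emb p chart U hU) :
    IsPullback h p' p g := by
  refine IsPullback.flip ?_
  refine GlueCharts.isPullback_of_forall_chart p' h g p (pairCover g)
    (fun c => Proj (𝒮'.deg c.U' c.hU'))
    (fun c => Proj.toSpecZero (𝒮'.deg c.U' c.hU') ≫ Spec.map (𝒮'.strZero c.U' c.hU'))
    (fun c => emb p' chart' c.U' c.hU') (fun c => isPullback_emb hP' c.U' c.hU') (fun c => ?_)
  obtain ⟨hirr, hpb⟩ := pair_facts u hu c.U c.hU c.U' c.hU' c.hle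
  change IsPullback _ (emb p' chart' c.U' c.hU' ≫ h) (c.hU'.fromSpec ≫ g) p
  rw [hh c.U c.hU c.U' c.hU' c.hle hirr, ← IsAffineOpen.SpecMap_appLE_fromSpec g c.hU c.hU' c.hle]
  exact (hpb.paste_horiz (isPullback_emb hP c.U c.hU).flip).flip

omit hP hP' in
/-- A morphism satisfying the chart equations of `Proj(u)` is, over an affine pair with Mathlib's hypothesis on
irrelevant ideals, `Proj.map`. -/
theorem emb_comp_eq_of_isProjQMap {h : P' ⟶ P} (hh : IsProjQMap u p chart p' chart' h)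
    (U : S.Opens) (hU : IsAffineOpen U) (U' : S'.Opens) (hU' : IsAffineOpen U') (hle : U' ≤ g ⁻¹ᵁ U)
    (hirr : (𝒮'.deg U' hU')₊ ≤ ((𝒮.deg U hU)₊).map (u.gradedAt U hU U' hU' hle)) :
    emb p' chart' U' hU' ≫ h = Proj.map (u.gradedAt U hU U' hU' hle) hirr ≫ emb p chart U hU := by
  refine (Proj.mapAffineOpenCover (u.gradedAt U hU U' hU' hle) hirr).openCover.hom_ext _ _ fun s => ?_
  obtain ⟨i, s⟩ := s
  have hi : 0 < (i : ℕ) := i.pos
  change Proj.awayι (𝒮'.deg U' hU') (u.gradedAt U hU U' hU' hle s.1)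
      ((u.gradedAt U hU U' hU' hle).map_mem s.2) hi ≫ emb p' chart' U' hU' ≫ h =
    Proj.awayι (𝒮'.deg U' hU') (u.gradedAt U hU U' hU' hle s.1)
      ((u.gradedAt U hU U' hU' hle).map_mem s.2) hi ≫ Proj.map (u.gradedAt U hU U' hU' hle) hirr ≫ emb p chart U hU
  rw [Proj.awayι_comp_map_assoc (u.gradedAt U hU U' hU' hle) hirr hi s.1 s.2]
  have := hh.2 U hU U' hU' hle i hi s.1 s.2
  rw [awayEmb, Category.assoc] at this
  exact this

omit hP in
include hP' in
theorem domQ_eq_top_of_isQBaseChange (hu : IsQBaseChange u.toQHom) : domQ u p' chart' = ⊤ := by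
  rw [eq_top_iff]
  rintro x -
  obtain ⟨c, z, hz⟩ := (pairCover g).exists_eq (p'.base x)
  have hxU : p'.base x ∈ c.U' := by
    have : p'.base x ∈ Set.range c.hU'.fromSpec.base := ⟨z, hz⟩
    rw [c.hU'.range_fromSpec] at this
    exact this
  have hx : x ∈ Set.range (emb p' chart' c.U' c.hU').base := by rw [Idx.range_emb]; exact hxU
  obtain ⟨q, rfl⟩ := hx
  obtain ⟨hirr, -⟩ := pair_facts u hu c.U c.hU c.U' c.hU' c.hle
  refine Opens.mem_iSup.mpr ⟨⟨(⟨c.U, c.hU⟩, ⟨c.U', c.hU'⟩), c.hle⟩, ⟨q, ?_, rfl⟩⟩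
  exact mem_domOpen_of_irrelevant_le _ _ rfl hirr q

include hP hP' in
theorem exists_isProjQMap_of_isQBaseChange (hu : IsQBaseChange u.toQHom) :
    ∃ h : P' ⟶ P, IsProjQMap u p chart p' chart' h := by
  have htop := domQ_eq_top_of_isQBaseChange hP' hu
  obtain ⟨v, hv, -⟩ := existsUnique_isProjQMapOn_domQ (u := u) hP hP'
  have hiso : IsIso (domQ u p' chart').ι := by
    rw [htop]; exact P'.topIso.isIso_hom
  refine ⟨inv (domQ u p' chart').ι ≫ v, htop, fun U hU U' hU' hle d hd f hf => ?_⟩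
  have hW := range_awayEmb_subset_domQ u p' chart' U hU U' hU' hle hd f hf
  rw [← hv U hU U' hU' hle d hd f hf hW, ← Category.assoc]
  congr 1
  rw [IsIso.comp_inv_eq, IsOpenImmersion.lift_fac]

include hP hP' in
/-- Base change of a relative Proj. -/
theorem isPullback_of_isProjQMap (hu : IsQBaseChange u.toQHom) {h : P' ⟶ P}
    (hh : IsProjQMap u p chart p' chart' h) : IsPullback h p' p g :=
  isPullback_of_forall_pair hP hP' hu h fun U hU U' hU' hle hirr =>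
    emb_comp_eq_of_isProjQMap hh U hU U' hU' hle hirr

end Global

end Groth.Agent.Lib.Helper3.QProj
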