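import Groth.Agent.Lib.Helper3.TFGen
/-!
# Graded algebra for (TN): vanishing in large degrees from local nilpotence of degree-one generators
-/
set_option autoImplicit false
set_option linter.unusedSectionVars false
universe u
open CategoryTheory CategoryTheory.Limits AlgebraicGeometry Opposite TopologicalSpace DirectSum
open Groth.Agent.Lib.Helper29 Groth.Agent.Lib.Helper29.QCoh

namespace Groth.Agent.Lib.Helper3.TNAlg
open Groth.Agent.Lib.Helper3.TildeQC

section Ring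
variable {A σ : Type u} [CommRing A] [SetLike σ A] [AddSubgroupClass σ A] (𝒜 : ℕ → σ) [GradedRing 𝒜]

theorem sub_projZero_mem (hgen : Subring.closure ((𝒜 0 : Set A) ∪ (𝒜 1 : Set A)) = ⊤) (I : Ideal A)
    (hI : ∀ f ∈ 𝒜 1, f ∈ I) (x : A) : x - GradedRing.projZeroRingHom 𝒜 x ∈ I := by
  classical
  have hx : x ∈ Subring.closure ((𝒜 0 : Set A) ∪ (𝒜 1 : Set A)) := by rw [hgen]; trivial
  induction hx using Subring.closure_induction with
  | mem x hx =>
    rcases hx with hx | hx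
    · rw [GradedRing.projZeroRingHom_apply, decompose_of_mem_same 𝒜 hx, sub_self]
      exact zero_mem _
    · rw [GradedRing.projZeroRingHom_apply, decompose_of_mem_ne 𝒜 hx one_ne_zero, sub_zero]
      exact hI x hx
  | zero => rw [map_zero, sub_zero]; exact zero_mem _
  | one => rw [map_one, sub_self]; exact zero_mem _
  | add a b _ _ ha hb =>
    rw [map_add]
    have : a + b - (GradedRing.projZeroRingHom 𝒜 a + GradedRing.projZeroRingHom 𝒜 b) =
      (a - GradedRing.projZeroRingHom 𝒜 a) + (b - GradedRing.projZeroRingHom 𝒜 b) := by ring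
    rw [this]
    exact add_mem ha hb
  | neg a _ ha =>
    rw [map_neg]
    have : -a - -GradedRing.projZeroRingHom 𝒜 a = -(a - GradedRing.projZeroRingHom 𝒜 a) := by ring
    rw [this]
    exact neg_mem ha
  | mul a b _ _ ha hb =>
    rw [map_mul]
    have : a * b - GradedRing.projZeroRingHom 𝒜 a * GradedRing.projZeroRingHom 𝒜 b =
      (a - GradedRing.projZeroRingHom 𝒜 a) * b +
        GradedRing.projZeroRingHom 𝒜 a * (b - GradedRing.projZeroRingHom 𝒜 b) := by ring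
    rw [this]
    exact add_mem (Ideal.mul_mem_right _ _ ha) (Ideal.mul_mem_left _ _ hb)

theorem mem_span_of_mem_pos (hgen : Subring.closure ((𝒜 0 : Set A) ∪ (𝒜 1 : Set A)) = ⊤) {k : ℕ}
    (hk : 0 < k) {x : A} (hx : x ∈ 𝒜 k) : x ∈ Ideal.span (𝒜 1 : Set A) := by
  classical
  have := sub_projZero_mem 𝒜 hgen (Ideal.span (𝒜 1 : Set A)) (fun f hf => Ideal.subset_span hf) x
  rwa [GradedRing.projZeroRingHom_apply, decompose_of_mem_ne 𝒜 hx hk.ne', sub_zero] at this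

theorem mem_span_pow (hgen : Subring.closure ((𝒜 0 : Set A) ∪ (𝒜 1 : Set A)) = ⊤) (k : ℕ) :
    ∀ {x : A}, x ∈ 𝒜 k → x ∈ Ideal.span (𝒜 1 : Set A) ^ k := by
  classical
  induction k with
  | zero => intro x _; rw [pow_zero, Ideal.one_eq_top]; trivial
  | succ k ih =>
    intro x hx
    have hx1 := mem_span_of_mem_pos 𝒜 hgen (Nat.succ_pos k) hx
    rw [Ideal.span, Submodule.mem_span_set'] at hx1
    obtain ⟨r, b, f, rfl⟩ := hx1
    rw [← DirectSum.decompose_of_mem_same 𝒜 hx]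
    rw [DirectSum.decompose_sum, DFinsupp.finsetSum_apply, AddSubmonoidClass.coe_finsetSum]
    refine Ideal.sum_mem _ fun i _ => ?_
    rw [smul_eq_mul, DirectSum.coe_decompose_mul_add_of_right_mem 𝒜 (f i).2, pow_succ]
    exact Ideal.mul_mem_mul (ih (Subtype.property _)) (Ideal.subset_span (f i).2)

end Ring

section Mod
variable {A σ : Type u} [CommRing A] [SetLike σ A] [AddSubgroupClass σ A] (𝒜 : ℕ → σ) [GradedRing 𝒜]
variable {M τ : Type u} [AddCommGroup M] [Module A M] [SetLike τ M] [AddSubgroupClass τ M] (ℳ : ℕ → τ)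
  [DirectSum.Decomposition ℳ] [SetLike.GradedSMul 𝒜 ℳ]

/-- Under (TF), generation in degree one by finitely many elements, and local nilpotence of these
generators on homogeneous elements, the module vanishes in large degrees. -/
theorem exists_bound (hgen : Subring.closure ((𝒜 0 : Set A) ∪ (𝒜 1 : Set A)) = ⊤)
    (T' : Finset A) (hspan : ∀ x ∈ 𝒜 1, x ∈ Ideal.span (T' : Set A))
    (n₀ : ℕ) (hfg : (Submodule.span A (⋃ k ∈ Set.Ici n₀, (ℳ k : Set M))).FG)
    (hnil : ∀ f ∈ T', ∀ (k : ℕ) (m : M), m ∈ ℳ k → ∃ N : ℕ, f ^ N • m = 0) :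
    ∃ D : ℕ, ∀ k : ℕ, D ≤ k → ∀ m ∈ ℳ k, m = 0 := by
  classical
  obtain ⟨T, d, hd, hgenM⟩ := TFGen.exists_homogeneous_generators 𝒜 ℳ n₀ hfg
  have hJ : Ideal.span (𝒜 1 : Set A) ≤ Ideal.span (T' : Set A) := by
    rw [Ideal.span_le]
    exact fun x hx => hspan x hx
  have hFG : (Ideal.span (T' : Set A)).FG := ⟨T', rfl⟩
  have hK : ∀ t : M, ∃ K : ℕ, t ∈ T → Ideal.span (T' : Set A) ^ K ≤ Ideal.torsionOf A M t := by
    intro t
    by_cases ht : t ∈ T
    · have hrad : Ideal.span (T' : Set A) ≤ (Ideal.torsionOf A M t).radical := by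
        rw [Ideal.span_le]
        intro f hf
        obtain ⟨N, hN⟩ := hnil f hf (d t) t (hd t ht)
        exact ⟨N, (Ideal.mem_torsionOf_iff _ _).2 hN⟩
      obtain ⟨K, hK⟩ := Ideal.exists_pow_le_of_le_radical_of_fg hrad hFG
      exact ⟨K, fun _ => hK⟩
    · exact ⟨0, fun h => absurd h ht⟩
  choose K hK using hK
  refine ⟨max n₀ (T.sup d + T.sup K), fun k hk m hm => ?_⟩
  obtain ⟨a, ha1, -, ha3⟩ := hgenM k (le_trans (le_max_left _ _) hk) m hm
  rw [ha3]
  apply Finset.sum_eq_zero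
  intro t ht
  have h1 : d t ≤ T.sup d := Finset.le_sup ht
  have h2 : K t ≤ T.sup K := Finset.le_sup ht
  have h3 : T.sup d + T.sup K ≤ k := le_trans (le_max_right _ _) hk
  have h4 : K t ≤ k - d t := by omega
  have h5 : a t ∈ Ideal.span (T' : Set A) ^ (k - d t) :=
    Ideal.pow_right_mono hJ _ (mem_span_pow 𝒜 hgen (k - d t) (ha1 t))
  have h6 : a t ∈ Ideal.torsionOf A M t := hK t ht (Ideal.pow_le_pow_right h4 h5)
  exact (Ideal.mem_torsionOf_iff _ _).1 h6

/-- If all sections of `M~` over `D_+(g)` vanish, `g` is locally nilpotent on homogeneous elements. -/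
theorem exists_pow_smul_eq_zero_of_sections_eq_zero (g : 𝒜 1) (W : (Proj 𝒜).Opens)
    (hW : W = Proj.basicOpen 𝒜 g.1) (h : ∀ σ' : Γ(GrMod.tilde 𝒜 ℳ 0, W), σ' = 0)
    {k : ℕ} (m : M) (hm : m ∈ ℳ k) : ∃ N : ℕ, g.1 ^ N • m = 0 := by
  subst hW
  have hgpow : g.1 ^ k ∈ 𝒜 k := by
    have := SetLike.pow_mem_graded k g.2
    rwa [smul_eq_mul, mul_one] at this
  have hs : ∀ x : Proj.basicOpen 𝒜 g.1, g.1 ^ k ∉ x.1.asHomogeneousIdeal :=
    fun x => pow_not_mem_of_not_mem x.2 k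
  have h0 := h (mkG 𝒜 ℳ 0 (Proj.basicOpen 𝒜 g.1) (⟨m, hm⟩ : ℳ k) (⟨g.1 ^ k, hgpow⟩ : 𝒜 k) hs (by simp))
  apply TildeSect.exists_pow_smul_eq_zero 𝒜 ℳ one_pos g.2 k k ⟨m, hm⟩
  intro x
  have h1 : gfun 𝒜 ℳ (mkG 𝒜 ℳ 0 (Proj.basicOpen 𝒜 g.1) (⟨m, hm⟩ : ℳ k) (⟨g.1 ^ k, hgpow⟩ : 𝒜 k) hs
      (by simp)) x = gfun 𝒜 ℳ 0 x := congrArg (fun σ' => gfun 𝒜 ℳ σ' x) h0
  rw [gfun_mkG, gfun_zero] at h1
  exact h1

end Mod

end Groth.Agent.Lib.Helper3.TNAlg
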