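import Groth.Agent.Lib.Helper3.ProjAux2
import Groth.Agent.Lib.Helper3.TNAlg
/-!
# `Proj.map` of a graded homomorphism surjective in positive degrees is a closed immersion
-/
set_option autoImplicit false
set_option linter.unusedSectionVars false
universe u
open CategoryTheory CategoryTheory.Limits AlgebraicGeometry Opposite TopologicalSpace
open HomogeneousLocalization
open scoped HomogeneousIdeal

namespace Groth.Agent.Lib.Helper3.ProjAux
variable {A B σ τ : Type u} [CommRing A] [SetLike σ A] [AddSubgroupClass σ A]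
  [CommRing B] [SetLike τ B] [AddSubgroupClass τ B]
  (𝒜 : ℕ → σ) (ℬ : ℕ → τ) [GradedRing 𝒜] [GradedRing ℬ]

theorem awayMap_surjective_of_pos (φ : 𝒜 →+*ᵍ ℬ)
    (hsurj : ∀ n : ℕ, 0 < n → ∀ b ∈ ℬ n, ∃ a ∈ 𝒜 n, φ a = b) (s : A) {d : ℕ} (hd : 0 < d)
    (hs : s ∈ 𝒜 d) : Function.Surjective (HomogeneousLocalization.Away.map φ s) := by
  classical
  intro y
  obtain ⟨n, b, hb, rfl⟩ := HomogeneousLocalization.Away.mk_surjective ℬ (φ.2 hs) y
  rw [mk_succ ℬ (φ.2 hs) n b hb]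
  have hpos : 0 < (n + 1) • d := by rw [smul_eq_mul]; positivity
  have hmem : b * φ s ∈ ℬ ((n + 1) • d) := by
    rw [add_smul, one_smul]; exact SetLike.mul_mem_graded hb (φ.2 hs)
  obtain ⟨a', ha', hab⟩ := hsurj _ hpos _ hmem
  refine ⟨HomogeneousLocalization.Away.mk 𝒜 hs (n + 1) a' ha', ?_⟩
  rw [HomogeneousLocalization.Away.map_mk]
  congr 1

/-- `Proj.map` of a graded homomorphism which is surjective in positive degrees is a closed immersion. -/
theorem isClosedImmersion_map_of_pos (φ : 𝒜 →+*ᵍ ℬ)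
    (hsurj : ∀ n : ℕ, 0 < n → ∀ b ∈ ℬ n, ∃ a ∈ 𝒜 n, φ a = b)
    (hφ : ℬ₊ ≤ 𝒜₊.map φ) : IsClosedImmersion (Proj.map φ hφ) := by
  let U : (Proj.affineOpenCover 𝒜).I₀ → (Proj 𝒜).affineOpens := fun i =>
    ⟨Proj.basicOpen 𝒜 i.2.1, Proj.isAffineOpen_basicOpen 𝒜 _ i.2.2 i.1.2⟩
  have hU : ⨆ i, (U i : (Proj 𝒜).Opens) = ⊤ := by
    refine top_le_iff.mp fun x _ => TopologicalSpace.Opens.mem_iSup.mpr ?_
    refine ⟨(Proj.affineOpenCover 𝒜).idx x, ?_⟩
    have hx := (Proj.affineOpenCover 𝒜).covers x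
    set s := (Proj.affineOpenCover 𝒜).idx x
    change x ∈ Proj.basicOpen 𝒜 s.2.1
    rw [← Proj.opensRange_awayι 𝒜 _ s.2.2 s.1.2]
    exact hx
  refine HasAffineProperty.of_iSup_eq_top (P := @IsClosedImmersion) U hU fun i => ⟨?_, ?_⟩
  · exact Proj.isAffineOpen_basicOpen ℬ _ (φ.2 i.2.2) i.1.2
  · have key := Proj.awayToSection_comp_appLE φ hφ i.2.2
    have h2 : IsIso (Proj.awayToSection ℬ (φ i.2.1)) :=
      (Proj.basicOpenIsoAway ℬ (φ i.2.1) (φ.2 i.2.2) i.1.2).isIso_hom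
    have h3 : Function.Surjective ((Proj.map φ hφ).appLE (Proj.basicOpen 𝒜 i.2.1)
        (Proj.basicOpen ℬ (φ i.2.1)) (by rfl)) := by
      intro y
      obtain ⟨y', rfl⟩ := (ConcreteCategory.bijective_of_isIso (Proj.awayToSection ℬ (φ i.2.1))).2 y
      obtain ⟨x', rfl⟩ := awayMap_surjective_of_pos 𝒜 ℬ φ hsurj _ i.1.2 i.2.2 y'
      exact ⟨Proj.awayToSection 𝒜 i.2.1 x', congr($key x')⟩
    rw [Scheme.Hom.appTop, morphismRestrict_app']
    refine ((Proj.map φ hφ).appLE_congr _ ?_ ?_ (fun ψ => Function.Surjective ψ)).mp h3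
    · simp [U]
    · simp [U]

/-- If `ℬ` is generated by degrees `0` and `1` and `φ` is surjective in degree one, then `φ` is surjective in
every positive degree. -/
theorem surjOn_pos_of_genDegOne (φ : 𝒜 →+*ᵍ ℬ)
    (hgen : Subring.closure ((ℬ 0 : Set B) ∪ (ℬ 1 : Set B)) = ⊤)
    (h1 : ∀ b ∈ ℬ 1, ∃ a ∈ 𝒜 1, φ a = b) :
    ∀ n : ℕ, 0 < n → ∀ b ∈ ℬ n, ∃ a ∈ 𝒜 n, φ a = b := by
  classical
  intro n hn
  induction n, hn using Nat.le_induction with
  | base => exact h1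
  | succ k hk ih =>
    intro x hx
    have hx1 := TNAlg.mem_span_of_mem_pos ℬ hgen (Nat.succ_pos k) hx
    rw [Ideal.span, Submodule.mem_span_set'] at hx1
    obtain ⟨r, b, f, rfl⟩ := hx1
    have hsum : (∑ i, b i • (f i : B)) =
        ∑ i, ((DirectSum.decompose ℬ (b i) k : ℬ k) : B) * (f i : B) := by
      conv_lhs => rw [← DirectSum.decompose_of_mem_same ℬ hx]
      rw [DirectSum.decompose_sum, DFinsupp.finsetSum_apply, AddSubmonoidClass.coe_finsetSum]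
      refine Finset.sum_congr rfl fun i _ => ?_
      rw [smul_eq_mul, DirectSum.coe_decompose_mul_add_of_right_mem ℬ (f i).2]
    rw [hsum]
    have hterm : ∀ i, ∃ a ∈ 𝒜 (k + 1),
        φ a = ((DirectSum.decompose ℬ (b i) k : ℬ k) : B) * (f i : B) := by
      intro i
      obtain ⟨a₁, ha₁, h₁⟩ := ih _ (SetLike.coe_mem (DirectSum.decompose ℬ (b i) k))
      obtain ⟨a₂, ha₂, h₂⟩ := h1 _ (f i).2
      exact ⟨a₁ * a₂, SetLike.mul_mem_graded ha₁ ha₂, by rw [map_mul, h₁, h₂]⟩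
    choose a ha hφa using hterm
    exact ⟨∑ i, a i, sum_mem fun i _ => ha i, by rw [map_sum]; exact Finset.sum_congr rfl fun i _ => hφa i⟩

end Groth.Agent.Lib.Helper3.ProjAux
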