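import Groth.Prelude.Def_RelSpec
import Mathlib.AlgebraicGeometry.Normalization
/-!
# Quasi-coherent algebras from data on the affine opens

Given a functor `F` from (the opposite of) the affine Zariski site of `S` to commutative rings and
a coequifibered structure map `α : O_S|aff ⟶ F`, we construct a quasi-coherent algebra
`OfAff.alg H : QCAlg S` with `alg(U) ≅ F(U)` naturally in the affine open `U`.
It is the direct image algebra of the scheme glued from the `Spec F(U)`.
-/
universe u
open CategoryTheory CategoryTheory.Limits AlgebraicGeometry Opposite TopologicalSpace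
open RelSpec AlgebraicGeometry.Scheme.AffineZariskiSite

namespace Groth.Agent.Lib.Helper3.OfAff

/-- An affine open as an object of the affine Zariski site. -/
abbrev aff {S : Scheme.{u}} (U : S.Opens) (hU : IsAffineOpen U) : S.AffineZariskiSite := ⟨U, hU⟩

variable {S : Scheme.{u}} {F : S.AffineZariskiSiteᵒᵖ ⥤ CommRingCat.{u}}
  {α : (toOpensFunctor S).op ⋙ S.presheaf ⟶ F} (H : α.Coequifibered)

/-- The structure map over an affine open, with the expected source. -/
def strApp (α : (toOpensFunctor S).op ⋙ S.presheaf ⟶ F) (U : S.Opens) (hU : IsAffineOpen U) :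
    Γ(S, U) ⟶ F.obj (op (aff U hU)) := α.app (op (aff U hU))

/-- The relative gluing datum. -/
noncomputable def glueData : (directedCover S).RelativeGluingData :=
  relativeGluingData H

instance : ((glueData H).functor ⋙ Scheme.forget).IsLocallyDirected :=
  Scheme.Cover.RelativeGluingData.instIsLocallyDirectedI₀CompFunctorForgetOfIsThin ..

/-- The glued scheme. -/
noncomputable def spec : Scheme.{u} := (glueData H).glued

/-- The structure morphism. -/
noncomputable def π : spec H ⟶ S := (glueData H).toBase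

variable (U : S.Opens) (hU : IsAffineOpen U)

/-- The chart over an affine open. -/
noncomputable def ι : Spec (F.obj (op (aff U hU))) ⟶ spec H :=
  (glueData H).cover.f (aff U hU)

instance : IsOpenImmersion (ι H U hU) := (glueData H).cover.map_prop _

theorem ι_π : ι H U hU ≫ π H = Spec.map (strApp α U hU) ≫ hU.fromSpec :=
  colimit.ι_desc _ _

theorem π_preimage : π H ⁻¹ᵁ U = (ι H U hU).opensRange := by
  simpa using! (glueData H).toBase_preimage_eq_opensRange_ι (aff U hU)

theorem top_le_preimage :
    (⊤ : (Spec (F.obj (op (aff U hU)))).Opens) ≤ ι H U hU ⁻¹ᵁ (π H ⁻¹ᵁ U) := by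
  rw [← Scheme.Hom.comp_preimage, ι_π, Scheme.Hom.comp_preimage, hU.fromSpec_preimage_self]
  exact le_top

instance isAffineHom_π : IsAffineHom (π H) where
  isAffine_preimage U hU := by
    rw [π_preimage H U hU]
    exact isAffineOpen_opensRange (ι H U hU)

/-- Sections over the preimage of an affine open. -/
noncomputable def gammaAff : Γ(spec H, π H ⁻¹ᵁ U) ⟶ F.obj (op (aff U hU)) :=
  (ι H U hU).appLE (π H ⁻¹ᵁ U) ⊤ (top_le_preimage H U hU) ≫
    (Scheme.ΓSpecIso (F.obj (op (aff U hU)))).hom

theorem ι_res {U V : S.AffineZariskiSite} (i : V ⟶ U) :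
    Spec.map (F.map i.op) ≫ ι H U.1 U.2 = ι H V.1 V.2 :=
  colimit.w (glueData H).functor i

theorem gammaAff_eq {U : S.Opens} (hU : IsAffineOpen U) {W : (spec H).Opens}
    (hW : W = π H ⁻¹ᵁ U) (e : ⊤ ≤ ι H U hU ⁻¹ᵁ W) :
    (spec H).presheaf.map (eqToHom hW).op ≫ (ι H U hU).appLE W ⊤ e ≫
      (Scheme.ΓSpecIso (F.obj (op (aff U hU)))).hom = gammaAff H U hU := by
  subst hW; simp [gammaAff]

theorem isIso_gammaAff : IsIso (gammaAff H U hU) := by
  have hW : (ι H U hU) ''ᵁ (⊤ : (Spec (F.obj (op (aff U hU)))).Opens) = π H ⁻¹ᵁ U := by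
    rw [Scheme.Hom.image_top_eq_opensRange, π_preimage H U hU]
  have e : (⊤ : (Spec (F.obj (op (aff U hU)))).Opens) ≤
      ι H U hU ⁻¹ᵁ ((ι H U hU) ''ᵁ (⊤ : (Spec (F.obj (op (aff U hU)))).Opens)) :=
    (Scheme.Hom.preimage_image_eq (ι H U hU) ⊤).ge
  rw [← gammaAff_eq H hU hW e]
  have : IsIso ((ι H U hU).appLE ((ι H U hU) ''ᵁ ⊤) ⊤ e) := by
    rw [← Scheme.Hom.appIso_hom']
    infer_instance
  infer_instance

set_option backward.isDefEq.respectTransparency false in
/-- Naturality of `gammaAff` in the affine open. -/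
theorem gammaAff_naturality {U V : S.AffineZariskiSite} (i : V ⟶ U) :
    (spec H).presheaf.map (homOfLE ((π H).preimage_mono (toOpens_mono i.le))).op ≫
        gammaAff H V.1 V.2 = gammaAff H U.1 U.2 ≫ F.map i.op := by
  simp only [gammaAff, Category.assoc, ← Scheme.ΓSpecIso_naturality]
  simp only [← Category.assoc]
  congr 1
  simp only [Scheme.Hom.appTop, Scheme.Hom.appLE, Category.assoc]
  have h1 := (Scheme.Hom.comp_app (Spec.map (F.map i.op)) (ι H U.1 U.2) (π H ⁻¹ᵁ U.1)).symm
  rw [Scheme.Hom.naturality_assoc, Scheme.Hom.naturality, reassoc_of% h1,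
    Scheme.Hom.congr_app (ι_res H i), Category.assoc, ← Functor.map_comp, ← Functor.map_comp]
  rfl

set_option backward.isDefEq.respectTransparency false in
/-- Compatibility of `gammaAff` with the structure maps. -/
theorem π_app_gammaAff : (π H).app U ≫ gammaAff H U hU = strApp α U hU := by
  have h1 := Scheme.Hom.congr_app (ι_π H U hU) U
  have h2 := (Scheme.Hom.comp_app (ι H U hU) (π H) U).symm
  have hk : ∀ k : (op ⊤ : (Spec (F.obj (op (aff U hU)))).Opensᵒᵖ) ⟶ op ⊤,
      (Spec (F.obj (op (aff U hU)))).presheaf.map k = 𝟙 _ := fun k => by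
    rw [Subsingleton.elim k (𝟙 _)]; exact CategoryTheory.Functor.map_id _ _
  simp only [gammaAff, Scheme.Hom.appLE, Category.assoc]
  rw [reassoc_of% h2, h1, Scheme.Hom.comp_app, hU.fromSpec_app_self]
  simp only [Category.assoc]
  rw [Scheme.Hom.naturality_assoc]
  simp only [← Functor.map_comp_assoc]
  erw [hk, Category.id_comp]
  rw [← cancel_epi (Scheme.ΓSpecIso Γ(S, U)).hom, Iso.hom_inv_id_assoc]
  erw [Scheme.ΓSpecIso_naturality]

/-- The quasi-coherent algebra attached to the data. -/
noncomputable def alg : QCAlg S := QCAlg.directImage (π H)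

theorem alg_presheaf_obj (V : S.Opens) : (alg H).presheaf.obj (op V) = Γ(spec H, π H ⁻¹ᵁ V) := rfl

theorem alg_str_app (V : S.Opens) : (alg H).str.app (op V) = (π H).app V := rfl

/-- `gammaAff` as a natural transformation on the affine site. -/
noncomputable def gammaNat : (toOpensFunctor S).op ⋙ (alg H).presheaf ⟶ F where
  app U := gammaAff H U.unop.1 U.unop.2
  naturality U V i := by
    change (spec H).presheaf.map
        (homOfLE ((π H).preimage_mono (toOpens_mono i.unop.le))).op ≫
        gammaAff H V.unop.1 V.unop.2 = gammaAff H U.unop.1 U.unop.2 ≫ F.map i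
    exact gammaAff_naturality H i.unop

theorem gammaNat_app (W : S.AffineZariskiSiteᵒᵖ) :
    (gammaNat H).app W = gammaAff H W.unop.1 W.unop.2 := rfl

instance : IsIso (gammaNat H) := by
  have : ∀ W, IsIso ((gammaNat H).app W) := fun W => isIso_gammaAff H W.unop.1 W.unop.2
  exact NatIso.isIso_of_isIso_app _

theorem str_gammaNat : (toOpensFunctor S).op.whiskerLeft (alg H).str ≫ gammaNat H = α :=
  NatTrans.ext (funext fun W => π_app_gammaAff H W.unop.1 W.unop.2)

section hom

variable {A B : QCAlg S}

/-- Two maps of presheaves of rings into a quasi-coherent algebra agree if they agree on the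
affine opens. -/
theorem presheafHom_ext_aff {P : TopCat.Presheaf CommRingCat.{u} S.carrier}
    {f g : P ⟶ B.presheaf}
    (h : ∀ (U : S.Opens) (_ : IsAffineOpen U), f.app (op U) = g.app (op U)) : f = g := by
  apply (Functor.IsCoverDense.restrictHomEquivHom (G := toOpensFunctor S)
    (K := Opens.grothendieckTopology S) (ℱ := P)
    (ℱ' := (⟨B.presheaf, B.isSheaf⟩ : TopCat.Sheaf CommRingCat.{u} S.carrier))).symm.injective
  ext W : 2
  exact h W.unop.1 W.unop.2

theorem hom_ext_aff {ψ ψ' : A ⟶ B}
    (h : ∀ (U : S.Opens) (_ : IsAffineOpen U), ψ.hom.app (op U) = ψ'.hom.app (op U)) : ψ = ψ' :=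
  QCAlg.hom_ext (presheafHom_ext_aff h)

/-- Extension of a natural transformation on the affine opens to a map of presheaves. -/
noncomputable def extend {P : TopCat.Presheaf CommRingCat.{u} S.carrier}
    (T : (toOpensFunctor S).op ⋙ P ⟶ (toOpensFunctor S).op ⋙ B.presheaf) : P ⟶ B.presheaf :=
  Functor.IsCoverDense.restrictHomEquivHom (G := toOpensFunctor S)
    (K := Opens.grothendieckTopology S) (ℱ := P)
    (ℱ' := (⟨B.presheaf, B.isSheaf⟩ : TopCat.Sheaf CommRingCat.{u} S.carrier)) T

theorem extend_app {P : TopCat.Presheaf CommRingCat.{u} S.carrier}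
    (T : (toOpensFunctor S).op ⋙ P ⟶ (toOpensFunctor S).op ⋙ B.presheaf)
    (W : S.AffineZariskiSiteᵒᵖ) : (extend T).app (op W.unop.1) = T.app W :=
  NatTrans.congr_app ((Functor.IsCoverDense.restrictHomEquivHom (G := toOpensFunctor S)
    (K := Opens.grothendieckTopology S) (ℱ := P)
    (ℱ' := (⟨B.presheaf, B.isSheaf⟩ :
      TopCat.Sheaf CommRingCat.{u} S.carrier))).symm_apply_apply T) W

/-- The homomorphism out of `alg H` attached to a compatible natural transformation on the affine
site. -/
noncomputable def homOf (T : F ⟶ (toOpensFunctor S).op ⋙ B.presheaf)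
    (hT : α ≫ T = (toOpensFunctor S).op.whiskerLeft B.str) : alg H ⟶ B where
  hom := extend (gammaNat H ≫ T)
  comm := by
    have E : (toOpensFunctor S).op.whiskerLeft (alg H).str ≫ gammaNat H ≫ T =
        (toOpensFunctor S).op.whiskerLeft B.str := by
      rw [← Category.assoc, str_gammaNat, hT]
    apply (Functor.IsCoverDense.restrictHomEquivHom (G := toOpensFunctor S)
      (K := Opens.grothendieckTopology S) (ℱ := S.presheaf)
      (ℱ' := (⟨B.presheaf, B.isSheaf⟩ : TopCat.Sheaf CommRingCat.{u} S.carrier))).symm.injective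
    ext W : 2
    change (alg H).str.app (op W.unop.1) ≫ (extend (gammaNat H ≫ T)).app (op W.unop.1) =
      B.str.app (op W.unop.1)
    rw [extend_app]
    exact NatTrans.congr_app E W

theorem homOf_app (T : F ⟶ (toOpensFunctor S).op ⋙ B.presheaf)
    (hT : α ≫ T = (toOpensFunctor S).op.whiskerLeft B.str) (W : S.AffineZariskiSiteᵒᵖ) :
    (homOf H T hT).hom.app (op W.unop.1) = (gammaNat H).app W ≫ T.app W :=
  extend_app (gammaNat H ≫ T) W

end hom

end Groth.Agent.Lib.Helper3.OfAff
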