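import Mathlib.RingTheory.MvPowerSeries.Substitution
import Mathlib.RingTheory.MvPowerSeries.Inverse
import Mathlib.RingTheory.AdicCompletion.Completeness
import Mathlib.RingTheory.AdicCompletion.Functoriality
import Mathlib.RingTheory.Henselian
import Mathlib.RingTheory.MvPowerSeries.Equiv
import Mathlib.RingTheory.Noetherian.Basic
import Mathlib.Order.OrderIsoNat

set_option autoImplicit false
universe u v

namespace Groth.Agent.Lib.Helper3

open MvPowerSeries

/-- A power series in finitely many variables with zero constant coefficient lies in the ideal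
generated by the variables. -/
theorem mem_span_range_X_of_constantCoeff_eq_zero {σ : Type v} {R : Type u} [Finite σ] [CommRing R]
    (g : MvPowerSeries σ R) (hg : constantCoeff g = 0) :
    g ∈ Ideal.span (Set.range (X : σ → MvPowerSeries σ R)) := by
  classical
  cases nonempty_fintype σ
  have hex : ∀ d : σ →₀ ℕ, d ≠ 0 → ∃ i, d i ≠ 0 := fun d hd => by
    by_contra h
    push Not at h
    exact hd (Finsupp.ext h)
  let idx : (σ →₀ ℕ) → Option σ := fun d =>
    if hd : d ≠ 0 then some (Classical.choose (hex d hd)) else none
  let gi : σ → MvPowerSeries σ R := fun i e =>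
    if idx (e + Finsupp.single i 1) = some i then coeff (e + Finsupp.single i 1) g else 0
  have hgi : ∀ i e, coeff e (gi i) =
      if idx (e + Finsupp.single i 1) = some i then coeff (e + Finsupp.single i 1) g else 0 :=
    fun i e => rfl
  have key : g = ∑ i, X i * gi i := by
    ext d
    rw [map_sum]
    simp only [X_def, coeff_monomial_mul, one_mul, hgi]
    by_cases hd : d = 0
    · subst hd
      rw [Finset.sum_eq_zero]
      · exact hg
      · intro i _
        rw [if_neg]
        intro h
        have := h i
        simp at this
    · have hi₀ := Classical.choose_spec (hex d hd)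
      set i₀ := Classical.choose (hex d hd) with hi₀def
      have hidx : idx d = some i₀ := by
        simp only [idx, dif_pos hd]
        rfl
      rw [Finset.sum_eq_single i₀]
      · have hle : Finsupp.single i₀ 1 ≤ d := by
          intro j
          by_cases hj : j = i₀
          · subst hj
            simp only [Finsupp.single_eq_same]
            omega
          · simp [Finsupp.single_eq_of_ne hj]
        rw [if_pos hle, tsub_add_cancel_of_le hle, if_pos hidx]
      · intro i _ hi
        split_ifs with h1 h2
        · rw [tsub_add_cancel_of_le h1, hidx] at h2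
          exact absurd (Option.some.inj h2).symm hi
        · rfl
        · rfl
      · intro h
        exact absurd (Finset.mem_univ _) h
  rw [key]
  exact Ideal.sum_mem _ (fun i _ => Ideal.mul_mem_right _ _ (Ideal.subset_span ⟨i, rfl⟩))

/-- If the family `a` has zero constant coefficients and generates the ideal of the variables,
substitution by `a` is surjective. -/
theorem substAlgHom_surjective_of_span_eq {σ : Type v} {R : Type u} [Finite σ] [CommRing R]
    (a : σ → MvPowerSeries σ R) (ha : HasSubst a)
    (hspan : Ideal.span (Set.range a) = Ideal.span (Set.range (X : σ → MvPowerSeries σ R))) :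
    Function.Surjective (substAlgHom (R := R) ha) := by
  have hmap : (Ideal.span (Set.range (X : σ → MvPowerSeries σ R))).map
      (substAlgHom (R := R) ha).toRingHom = Ideal.span (Set.range (X : σ → MvPowerSeries σ R)) := by
    rw [Ideal.map_span, ← Set.range_comp, ← hspan]
    congr 2
    funext s
    simp only [Function.comp_apply, AlgHom.toRingHom_eq_coe, RingHom.coe_coe]
    exact substAlgHom_X (R := R) ha s
  have hH : IsHausdorff ((Ideal.span (Set.range (X : σ → MvPowerSeries σ R))).map
      (substAlgHom (R := R) ha).toRingHom) (MvPowerSeries σ R) := by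
    rw [hmap]
    infer_instance
  have hsurj : Function.Surjective
      ((Ideal.Quotient.mk ((Ideal.span (Set.range (X : σ → MvPowerSeries σ R))).map
        (substAlgHom (R := R) ha).toRingHom)).comp
        (substAlgHom (R := R) ha).toRingHom) := by
    intro y
    obtain ⟨g, rfl⟩ := Ideal.Quotient.mk_surjective y
    refine ⟨C (constantCoeff g), ?_⟩
    rw [RingHom.comp_apply, Ideal.Quotient.eq, hmap]
    apply mem_span_range_X_of_constantCoeff_eq_zero
    simp [substAlgHom_apply]
  exact surjective_of_mk_map_comp_surjective
    (I := Ideal.span (Set.range (X : σ → MvPowerSeries σ R)))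
    (substAlgHom (R := R) ha).toRingHom hsurj

theorem constantCoeff_subst_eq {σ : Type v} {R : Type u} [CommRing R]
    (a : σ → MvPowerSeries σ R) (ha : HasSubst a) (ha0 : ∀ s, constantCoeff (a s) = 0)
    (f : MvPowerSeries σ R) : constantCoeff (subst a f) = constantCoeff f := by
  have h1 : f = C (constantCoeff f) + (f - C (constantCoeff f)) := by ring
  have h2 : constantCoeff (f - C (constantCoeff f)) = 0 := by simp
  conv_lhs => rw [h1]
  rw [subst_add ha, map_add, subst_C, constantCoeff_subst_eq_zero ha ha0 h2]
  simp

theorem span_range_X_mul_unit {σ : Type v} {R : Type u} [CommRing R]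
    (u : σ → MvPowerSeries σ R) (hu : ∀ s, IsUnit (u s)) :
    Ideal.span (Set.range (fun s => (X s : MvPowerSeries σ R) * u s)) =
      Ideal.span (Set.range (X : σ → MvPowerSeries σ R)) := by
  apply le_antisymm
  · rw [Ideal.span_le]
    rintro _ ⟨s, rfl⟩
    exact Ideal.mul_mem_right _ _ (Ideal.subset_span ⟨s, rfl⟩)
  · rw [Ideal.span_le]
    rintro _ ⟨s, rfl⟩
    have : (X s : MvPowerSeries σ R) = (X s * u s) * Ring.inverse (u s) := by
      rw [mul_assoc, Ring.mul_inverse_cancel _ (hu s), mul_one]
    rw [SetLike.mem_coe, this]
    exact Ideal.mul_mem_right _ _ (Ideal.subset_span ⟨s, rfl⟩)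

theorem hasSubst_X_mul {σ : Type v} {R : Type u} [Finite σ] [CommRing R]
    (u : σ → MvPowerSeries σ R) : HasSubst (fun s => (X s : MvPowerSeries σ R) * u s) :=
  hasSubst_of_constantCoeff_zero (fun s => by simp)

/-- Substitution `X s ↦ X s * u s` with `u s` units is a bijection of the power series ring. -/
theorem substAlgHom_X_mul_unit_bijective {σ : Type v} {R : Type u} [Finite σ] [CommRing R]
    (u : σ → MvPowerSeries σ R) (hu : ∀ s, IsUnit (u s)) :
    Function.Bijective (substAlgHom (R := R) (hasSubst_X_mul u)) := by
  have hsurj := substAlgHom_surjective_of_span_eq _ (hasSubst_X_mul u) (span_range_X_mul_unit u hu)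
  -- preimages of the inverses of the units
  have hw : ∀ s, ∃ w : MvPowerSeries σ R, substAlgHom (R := R) (hasSubst_X_mul u) w = Ring.inverse (u s) :=
    fun s => hsurj _
  choose w hw using hw
  have hwu : ∀ s, IsUnit (w s) := by
    intro s
    rw [isUnit_iff_constantCoeff]
    have h1 := constantCoeff_subst_eq _ (hasSubst_X_mul u) (fun s => by simp) (w s)
    rw [← substAlgHom_apply (hasSubst_X_mul u), hw s] at h1
    rw [← h1]
    exact IsUnit.map _ (hu s).ringInverse
  have hsurj' := substAlgHom_surjective_of_span_eq _ (hasSubst_X_mul w) (span_range_X_mul_unit w hwu)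
  -- ψ ∘ χ = id
  have hcomp : ∀ f, substAlgHom (R := R) (hasSubst_X_mul u) (substAlgHom (R := R) (hasSubst_X_mul w) f) = f := by
    intro f
    rw [substAlgHom_apply, substAlgHom_apply, subst_comp_subst_apply (hasSubst_X_mul w) (hasSubst_X_mul u)]
    have : (fun s => subst (fun s => (X s : MvPowerSeries σ R) * u s) ((X s : MvPowerSeries σ R) * w s)) =
        (X : σ → MvPowerSeries σ R) := by
      funext s
      rw [subst_mul (hasSubst_X_mul u), subst_X (hasSubst_X_mul u), ← substAlgHom_apply (hasSubst_X_mul u), hw s,
        mul_assoc, Ring.mul_inverse_cancel _ (hu s), mul_one]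
    rw [this, subst_self]
    rfl
  have hχinj : Function.Injective (substAlgHom (R := R) (hasSubst_X_mul w)) :=
    Function.LeftInverse.injective hcomp
  refine ⟨?_, hsurj⟩
  intro f g hfg
  obtain ⟨f', rfl⟩ := hsurj' f
  obtain ⟨g', rfl⟩ := hsurj' g
  rw [hcomp, hcomp] at hfg
  rw [hfg]

/-- A surjective ring endomorphism of a Noetherian ring is injective. -/
theorem ringHom_injective_of_surjective_of_isNoetherianRing {A : Type u} [CommRing A]
    [IsNoetherianRing A] (f : A →+* A) (hf : Function.Surjective f) : Function.Injective f := by
  have hmono : Monotone (fun n : ℕ => RingHom.ker (f ^ n)) := by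
    apply monotone_nat_of_le_succ
    intro n x hx
    rw [RingHom.mem_ker] at hx ⊢
    rw [pow_succ', RingHom.mul_def, RingHom.comp_apply, hx, map_zero]
  obtain ⟨n, hn⟩ := monotone_stabilizes_iff_noetherian.2 (inferInstance : IsNoetherian A A)
    ⟨fun n : ℕ => RingHom.ker (f ^ n), hmono⟩
  have hsurj : Function.Surjective (f ^ n) := by
    rw [RingHom.coe_pow]
    exact hf.iterate n
  rw [injective_iff_map_eq_zero]
  intro x hx
  obtain ⟨y, rfl⟩ := hsurj x
  have hy : y ∈ RingHom.ker (f ^ (n + 1)) := by
    rw [RingHom.mem_ker, pow_succ', RingHom.mul_def, RingHom.comp_apply, hx]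
  have := hn (n + 1) (Nat.le_succ n)
  dsimp at this
  rw [← this] at hy
  exact hy

/-- Formal inverse function theorem over a Noetherian base: if the family `a` has zero constant
coefficients and generates the ideal of the variables, substitution by `a` is bijective. -/
theorem subst_bijective_of_span_eq {σ : Type v} {R : Type u} [Finite σ] [CommRing R]
    [IsNoetherianRing R]
    (a : σ → MvPowerSeries σ R) (ha0 : ∀ s, constantCoeff (a s) = 0)
    (hspan : Ideal.span (Set.range a) = Ideal.span (Set.range (X : σ → MvPowerSeries σ R))) :
    Function.Bijective (subst a : MvPowerSeries σ R → MvPowerSeries σ R) := by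
  have ha : HasSubst a := hasSubst_of_constantCoeff_zero ha0
  have hsurj := substAlgHom_surjective_of_span_eq a ha hspan
  have hinj := ringHom_injective_of_surjective_of_isNoetherianRing
    (substAlgHom (R := R) ha).toRingHom hsurj
  rw [← coe_substAlgHom ha]
  exact ⟨hinj, hsurj⟩

end Groth.Agent.Lib.Helper3
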