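import Groth.Agent.Lib.Helper3.QCAlgLift2
import Mathlib.AlgebraicGeometry.QuasiAffine
import Mathlib.AlgebraicGeometry.Morphisms.IsIso
/-!
# The canonical morphism `X ⟶ Spec(f_* O_X)`
-/
universe u
open CategoryTheory CategoryTheory.Limits AlgebraicGeometry Opposite TopologicalSpace
open RelSpec

namespace Groth.Agent.Lib.Helper3

variable {X S : Scheme.{u}} (f : X ⟶ S) [QuasiCompact f] [QuasiSeparated f]

/-- The canonical morphism `X ⟶ Spec(f_* O_X)`. -/
noncomputable def canonicalToSpec : X ⟶ (QCAlg.directImage f).spec :=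
  QCAlg.lift (QCAlg.directImage f) f (𝟙 (QCAlg.directImage f).presheaf)

theorem canonicalToSpec_π : canonicalToSpec f ≫ (QCAlg.directImage f).π = f :=
  QCAlg.lift_π (QCAlg.directImage f) f _ (Category.comp_id _)

theorem isOpenImmersion_ι_comp_of_eq {X Y : Scheme.{u}} (c : X ⟶ Y) {U V : X.Opens} (h : U = V)
    (hU : IsOpenImmersion (U.ι ≫ c)) : IsOpenImmersion (V.ι ≫ c) := by
  subst h; exact hU

theorem canonicalToSpec_preimage (U : S.Opens) :
    canonicalToSpec f ⁻¹ᵁ ((QCAlg.directImage f).π ⁻¹ᵁ U) = f ⁻¹ᵁ U := by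
  rw [← Scheme.Hom.comp_preimage, canonicalToSpec_π]

theorem ι_canonicalToSpec (U : S.Opens) (hU : IsAffineOpen U) :
    (f ⁻¹ᵁ U).ι ≫ canonicalToSpec f =
      (f ⁻¹ᵁ U).toSpecΓ ≫ (QCAlg.directImage f).ι U hU := by
  refine (QCAlg.ι_lift (QCAlg.directImage f) f _ ⟨U, hU⟩).trans ?_
  congr 1
  rw [NatTrans.id_app]
  erw [Spec.map_id]
  exact Category.id_comp _

set_option backward.isDefEq.respectTransparency false in
theorem isOpenImmersion_canonicalToSpec
    (hqa : ∀ V : S.Opens, IsAffineOpen V → Scheme.IsQuasiAffine (f ⁻¹ᵁ V : Scheme.{u})) :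
    IsOpenImmersion (canonicalToSpec f) := by
  refine IsZariskiLocalAtTarget.of_forall_source_exists_preimage _ fun x ↦ ?_
  obtain ⟨_, ⟨U, hU : IsAffineOpen U, rfl⟩, hxU, -⟩ :=
    S.isBasis_affineOpens.exists_subset_of_mem_open (Set.mem_univ (f x)) isOpen_univ
  refine ⟨(QCAlg.directImage f).π ⁻¹ᵁ U, ?_, ?_⟩
  · change (canonicalToSpec f ≫ (QCAlg.directImage f).π) x ∈ U
    rw [canonicalToSpec_π]; exact hxU
  · refine isOpenImmersion_ι_comp_of_eq _ (canonicalToSpec_preimage f U).symm ?_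
    rw [ι_canonicalToSpec f U hU]
    have := hqa U hU
    have h1 : IsOpenImmersion (f ⁻¹ᵁ U).toSpecΓ := by
      delta Scheme.Opens.toSpecΓ
      infer_instance
    infer_instance

theorem surjective_canonicalToSpec_of_isAffineHom {X S : Scheme.{u}} (f : X ⟶ S)
    [IsAffineHom f] : Function.Surjective (canonicalToSpec f) := by
  intro z
  obtain ⟨_, ⟨U, hU : IsAffineOpen U, rfl⟩, hzU, -⟩ :=
    S.isBasis_affineOpens.exists_subset_of_mem_open
      (Set.mem_univ ((QCAlg.directImage f).π z)) isOpen_univ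
  have hz : z ∈ ((QCAlg.directImage f).ι U hU).opensRange := by
    rw [← (QCAlg.directImage f).π_preimage U hU]; exact hzU
  obtain ⟨y, rfl⟩ := hz
  have haff : IsAffineOpen (f ⁻¹ᵁ U) := hU.preimage f
  have : IsIso (f ⁻¹ᵁ U).toSpecΓ := haff.isoSpec.isIso_hom
  obtain ⟨w, rfl⟩ := (f ⁻¹ᵁ U).toSpecΓ.surjective y
  refine ⟨(f ⁻¹ᵁ U).ι w, ?_⟩
  have := congrArg (fun k => k.base w) (ι_canonicalToSpec f U hU)
  exact this

theorem isIso_canonicalToSpec_of_isAffineHom {X S : Scheme.{u}} (f : X ⟶ S) [IsAffineHom f] :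
    IsIso (canonicalToSpec f) := by
  have h1 : IsOpenImmersion (canonicalToSpec f) :=
    isOpenImmersion_canonicalToSpec f fun V hV => by
      have : IsAffine (f ⁻¹ᵁ V : Scheme.{u}) := hV.preimage f
      infer_instance
  have h2 : Surjective (canonicalToSpec f) := ⟨surjective_canonicalToSpec_of_isAffineHom f⟩
  exact (isIso_iff_isOpenImmersion_and_surjective _).mpr ⟨h1, h2⟩

end Groth.Agent.Lib.Helper3
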