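import Groth.Agent.Lib.Helper3.QCAlgLift
import Groth.Agent.Lib.Helper3.OfAff
/-!
# Morphisms into a relative spectrum: extensionality and construction from affine-local data
-/
universe u
open CategoryTheory CategoryTheory.Limits AlgebraicGeometry Opposite TopologicalSpace
open RelSpec AlgebraicGeometry.Scheme.AffineZariskiSite

namespace Groth.Agent.Lib.Helper3

variable {S : Scheme.{u}}

theorem QCAlg.specMap_preimage_le {A B : QCAlg S} (φ : A ⟶ B) (U : S.Opens) :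
    B.π ⁻¹ᵁ U ≤ (QCAlg.specMap φ) ⁻¹ᵁ (A.π ⁻¹ᵁ U) := by
  rw [← Scheme.Hom.comp_preimage, QCAlg.specMap_π]

set_option backward.isDefEq.respectTransparency false in
/-- `gammaAff` is natural with respect to `specMap`. -/
theorem QCAlg.specMap_appLE_gammaAff {A B : QCAlg S} (φ : A ⟶ B) (U : S.Opens)
    (hU : IsAffineOpen U) :
    (QCAlg.specMap φ).appLE (A.π ⁻¹ᵁ U) (B.π ⁻¹ᵁ U) (QCAlg.specMap_preimage_le φ U) ≫
        B.gammaAff U hU = A.gammaAff U hU ≫ φ.hom.app (op U) := by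
  have e₁ : (⊤ : (Spec (B.presheaf.obj (op U))).Opens) ≤
      (B.ι U hU ≫ QCAlg.specMap φ) ⁻¹ᵁ (A.π ⁻¹ᵁ U) := by
    rw [Scheme.Hom.comp_preimage]
    exact (B.top_le_preimage U hU).trans ((B.ι U hU).preimage_mono
      (QCAlg.specMap_preimage_le φ U))
  have h1 : (QCAlg.specMap φ).appLE (A.π ⁻¹ᵁ U) (B.π ⁻¹ᵁ U) (QCAlg.specMap_preimage_le φ U) ≫
      (B.ι U hU).appLE (B.π ⁻¹ᵁ U) ⊤ (B.top_le_preimage U hU) =
      (B.ι U hU ≫ QCAlg.specMap φ).appLE (A.π ⁻¹ᵁ U) ⊤ e₁ :=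
    Scheme.Hom.appLE_comp_appLE _ _ _ _ _ _ _
  have e₂ : (⊤ : (Spec (B.presheaf.obj (op U))).Opens) ≤
      (Spec.map (φ.hom.app (op U)) ≫ A.ι U hU) ⁻¹ᵁ (A.π ⁻¹ᵁ U) := by
    rw [← QCAlg.ι_specMap]; exact e₁
  have h2 : (B.ι U hU ≫ QCAlg.specMap φ).appLE (A.π ⁻¹ᵁ U) ⊤ e₁ =
      (Spec.map (φ.hom.app (op U)) ≫ A.ι U hU).appLE (A.π ⁻¹ᵁ U) ⊤ e₂ :=
    appLE_congr' (QCAlg.ι_specMap U hU φ) _ _ _
  have h3 : (Spec.map (φ.hom.app (op U)) ≫ A.ι U hU).appLE (A.π ⁻¹ᵁ U) ⊤ e₂ =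
      (A.ι U hU).appLE (A.π ⁻¹ᵁ U) ⊤ (A.top_le_preimage U hU) ≫
        (Spec.map (φ.hom.app (op U))).appLE ⊤ ⊤ le_top :=
    (Scheme.Hom.appLE_comp_appLE _ _ _ _ _ _ _).symm
  unfold QCAlg.gammaAff
  rw [← Category.assoc, h1, h2, h3, Category.assoc, Category.assoc]
  congr 1
  have h4 : (Spec.map (φ.hom.app (op U))).appLE ⊤ ⊤ le_top =
      (Spec.map (φ.hom.app (op U))).appTop := by
    simp [Scheme.Hom.appLE, Scheme.Hom.appTop]
  rw [h4]
  exact Scheme.ΓSpecIso_naturality _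


theorem QCAlg.le_preimage_of_comp_π (A : QCAlg S) {T : Scheme.{u}} {t : T ⟶ S} {a : T ⟶ A.spec}
    (ha : a ≫ A.π = t) (U : S.Opens) : t ⁻¹ᵁ U ≤ a ⁻¹ᵁ (A.π ⁻¹ᵁ U) := by
  rw [← Scheme.Hom.comp_preimage, ha]

theorem QCAlg.isIso_ι_appLE (A : QCAlg S) (U : S.Opens) (hU : IsAffineOpen U) :
    IsIso ((A.ι U hU).appLE (A.π ⁻¹ᵁ U) ⊤ (A.top_le_preimage U hU)) := by
  have h : (A.ι U hU).appLE (A.π ⁻¹ᵁ U) ⊤ (A.top_le_preimage U hU) =
      A.gammaAff U hU ≫ (Scheme.ΓSpecIso (A.presheaf.obj (op U))).inv := by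
    unfold QCAlg.gammaAff
    rw [Category.assoc, Iso.hom_inv_id, Category.comp_id]
  rw [h]
  have := isIso_gammaAff A U hU
  infer_instance

set_option backward.isDefEq.respectTransparency false in
/-- Two morphisms into a relative spectrum over the same morphism to the base agree as soon as
they agree on sections over the preimages of the affine opens of the base. -/
theorem QCAlg.spec_hom_ext (A : QCAlg S) {T : Scheme.{u}} (t : T ⟶ S) (a b : T ⟶ A.spec)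
    (ha : a ≫ A.π = t) (hb : b ≫ A.π = t)
    (h : ∀ (U : S.Opens) (_ : IsAffineOpen U),
      a.appLE (A.π ⁻¹ᵁ U) (t ⁻¹ᵁ U) (QCAlg.le_preimage_of_comp_π A ha U) =
        b.appLE (A.π ⁻¹ᵁ U) (t ⁻¹ᵁ U) (QCAlg.le_preimage_of_comp_π A hb U)) : a = b := by
  refine Scheme.Cover.hom_ext (T.openCoverOfIsOpenCover _
    (.comap (iSup_affineOpens_eq_top S) t.base.1)) _ _ fun U ↦ ?_
  change (t ⁻¹ᵁ U.1).ι ≫ a = (t ⁻¹ᵁ U.1).ι ≫ b
  have hra : Set.range ((t ⁻¹ᵁ U.1).ι ≫ a) ⊆ Set.range (A.ι U.1 U.2) := by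
    rintro _ ⟨x, rfl⟩
    have hx : a x.1 ∈ A.π ⁻¹ᵁ U.1 := QCAlg.le_preimage_of_comp_π A ha U.1 x.2
    rw [A.π_preimage U.1 U.2] at hx
    exact hx
  have hrb : Set.range ((t ⁻¹ᵁ U.1).ι ≫ b) ⊆ Set.range (A.ι U.1 U.2) := by
    rintro _ ⟨x, rfl⟩
    have hx : b x.1 ∈ A.π ⁻¹ᵁ U.1 := QCAlg.le_preimage_of_comp_π A hb U.1 x.2
    rw [A.π_preimage U.1 U.2] at hx
    exact hx
  rw [← IsOpenImmersion.lift_fac (A.ι U.1 U.2) _ hra, ← IsOpenImmersion.lift_fac (A.ι U.1 U.2) _ hrb]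
  congr 1
  apply ext_of_isAffine
  have : IsIso ((A.ι U.1 U.2).appLE (A.π ⁻¹ᵁ U.1) ⊤ (A.top_le_preimage U.1 U.2)) :=
    QCAlg.isIso_ι_appLE A U.1 U.2
  rw [← cancel_epi ((A.ι U.1 U.2).appLE (A.π ⁻¹ᵁ U.1) ⊤ (A.top_le_preimage U.1 U.2))]
  have key : ∀ (c : T ⟶ A.spec) (hc : c ≫ A.π = t)
      (hr : Set.range ((t ⁻¹ᵁ U.1).ι ≫ c) ⊆ Set.range (A.ι U.1 U.2)),
      (A.ι U.1 U.2).appLE (A.π ⁻¹ᵁ U.1) ⊤ (A.top_le_preimage U.1 U.2) ≫
        (IsOpenImmersion.lift (A.ι U.1 U.2) ((t ⁻¹ᵁ U.1).ι ≫ c) hr).appTop =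
      c.appLE (A.π ⁻¹ᵁ U.1) (t ⁻¹ᵁ U.1) (QCAlg.le_preimage_of_comp_π A hc U.1) ≫
        (t ⁻¹ᵁ U.1).ι.appLE (t ⁻¹ᵁ U.1) ⊤ (by simp) := by
    intro c hc hr
    have e0 : (⊤ : (t ⁻¹ᵁ U.1).toScheme.Opens) ≤
        (IsOpenImmersion.lift (A.ι U.1 U.2) ((t ⁻¹ᵁ U.1).ι ≫ c) hr) ⁻¹ᵁ ⊤ := le_top
    have e1 : (IsOpenImmersion.lift (A.ι U.1 U.2) ((t ⁻¹ᵁ U.1).ι ≫ c) hr).appTop =
        (IsOpenImmersion.lift (A.ι U.1 U.2) ((t ⁻¹ᵁ U.1).ι ≫ c) hr).appLE ⊤ ⊤ e0 := by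
      simp only [Scheme.Hom.appLE, Scheme.Hom.appTop]
      exact (Category.comp_id _).symm.trans (congrArg _ (CategoryTheory.Functor.map_id _ _).symm)
    rw [e1, Scheme.Hom.appLE_comp_appLE, Scheme.Hom.appLE_comp_appLE]
    exact appLE_congr' (IsOpenImmersion.lift_fac (A.ι U.1 U.2) _ hr) _ _ _
  rw [key a ha hra, key b hb hrb, h U.1 U.2]


section liftAff

variable (A : QCAlg S) {T : Scheme.{u}} (t : T ⟶ S)

/-- The direct image of the structure sheaf, as a sheaf. -/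
def pushSheaf : TopCat.Sheaf CommRingCat.{u} S.carrier :=
  ⟨t.base _* T.presheaf, TopCat.Sheaf.pushforward_sheaf_of_sheaf _ T.sheaf.property⟩

/-- Extension of a natural transformation on the affine opens to a map of presheaves with values
in a direct image of a structure sheaf. -/
noncomputable def extendPush
    (ω : (toOpensFunctor S).op ⋙ A.presheaf ⟶ (toOpensFunctor S).op ⋙ (t.base _* T.presheaf)) :
    A.presheaf ⟶ t.base _* T.presheaf :=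
  Functor.IsCoverDense.restrictHomEquivHom (G := toOpensFunctor S)
    (K := Opens.grothendieckTopology S) (ℱ := A.presheaf) (ℱ' := pushSheaf t) ω

theorem extendPush_app
    (ω : (toOpensFunctor S).op ⋙ A.presheaf ⟶ (toOpensFunctor S).op ⋙ (t.base _* T.presheaf))
    (W : S.AffineZariskiSiteᵒᵖ) : (extendPush A t ω).app (op W.unop.1) = ω.app W :=
  NatTrans.congr_app ((Functor.IsCoverDense.restrictHomEquivHom (G := toOpensFunctor S)
    (K := Opens.grothendieckTopology S) (ℱ := A.presheaf)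
    (ℱ' := pushSheaf t)).symm_apply_apply ω) W

theorem str_extendPush
    (ω : (toOpensFunctor S).op ⋙ A.presheaf ⟶ (toOpensFunctor S).op ⋙ (t.base _* T.presheaf))
    (hω : ∀ (U : S.Opens) (hU : IsAffineOpen U),
      A.str.app (op U) ≫ ω.app (op (OfAff.aff U hU)) = t.app U) :
    A.str ≫ extendPush A t ω = t.c := by
  apply (Functor.IsCoverDense.restrictHomEquivHom (G := toOpensFunctor S)
    (K := Opens.grothendieckTopology S) (ℱ := S.presheaf) (ℱ' := pushSheaf t)).symm.injective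
  ext W : 2
  change A.str.app (op W.unop.1) ≫ (extendPush A t ω).app (op W.unop.1) = t.app W.unop.1
  rw [extendPush_app]
  exact hω W.unop.1 W.unop.2

/-- The morphism into the relative spectrum attached to affine-local data. -/
noncomputable def QCAlg.liftAff
    (ω : (toOpensFunctor S).op ⋙ A.presheaf ⟶ (toOpensFunctor S).op ⋙ (t.base _* T.presheaf)) :
    T ⟶ A.spec := QCAlg.lift A t (extendPush A t ω)

variable (ω : (toOpensFunctor S).op ⋙ A.presheaf ⟶ (toOpensFunctor S).op ⋙ (t.base _* T.presheaf))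
  (hω : ∀ (U : S.Opens) (hU : IsAffineOpen U),
      A.str.app (op U) ≫ ω.app (op (OfAff.aff U hU)) = t.app U)

include hω in
theorem QCAlg.liftAff_π : QCAlg.liftAff A t ω ≫ A.π = t :=
  QCAlg.lift_π A t _ (str_extendPush A t ω hω)

theorem QCAlg.liftAff_appLE (U : S.Opens) (hU : IsAffineOpen U) :
    (QCAlg.liftAff A t ω).appLE (A.π ⁻¹ᵁ U) (t ⁻¹ᵁ U)
      (QCAlg.le_preimage_of_comp_π A (QCAlg.liftAff_π A t ω hω) U) =
      A.gammaAff U hU ≫ ω.app (op (OfAff.aff U hU)) := by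
  have h := QCAlg.lift_appLE A t (extendPush A t ω) (str_extendPush A t ω hω) U hU
  rw [extendPush_app A t ω (op (OfAff.aff U hU))] at h
  exact h

end liftAff

end Groth.Agent.Lib.Helper3
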