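import Groth.Agent.Lib.Helper3.SubSh
/-!
# Extension of a finite type quasi-coherent subsheaf across an affine open (EGA I 9.4.7, local step)
-/
universe u v
open CategoryTheory CategoryTheory.Limits AlgebraicGeometry Opposite TopologicalSpace
open Groth.Agent.Lib.Helper29.QCoh

namespace Groth.Agent.Lib.Helper3

variable {X : Scheme.{u}} {F : X.Modules}

namespace SubSh

theorem isUnit_res_of_le_basicOpen {V T : X.Opens} (f : Γ(X, V)) (hTV : T ≤ V)
    (hT : T ≤ X.basicOpen f) : IsUnit (X.presheaf.map (homOfLE hTV).op f) := by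
  have h1 : IsUnit (X.presheaf.map (homOfLE (X.basicOpen_le f)).op f) :=
    RingedSpace.isUnit_res_basicOpen X.toRingedSpace f
  have h2 := h1.map (X.presheaf.map (homOfLE hT).op).hom
  have h3 : (X.presheaf.map (homOfLE hT).op).hom
      ((X.presheaf.map (homOfLE (X.basicOpen_le f)).op) f) = X.presheaf.map (homOfLE hTV).op f :=
    map_map_apply X (X.basicOpen_le f) hT f
  rwa [h3] at h2

theorem mem_of_isUnit_pow_smul_mem {T : X.Opens} (P : Submodule Γ(X, T) Γ(F, T)) {u : Γ(X, T)}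
    (hu : IsUnit u) (n : ℕ) {y : Γ(F, T)} (h : u ^ n • y ∈ P) : y ∈ P := by
  obtain ⟨v, hv⟩ := hu.pow n
  have h1 : y = (↑v⁻¹ : Γ(X, T)) • (u ^ n • y) := by
    rw [smul_smul, ← hv, Units.inv_mul, one_smul]
  rw [h1]
  exact P.smul_mem _ h

/-- Claim A: a section of `K` over `D(f k)` becomes, after multiplication by a power of `f k`, the
restriction of a section over `V` all of whose restrictions to the `D(f j)` lie in `K`. -/
theorem exists_pow_smul_eq_res_of_cover [F.IsQuasicoherent] (K : SubSh F) {V : X.Opens}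
    (hV : IsAffineOpen V) {ι : Type*} [Fintype ι] (f : ι → Γ(X, V))
    (hq : ∀ j, K.IsQCOn (X.basicOpen (f j)))
    (k : ι) (t : Γ(F, X.basicOpen (f k))) (ht : t ∈ K.carrier (X.basicOpen (f k))) :
    ∃ (n : ℕ) (s : Γ(F, V)),
      (∀ j, res F (X.basicOpen_le (f j)) s ∈ K.carrier (X.basicOpen (f j))) ∧
      (X.presheaf.map (homOfLE (X.basicOpen_le (f k))).op (f k)) ^ n • t =
        res F (X.basicOpen_le (f k)) s := by
  obtain ⟨n₀, s₀, e₀⟩ := exists_pow_smul_eq_res F hV (f k) t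
  have key : ∀ j, ∃ N : ℕ, ∀ N' ≥ N,
      res F (X.basicOpen_le (f j)) ((f k) ^ N' • s₀) ∈ K.carrier (X.basicOpen (f j)) := by
    intro j
    set g : Γ(X, X.basicOpen (f j)) :=
      X.presheaf.map (homOfLE (X.basicOpen_le (f j))).op (f k) with hg
    have hbo : X.basicOpen g = X.basicOpen (f j) ⊓ X.basicOpen (f k) := X.basicOpen_res _ _
    have hle_k : X.basicOpen g ≤ X.basicOpen (f k) := hbo.le.trans inf_le_right
    have hle_V : X.basicOpen g ≤ V := (X.basicOpen_le g).trans (X.basicOpen_le (f j))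
    have hu : res F hle_V s₀ ∈ K.carrier (X.basicOpen g) := by
      have h1 : res F hle_V s₀ = res F hle_k (res F (X.basicOpen_le (f k)) s₀) := by rw [res_res]
      rw [h1, ← e₀]
      exact K.res_mem hle_k ((K.carrier _).smul_mem _ ht)
    obtain ⟨a, m, hm, e⟩ := hq j g (res F hle_V s₀) hu
    have h0 : res F (X.basicOpen_le g) (g ^ a • res F (X.basicOpen_le (f j)) s₀ - m) = 0 := by
      rw [map_sub, res_smul, map_pow, res_res, ← e]
      exact sub_self _
    obtain ⟨b, hb⟩ := exists_pow_smul_eq_zero F (hV.basicOpen (f j)) g _ h0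
    refine ⟨b + a, fun N' hN' => ?_⟩
    rw [res_smul, map_pow, ← hg]
    obtain ⟨c, rfl⟩ := Nat.exists_eq_add_of_le hN'
    rw [smul_sub, sub_eq_zero, smul_smul, ← pow_add] at hb
    rw [pow_add, mul_comm, mul_smul, hb]
    exact (K.carrier _).smul_mem _ ((K.carrier _).smul_mem _ hm)
  choose N hN using key
  refine ⟨Finset.univ.sup N + n₀, (f k) ^ (Finset.univ.sup N) • s₀,
    fun j => hN j _ (Finset.le_sup (Finset.mem_univ j)), ?_⟩
  rw [res_smul, map_pow, ← e₀, smul_smul, ← pow_add]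

/-- Extension lemma (local step of EGA I 9.4.7): if `K` is quasi-coherent of finite type on
basic opens of the affine `V` covering the quasi-compact open `V ⊓ W`, there is a finite set of
sections of `F` over `V` generating `K` on `V ⊓ W`. -/
theorem exists_finite_fits [F.IsQuasicoherent] (K : SubSh F) {V : X.Opens} (hV : IsAffineOpen V)
    (W : X.Opens) (hc : IsCompact ((V ⊓ W : X.Opens) : Set X))
    (hnice : ∀ x ∈ V ⊓ W, ∃ f : Γ(X, V), x ∈ X.basicOpen f ∧ X.basicOpen f ≤ W ∧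
        K.IsQCOn (X.basicOpen f) ∧ (K.carrier (X.basicOpen f)).FG) :
    ∃ S : Set Γ(F, V), S.Finite ∧
      ∀ T : X.Opens, T ≤ V → T ≤ W → (genSub V S).carrier T = K.carrier T := by
  classical
  choose f hxf hfW hq hfg using fun x : ↥(V ⊓ W) => hnice x.1 x.2
  obtain ⟨t, ht⟩ := hc.elim_finite_subcover (fun x : ↥(V ⊓ W) => (X.basicOpen (f x) : Set X))
    (fun x => (X.basicOpen (f x)).isOpen) (fun x hx => Set.mem_iUnion.mpr ⟨⟨x, hx⟩, hxf ⟨x, hx⟩⟩)
  let fι : {x // x ∈ t} → Γ(X, V) := fun k => f k.1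
  have hcov : ∀ x ∈ V ⊓ W, ∃ k : {x // x ∈ t}, x ∈ X.basicOpen (fι k) := by
    intro x hx
    obtain ⟨k, hk⟩ := Set.mem_iUnion.mp (ht hx)
    obtain ⟨hkt, hxk⟩ := Set.mem_iUnion.mp hk
    exact ⟨⟨k, hkt⟩, hxk⟩
  choose G hG using fun k : {x // x ∈ t} => hfg k.1
  have hGmem : ∀ (k : {x // x ∈ t}) (g : Γ(F, X.basicOpen (fι k))), g ∈ G k →
      g ∈ K.carrier (X.basicOpen (fι k)) := by
    intro k g hg
    rw [← hG k]
    exact Submodule.subset_span hg
  choose n s hs he using fun (p : Σ k : {x // x ∈ t}, {g // g ∈ G k}) =>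
    exists_pow_smul_eq_res_of_cover K hV fι (fun j => hq j.1) p.1 p.2.1 (hGmem p.1 p.2.1 p.2.2)
  have L1 : ∀ (p : Σ k : {x // x ∈ t}, {g // g ∈ G k}) (T' : X.Opens) (hT'V : T' ≤ V),
      T' ≤ W → res F hT'V (s p) ∈ K.carrier T' := by
    intro p T' hT'V hT'W
    apply K.local_mem
    intro x hx
    obtain ⟨k, hk⟩ := hcov x ⟨hT'V hx, hT'W hx⟩
    refine ⟨T' ⊓ X.basicOpen (fι k), inf_le_left, ⟨hx, hk⟩, ?_⟩
    have := K.res_mem (inf_le_right : T' ⊓ X.basicOpen (fι k) ≤ X.basicOpen (fι k)) (hs p k)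
    rwa [res_res, ← res_res F hT'V (inf_le_left : T' ⊓ X.basicOpen (fι k) ≤ T')] at this
  refine ⟨Set.range s, Set.finite_range s, fun T hTV hTW => le_antisymm ?_ ?_⟩
  · intro t' ht'
    apply K.local_mem
    intro x hx
    obtain ⟨T', h₁, h₂, hx', hm⟩ := ht' x ⟨hx, hTV hx⟩
    refine ⟨T', h₁, hx', ?_⟩
    have hle : spanRes F (Set.range s) T' h₂ ≤ K.carrier T' := by
      apply Submodule.span_le.mpr
      rintro _ ⟨_, ⟨p, rfl⟩, rfl⟩
      exact L1 p T' h₂ (h₁.trans hTW)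
    exact hle hm
  · intro t' ht' x hx
    obtain ⟨k, hk⟩ := hcov x ⟨hx.2, hTW hx.1⟩
    obtain ⟨r, hr, hxr⟩ := (hV.basicOpen (fι k)).exists_basicOpen_le
      (V := T ⊓ X.basicOpen (fι k)) ⟨x, ⟨hx.1, hk⟩⟩ hk
    have h₁ : X.basicOpen r ≤ T := hr.trans inf_le_left
    have h₂ : X.basicOpen r ≤ V := (X.basicOpen_le r).trans (X.basicOpen_le (fι k))
    refine ⟨X.basicOpen r, h₁, h₂, hxr, ?_⟩
    obtain ⟨a, m, hm, e⟩ := hq k.1 r (res F h₁ t') (K.res_mem h₁ ht')
    apply mem_of_isUnit_pow_smul_mem _ (RingedSpace.isUnit_res_basicOpen X.toRingedSpace r) a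
    refine Eq.mpr (congrArg (· ∈ _) e) ?_
    have hm' : m ∈ Submodule.span Γ(X, X.basicOpen (fι k)) (G k : Set Γ(F, X.basicOpen (fι k))) := by
      rw [hG k]; exact hm
    clear e hm
    induction hm' using Submodule.span_induction with
    | mem g hg =>
      apply mem_of_isUnit_pow_smul_mem _
        (isUnit_res_of_le_basicOpen (fι k) h₂ (X.basicOpen_le r)) (n ⟨k, ⟨g, hg⟩⟩)
      have h3 : (X.presheaf.map (homOfLE h₂).op (fι k)) ^ (n ⟨k, ⟨g, hg⟩⟩) •
          res F (X.basicOpen_le r) g = res F h₂ (s ⟨k, ⟨g, hg⟩⟩) := by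
        rw [← res_res F (X.basicOpen_le (fι k)) (X.basicOpen_le r), ← he ⟨k, ⟨g, hg⟩⟩, res_smul,
          map_pow, map_map_apply]
      rw [h3]
      exact Submodule.subset_span ⟨_, ⟨_, rfl⟩, rfl⟩
    | zero => rw [map_zero]; exact Submodule.zero_mem _
    | add a b _ _ ha hb => rw [map_add]; exact Submodule.add_mem _ ha hb
    | smul c a _ ha => rw [res_smul]; exact Submodule.smul_mem _ _ ha

end SubSh

end Groth.Agent.Lib.Helper3
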