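import Groth.Agent.Lib.Helper3.SubShGen
import Groth.Prelude.Def_RelSpec
/-!
# Quasi-coherent algebras: underlying module, sub-algebras
-/
universe u
open CategoryTheory CategoryTheory.Limits AlgebraicGeometry Opposite TopologicalSpace
open Groth.Agent.Lib.Helper29.QCoh RelSpec

namespace Groth.Agent.Lib.Helper3
variable {X : Scheme.{u}} (B : QCAlg X)

/-- Restriction of sections of a quasi-coherent algebra. -/
noncomputable def resB {T T' : X.Opens} (h : T' ≤ T) :
    B.presheaf.obj (op T) →+* B.presheaf.obj (op T') := (B.presheaf.map (homOfLE h).op).hom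

/-- The structure map of a quasi-coherent algebra on sections. -/
noncomputable def strB (T : X.Opens) : Γ(X, T) →+* B.presheaf.obj (op T) := (B.str.app (op T)).hom

theorem resB_resB {T₁ T₂ T₃ : X.Opens} (h₁ : T₂ ≤ T₁) (h₂ : T₃ ≤ T₂)
    (s : B.presheaf.obj (op T₁)) : resB B h₂ (resB B h₁ s) = resB B (h₂.trans h₁) s := by
  unfold resB
  rw [← CommRingCat.comp_apply, ← B.presheaf.map_comp]
  rfl

theorem resB_self {T : X.Opens} (s : B.presheaf.obj (op T)) : resB B (le_refl T) s = s := by
  unfold resB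
  have : (homOfLE (le_refl T)).op = 𝟙 (op T) := rfl
  rw [this, B.presheaf.map_id]
  rfl

theorem resB_strB {T T' : X.Opens} (h : T' ≤ T) (r : Γ(X, T)) :
    resB B h (strB B T r) = strB B T' (X.presheaf.map (homOfLE h).op r) := by
  have := B.str.naturality (homOfLE h).op
  exact (congrArg (fun k => k.hom r) this).symm

theorem res_toModule {T T' : X.Opens} (h : T' ≤ T) (s : Γ(B.toModule, T)) :
    res B.toModule h s = resB B h (show B.presheaf.obj (op T) from s) := rfl

theorem smul_toModule {T : X.Opens} (r : Γ(X, T)) (s : Γ(B.toModule, T)) :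
    r • s = strB B T r * (show B.presheaf.obj (op T) from s) := rfl

theorem QCAlg.surj_aux {U : X.Opens} (hU : IsAffineOpen U) (f : Γ(X, U))
    (s : B.presheaf.obj (op (X.basicOpen f))) :
    ∃ (n : ℕ) (a : B.presheaf.obj (op U)),
      resB B (X.basicOpen_le f) (strB B U f) ^ n * s = resB B (X.basicOpen_le f) a := by
  let _ := (B.presheaf.map (homOfLE (X.basicOpen_le f)).op).hom.toAlgebra
  have hloc : IsLocalization.Away ((B.str.app (op U)).hom f)
    (B.presheaf.obj (op (X.basicOpen f))) := B.isQC U hU f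
  obtain ⟨n, a, h⟩ := IsLocalization.Away.surj ((B.str.app (op U)).hom f) s
  refine ⟨n, a, ?_⟩
  rw [mul_comm]
  exact h

theorem QCAlg.inj_aux {U : X.Opens} (hU : IsAffineOpen U) (f : Γ(X, U))
    (a : B.presheaf.obj (op U)) (h : resB B (X.basicOpen_le f) a = 0) :
    ∃ n : ℕ, strB B U f ^ n * a = 0 := by
  let _ := (B.presheaf.map (homOfLE (X.basicOpen_le f)).op).hom.toAlgebra
  have hloc : IsLocalization.Away ((B.str.app (op U)).hom f)
    (B.presheaf.obj (op (X.basicOpen f))) := B.isQC U hU f
  have h' : algebraMap (B.presheaf.obj (op U)) (B.presheaf.obj (op (X.basicOpen f))) a =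
      algebraMap (B.presheaf.obj (op U)) (B.presheaf.obj (op (X.basicOpen f))) 0 := by
    rw [map_zero]; exact h
  obtain ⟨⟨_, n, rfl⟩, hc⟩ := (IsLocalization.eq_iff_exists (Submonoid.powers
    ((B.str.app (op U)).hom f)) (B.presheaf.obj (op (X.basicOpen f)))).mp h'
  refine ⟨n, ?_⟩
  rw [mul_zero] at hc
  exact hc

theorem QCAlg.isUnit_aux {U : X.Opens} (hU : IsAffineOpen U) (f : Γ(X, U)) :
    IsUnit (resB B (X.basicOpen_le f) (strB B U f)) := by
  let _ := (B.presheaf.map (homOfLE (X.basicOpen_le f)).op).hom.toAlgebra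
  have hloc : IsLocalization.Away ((B.str.app (op U)).hom f)
    (B.presheaf.obj (op (X.basicOpen f))) := B.isQC U hU f
  exact IsLocalization.Away.algebraMap_isUnit ((B.str.app (op U)).hom f)

instance QCAlg.isQuasicoherent_toModule : B.toModule.IsQuasicoherent := by
  refine isQuasicoherent_of_localizing B.toModule (fun V : X.affineOpens => (V : X.Opens))
    (isOpenCover_affineOpens X) (fun V => V.2) ?_ ?_
  · rintro ⟨V, hV⟩ f s
    obtain ⟨n, a, h⟩ := QCAlg.surj_aux B hV f s
    refine ⟨n, (show Γ(B.toModule, V) from a), ?_⟩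
    refine (smul_toModule B _ s).trans ?_
    rw [map_pow, ← resB_strB]
    exact h
  · rintro ⟨V, hV⟩ f m hm
    obtain ⟨n, h⟩ := QCAlg.inj_aux B hV f m hm
    refine ⟨n, ?_⟩
    refine (smul_toModule B _ m).trans ?_
    rw [map_pow]
    exact h

/-- A family of subrings of sections of a quasi-coherent algebra, containing the functions and
stable under restriction. -/
structure PreSubAlg (B : QCAlg X) where
  carrier : ∀ T : X.Opens, Subring (B.presheaf.obj (op T))
  str_mem : ∀ (T : X.Opens) (r : Γ(X, T)), strB B T r ∈ carrier T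
  res_mem : ∀ {T T' : X.Opens} (h : T' ≤ T) {s : B.presheaf.obj (op T)},
    s ∈ carrier T → resB B h s ∈ carrier T'

/-- A sub-algebra sheaf: a `PreSubAlg` with local membership. -/
structure SubAlgSh (B : QCAlg X) extends PreSubAlg B where
  local_mem : ∀ (T : X.Opens) (s : B.presheaf.obj (op T)),
    (∀ x ∈ T, ∃ (T' : X.Opens) (h : T' ≤ T), x ∈ T' ∧ resB B h s ∈ carrier T') → s ∈ carrier T

variable {B}

namespace PreSubAlg

variable (P : PreSubAlg B)

/-- The underlying family of submodules. -/
noncomputable def toPreSubSh : PreSubSh B.toModule where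
  carrier T :=
    { carrier := {s | (show B.presheaf.obj (op T) from s) ∈ P.carrier T}
      add_mem' := fun ha hb => (P.carrier T).add_mem ha hb
      zero_mem' := (P.carrier T).zero_mem
      smul_mem' := fun r _ hs => (P.carrier T).mul_mem (P.str_mem T r) hs }
  res_mem h _ hs := P.res_mem h hs

theorem mem_toPreSubSh {T : X.Opens} (s : Γ(B.toModule, T)) :
    s ∈ P.toPreSubSh.carrier T ↔ (show B.presheaf.obj (op T) from s) ∈ P.carrier T := Iff.rfl

/-- The sub-algebra sheaf of sections locally in `P`. -/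
noncomputable def sheafify : SubAlgSh B where
  carrier T :=
    { carrier := {s | ∀ x ∈ T, ∃ (T' : X.Opens) (h : T' ≤ T), x ∈ T' ∧ resB B h s ∈ P.carrier T'}
      mul_mem' := by
        intro a b ha hb x hx
        obtain ⟨T₁, h₁, hx₁, hm₁⟩ := ha x hx
        obtain ⟨T₂, h₂, hx₂, hm₂⟩ := hb x hx
        refine ⟨T₁ ⊓ T₂, inf_le_left.trans h₁, ⟨hx₁, hx₂⟩, ?_⟩
        rw [map_mul]
        refine Subring.mul_mem _ ?_ ?_
        · have := P.res_mem (inf_le_left : T₁ ⊓ T₂ ≤ T₁) hm₁
          rwa [resB_resB] at this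
        · have := P.res_mem (inf_le_right : T₁ ⊓ T₂ ≤ T₂) hm₂
          rwa [resB_resB] at this
      one_mem' := by
        intro x hx
        exact ⟨T, le_rfl, hx, by rw [map_one]; exact Subring.one_mem _⟩
      add_mem' := by
        intro a b ha hb x hx
        obtain ⟨T₁, h₁, hx₁, hm₁⟩ := ha x hx
        obtain ⟨T₂, h₂, hx₂, hm₂⟩ := hb x hx
        refine ⟨T₁ ⊓ T₂, inf_le_left.trans h₁, ⟨hx₁, hx₂⟩, ?_⟩
        rw [map_add]
        refine Subring.add_mem _ ?_ ?_
        · have := P.res_mem (inf_le_left : T₁ ⊓ T₂ ≤ T₁) hm₁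
          rwa [resB_resB] at this
        · have := P.res_mem (inf_le_right : T₁ ⊓ T₂ ≤ T₂) hm₂
          rwa [resB_resB] at this
      zero_mem' := by
        intro x hx
        exact ⟨T, le_rfl, hx, by rw [map_zero]; exact Subring.zero_mem _⟩
      neg_mem' := by
        intro a ha x hx
        obtain ⟨T₁, h₁, hx₁, hm₁⟩ := ha x hx
        refine ⟨T₁, h₁, hx₁, ?_⟩
        rw [map_neg]
        exact Subring.neg_mem _ hm₁ }
  str_mem T r := by
    intro x hx
    exact ⟨T, le_rfl, hx, by rw [resB_self]; exact P.str_mem T r⟩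
  res_mem := fun {T T₂} h {s} hs => by
    intro x hx
    obtain ⟨T₁, h₁, hx₁, hm₁⟩ := hs x (h hx)
    refine ⟨T₁ ⊓ T₂, inf_le_right, ⟨hx₁, hx⟩, ?_⟩
    have := P.res_mem (inf_le_left : T₁ ⊓ T₂ ≤ T₁) hm₁
    rwa [resB_resB, ← resB_resB B h (inf_le_right : T₁ ⊓ T₂ ≤ T₂)] at this
  local_mem T s h := by
    intro x hx
    obtain ⟨T₁, h₁, hx₁, hm⟩ := h x hx
    obtain ⟨T', h', hx', hm'⟩ := hm x hx₁
    refine ⟨T', h'.trans h₁, hx', ?_⟩
    rwa [resB_resB] at hm'

theorem mem_sheafify {T : X.Opens} (s : B.presheaf.obj (op T)) :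
    s ∈ P.sheafify.carrier T ↔
      (show Γ(B.toModule, T) from s) ∈ P.toPreSubSh.sheafify.carrier T := Iff.rfl

theorem le_sheafify (T : X.Opens) : P.carrier T ≤ P.sheafify.carrier T := by
  intro s hs x hx
  exact ⟨T, le_rfl, hx, by rwa [resB_self]⟩

/-- On an affine open where `P` has the localization property, the sheafification has the same
sections. -/
theorem sheafify_carrier_eq {T : X.Opens} (hT : IsAffineOpen T) (h : P.toPreSubSh.IsQCOn T) :
    P.sheafify.carrier T = P.carrier T := by
  ext s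
  rw [mem_sheafify, P.toPreSubSh.sheafify_carrier_eq hT h]
  rfl

end PreSubAlg

namespace SubAlgSh

variable (A : SubAlgSh B)

/-- Localization property of a sub-algebra sheaf on an (affine) open. -/
def IsQCOn (T : X.Opens) : Prop := A.toPreSubAlg.toPreSubSh.IsQCOn T

/-- The underlying subsheaf of modules. -/
noncomputable def toSubSh : SubSh B.toModule where
  carrier := A.toPreSubAlg.toPreSubSh.carrier
  res_mem := A.toPreSubAlg.toPreSubSh.res_mem
  local_mem T s h := A.local_mem T s h

/-- The underlying presheaf of rings. -/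
noncomputable def presheaf : TopCat.Presheaf CommRingCat.{u} X.carrier where
  obj T := CommRingCat.of (A.carrier T.unop)
  map {T T'} i := CommRingCat.ofHom ((B.presheaf.map i).hom.restrict (A.carrier T.unop)
    (A.carrier T'.unop) (fun _ hs => A.res_mem (leOfHom i.unop) hs))
  map_id T := by
    ext s
    change (B.presheaf.map (𝟙 T)).hom s.1 = s.1
    rw [B.presheaf.map_id]
    rfl
  map_comp {T₁ T₂ T₃} i j := by
    ext s
    change (B.presheaf.map (i ≫ j)).hom s.1 = (B.presheaf.map j).hom ((B.presheaf.map i).hom s.1)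
    rw [B.presheaf.map_comp]
    rfl

/-- The inclusion into `B`, as a map of presheaves of rings. -/
noncomputable def inclHom : A.presheaf ⟶ B.presheaf where
  app T := CommRingCat.ofHom (A.carrier T.unop).subtype
  naturality _ _ _ := rfl

theorem inclHom_app_apply (T : X.Opens) (s : A.carrier T) :
    (A.inclHom.app (op T)).hom s = s.1 := rfl

theorem inclHom_injective (T : X.Opens) : Function.Injective (A.inclHom.app (op T)).hom :=
  fun _ _ h => Subtype.ext h

/-- The structure map. -/
noncomputable def str : X.presheaf ⟶ A.presheaf where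
  app T := CommRingCat.ofHom ((B.str.app T).hom.codRestrict (A.carrier T.unop)
    (fun r => A.str_mem T.unop r))
  naturality T T' i := by
    ext r
    apply Subtype.ext
    exact congrArg (fun k => k.hom r) (B.str.naturality i)

theorem str_inclHom : A.str ≫ A.inclHom = B.str := rfl

theorem isSheaf : A.presheaf.IsSheaf := by
  rw [TopCat.Presheaf.isSheaf_iff_isSheafUniqueGluing]
  intro ι U sf hsf
  let sfB : ∀ i, B.presheaf.obj (op (U i)) := fun i => (sf i).1
  have hc : TopCat.Presheaf.IsCompatible B.presheaf U sfB :=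
    fun i j => congrArg Subtype.val (hsf i j)
  obtain ⟨s, hs, huniq⟩ := TopCat.Sheaf.existsUnique_gluing (⟨B.presheaf, B.isSheaf⟩ :
    TopCat.Sheaf CommRingCat X.carrier) U sfB hc
  have hsA : s ∈ A.carrier (iSup U) := by
    apply A.local_mem
    intro x hx
    obtain ⟨i, hi⟩ := Opens.mem_iSup.mp hx
    refine ⟨U i, le_iSup U i, hi, ?_⟩
    have : resB B (le_iSup U i) s = sfB i := hs i
    rw [this]
    exact (sf i).2
  refine ⟨⟨s, hsA⟩, fun i => Subtype.ext (hs i), fun t ht => Subtype.ext
    (huniq t.1 (fun i => congrArg Subtype.val (ht i)))⟩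

theorem isQC (hA : ∀ T : X.Opens, IsAffineOpen T → A.IsQCOn T) :
    RelSpec.IsQC A.presheaf A.str := by
  intro U hU f
  let _ := (A.presheaf.map (homOfLE (X.basicOpen_le f)).op).hom.toAlgebra
  have halg : ∀ b : A.presheaf.obj (op U),
      (algebraMap (A.presheaf.obj (op U)) (A.presheaf.obj (op (X.basicOpen f))) b).1 =
        resB B (X.basicOpen_le f) b.1 := fun b => rfl
  have hstr : ∀ (T : X.Opens) (r : Γ(X, T)), ((A.str.app (op T)).hom r).1 = strB B T r :=
    fun T r => rfl
  have hunit : IsUnit (algebraMap (A.presheaf.obj (op U)) (A.presheaf.obj (op (X.basicOpen f)))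
      ((A.str.app (op U)).hom f)) := by
    have h1 : algebraMap (A.presheaf.obj (op U)) (A.presheaf.obj (op (X.basicOpen f)))
        ((A.str.app (op U)).hom f) = (A.str.app (op (X.basicOpen f))).hom
          (X.presheaf.map (homOfLE (X.basicOpen_le f)).op f) := by
      apply Subtype.ext
      rw [halg, hstr, hstr, resB_strB]
    rw [h1]
    exact (RingedSpace.isUnit_res_basicOpen X.toRingedSpace f).map _
  refine (isLocalization_iff _ _).mpr ⟨?_, ?_, ?_⟩
  · rintro ⟨_, n, rfl⟩
    rw [map_pow]
    exact hunit.pow n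
  · intro z
    obtain ⟨n, m, hm, e⟩ := hA U hU f z.1 z.2
    refine ⟨⟨⟨m, hm⟩, ⟨_, n, rfl⟩⟩, ?_⟩
    apply Subtype.ext
    rw [halg]
    refine Eq.trans ?_ (e.trans (res_toModule B _ m))
    refine Eq.trans ?_ (smul_toModule B _ z.1).symm
    rw [mul_comm]
    change (algebraMap (A.presheaf.obj (op U)) (A.presheaf.obj (op (X.basicOpen f)))
      ((A.str.app (op U)).hom f ^ n)).1 * z.1 = _
    rw [halg]
    change resB B (X.basicOpen_le f) (strB B U f ^ n) * z.1 = _
    rw [map_pow, map_pow, resB_strB]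
  · intro x y hxy
    have h1 : resB B (X.basicOpen_le f) (x.1 - y.1) = 0 := by
      rw [map_sub, ← halg, ← halg, hxy, sub_self]
    obtain ⟨n, hn⟩ := QCAlg.inj_aux B hU f _ h1
    refine ⟨⟨_, n, rfl⟩, ?_⟩
    apply Subtype.ext
    rw [mul_sub, sub_eq_zero] at hn
    exact hn

/-- The quasi-coherent algebra attached to a sub-algebra sheaf with the localization
property. -/
noncomputable def toQCAlg (hA : ∀ T : X.Opens, IsAffineOpen T → A.IsQCOn T) : QCAlg X where
  presheaf := A.presheaf
  isSheaf := A.isSheaf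
  str := A.str
  isQC := A.isQC hA

/-- The inclusion of a sub-algebra, as a morphism of quasi-coherent algebras. -/
noncomputable def incl (hA : ∀ T : X.Opens, IsAffineOpen T → A.IsQCOn T) : A.toQCAlg hA ⟶ B :=
  ⟨A.inclHom, A.str_inclHom⟩

theorem incl_injective (hA : ∀ T : X.Opens, IsAffineOpen T → A.IsQCOn T) (T : X.Opens) :
    Function.Injective ((A.incl hA).hom.app (op T)).hom := A.inclHom_injective T

theorem range_incl (hA : ∀ T : X.Opens, IsAffineOpen T → A.IsQCOn T) (T : X.Opens) :
    Set.range ((A.incl hA).hom.app (op T)).hom = (A.carrier T : Set (B.presheaf.obj (op T))) := by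
  ext s
  constructor
  · rintro ⟨a, rfl⟩
    exact a.2
  · intro hs
    exact ⟨⟨s, hs⟩, rfl⟩

end SubAlgSh

/-! ### The sub-algebra generated by a subsheaf of modules -/

theorem exists_pow_mul_eq_res_structureSheaf {T : X.Opens} (hT : IsAffineOpen T) (f : Γ(X, T))
    (r : Γ(X, X.basicOpen f)) :
    ∃ (n : ℕ) (a : Γ(X, T)), (X.presheaf.map (homOfLE (X.basicOpen_le f)).op f) ^ n * r =
      X.presheaf.map (homOfLE (X.basicOpen_le f)).op a :=
  QCAlg.surj_aux (QCAlg.unit X) hT f r

/-- The family of subrings generated by the functions and a subsheaf of modules. -/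
noncomputable def closurePre (E : SubSh B.toModule) : PreSubAlg B where
  carrier T := Subring.closure (Set.range (strB B T) ∪
    {s | (show Γ(B.toModule, T) from s) ∈ E.carrier T})
  str_mem T r := Subring.subset_closure (Or.inl ⟨r, rfl⟩)
  res_mem := fun {T T'} h {s} hs => by
    induction hs using Subring.closure_induction with
    | mem x hx =>
      rcases hx with ⟨r, rfl⟩ | hx
      · rw [resB_strB]
        exact Subring.subset_closure (Or.inl ⟨_, rfl⟩)
      · exact Subring.subset_closure (Or.inr (E.res_mem h hx))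
    | zero => rw [map_zero]; exact Subring.zero_mem _
    | one => rw [map_one]; exact Subring.one_mem _
    | add x y _ _ hx hy => rw [map_add]; exact Subring.add_mem _ hx hy
    | neg x _ hx => rw [map_neg]; exact Subring.neg_mem _ hx
    | mul x y _ _ hx hy => rw [map_mul]; exact Subring.mul_mem _ hx hy

theorem closurePre_key (E : SubSh B.toModule) {T : X.Opens} (hT : IsAffineOpen T)
    (hE : E.IsQCOn T) (f : Γ(X, T)) (s : B.presheaf.obj (op (X.basicOpen f)))
    (hs : s ∈ (closurePre E).carrier (X.basicOpen f)) :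
    ∃ (n : ℕ) (m : B.presheaf.obj (op T)), m ∈ (closurePre E).carrier T ∧
      strB B _ ((X.presheaf.map (homOfLE (X.basicOpen_le f)).op f) ^ n) * s =
        resB B (X.basicOpen_le f) m := by
  set f' := X.presheaf.map (homOfLE (X.basicOpen_le f)).op f with hf'
  induction hs using Subring.closure_induction with
  | mem x hx =>
    rcases hx with ⟨r, rfl⟩ | hx
    · obtain ⟨n, a, h⟩ := exists_pow_mul_eq_res_structureSheaf hT f r
      refine ⟨n, strB B T a, Subring.subset_closure (Or.inl ⟨a, rfl⟩), ?_⟩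
      rw [← map_mul, h, resB_strB]
    · obtain ⟨n, m, hm, e⟩ := hE f x hx
      exact ⟨n, m, Subring.subset_closure (Or.inr hm), e⟩
  | zero => exact ⟨0, 0, Subring.zero_mem _, by rw [mul_zero, map_zero]⟩
  | one => exact ⟨0, 1, Subring.one_mem _, by rw [pow_zero, map_one, mul_one, map_one]⟩
  | add x y _ _ hx hy =>
    obtain ⟨n₁, m₁, hm₁, e₁⟩ := hx
    obtain ⟨n₂, m₂, hm₂, e₂⟩ := hy
    refine ⟨n₁ + n₂, strB B T (f ^ n₂) * m₁ + strB B T (f ^ n₁) * m₂,
      Subring.add_mem _ (Subring.mul_mem _ ((closurePre E).str_mem T _) hm₁)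
        (Subring.mul_mem _ ((closurePre E).str_mem T _) hm₂), ?_⟩
    have h1 : resB B (X.basicOpen_le f) (strB B T (f ^ n₂)) = strB B _ (f' ^ n₂) := by
      rw [resB_strB, map_pow]
    have h2 : resB B (X.basicOpen_le f) (strB B T (f ^ n₁)) = strB B _ (f' ^ n₁) := by
      rw [resB_strB, map_pow]
    rw [map_add, map_mul, map_mul, h1, h2, ← e₁, ← e₂, pow_add, map_mul]
    ring
  | neg x _ hx =>
    obtain ⟨n, m, hm, e⟩ := hx
    exact ⟨n, -m, Subring.neg_mem _ hm, by rw [mul_neg, e, map_neg]⟩
  | mul x y _ _ hx hy =>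
    obtain ⟨n₁, m₁, hm₁, e₁⟩ := hx
    obtain ⟨n₂, m₂, hm₂, e₂⟩ := hy
    refine ⟨n₁ + n₂, m₁ * m₂, Subring.mul_mem _ hm₁ hm₂, ?_⟩
    rw [map_mul, ← e₁, ← e₂, pow_add, map_mul]
    ring

theorem isQCOn_closurePre (E : SubSh B.toModule) {T : X.Opens} (hT : IsAffineOpen T)
    (hE : E.IsQCOn T) : (closurePre E).toPreSubSh.IsQCOn T := by
  intro f s hs
  obtain ⟨n, m, hm, e⟩ := closurePre_key E hT hE f s hs
  exact ⟨n, m, hm, e⟩

/-- The sub-algebra sheaf generated by a subsheaf of modules. -/
noncomputable def genAlg (E : SubSh B.toModule) : SubAlgSh B := (closurePre E).sheafify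

theorem genAlg_carrier_eq (E : SubSh B.toModule) {T : X.Opens} (hT : IsAffineOpen T)
    (hE : E.IsQCOn T) : (genAlg E).carrier T = Subring.closure (Set.range (strB B T) ∪
      {s | (show Γ(B.toModule, T) from s) ∈ E.carrier T}) :=
  (closurePre E).sheafify_carrier_eq hT (isQCOn_closurePre E hT hE)

theorem isQCOn_genAlg (E : SubSh B.toModule) (hE : ∀ T : X.Opens, IsAffineOpen T → E.IsQCOn T)
    {T : X.Opens} (hT : IsAffineOpen T) : (genAlg E).IsQCOn T :=
  (closurePre E).toPreSubSh.isQCOn_sheafify hT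
    (fun T' hT' _ => isQCOn_closurePre E hT' (hE T' hT'))

theorem le_genAlg (E : SubSh B.toModule) (T : X.Opens) (s : Γ(B.toModule, T))
    (hs : s ∈ E.carrier T) : (show B.presheaf.obj (op T) from s) ∈ (genAlg E).carrier T :=
  (closurePre E).le_sheafify T (Subring.subset_closure (Or.inr hs))

end Groth.Agent.Lib.Helper3
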