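import Groth.Agent.Lib.Helper3.SymLine8
import Groth.Agent.Lib.Helper3.QCAlgSub
import Groth.Agent.Lib.Helper29.Ample
import Groth.Agent.Lib.Helper29.RelAmple
import Groth.Agent.Lib.Helper29.Cocycle
/-!
# Homogeneous elements of `Sym(L)` of degree `n` as sections of `L^{⊗ n}` (`L` invertible)
-/
universe u
open CategoryTheory CategoryTheory.Limits AlgebraicGeometry Opposite TopologicalSpace
open Groth.Agent.Lib.Helper29.QCoh

namespace Groth.Agent.Lib.Helper3.AmpleBridge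
open RelProj RelSpec RelCone Groth.Agent.Lib.Helper3 Groth.Agent.Lib.Helper3.SymLine

section Loc
variable {X : Scheme.{u}} {L : X.Modules} [L.IsQuasicoherent]
  {𝒮L : QCGrAlg X} {j : L ⟶ 𝒮L.toModule} (hj : IsGrSymAlg L 𝒮L j)

/-- the local section `c • e^n` attached to a homogeneous element `c t^n` -/
noncomputable def loc (n : ℕ) {V : X.Opens} (hV : IsAffineOpen V) {e : Γ(L, V)} (hT : IsTriv L V e)
    (b : 𝒮L.presheaf.obj (op V)) : Γ(CohB1.tensorPow L n, V) :=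
  ev1 hV hj hT b • epow L e n

theorem eq_str_mul (n : ℕ) {V : X.Opens} (hV : IsAffineOpen V) {e : Γ(L, V)} (hT : IsTriv L V e)
    {b : 𝒮L.presheaf.obj (op V)} (hb : b ∈ 𝒮L.deg V hV n) :
    b = (𝒮L.str.app (op V)).hom (ev1 hV hj hT b) * tt j e ^ n := by
  obtain ⟨c, hc⟩ := exists_eq_mul_pow (strG 𝒮L V hV) (tt_mem hV hj) (hsurjL hV hj hT) hb
  have h1 : ev1 hV hj hT b = c := by
    rw [hc, map_mul, map_pow, ev1_str, ev1_tt, one_pow, mul_one]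
  rw [h1]
  exact hc

theorem ev1_unique (n : ℕ) {V : X.Opens} (hV : IsAffineOpen V) {e : Γ(L, V)} (hT : IsTriv L V e)
    {b : 𝒮L.presheaf.obj (op V)} (c : Γ(X, V))
    (hc : b = (𝒮L.str.app (op V)).hom c * tt j e ^ n) : ev1 hV hj hT b = c := by
  have h2 : (𝒮L.str.app (op V)).hom c = strG 𝒮L V hV c := rfl
  rw [hc, map_mul, map_pow, h2, ev1_str, ev1_tt, one_pow, mul_one]

theorem ev1_res (n : ℕ) {V V₃ : X.Opens} (hV : IsAffineOpen V) (hV₃ : IsAffineOpen V₃) (h : V₃ ≤ V)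
    {e : Γ(L, V)} (hT : IsTriv L V e) {b : 𝒮L.presheaf.obj (op V)} (hb : b ∈ 𝒮L.deg V hV n) :
    ev1 hV₃ hj (hT.restrict h) ((𝒮L.presheaf.map (homOfLE h).op).hom b) =
      (X.presheaf.map (homOfLE h).op).hom (ev1 hV hj hT b) := by
  apply ev1_unique hj n hV₃ (hT.restrict h)
  conv_lhs => rw [eq_str_mul hj n hV hT hb]
  rw [map_mul, map_pow, tt_res, str_res]

theorem loc_res (n : ℕ) {V V₃ : X.Opens} (hV : IsAffineOpen V) (hV₃ : IsAffineOpen V₃) (h : V₃ ≤ V)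
    {e : Γ(L, V)} (hT : IsTriv L V e) {b : 𝒮L.presheaf.obj (op V)} (hb : b ∈ 𝒮L.deg V hV n) :
    res (CohB1.tensorPow L n) h (loc hj n hV hT b) =
      loc hj n hV₃ (hT.restrict h) ((𝒮L.presheaf.map (homOfLE h).op).hom b) := by
  unfold loc
  rw [res_smul, res_epow, ev1_res hj n hV hV₃ h hT hb]

omit [L.IsQuasicoherent] in
theorem tt_smul {V : X.Opens} (g : Γ(X, V)) (e : Γ(L, V)) :
    tt j (g • e) = (𝒮L.str.app (op V)).hom g * tt j e :=
  (j.app_smul g e).trans (smul_toModule 𝒮L.toQCAlg g _)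

theorem loc_indep (n : ℕ) {V : X.Opens} (hV : IsAffineOpen V) {e e' : Γ(L, V)} (hT : IsTriv L V e)
    (hT' : IsTriv L V e') {b : 𝒮L.presheaf.obj (op V)} (hb : b ∈ 𝒮L.deg V hV n) :
    loc hj n hV hT b = loc hj n hV hT' b := by
  obtain ⟨g, rfl⟩ := hT'.exists_eq_smul e
  have h1 := eq_str_mul hj n hV hT hb
  rw [tt_smul, mul_pow, ← mul_assoc, ← map_pow, ← map_mul] at h1
  have h2 := ev1_unique hj n hV hT' _ h1
  unfold loc
  rw [epow_smul, smul_smul, h2]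

end Loc

section Glue
variable {Y X : Scheme.{u}} {q : X ⟶ Y} {L : X.Modules} [L.IsQuasicoherent]
  {𝒮 : QCGrAlg Y} {𝒮L : QCGrAlg X} {j : L ⟶ 𝒮L.toModule}
  (hL : PicF.IsInvertible L) (hj : IsGrSymAlg L 𝒮L j) (u : QGrHom q 𝒮 𝒮L)

/-- index type: trivialised affine opens in `q⁻¹ U` -/
structure TIdx (L : X.Modules) (W : X.Opens) where
  V : X.Opens
  hV : IsAffineOpen V
  hle : V ≤ W
  e : Γ(L, V)
  hT : IsTriv L V e

omit [L.IsQuasicoherent] in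
theorem appLE_res (U : Y.Opens) {V V₁ : X.Opens} (h : V₁ ≤ V) (hle : V ≤ q ⁻¹ᵁ U) (a : 𝒮.presheaf.obj (op U)) :
    (𝒮L.presheaf.map (homOfLE h).op).hom ((u.appLE U V hle).hom a) = (u.appLE U V₁ (h.trans hle)).hom a :=
  congrArg (fun m => m.hom a) (u.toQHom.appLE_map hle h)

omit [L.IsQuasicoherent] in
theorem appLE_mem (U : Y.Opens) (hU : IsAffineOpen U) {V : X.Opens} (hV : IsAffineOpen V) (hle : V ≤ q ⁻¹ᵁ U)
    {n : ℕ} {a : 𝒮.presheaf.obj (op U)} (ha : a ∈ 𝒮.deg U hU n) :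
    (u.appLE U V hle).hom a ∈ 𝒮L.deg V hV n :=
  (u.gradedAt U hU V hV hle).map_mem ha

include hL in
/-- the section of `L^{⊗ n}` over `q⁻¹ U` attached to `a ∈ 𝒮_n(U)` -/
theorem exists_section (U : Y.Opens) (hU : IsAffineOpen U) (n : ℕ) (a : 𝒮.presheaf.obj (op U))
    (ha : a ∈ 𝒮.deg U hU n) :
    ∃ τ : Γ(CohB1.tensorPow L n, q ⁻¹ᵁ U), ∀ (V : X.Opens) (hV : IsAffineOpen V) (hle : V ≤ q ⁻¹ᵁ U)
      (e : Γ(L, V)) (hT : IsTriv L V e),
      res (CohB1.tensorPow L n) hle τ = loc hj n hV hT ((u.appLE U V hle).hom a) := by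
  obtain ⟨τ, hτ⟩ := exists_gluing (CohB1.tensorPow L n) (fun i : TIdx L (q ⁻¹ᵁ U) => i.V) (q ⁻¹ᵁ U)
    (fun i => i.hle)
    (by
      intro x hx
      obtain ⟨V, e, hV, hxV, hVW, hT⟩ := exists_affine_isTriv hL x hx
      exact Opens.mem_iSup.mpr ⟨⟨V, hV, hVW, e, hT⟩, hxV⟩)
    (fun i => loc hj n i.hV i.hT ((u.appLE U i.V i.hle).hom a))
    (by
      intro i i'
      refine eq_of_res_cover_eq (CohB1.tensorPow L n)
        (fun k : {V₃ : X.affineOpens // (V₃.1 : X.Opens) ≤ i.V ⊓ i'.V} => (k.1.1 : X.Opens))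
        (fun k => k.2) ?_ _ _ fun k => ?_
      · intro x hx
        obtain ⟨V₃, hV₃, hxV₃, hle₃⟩ := exists_isAffineOpen_mem_and_subset (x := x) (U := i.V ⊓ i'.V) hx
        exact Opens.mem_iSup.mpr ⟨⟨⟨V₃, hV₃⟩, hle₃⟩, hxV₃⟩
      · obtain ⟨⟨V₃, hV₃⟩, hle₃⟩ := k
        have hle₃ : V₃ ≤ i.V ⊓ i'.V := hle₃
        rw [res_res, res_res,
          loc_res hj n i.hV hV₃ (hle₃.trans inf_le_left) i.hT (appLE_mem u U hU i.hV i.hle ha),
          loc_res hj n i'.hV hV₃ (hle₃.trans inf_le_right) i'.hT (appLE_mem u U hU i'.hV i'.hle ha),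
          appLE_res, appLE_res]
        exact loc_indep hj n hV₃ _ _ (appLE_mem u U hU hV₃ _ ha))
  exact ⟨τ, fun V hV hle e hT => hτ ⟨V, hV, hle, e, hT⟩⟩

end Glue

end Groth.Agent.Lib.Helper3.AmpleBridge
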