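import Groth.Agent.Lib.Helper3.AmpleBridge1
import Groth.Agent.Lib.Helper29.Twist2
/-!
# `X_f` is the non-vanishing locus of a section of `L^{⊗ n}`
-/
universe u
open CategoryTheory CategoryTheory.Limits AlgebraicGeometry Opposite TopologicalSpace
open Groth.Agent.Lib.Helper29.QCoh

namespace Groth.Agent.Lib.Helper3.AmpleBridge
open RelProj RelSpec RelCone Groth.Agent.Lib.Helper3 Groth.Agent.Lib.Helper3.SymLine Groth.Agent.Lib.Helper3.QProj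

section Hom
variable {Y X PL : Scheme.{u}} {q : X ⟶ Y} {L : X.Modules} [L.IsQuasicoherent]
  {𝒮 : QCGrAlg Y} {𝒮L : QCGrAlg X} {j : L ⟶ 𝒮L.toModule}
  (hL : PicF.IsInvertible L) (hj : IsGrSymAlg L 𝒮L j) (u : QGrHom q 𝒮 𝒮L)
  {pL : PL ⟶ X}
  {chartL : ∀ (U : X.Opens) (hU : IsAffineOpen U), (((pL ⁻¹ᵁ U : PL.Opens) : Scheme.{u}) ≅ Proj (𝒮L.deg U hU))}
  (hPL : IsRelProj 𝒮L pL chartL)

include hL hPL in
theorem mem_basicOpen_of_mem_Xf (U : Y.Opens) (hU : IsAffineOpen U) {n : ℕ} (hn : 0 < n)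
    (a : 𝒮.presheaf.obj (op U)) (ha : a ∈ 𝒮.deg U hU n)
    {V₁ : X.Opens} (hV₁ : IsAffineOpen V₁) (hV₁W : V₁ ≤ q ⁻¹ᵁ U) {e : Γ(L, V₁)} (hT : IsTriv L V₁ e)
    (x : X) (hxV₁ : x ∈ V₁) (hx : x ∈ Xf u U n a) :
    x ∈ X.basicOpen (ev1 hV₁ hj hT ((u.appLE U V₁ hV₁W).hom a)) := by
  obtain ⟨V₀, hV₀, hle₀, hxV₀, hgood⟩ := (mem_Xf_iff u U n a x).mp hx
  haveI := isIso_pL hL hj hPL
  obtain ⟨x', rfl⟩ : ∃ x' : PL, pL.base x' = x := ⟨(inv pL).base x, by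
    rw [← Scheme.Hom.comp_apply, IsIso.inv_hom_id]; rfl⟩
  obtain ⟨V, hV, hVV₀, y, hy, rfl⟩ := exists_point_of_good hL hj u hPL U hU a ha V₀ hV₀ hle₀ hgood x' hxV₀
  have hle : V ≤ q ⁻¹ᵁ U := hVV₀.trans hle₀
  have hxV : pL.base ((emb pL chartL V hV).base y) ∈ V := by
    have : (emb pL chartL V hV).base y ∈ Set.range (emb pL chartL V hV).base := ⟨y, rfl⟩
    rw [Idx.range_emb] at this
    exact this
  obtain ⟨r', hr'le, hxr'⟩ := hV.exists_basicOpen_le (V := V₁) ⟨_, hxV₁⟩ hxV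
  have hV₃ := hV.basicOpen r'
  obtain ⟨y₁, hy₁, hy₁x⟩ := exists_point_res hPL U hU hn a ha V hV hle r' y hy hxr'
  have hT₃ : IsTriv L (X.basicOpen r') (res L hr'le e) := hT.restrict hr'le
  have hmem₁ := appLE_mem u U hU hV₁ hV₁W ha
  have h3 := eq_str_mul hj n hV₃ hT₃ (appLE_mem u U hU hV₃ ((X.basicOpen_le r').trans hle) ha)
  have hstr : (𝒮L.str.app (op (X.basicOpen r'))).hom
      (ev1 hV₃ hj hT₃ ((u.appLE U (X.basicOpen r') ((X.basicOpen_le r').trans hle)).hom a)) ∉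
        y₁.asHomogeneousIdeal := by
    intro hcon
    apply hy₁
    change (u.appLE U (X.basicOpen r') ((X.basicOpen_le r').trans hle)).hom a ∈ _
    rw [h3]
    exact (mul_pow_mem_iff (strG 𝒮L _ hV₃) (tt_mem hV₃ hj) (hsurjL hV₃ hj hT₃) y₁ _ n).mpr hcon
  have hxa := (emb_mem_preimage_basicOpen_iff hPL _ hV₃ _ y₁).mpr hstr
  rw [hy₁x] at hxa
  have h4 := ev1_res hj n hV₁ hV₃ hr'le hT hmem₁
  rw [appLE_res] at h4
  rw [h4] at hxa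
  have h5 : X.basicOpen ((X.presheaf.map (homOfLE hr'le).op).hom (ev1 hV₁ hj hT ((u.appLE U V₁ hV₁W).hom a))) =
      X.basicOpen r' ⊓ X.basicOpen (ev1 hV₁ hj hT ((u.appLE U V₁ hV₁W).hom a)) :=
    Scheme.basicOpen_res X _ (homOfLE hr'le).op
  rw [h5] at hxa
  exact hxa.2

include hL hj hPL in
/-- `X_a` is the non-vanishing locus of a section of `(L|_{q⁻¹ U})^{⊗ n}` -/
theorem exists_hom (U : Y.Opens) (hU : IsAffineOpen U) {n : ℕ} (hn : 0 < n) (a : 𝒮.presheaf.obj (op U))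
    (ha : a ∈ 𝒮.deg U hU n) :
    ∃ s : unitM ((q ⁻¹ᵁ U : X.Opens) : Scheme.{u}) ⟶ CohB1.tensorPow (L.restrict (q ⁻¹ᵁ U).ι) n,
      ∀ y : ((q ⁻¹ᵁ U : X.Opens) : Scheme.{u}),
        y ∈ CohB1.genLocus _ s ↔ (q ⁻¹ᵁ U).ι.base y ∈ Xf u U n a := by
  obtain ⟨τ, hτ⟩ := exists_section hL hj u U hU n a ha
  obtain ⟨θ⟩ := nonempty_restrictTensorPowIso (q ⁻¹ᵁ U).ι hL n
  have hle0 : (q ⁻¹ᵁ U).ι ''ᵁ ⊤ ≤ q ⁻¹ᵁ U := (q ⁻¹ᵁ U).ι_image_top.le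
  let τ' : Γ((CohB1.tensorPow L n).restrict (q ⁻¹ᵁ U).ι, ⊤) := res (CohB1.tensorPow L n) hle0 τ
  let s₀ := homOfSection ((CohB1.tensorPow L n).restrict (q ⁻¹ᵁ U).ι) τ'
  refine ⟨s₀ ≫ θ.hom, fun y => ?_⟩
  rw [genLocus_comp_iso s₀ θ]
  have hx : (q ⁻¹ᵁ U).ι.base y ∈ q ⁻¹ᵁ U := y.2
  obtain ⟨V₁, e, hV₁, hxV₁, hV₁W, hT⟩ := exists_affine_isTriv hL ((q ⁻¹ᵁ U).ι.base y) hx
  let U' : ((q ⁻¹ᵁ U : X.Opens) : Scheme.{u}).Opens := (q ⁻¹ᵁ U).ι ⁻¹ᵁ V₁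
  have hyU' : y ∈ U' := hxV₁
  have hle' : (q ⁻¹ᵁ U).ι ''ᵁ U' ≤ V₁ := by
    rw [Scheme.Hom.image_preimage_eq_opensRange_inf]; exact inf_le_right
  have hT' : IsTriv ((CohB1.tensorPow L n).restrict (q ⁻¹ᵁ U).ι) U'
      (res (CohB1.tensorPow L n) hle' (epow L e n)) :=
    IsTriv.to_restrict (q ⁻¹ᵁ U).ι ((hT.epow n).restrict hle')
  have hmem₁ := appLE_mem u U hU hV₁ hV₁W ha
  let c := ev1 hV₁ hj hT ((u.appLE U V₁ hV₁W).hom a)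
  let a' : Γ(((q ⁻¹ᵁ U : X.Opens) : Scheme.{u}), U') := (X.presheaf.map (homOfLE hle').op).hom c
  have h1 : res (CohB1.tensorPow L n) (hle'.trans hV₁W) τ =
      (X.presheaf.map (homOfLE hle').op).hom c • res (CohB1.tensorPow L n) hle' (epow L e n) := by
    rw [← res_res _ hV₁W hle', hτ V₁ hV₁ hV₁W e hT]
    unfold loc
    rw [res_smul]
  have ha' : sval s₀ U' = HSMul.hSMul (α := Γ(((q ⁻¹ᵁ U : X.Opens) : Scheme.{u}), U'))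
      (β := Γ((CohB1.tensorPow L n).restrict (q ⁻¹ᵁ U).ι, U')) a'
        (res (CohB1.tensorPow L n) hle' (epow L e n)) := by
    rw [sval_homOfSection]
    refine Eq.trans ?_ (h1.trans ?_)
    · exact res_res _ _ _ τ
    · rw [restrict_smul]
      congr 1
      rw [Scheme.Opens.ι_appIso]
      rfl
  rw [mem_genLocus_iff_of_isTriv s₀ hT' a' ha' y hyU']
  refine Iff.trans (Scheme.Opens.mem_basicOpen_toScheme (U := q ⁻¹ᵁ U) (V := U') (r := a') (x := y)) ?_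
  have h5 : X.basicOpen ((X.presheaf.map (homOfLE hle').op).hom c) =
      (q ⁻¹ᵁ U).ι ''ᵁ U' ⊓ X.basicOpen c :=
    Scheme.basicOpen_res X _ (homOfLE hle').op
  change (q ⁻¹ᵁ U).ι.base y ∈ X.basicOpen ((X.presheaf.map (homOfLE hle').op).hom c) ↔ _
  rw [h5]
  constructor
  · rintro ⟨-, hxc⟩
    have hle₂ : X.basicOpen c ≤ V₁ := X.basicOpen_le c
    have hfa := eq_str_mul hj n hV₁ hT hmem₁
    have hgood := good_of_isUnit hj u (hV₁.basicOpen c) (hle₂.trans hV₁W) (hT.restrict hle₂) a _ n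
      (coeff_res u hle₂ hV₁W e a c n hfa) (X.toRingedSpace.isUnit_res_basicOpen c)
    exact (mem_Xf_iff u U n a _).mpr ⟨_, hV₁.basicOpen c, _, hxc, hgood⟩
  · intro hxf
    exact ⟨⟨y, hyU', rfl⟩, mem_basicOpen_of_mem_Xf hL hj u hPL U hU hn a ha hV₁ hV₁W hT _ hxV₁ hxf⟩

end Hom

end Groth.Agent.Lib.Helper3.AmpleBridge
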