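import Groth.Agent.Lib.Helper3.AmpleBridge2
/-!
# `L` is relatively ample if `r_{L,ψ}` is everywhere defined and a topological embedding
-/
universe u
open CategoryTheory CategoryTheory.Limits AlgebraicGeometry Opposite TopologicalSpace
open Groth.Agent.Lib.Helper29.QCoh

namespace Groth.Agent.Lib.Helper3.AmpleBridge
open RelProj RelSpec RelCone Groth.Agent.Lib.Helper3 Groth.Agent.Lib.Helper3.SymLine Groth.Agent.Lib.Helper3.QProj

theorem isRelAmple_of_isEmbedding {X Y P PL : Scheme.{u}} (f : X ⟶ Y) [QuasiCompact f]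
    (L : X.Modules) (hL : PicF.IsInvertible L) (hLq : Coh.IsQCoh L)
    (𝒮L : RelProj.QCGrAlg X) (jL : L ⟶ 𝒮L.toModule) (hjL : RelProj.IsGrSymAlg L 𝒮L jL)
    (pL : PL ⟶ X) (chartL : ∀ (U : X.Opens) (hU : IsAffineOpen U), (((pL ⁻¹ᵁ U : PL.Opens) : Scheme.{u}) ≅ Proj (𝒮L.deg U hU)))
    (hPL : RelProj.IsRelProj 𝒮L pL chartL)
    (𝒜 : RelProj.QCGrAlg Y) (u : RelProj.QGrHom f 𝒜 𝒮L)
    (p : P ⟶ Y) (chart : ∀ (U : Y.Opens) (hU : IsAffineOpen U), (((p ⁻¹ᵁ U : P.Opens) : Scheme.{u}) ≅ Proj (𝒜.deg U hU)))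
    (hP : RelProj.IsRelProj 𝒜 p chart)
    (r : ((RelProj.domQ u pL chartL : PL.Opens) : Scheme.{u}) ⟶ P)
    (hr : RelProj.IsProjQMapOn u p chart pL chartL (RelProj.domQ u pL chartL) r)
    (htop : RelProj.domQ u pL chartL = ⊤) (hemb : Topology.IsEmbedding r.base) :
    RelAmple.IsRelAmple f L := by
  haveI : L.IsQuasicoherent := hLq
  haveI := isIso_pL hL hjL hPL
  -- lifting points of `X` to the domain of `r`
  have hlift : ∀ x : X, ∃ w : ((RelProj.domQ u pL chartL : PL.Opens) : Scheme.{u}),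
      pL.base ((RelProj.domQ u pL chartL).ι.base w) = x := by
    intro x
    have hx' : (inv pL).base x ∈ RelProj.domQ u pL chartL := by rw [htop]; trivial
    refine ⟨⟨(inv pL).base x, hx'⟩, ?_⟩
    change pL.base ((inv pL).base x) = x
    rw [← Scheme.Hom.comp_apply, IsIso.inv_hom_id]; rfl
  have hcomp := comp_eq_of_isProjQMapOn_domQ hP hPL r hr
  refine ⟨inferInstance, fun V => ?_⟩
  haveI : CompactSpace ((f ⁻¹ᵁ V.1 : X.Opens) : Scheme.{u}) :=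
    isCompact_iff_compactSpace.mp (QuasiCompact.isCompact_preimage (f := f) _ V.1.2 V.2.isCompact)
  rw [isAmple_iff_lociSet_isBasis (isInvertible_restrict (f ⁻¹ᵁ V.1).ι hL), Opens.isBasis_iff_nbhd]
  intro U' y hy
  obtain ⟨w, hw⟩ := hlift ((f ⁻¹ᵁ V.1).ι.base y)
  -- the open of the domain of `r` lying over `U'`
  let O : X.Opens := (f ⁻¹ᵁ V.1).ι ''ᵁ U'
  let Ω' : ((RelProj.domQ u pL chartL : PL.Opens) : Scheme.{u}).Opens :=
    ((RelProj.domQ u pL chartL).ι ≫ pL) ⁻¹ᵁ O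
  obtain ⟨Ω₀, hΩ₀, hΩ₀eq⟩ := hemb.isInducing.isOpen_iff.mp Ω'.isOpen
  let Ω : P.Opens := ⟨Ω₀, hΩ₀⟩
  have hΩ : ∀ w' : ((RelProj.domQ u pL chartL : PL.Opens) : Scheme.{u}),
      r.base w' ∈ Ω ↔ pL.base ((RelProj.domQ u pL chartL).ι.base w') ∈ O := by
    intro w'
    have : w' ∈ r.base ⁻¹' Ω₀ ↔ w' ∈ (Ω' : Set _) := by rw [hΩ₀eq]
    exact this
  have hwO : pL.base ((RelProj.domQ u pL chartL).ι.base w) ∈ O := by
    rw [hw]; exact ⟨y, hy, rfl⟩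
  have hpV : p.base (r.base w) ∈ V.1 := by
    have h1 : p.base (r.base w) = f.base (pL.base ((RelProj.domQ u pL chartL).ι.base w)) := by
      have := congrArg (fun m => m.base w) hcomp
      simpa using this
    rw [h1, hw]
    exact y.2
  obtain ⟨n, hn, a, ha, hza, haΩ⟩ := exists_basicOpen_mem_le (p := p) (chart := chart) V.1 V.2 (r.base w) hpV Ω
    ((hΩ w).mpr hwO)
  obtain ⟨s, hs⟩ := exists_hom hL hjL u hPL V.1 V.2 hn a ha
  obtain ⟨m, rfl⟩ : ∃ m, n = m + 1 := ⟨n - 1, by omega⟩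
  refine ⟨CohB1.genLocus _ s, ⟨m, s, rfl⟩, ?_, ?_⟩
  · rw [hs, ← hw]
    exact (mem_preimage_iff hL hjL u hPL hP r hr V.1 V.2 hn a ha w).mp hza
  · intro y₂ hy₂
    have h2 := (hs y₂).mp hy₂
    obtain ⟨w₂, hw₂⟩ := hlift ((f ⁻¹ᵁ V.1).ι.base y₂)
    rw [← hw₂] at h2
    have h3 := (mem_preimage_iff hL hjL u hPL hP r hr V.1 V.2 hn a ha w₂).mpr h2
    have h4 := (hΩ w₂).mp (haΩ h3)
    rw [hw₂] at h4
    obtain ⟨y₃, hy₃, hy₃eq⟩ := h4
    have := (f ⁻¹ᵁ V.1).ι.isOpenEmbedding.injective hy₃eq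
    exact this ▸ hy₃

end Groth.Agent.Lib.Helper3.AmpleBridge
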