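import Groth.Agent.Lib.Helper3.AmpleBridge3
/-!
# Towards `r_{L,σ}` for relatively ample `L`: degrees, condition (iv), dominance
-/
universe u
open CategoryTheory CategoryTheory.Limits AlgebraicGeometry Opposite TopologicalSpace
open Groth.Agent.Lib.Helper29.QCoh

namespace Groth.Agent.Lib.Helper3.AmpleBridge
open RelProj RelSpec RelCone Groth.Agent.Lib.Helper3 Groth.Agent.Lib.Helper3.SymLine Groth.Agent.Lib.Helper3.QProj

section A
variable {Y X PL : Scheme.{u}} {q : X ⟶ Y} {L : X.Modules} [L.IsQuasicoherent]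
  {𝒮 : QCGrAlg Y} {𝒮L : QCGrAlg X} {j : L ⟶ 𝒮L.toModule}
  (hL : PicF.IsInvertible L) (hj : IsGrSymAlg L 𝒮L j) (u : QGrHom q 𝒮 𝒮L)
  {pL : PL ⟶ X}
  {chartL : ∀ (U : X.Opens) (hU : IsAffineOpen U), (((pL ⁻¹ᵁ U : PL.Opens) : Scheme.{u}) ≅ Proj (𝒮L.deg U hU))}
  (hPL : IsRelProj 𝒮L pL chartL)

include hL hPL in
theorem mem_Xf_iff_basicOpen (U : Y.Opens) (hU : IsAffineOpen U) {n : ℕ} (hn : 0 < n)
    (a : 𝒮.presheaf.obj (op U)) (ha : a ∈ 𝒮.deg U hU n)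
    {V₁ : X.Opens} (hV₁ : IsAffineOpen V₁) (hV₁W : V₁ ≤ q ⁻¹ᵁ U) {e : Γ(L, V₁)} (hT : IsTriv L V₁ e)
    (x : X) (hxV₁ : x ∈ V₁) :
    x ∈ Xf u U n a ↔ x ∈ X.basicOpen (ev1 hV₁ hj hT ((u.appLE U V₁ hV₁W).hom a)) := by
  constructor
  · exact mem_basicOpen_of_mem_Xf hL hj u hPL U hU hn a ha hV₁ hV₁W hT x hxV₁
  · intro hxc
    have hle₂ : X.basicOpen (ev1 hV₁ hj hT ((u.appLE U V₁ hV₁W).hom a)) ≤ V₁ := X.basicOpen_le _
    have hfa := eq_str_mul hj n hV₁ hT (appLE_mem u U hU hV₁ hV₁W ha)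
    have hgood := good_of_isUnit hj u (hV₁.basicOpen _) (hle₂.trans hV₁W) (hT.restrict hle₂) a _ n
      (coeff_res u hle₂ hV₁W e a _ n hfa) (X.toRingedSpace.isUnit_res_basicOpen _)
    exact (mem_Xf_iff u U n a _).mpr ⟨_, hV₁.basicOpen _, _, hxc, hgood⟩

omit [L.IsQuasicoherent] in
theorem res_app (U : Y.Opens) {V : X.Opens} (hle : V ≤ q ⁻¹ᵁ U) (z : 𝒮.presheaf.obj (op U)) :
    res 𝒮L.toModule hle (show Γ(𝒮L.toModule, q ⁻¹ᵁ U) from (u.app U).hom z) = (u.appLE U V hle).hom z := rfl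

omit [L.IsQuasicoherent] in
/-- homogeneity can be tested on a cover of the source -/
theorem mem_deg_of_cover (U : Y.Opens) (hU : IsAffineOpen U) (hinj : Function.Injective (u.app U).hom) (d : ℕ)
    (s' : 𝒮.presheaf.obj (op U)) {ι : Type*} (V : ι → X.Opens) (hV : ∀ i, IsAffineOpen (V i))
    (hle : ∀ i, V i ≤ q ⁻¹ᵁ U) (hcov : q ⁻¹ᵁ U ≤ iSup V)
    (H : ∀ i, (u.appLE U (V i) (hle i)).hom s' ∈ 𝒮L.deg (V i) (hV i) d) : s' ∈ 𝒮.deg U hU d := by
  classical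
  have key : ∀ k, k ≠ d → (DirectSum.decompose (𝒮.deg U hU) s' k : 𝒮.presheaf.obj (op U)) = 0 := by
    intro k hk
    apply hinj
    rw [map_zero]
    refine eq_zero_of_res_cover_eq_zero 𝒮L.toModule V hle hcov
      (show Γ(𝒮L.toModule, q ⁻¹ᵁ U) from (u.app U).hom _) fun i => ?_
    rw [res_app]
    have h2 := GradedRingHom.map_directSumDecompose (𝒜 := 𝒮.deg U hU) (ℬ := 𝒮L.deg (V i) (hV i))
      (u.gradedAt U hU (V i) (hV i) (hle i)) (x := s') (i := k)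
    have h3 : (DirectSum.decompose (𝒮L.deg (V i) (hV i)) ((u.gradedAt U hU (V i) (hV i) (hle i)) s') k :
        𝒮L.presheaf.obj (op (V i))) = 0 := DirectSum.decompose_of_mem_ne _ (H i) hk.symm
    rw [h3] at h2
    exact h2
  have h4 : s' = (DirectSum.decompose (𝒮.deg U hU) s' d : 𝒮.presheaf.obj (op U)) := by
    conv_lhs => rw [← DirectSum.sum_support_decompose (𝒮.deg U hU) s']
    refine Finset.sum_eq_single d (fun k _ hk => key k hk) (fun hd => ?_)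
    rw [DFinsupp.notMem_support_iff.mp hd]
    rfl
  rw [h4]
  exact SetLike.coe_mem _

include hL hj hPL in
/-- condition (iv) when `u` is injective over `U` and `q⁻¹ U` is quasi-compact -/
theorem condIV_of_injective (U : Y.Opens) (hU : IsAffineOpen U)
    (hc : IsCompact ((q ⁻¹ᵁ U : X.Opens) : Set X)) (hinj : Function.Injective (u.app U).hom)
    {n : ℕ} (hn : 0 < n) (a : 𝒮.presheaf.obj (op U)) (ha : a ∈ 𝒮.deg U hU n) : CondIV u U hU n a := by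
  intro m _ s' _ h0
  obtain ⟨k₀, V, e, hV, hVU, he, hcov⟩ := exists_finite_isTriv_cover hL hc
  have hk : ∀ i, ∃ k : ℕ, ((u.appLE U (V i) (hVU i)).hom a) ^ k * (u.appLE U (V i) (hVU i)).hom s' = 0 := by
    intro i
    have hfa := eq_str_mul hj n (hV i) (he i) (appLE_mem u U hU (hV i) (hVU i) ha)
    obtain ⟨c, hc⟩ : ∃ c, c = ev1 (hV i) hj (he i) ((u.appLE U (V i) (hVU i)).hom a) := ⟨_, rfl⟩
    rw [← hc] at hfa
    have hDle : X.basicOpen c ≤ Xf u U n a := fun x hx =>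
      (mem_Xf_iff_basicOpen hL hj u hPL U hU hn a ha (hV i) (hVU i) (he i) x (X.basicOpen_le c hx)).mpr (hc ▸ hx)
    have hz : (𝒮L.presheaf.map (homOfLE (X.basicOpen_le c)).op).hom ((u.appLE U (V i) (hVU i)).hom s') = 0 := by
      rw [appLE_res]
      have := appLE_res u U hDle (Xf_le u U n a) s'
      rw [← this, h0, map_zero]
    let _inst := (𝒮L.presheaf.map (homOfLE (X.basicOpen_le c)).op).hom.toAlgebra
    have hloc : IsLocalization.Away ((𝒮L.str.app (op (V i))).hom c) (𝒮L.presheaf.obj (op (X.basicOpen c))) :=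
      𝒮L.isQC (V i) (hV i) c
    have hz' : algebraMap (𝒮L.presheaf.obj (op (V i))) (𝒮L.presheaf.obj (op (X.basicOpen c)))
        ((u.appLE U (V i) (hVU i)).hom s') =
        algebraMap (𝒮L.presheaf.obj (op (V i))) (𝒮L.presheaf.obj (op (X.basicOpen c))) 0 := by
      rw [map_zero]; exact hz
    obtain ⟨⟨_, l, rfl⟩, hl⟩ := IsLocalization.exists_of_eq (M := Submonoid.powers ((𝒮L.str.app (op (V i))).hom c)) hz'
    refine ⟨l, ?_⟩
    have hl' : (𝒮L.str.app (op (V i))).hom c ^ l * (u.appLE U (V i) (hVU i)).hom s' = 0 := by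
      simpa using hl
    rw [hfa, mul_pow, mul_right_comm, hl', zero_mul]
  choose k hk using hk
  refine ⟨Finset.univ.sup k + 1, Nat.succ_pos _, ?_⟩
  apply hinj
  rw [map_zero]
  refine eq_zero_of_res_cover_eq_zero 𝒮L.toModule V hVU hcov
    (show Γ(𝒮L.toModule, q ⁻¹ᵁ U) from (u.app U).hom _) fun i => ?_
  rw [res_app, map_mul, map_pow]
  have hle : k i ≤ Finset.univ.sup k + 1 := (Finset.le_sup (Finset.mem_univ i)).trans (Nat.le_succ _)
  obtain ⟨d', hd'⟩ := Nat.exists_eq_add_of_le hle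
  rw [hd', pow_add, mul_right_comm, hk i, zero_mul]
  rfl

end A

section Dom
variable {Y X PL P : Scheme.{u}} {q : X ⟶ Y}
  {𝒮 : QCGrAlg Y} {𝒮L : QCGrAlg X} {u : QGrHom q 𝒮 𝒮L}
  {pL : PL ⟶ X}
  {chartL : ∀ (U : X.Opens) (hU : IsAffineOpen U), (((pL ⁻¹ᵁ U : PL.Opens) : Scheme.{u}) ≅ Proj (𝒮L.deg U hU))}
  (hPL : IsRelProj 𝒮L pL chartL)
  {p : P ⟶ Y}
  {chart : ∀ (U : Y.Opens) (hU : IsAffineOpen U), (((p ⁻¹ᵁ U : P.Opens) : Scheme.{u}) ≅ Proj (𝒮.deg U hU))}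
  (hP : IsRelProj 𝒮 p chart)

include hP hPL in
theorem isDominant_of_injective [QuasiCompact q] (r : ((domQ u pL chartL : PL.Opens) : Scheme.{u}) ⟶ P)
    (hr : IsProjQMapOn u p chart pL chartL (domQ u pL chartL) r)
    (hinj : ∀ U : Y.Opens, IsAffineOpen U → Function.Injective (u.app U).hom) : IsDominant r := by
  rw [isDominant_iff_gen hP hPL r hr]
  intro U hU n _ s _ hloc
  have hc : IsCompact ((q ⁻¹ᵁ U : X.Opens) : Set X) := QuasiCompact.isCompact_preimage (f := q) _ U.2 hU.isCompact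
  have h' : ∀ x : (q ⁻¹ᵁ U : X.Opens), ∃ (V : X.Opens) (_ : IsAffineOpen V) (hle : V ≤ q ⁻¹ᵁ U), x.1 ∈ V ∧
      IsNilpotent ((u.appLE U V hle).hom s) := fun x => hloc x.1 x.2
  choose V hV hle hxV hnil using h'
  choose N hN using hnil
  obtain ⟨t, ht⟩ := hc.elim_finite_subcover (fun x : (q ⁻¹ᵁ U : X.Opens) => (V x : Set X)) (fun x => (V x).2)
    (fun x hx => Set.mem_iUnion.mpr ⟨⟨x, hx⟩, hxV ⟨x, hx⟩⟩)
  refine ⟨t.sup N, ?_⟩
  apply hinj U hU
  rw [map_zero]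
  refine eq_zero_of_res_cover_eq_zero 𝒮L.toModule (fun x : t => V x.1) (fun x => hle x.1) ?_
    (show Γ(𝒮L.toModule, q ⁻¹ᵁ U) from (u.app U).hom _) fun x => ?_
  · intro y hy
    obtain ⟨x, hxt, hyx⟩ := Set.mem_iUnion₂.mp (ht hy)
    exact Opens.mem_iSup.mpr ⟨⟨x, hxt⟩, hyx⟩
  · rw [res_app, map_pow]
    exact pow_eq_zero_of_le (Finset.le_sup x.2) (hN x.1)

end Dom

end Groth.Agent.Lib.Helper3.AmpleBridge
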