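import Groth.Agent.Lib.Helper3.AmpleBridge4
/-!
# Sections of `L^{⊗ n}` as homogeneous elements of degree `n` (reverse bridge)
-/
universe u
open CategoryTheory CategoryTheory.Limits AlgebraicGeometry Opposite TopologicalSpace
open Groth.Agent.Lib.Helper29.QCoh

namespace Groth.Agent.Lib.Helper3.AmpleBridge
open RelProj RelSpec RelCone Groth.Agent.Lib.Helper3 Groth.Agent.Lib.Helper3.SymLine Groth.Agent.Lib.Helper3.QProj

section Rev
variable {Y X PL : Scheme.{u}} {q : X ⟶ Y} {L : X.Modules} [L.IsQuasicoherent]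
  {𝒮 : QCGrAlg Y} {𝒮L : QCGrAlg X} {j : L ⟶ 𝒮L.toModule}
  (hL : PicF.IsInvertible L) (hj : IsGrSymAlg L 𝒮L j) (u : QGrHom q 𝒮 𝒮L)
  {pL : PL ⟶ X}
  {chartL : ∀ (U : X.Opens) (hU : IsAffineOpen U), (((pL ⁻¹ᵁ U : PL.Opens) : Scheme.{u}) ≅ Proj (𝒮L.deg U hU))}
  (hPL : IsRelProj 𝒮L pL chartL)

/-- the homogeneous element `c t^n` attached to a local section `c • e^n` -/
noncomputable def coloc (j : L ⟶ 𝒮L.toModule) (n : ℕ) {V : X.Opens} {e : Γ(L, V)} (hT : IsTriv L V e)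
    (σ : Γ(CohB1.tensorPow L n, V)) : 𝒮L.presheaf.obj (op V) :=
  (𝒮L.str.app (op V)).hom (Classical.choose ((hT.epow n).exists_eq_smul σ)) * tt j e ^ n

theorem coloc_spec (n : ℕ) {V : X.Opens} {e : Γ(L, V)} (hT : IsTriv L V e)
    (σ : Γ(CohB1.tensorPow L n, V)) (c : Γ(X, V)) (hc : σ = c • epow L e n) :
    coloc j n hT σ = (𝒮L.str.app (op V)).hom c * tt j e ^ n := by
  unfold coloc
  have h := Classical.choose_spec ((hT.epow n).exists_eq_smul σ)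
  have h2 : Classical.choose ((hT.epow n).exists_eq_smul σ) = c := (hT.epow n).smul_left_cancel (h.symm.trans hc)
  rw [h2]

theorem coloc_res (n : ℕ) {V V₃ : X.Opens} (h : V₃ ≤ V) {e : Γ(L, V)} (hT : IsTriv L V e)
    (σ : Γ(CohB1.tensorPow L n, V)) :
    (𝒮L.presheaf.map (homOfLE h).op).hom (coloc j n hT σ) =
      coloc j n (hT.restrict h) (res (CohB1.tensorPow L n) h σ) := by
  obtain ⟨c, hc⟩ := (hT.epow n).exists_eq_smul σ
  rw [coloc_spec n hT σ c hc,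
    coloc_spec n (hT.restrict h) _ ((X.presheaf.map (homOfLE h).op).hom c) (by rw [hc, res_smul, res_epow]),
    map_mul, map_pow, tt_res, str_res]

theorem coloc_indep (n : ℕ) {V : X.Opens} {e e' : Γ(L, V)} (hT : IsTriv L V e) (hT' : IsTriv L V e')
    (σ : Γ(CohB1.tensorPow L n, V)) : coloc j n hT σ = coloc j n hT' σ := by
  obtain ⟨g, rfl⟩ := hT'.exists_eq_smul e
  obtain ⟨c, hc⟩ := (hT.epow n).exists_eq_smul σ
  rw [coloc_spec n hT σ c hc, coloc_spec n hT' σ (c * g ^ n) (by rw [hc, epow_smul, smul_smul]),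
    tt_smul, mul_pow, map_mul, map_pow, mul_assoc]

include hj in
theorem coloc_mem (n : ℕ) {V : X.Opens} (hV : IsAffineOpen V) {e : Γ(L, V)} (hT : IsTriv L V e)
    (σ : Γ(CohB1.tensorPow L n, V)) : coloc j n hT σ ∈ 𝒮L.deg V hV n := by
  have h1 : (𝒮L.str.app (op V)).hom (Classical.choose ((hT.epow n).exists_eq_smul σ)) ∈ 𝒮L.deg V hV 0 :=
    𝒮L.str_mem V hV _
  have h2 : tt j e ^ n ∈ 𝒮L.deg V hV (n • 1) := SetLike.pow_mem_graded n (tt_mem hV hj)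
  have h3 := SetLike.mul_mem_graded h1 h2
  have h4 : 0 + n • 1 = n := by simp
  rw [h4] at h3
  exact h3

include hL in
theorem exists_element (n : ℕ) {W : X.Opens} (τ : Γ(CohB1.tensorPow L n, W)) :
    ∃ b : 𝒮L.presheaf.obj (op W), ∀ (V : X.Opens) (_ : IsAffineOpen V) (hle : V ≤ W) (e : Γ(L, V))
      (hT : IsTriv L V e),
      (𝒮L.presheaf.map (homOfLE hle).op).hom b = coloc j n hT (res (CohB1.tensorPow L n) hle τ) := by
  obtain ⟨b, hb⟩ := exists_gluing 𝒮L.toModule (fun i : TIdx L W => i.V) W (fun i => i.hle)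
    (by
      intro x hx
      obtain ⟨V, e, hV, hxV, hVW, hT⟩ := exists_affine_isTriv hL x hx
      exact Opens.mem_iSup.mpr ⟨⟨V, hV, hVW, e, hT⟩, hxV⟩)
    (fun i => (show Γ(𝒮L.toModule, i.V) from coloc j n i.hT (res (CohB1.tensorPow L n) i.hle τ)))
    (by
      intro i i'
      refine eq_of_res_cover_eq 𝒮L.toModule
        (fun k : {V₃ : X.affineOpens // (V₃.1 : X.Opens) ≤ i.V ⊓ i'.V} => (k.1.1 : X.Opens))
        (fun k => k.2) ?_ _ _ fun k => ?_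
      · intro x hx
        obtain ⟨V₃, hV₃, hxV₃, hle₃⟩ := exists_isAffineOpen_mem_and_subset (x := x) (U := i.V ⊓ i'.V) hx
        exact Opens.mem_iSup.mpr ⟨⟨⟨V₃, hV₃⟩, hle₃⟩, hxV₃⟩
      · obtain ⟨⟨V₃, hV₃⟩, hle₃⟩ := k
        have hle₃ : V₃ ≤ i.V ⊓ i'.V := hle₃
        rw [res_res, res_res]
        change (𝒮L.presheaf.map (homOfLE (hle₃.trans inf_le_left)).op).hom (coloc j n i.hT _) =
          (𝒮L.presheaf.map (homOfLE (hle₃.trans inf_le_right)).op).hom (coloc j n i'.hT _)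
        rw [coloc_res, coloc_res, res_res, res_res]
        exact coloc_indep n _ _ _)
  exact ⟨b, fun V hV hle e hT => hb ⟨V, hV, hle, e, hT⟩⟩

include hL hj hPL in
/-- a section of `(L|_{q⁻¹ U})^{⊗ n}` comes from an element of `𝒮_n(U)` with the same non-vanishing locus -/
theorem exists_elt_of_hom (U : Y.Opens) (hU : IsAffineOpen U) (hbij : Function.Bijective (u.app U).hom)
    {n : ℕ} (hn : 0 < n)
    (s : unitM ((q ⁻¹ᵁ U : X.Opens) : Scheme.{u}) ⟶ CohB1.tensorPow (L.restrict (q ⁻¹ᵁ U).ι) n) :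
    ∃ a ∈ 𝒮.deg U hU n, ∀ y : ((q ⁻¹ᵁ U : X.Opens) : Scheme.{u}),
      y ∈ CohB1.genLocus _ s ↔ (q ⁻¹ᵁ U).ι.base y ∈ Xf u U n a := by
  obtain ⟨θ⟩ := nonempty_restrictTensorPowIso (q ⁻¹ᵁ U).ι hL n
  obtain ⟨s₁, hs₁⟩ : ∃ s₁ : unitM ((q ⁻¹ᵁ U : X.Opens) : Scheme.{u}) ⟶ (CohB1.tensorPow L n).restrict (q ⁻¹ᵁ U).ι,
      s₁ = s ≫ θ.inv := ⟨_, rfl⟩
  have hgl : CohB1.genLocus _ s₁ = CohB1.genLocus _ s := hs₁ ▸ genLocus_comp_iso s θ.symm
  have hW0 : q ⁻¹ᵁ U ≤ (q ⁻¹ᵁ U).ι ''ᵁ ⊤ := (q ⁻¹ᵁ U).ι_image_top.ge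
  obtain ⟨T, hTdef⟩ : ∃ T : Γ(CohB1.tensorPow L n, (q ⁻¹ᵁ U).ι ''ᵁ ⊤), T = sval s₁ ⊤ := ⟨_, rfl⟩
  obtain ⟨b, hb⟩ := exists_element (j := j) hL n (res (CohB1.tensorPow L n) hW0 T)
  obtain ⟨a, hab⟩ := hbij.2 b
  have hloc : ∀ (V : X.Opens) (hV : IsAffineOpen V) (hle : V ≤ q ⁻¹ᵁ U) (e : Γ(L, V)) (hT : IsTriv L V e),
      (u.appLE U V hle).hom a = coloc j n hT (res (CohB1.tensorPow L n) hle (res (CohB1.tensorPow L n) hW0 T)) := by
    intro V hV hle e hT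
    rw [← hb V hV hle e hT, ← hab]
    rfl
  have hadeg : a ∈ 𝒮.deg U hU n := by
    refine mem_deg_of_cover u U hU hbij.1 n a (fun i : TIdx L (q ⁻¹ᵁ U) => i.V) (fun i => i.hV)
      (fun i => i.hle) ?_ (fun i => ?_)
    · intro x hx
      obtain ⟨V, e, hV, hxV, hVW, hT⟩ := exists_affine_isTriv hL x hx
      exact Opens.mem_iSup.mpr ⟨⟨V, hV, hVW, e, hT⟩, hxV⟩
    · rw [hloc i.V i.hV i.hle i.e i.hT]
      exact coloc_mem hj n i.hV i.hT _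
  refine ⟨a, hadeg, fun y => ?_⟩
  rw [← hgl]
  have hx : (q ⁻¹ᵁ U).ι.base y ∈ q ⁻¹ᵁ U := y.2
  obtain ⟨V₁, e, hV₁, hxV₁, hV₁W, hT⟩ := exists_affine_isTriv hL ((q ⁻¹ᵁ U).ι.base y) hx
  obtain ⟨c, hc⟩ := (hT.epow n).exists_eq_smul
    (res (CohB1.tensorPow L n) hV₁W (res (CohB1.tensorPow L n) hW0 T))
  have hfa : (u.appLE U V₁ hV₁W).hom a = (𝒮L.str.app (op V₁)).hom c * tt j e ^ n := by
    rw [hloc V₁ hV₁ hV₁W e hT, coloc_spec n hT _ c hc]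
  have hev : ev1 hV₁ hj hT ((u.appLE U V₁ hV₁W).hom a) = c := ev1_unique hj n hV₁ hT c hfa
  rw [mem_Xf_iff_basicOpen hL hj u hPL U hU hn a hadeg hV₁ hV₁W hT _ hxV₁, hev]
  let U' : ((q ⁻¹ᵁ U : X.Opens) : Scheme.{u}).Opens := (q ⁻¹ᵁ U).ι ⁻¹ᵁ V₁
  have hyU' : y ∈ U' := hxV₁
  have hle' : (q ⁻¹ᵁ U).ι ''ᵁ U' ≤ V₁ := by
    rw [Scheme.Hom.image_preimage_eq_opensRange_inf]; exact inf_le_right
  have hT' : IsTriv ((CohB1.tensorPow L n).restrict (q ⁻¹ᵁ U).ι) U'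
      (res (CohB1.tensorPow L n) hle' (epow L e n)) :=
    IsTriv.to_restrict (q ⁻¹ᵁ U).ι ((hT.epow n).restrict hle')
  let a' : Γ(((q ⁻¹ᵁ U : X.Opens) : Scheme.{u}), U') := (X.presheaf.map (homOfLE hle').op).hom c
  have h1 : res (CohB1.tensorPow L n) ((q ⁻¹ᵁ U).ι.image_mono (le_top : U' ≤ ⊤)) T =
      (X.presheaf.map (homOfLE hle').op).hom c • res (CohB1.tensorPow L n) hle' (epow L e n) := by
    rw [← res_smul, ← hc, res_res, res_res]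
  have ha' : sval s₁ U' = HSMul.hSMul (α := Γ(((q ⁻¹ᵁ U : X.Opens) : Scheme.{u}), U'))
      (β := Γ((CohB1.tensorPow L n).restrict (q ⁻¹ᵁ U).ι, U')) a'
        (res (CohB1.tensorPow L n) hle' (epow L e n)) := by
    rw [← res_sval s₁ (le_top : U' ≤ ⊤), ← hTdef]
    refine Eq.trans ?_ (h1.trans ?_)
    · rfl
    · rw [restrict_smul]
      congr 1
      rw [Scheme.Opens.ι_appIso]
      rfl
  rw [mem_genLocus_iff_of_isTriv s₁ hT' a' ha' y hyU']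
  refine Iff.trans (Scheme.Opens.mem_basicOpen_toScheme (U := q ⁻¹ᵁ U) (V := U') (r := a') (x := y)) ?_
  have h5 : X.basicOpen ((X.presheaf.map (homOfLE hle').op).hom c) =
      (q ⁻¹ᵁ U).ι ''ᵁ U' ⊓ X.basicOpen c :=
    Scheme.basicOpen_res X _ (homOfLE hle').op
  change (q ⁻¹ᵁ U).ι.base y ∈ X.basicOpen ((X.presheaf.map (homOfLE hle').op).hom c) ↔ _
  rw [h5]
  exact ⟨fun h => h.2, fun h => ⟨⟨y, hyU', rfl⟩, h⟩⟩

end Rev

end Groth.Agent.Lib.Helper3.AmpleBridge
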