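import Groth.Agent.Lib.Helper3.AmpleBridge5
/-!
# Condition (iii) for `r_{L,σ}` when `u` is bijective (EGA I 9.3.1 (ii) for sections of `Sym(L)`)
-/
universe u
open CategoryTheory CategoryTheory.Limits AlgebraicGeometry Opposite TopologicalSpace
open Groth.Agent.Lib.Helper29.QCoh

namespace Groth.Agent.Lib.Helper3.AmpleBridge
open RelProj RelSpec RelCone Groth.Agent.Lib.Helper3 Groth.Agent.Lib.Helper3.SymLine Groth.Agent.Lib.Helper3.QProj

section Z
variable {X : Scheme.{u}} (𝒮L : QCGrAlg X)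

theorem exists_pow_mul_eq_zero {V : X.Opens} (hV : IsAffineOpen V) (g : Γ(X, V))
    (bV w δ : 𝒮L.presheaf.obj (op V)) (hb : bV = (𝒮L.str.app (op V)).hom g * w)
    (hδ : (𝒮L.presheaf.map (homOfLE (X.basicOpen_le g)).op).hom δ = 0) : ∃ l : ℕ, bV ^ l * δ = 0 := by
  let _inst := (𝒮L.presheaf.map (homOfLE (X.basicOpen_le g)).op).hom.toAlgebra
  have hloc : IsLocalization.Away ((𝒮L.str.app (op V)).hom g) (𝒮L.presheaf.obj (op (X.basicOpen g))) :=
    𝒮L.isQC V hV g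
  have hz' : algebraMap (𝒮L.presheaf.obj (op V)) (𝒮L.presheaf.obj (op (X.basicOpen g))) δ =
      algebraMap (𝒮L.presheaf.obj (op V)) (𝒮L.presheaf.obj (op (X.basicOpen g))) 0 := by
    rw [map_zero]; exact hδ
  obtain ⟨⟨_, l, rfl⟩, hl⟩ := IsLocalization.exists_of_eq (M := Submonoid.powers ((𝒮L.str.app (op V)).hom g)) hz'
  refine ⟨l, ?_⟩
  have hl' : (𝒮L.str.app (op V)).hom g ^ l * δ = 0 := by simpa using hl
  rw [hb, mul_pow, mul_right_comm, hl', zero_mul]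

theorem map_map_SL {V V₁ V₂ : X.Opens} (h : V₁ ≤ V) (h' : V₂ ≤ V₁) (z : 𝒮L.presheaf.obj (op V)) :
    (𝒮L.presheaf.map (homOfLE h').op).hom ((𝒮L.presheaf.map (homOfLE h).op).hom z) =
      (𝒮L.presheaf.map (homOfLE (h'.trans h)).op).hom z := by
  rw [← CommRingCat.comp_apply, ← Functor.map_comp]
  rfl

theorem map_map_X {V V₁ V₂ : X.Opens} (h : V₁ ≤ V) (h' : V₂ ≤ V₁) (z : Γ(X, V)) :
    (X.presheaf.map (homOfLE h').op).hom ((X.presheaf.map (homOfLE h).op).hom z) =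
      (X.presheaf.map (homOfLE (h'.trans h)).op).hom z := by
  rw [← CommRingCat.comp_apply, ← Functor.map_comp]
  rfl

end Z

section E
variable {Y X PL : Scheme.{u}} {q : X ⟶ Y} {L : X.Modules} [L.IsQuasicoherent]
  {𝒮 : QCGrAlg Y} {𝒮L : QCGrAlg X} {j : L ⟶ 𝒮L.toModule}
  (hL : PicF.IsInvertible L) (hj : IsGrSymAlg L 𝒮L j) (u : QGrHom q 𝒮 𝒮L)
  {pL : PL ⟶ X}
  {chartL : ∀ (U : X.Opens) (hU : IsAffineOpen U), (((pL ⁻¹ᵁ U : PL.Opens) : Scheme.{u}) ≅ Proj (𝒮L.deg U hU))}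
  (hPL : IsRelProj 𝒮L pL chartL)

include hL hj hPL in
theorem condIII_of_bijective (U : Y.Opens) (hU : IsAffineOpen U)
    (hc : IsCompact ((q ⁻¹ᵁ U : X.Opens) : Set X))
    (hsep : ∀ V V' : X.Opens, IsAffineOpen V → IsAffineOpen V' → V ≤ q ⁻¹ᵁ U → V' ≤ q ⁻¹ᵁ U → IsAffineOpen (V ⊓ V'))
    (hbij : Function.Bijective (u.app U).hom)
    {n : ℕ} (hn : 0 < n) (a : 𝒮.presheaf.obj (op U)) (ha : a ∈ 𝒮.deg U hU n) : CondIII u U hU n a := by
  intro t
  obtain ⟨k₀, V, e, hV, hVU, he, hcov⟩ := exists_finite_isTriv_cover hL hc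
  obtain ⟨c, hcdef⟩ : ∃ c : ∀ i, Γ(X, V i), ∀ i, c i = ev1 (hV i) hj (he i) ((u.appLE U (V i) (hVU i)).hom a) :=
    ⟨_, fun _ => rfl⟩
  have hfa : ∀ i, (u.appLE U (V i) (hVU i)).hom a = (𝒮L.str.app (op (V i))).hom (c i) * tt j (e i) ^ n := by
    intro i
    rw [hcdef i]
    exact eq_str_mul hj n (hV i) (he i) (appLE_mem u U hU (hV i) (hVU i) ha)
  have hD : ∀ i, X.basicOpen (c i) = V i ⊓ Xf u U n a := by
    intro i
    ext x
    constructor
    · intro hx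
      exact ⟨X.basicOpen_le _ hx, (mem_Xf_iff_basicOpen hL hj u hPL U hU hn a ha (hV i) (hVU i) (he i) x
        (X.basicOpen_le _ hx)).mpr (hcdef i ▸ hx)⟩
    · rintro ⟨hxV, hxG⟩
      exact hcdef i ▸ (mem_Xf_iff_basicOpen hL hj u hPL U hU hn a ha (hV i) (hVU i) (he i) x hxV).mp hxG
  have hDG : ∀ i, X.basicOpen (c i) ≤ Xf u U n a := fun i => (hD i).le.trans inf_le_right
  have hGU := Xf_le u U n a
  -- Step 1
  have h1 : ∀ i, ∃ (m : ℕ) (x : Γ(X, V i)),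
      (X.presheaf.map (homOfLE (X.basicOpen_le (c i))).op).hom x =
        (X.presheaf.map (homOfLE (hDG i)).op).hom t *
          ((X.presheaf.map (homOfLE (X.basicOpen_le (c i))).op).hom (c i)) ^ m := by
    intro i
    have hloc := (hV i).isLocalization_basicOpen (c i)
    obtain ⟨⟨x, ⟨_, m, rfl⟩⟩, hx⟩ := IsLocalization.surj (Submonoid.powers (c i))
      ((X.presheaf.map (homOfLE (hDG i)).op).hom t)
    refine ⟨m, x, ?_⟩
    rw [← map_pow]
    exact hx.symm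
  choose m₁ x₁ hx₁ using h1
  obtain ⟨m₀, hm₀⟩ : ∃ m₀, m₀ = Finset.univ.sup m₁ := ⟨_, rfl⟩
  have hm₁ : ∀ i, m₁ i ≤ m₀ := fun i => hm₀ ▸ Finset.le_sup (Finset.mem_univ i)
  obtain ⟨t', ht'def⟩ : ∃ t' : ∀ i, Γ(X, V i), ∀ i, t' i = c i ^ (m₀ - m₁ i) * x₁ i := ⟨_, fun _ => rfl⟩
  have ht' : ∀ i, (X.presheaf.map (homOfLE (X.basicOpen_le (c i))).op).hom (t' i) =
      (X.presheaf.map (homOfLE (hDG i)).op).hom t *
        ((X.presheaf.map (homOfLE (X.basicOpen_le (c i))).op).hom (c i)) ^ m₀ := by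
    intro i
    rw [ht'def i, map_mul, map_pow, hx₁ i]
    conv_rhs => rw [← Nat.sub_add_cancel (hm₁ i), pow_add]
    ring
  obtain ⟨β, hβdef⟩ : ∃ β : ∀ i, 𝒮L.presheaf.obj (op (V i)),
      ∀ i, β i = (𝒮L.str.app (op (V i))).hom (t' i) * tt j (e i) ^ (n * m₀) := ⟨_, fun _ => rfl⟩
  -- F1
  have hF1 : ∀ i, (𝒮L.presheaf.map (homOfLE (X.basicOpen_le (c i))).op).hom (β i) =
      (𝒮L.str.app (op (X.basicOpen (c i)))).hom ((X.presheaf.map (homOfLE (hDG i)).op).hom t) *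
        ((u.appLE U (X.basicOpen (c i)) ((hDG i).trans hGU)).hom a) ^ m₀ := by
    intro i
    have e1 : (u.appLE U (X.basicOpen (c i)) ((hDG i).trans hGU)).hom a =
        (𝒮L.str.app (op (X.basicOpen (c i)))).hom ((X.presheaf.map (homOfLE (X.basicOpen_le (c i))).op).hom (c i)) *
          tt j (res L (X.basicOpen_le (c i)) (e i)) ^ n := by
      rw [← appLE_res u U (X.basicOpen_le (c i)) (hVU i) a, hfa i, map_mul, map_pow, tt_res, str_res]
    rw [hβdef i, map_mul, map_pow, tt_res, str_res, ht' i, e1, map_mul, map_pow, mul_pow, ← pow_mul]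
    ring
  -- F1 on smaller opens
  have hF2 : ∀ i (E : X.Opens) (hE : E ≤ X.basicOpen (c i)),
      (𝒮L.presheaf.map (homOfLE (hE.trans (X.basicOpen_le (c i)))).op).hom (β i) =
      (𝒮L.str.app (op E)).hom ((X.presheaf.map (homOfLE (hE.trans (hDG i))).op).hom t) *
        ((u.appLE U E ((hE.trans (hDG i)).trans hGU)).hom a) ^ m₀ := by
    intro i E hE
    have := congrArg (𝒮L.presheaf.map (homOfLE hE).op).hom (hF1 i)
    rw [map_mul, map_pow, str_res, appLE_res, map_map_SL, map_map_X] at this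
    exact this
  -- Step 2
  have h2 : ∀ i i', ∃ l : ℕ, ((u.appLE U (V i ⊓ V i') (inf_le_left.trans (hVU i))).hom a) ^ l *
      ((𝒮L.presheaf.map (homOfLE (inf_le_left : V i ⊓ V i' ≤ V i)).op).hom (β i) -
        (𝒮L.presheaf.map (homOfLE (inf_le_right : V i ⊓ V i' ≤ V i')).op).hom (β i')) = 0 := by
    intro i i'
    have hVij := hsep (V i) (V i') (hV i) (hV i') (hVU i) (hVU i')
    have hE : X.basicOpen ((X.presheaf.map (homOfLE (inf_le_left : V i ⊓ V i' ≤ V i)).op).hom (c i)) =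
        (V i ⊓ V i') ⊓ X.basicOpen (c i) := Scheme.basicOpen_res X _ (homOfLE (inf_le_left : V i ⊓ V i' ≤ V i)).op
    have hE1 : X.basicOpen ((X.presheaf.map (homOfLE (inf_le_left : V i ⊓ V i' ≤ V i)).op).hom (c i)) ≤
        X.basicOpen (c i) := hE.le.trans inf_le_right
    have hE2 : X.basicOpen ((X.presheaf.map (homOfLE (inf_le_left : V i ⊓ V i' ≤ V i)).op).hom (c i)) ≤
        X.basicOpen (c i') := by
      rw [hD i']
      intro x hx
      have hx' := hE.le hx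
      exact ⟨hx'.1.2, hDG i hx'.2⟩
    refine exists_pow_mul_eq_zero 𝒮L hVij ((X.presheaf.map (homOfLE (inf_le_left : V i ⊓ V i' ≤ V i)).op).hom (c i))
      _ (tt j (res L inf_le_left (e i)) ^ n) _ ?_ ?_
    · rw [← appLE_res u U (inf_le_left : V i ⊓ V i' ≤ V i) (hVU i) a, hfa i, map_mul, map_pow, tt_res, str_res]
    · rw [map_sub, sub_eq_zero, map_map_SL, map_map_SL]
      exact (hF2 i _ hE1).trans (hF2 i' _ hE2).symm
  choose l hl using h2
  obtain ⟨K, hK⟩ : ∃ K, K = Finset.univ.sup (fun p : Fin k₀ × Fin k₀ => l p.1 p.2) := ⟨_, rfl⟩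
  have hlK : ∀ i i', l i i' ≤ K := fun i i' =>
    hK ▸ Finset.le_sup (f := fun p : Fin k₀ × Fin k₀ => l p.1 p.2) (Finset.mem_univ (i, i'))
  -- Step 3: glue
  obtain ⟨γ, hγdef⟩ : ∃ γ : ∀ i, 𝒮L.presheaf.obj (op (V i)),
      ∀ i, γ i = ((u.appLE U (V i) (hVU i)).hom a) ^ (K + 1) * β i := ⟨_, fun _ => rfl⟩
  obtain ⟨b'', hb''⟩ := exists_gluing 𝒮L.toModule V (q ⁻¹ᵁ U) hVU hcov
    (fun i => (show Γ(𝒮L.toModule, V i) from γ i))
    (by
      intro i i'
      change (𝒮L.presheaf.map (homOfLE (inf_le_left : V i ⊓ V i' ≤ V i)).op).hom (γ i) =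
        (𝒮L.presheaf.map (homOfLE (inf_le_right : V i ⊓ V i' ≤ V i')).op).hom (γ i')
      rw [hγdef i, hγdef i', map_mul, map_mul, map_pow, map_pow, appLE_res, appLE_res, ← sub_eq_zero, ← mul_sub]
      obtain ⟨d', hd'⟩ := Nat.exists_eq_add_of_le ((hlK i i').trans (Nat.le_add_right K 1))
      rw [hd', pow_add, mul_right_comm, hl i i', zero_mul])
  obtain ⟨s', hs'⟩ := hbij.2 (show 𝒮L.presheaf.obj (op (q ⁻¹ᵁ U)) from b'')
  have hs'V : ∀ i, (u.appLE U (V i) (hVU i)).hom s' = γ i := by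
    intro i
    have h := hb'' i
    rw [← hs'] at h
    exact h
  refine ⟨K + 1 + m₀, by omega, s', ?_, ?_⟩
  · refine mem_deg_of_cover u U hU hbij.1 _ s' V hV hVU hcov fun i => ?_
    rw [hs'V i, hγdef i, hβdef i]
    have h1 := SetLike.pow_mem_graded (K + 1) (appLE_mem u U hU (hV i) (hVU i) ha)
    have h2 : (𝒮L.str.app (op (V i))).hom (t' i) ∈ 𝒮L.deg (V i) (hV i) 0 := 𝒮L.str_mem (V i) (hV i) _
    have h3 : tt j (e i) ^ (n * m₀) ∈ 𝒮L.deg (V i) (hV i) ((n * m₀) • 1) :=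
      SetLike.pow_mem_graded (n * m₀) (tt_mem (hV i) hj)
    have h4 := SetLike.mul_mem_graded h1 (SetLike.mul_mem_graded h2 h3)
    have h5 : (K + 1) • n + (0 + (n * m₀) • 1) = (K + 1 + m₀) * n := by
      simp only [smul_eq_mul, mul_one, zero_add]; ring
    rw [h5] at h4
    exact h4
  · refine eq_of_res_cover_eq 𝒮L.toModule (fun i => X.basicOpen (c i)) hDG ?_
      (show Γ(𝒮L.toModule, Xf u U n a) from _) (show Γ(𝒮L.toModule, Xf u U n a) from _) fun i => ?_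
    · intro x hx
      obtain ⟨i, hi⟩ := Opens.mem_iSup.mp (hcov (hGU hx))
      exact Opens.mem_iSup.mpr ⟨i, (hD i).ge ⟨hi, hx⟩⟩
    · change (𝒮L.presheaf.map (homOfLE (hDG i)).op).hom _ = (𝒮L.presheaf.map (homOfLE (hDG i)).op).hom _
      rw [map_mul, map_pow, str_res, appLE_res, appLE_res,
        ← appLE_res u U (X.basicOpen_le (c i)) (hVU i) s', hs'V i, hγdef i, map_mul, map_pow, appLE_res, hF1 i]
      ring

end E

end Groth.Agent.Lib.Helper3.AmpleBridge
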