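import Groth.Agent.Lib.Helper3.AmpleBridge6
/-!
# `r_{L,σ}` is a dominant open immersion for relatively ample `L`
-/
universe u
open CategoryTheory CategoryTheory.Limits AlgebraicGeometry Opposite TopologicalSpace
open Groth.Agent.Lib.Helper29.QCoh

namespace Groth.Agent.Lib.Helper3.AmpleBridge
open RelProj RelSpec RelCone Groth.Agent.Lib.Helper3 Groth.Agent.Lib.Helper3.SymLine Groth.Agent.Lib.Helper3.QProj

theorem isAffineOpen_inf_of_isSeparated {X : Scheme.{u}} (W : X.Opens) [(W : Scheme.{u}).IsSeparated]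
    (V V' : X.Opens) (hV : IsAffineOpen V) (hV' : IsAffineOpen V') (hle : V ≤ W) (_hle' : V' ≤ W) :
    IsAffineOpen (V ⊓ V') := by
  have h1 : IsAffineOpen (W.ι ⁻¹ᵁ V) :=
    hV.preimage_of_isOpenImmersion W.ι (by rw [Scheme.Opens.opensRange_ι]; exact hle)
  have h2 : IsAffineOpen (W.ι ⁻¹ᵁ V') :=
    hV'.preimage_of_isOpenImmersion W.ι (by rw [Scheme.Opens.opensRange_ι]; exact _hle')
  have h3 : IsAffineOpen (W.ι ⁻¹ᵁ V ⊓ W.ι ⁻¹ᵁ V') := h1.inf h2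
  have h4 := h3.image_of_isOpenImmersion W.ι
  have h5 : W.ι ''ᵁ (W.ι ⁻¹ᵁ V ⊓ W.ι ⁻¹ᵁ V') = V ⊓ V' := by
    have : W.ι ⁻¹ᵁ V ⊓ W.ι ⁻¹ᵁ V' = W.ι ⁻¹ᵁ (V ⊓ V') := rfl
    rw [this, Scheme.Hom.image_preimage_eq_opensRange_inf, Scheme.Opens.opensRange_ι]
    exact inf_eq_right.mpr (inf_le_left.trans hle)
  rw [h5] at h4
  exact h4

theorem rLsigma_of_relAmple {X Y P PL : Scheme.{u}} (f : X ⟶ Y) [QuasiCompact f]
    (L : X.Modules) (hL : PicF.IsInvertible L) (hLq : Coh.IsQCoh L)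
    (𝒮L : RelProj.QCGrAlg X) (jL : L ⟶ 𝒮L.toModule) (hjL : RelProj.IsGrSymAlg L 𝒮L jL)
    (pL : PL ⟶ X) (chartL : ∀ (U : X.Opens) (hU : IsAffineOpen U), (((pL ⁻¹ᵁ U : PL.Opens) : Scheme.{u}) ≅ Proj (𝒮L.deg U hU)))
    (hPL : RelProj.IsRelProj 𝒮L pL chartL)
    (𝒜 : RelProj.QCGrAlg Y) (u : RelProj.QGrHom f 𝒜 𝒮L)
    (p : P ⟶ Y) (chart : ∀ (U : Y.Opens) (hU : IsAffineOpen U), (((p ⁻¹ᵁ U : P.Opens) : Scheme.{u}) ≅ Proj (𝒜.deg U hU)))
    (hP : RelProj.IsRelProj 𝒜 p chart)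
    (r : ((RelProj.domQ u pL chartL : PL.Opens) : Scheme.{u}) ⟶ P)
    (hr : RelProj.IsProjQMapOn u p chart pL chartL (RelProj.domQ u pL chartL) r)
    (hu : ∀ (U : Y.Opens), IsAffineOpen U → Function.Bijective (u.app U).hom)
    (h : RelAmple.IsRelAmple f L) :
    RelProj.domQ u pL chartL = ⊤ ∧ IsOpenImmersion r ∧ IsDominant r := by
  haveI : L.IsQuasicoherent := hLq
  have key : ∀ x : X, ∃ (U : Y.Opens) (hU : IsAffineOpen U) (n : ℕ) (_ : 0 < n) (a : 𝒜.presheaf.obj (op U))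
      (_ : a ∈ 𝒜.deg U hU n), x ∈ Xf u U n a ∧ IsAffineOpen (Xf u U n a) ∧ CondIII u U hU n a ∧
        CondIV u U hU n a := by
    intro x
    obtain ⟨U, hU, hxU⟩ : ∃ U : Y.Opens, IsAffineOpen U ∧ f.base x ∈ U := by
      obtain ⟨U, hU, hxU, -⟩ := exists_isAffineOpen_mem_and_subset (x := f.base x) (U := ⊤) trivial
      exact ⟨U, hU, hxU⟩
    have hamp := h.2 ⟨U, hU⟩
    have hc : IsCompact ((f ⁻¹ᵁ U : X.Opens) : Set X) :=
      QuasiCompact.isCompact_preimage (f := f) _ U.2 hU.isCompact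
    haveI := isSeparated_of_isAmple hamp
    obtain ⟨m, s, hys, haff⟩ := hamp.2.2 ⟨x, hxU⟩
    obtain ⟨a, ha, hiff⟩ := exists_elt_of_hom hL hjL u hPL U hU (hu U hU) (Nat.succ_pos m) s
    have hXf : Xf u U (m + 1) a = (f ⁻¹ᵁ U).ι ''ᵁ CohB1.genLocus _ s := by
      ext z
      constructor
      · intro hz
        have hzU : z ∈ f ⁻¹ᵁ U := Xf_le u U (m + 1) a hz
        exact ⟨⟨z, hzU⟩, (hiff ⟨z, hzU⟩).mpr hz, rfl⟩
      · rintro ⟨y, hy, rfl⟩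
        exact (hiff y).mp hy
    refine ⟨U, hU, m + 1, Nat.succ_pos m, a, ha, (hiff ⟨x, hxU⟩).mp hys, ?_, ?_, ?_⟩
    · rw [hXf]
      exact haff.image_of_isOpenImmersion (f ⁻¹ᵁ U).ι
    · exact condIII_of_bijective hL hjL u hPL U hU hc
        (fun V V' hV hV' hle hle' => isAffineOpen_inf_of_isSeparated (f ⁻¹ᵁ U) V V' hV hV' hle hle')
        (hu U hU) (Nat.succ_pos m) a ha
    · exact condIV_of_injective hL hjL u hPL U hU hc (hu U hU).1 (Nat.succ_pos m) a ha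
  have htop : RelProj.domQ u pL chartL = ⊤ := (domQ_eq_top_iff_Xf hL hjL u hPL).mpr (fun x => by
    obtain ⟨U, hU, n, hn, a, ha, hx, -⟩ := key x
    exact ⟨U, hU, n, hn, a, ha, hx⟩)
  have hopen : IsOpenImmersion r := isOpenImmersion_of_forall hL hjL u hPL hP r hr (fun w => by
    obtain ⟨U, hU, n, hn, a, ha, hx, haff, h3, h4⟩ := key (pL.base ((RelProj.domQ u pL chartL).ι.base w))
    exact ⟨U, hU, n, hn, a, ha, hx, haff, h3, h4⟩)
  exact ⟨htop, hopen, isDominant_of_injective hPL hP r hr (fun U hU => (hu U hU).1)⟩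

end Groth.Agent.Lib.Helper3.AmpleBridge
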