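import Groth.Agent.Lib.Helper3.PushAlg
import Groth.Agent.Lib.Helper3.ProjBundleVA
import Groth.Agent.Lib.Helper25.HProjective
import Groth.Agent.Lib.Helper29.QCohPullback
import Mathlib.CategoryTheory.Idempotents.Basic
/-!
# Projective morphisms and closed immersions into projective bundles of modules of finite type
-/
set_option autoImplicit false
set_option linter.unusedSectionVars false
universe u
open CategoryTheory CategoryTheory.Limits AlgebraicGeometry Opposite TopologicalSpace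
open RelSpec AlgebraicGeometry.Scheme.AffineZariskiSite
open scoped HomogeneousIdeal
open Groth.Agent.Lib.Helper29

namespace Groth.Agent.Lib.Helper3.ProjCI
open RelProj Groth.Agent.Lib.Helper3 Groth.Agent.Lib.Helper3.SymQC

/-- an injective graded ring homomorphism reflects homogeneity -/
theorem mem_of_map_mem {A B : Type*} [CommRing A] [CommRing B] (𝒜 : ℕ → AddSubgroup A) (ℬ : ℕ → AddSubgroup B)
    [GradedRing 𝒜] [GradedRing ℬ] (ψ : 𝒜 →+*ᵍ ℬ) (hinj : Function.Injective ψ) {a : A} {d : ℕ}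
    (h : ψ a ∈ ℬ d) : a ∈ 𝒜 d := by
  classical
  have key : ∀ n, n ≠ d → ((DirectSum.decompose 𝒜 a n : 𝒜 n) : A) = 0 := by
    intro n hn
    apply hinj
    have h1 := GradedRingHom.map_directSumDecompose (𝒜 := 𝒜) (ℬ := ℬ) ψ (x := a) (i := n)
    rw [DirectSum.decompose_of_mem_ne _ h hn.symm] at h1
    rw [map_zero]
    exact h1
  have hsum : a = ((DirectSum.decompose 𝒜 a d : 𝒜 d) : A) := by
    conv_lhs => rw [← DirectSum.sum_support_decompose 𝒜 a]
    rw [Finset.sum_eq_single d]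
    · intro k _ hk; exact key k hk
    · intro hn
      rw [DFinsupp.notMem_support_iff] at hn
      rw [hn]; rfl
  rw [hsum]
  exact SetLike.coe_mem _

variable {S : Scheme.{u}}

/-- the degree one part of any graded symmetric algebra over an affine open is the image of `j` -/
theorem exists_j_eq_of_mem_deg_one (E : S.Modules) [E.IsQuasicoherent] (𝒯 : QCGrAlg S) (j : E ⟶ 𝒯.toModule)
    (hj : IsGrSymAlg E 𝒯 j) (U : S.Opens) (hU : IsAffineOpen U) (x : 𝒯.presheaf.obj (op U))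
    (hx : x ∈ 𝒯.deg U hU 1) :
    ∃ m : Γ(E, U), (show 𝒯.presheaf.obj (op U) from j.app U m) = x := by
  obtain ⟨e₀, he₀⟩ := exists_iso_of_isSymAlg (isSymAlg (E := E)) hj.1
  have hlift : e₀.hom = liftHom 𝒯.toQCAlg j :=
    ((isSymAlg (E := E)) 𝒯.toQCAlg j).unique he₀ (j_liftHom 𝒯.toQCAlg j)
  have hgr : IsGradedHom (𝒜 := grSymAlg E) (ℬ := 𝒯) e₀.hom := by
    rw [hlift]; exact isGradedHom_liftHom 𝒯 j hj.2
  let ψ := gradedHomAt (𝒜 := grSymAlg E) (ℬ := 𝒯) e₀.hom hgr U hU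
  have hψ1 : ∀ a, (e₀.inv.hom.app (op U)).hom (ψ a) = a := fun a => by
    have := congrArg (fun k : symAlg E ⟶ symAlg E => (k.hom.app (op U)).hom a) e₀.hom_inv_id
    exact this
  have hψ2 : ∀ b, ψ ((e₀.inv.hom.app (op U)).hom b) = b := fun b => by
    have := congrArg (fun k : 𝒯.toQCAlg ⟶ 𝒯.toQCAlg => (k.hom.app (op U)).hom b) e₀.inv_hom_id
    exact this
  have hinj : Function.Injective ψ := Function.LeftInverse.injective hψ1
  have ha : (e₀.inv.hom.app (op U)).hom x ∈ (grSymAlg E).deg U hU 1 := by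
    apply mem_of_map_mem _ _ ψ hinj
    rw [hψ2]; exact hx
  obtain ⟨m, hm⟩ := PushAlg.exists_j_eq_of_mem_deg_one E U hU _ ha
  refine ⟨m, ?_⟩
  have h3 := congrArg (fun k => (show 𝒯.presheaf.obj (op U) from k.app U m)) he₀
  refine h3.symm.trans ?_
  have h4 : ψ ((e₀.inv.hom.app (op U)).hom x) = x := hψ2 x
  rw [← hm] at h4
  exact h4

end Groth.Agent.Lib.Helper3.ProjCI

open CategoryTheory CategoryTheory.Limits AlgebraicGeometry Opposite TopologicalSpace
open RelSpec AlgebraicGeometry.Scheme.AffineZariskiSite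
open scoped HomogeneousIdeal
open Groth.Agent.Lib.Helper29

namespace Groth.Agent.Lib.Helper3.ProjCI
open RelProj Groth.Agent.Lib.Helper3 Groth.Agent.Lib.Helper3.SymQC

variable {S : Scheme.{u}}

/-- the degree one part of the graded symmetric algebra of a module of finite type is of finite type -/
theorem isFTDeg_one_of_isGrSymAlg (E : S.Modules) [E.IsQuasicoherent] [E.IsFiniteType] (𝒯 : QCGrAlg S)
    (j : E ⟶ 𝒯.toModule) (hj : IsGrSymAlg E 𝒯 j) : 𝒯.IsFTDeg 1 := by
  classical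
  intro U hU
  have hfin : Module.Finite Γ(S, U) Γ(E, U) := QCoh.module_finite_of_isFiniteType E hU
  let lin : Γ(E, U) →ₗ[Γ(S, U)] Γ(𝒯.toModule, U) :=
    { toFun := fun m => j.app U m
      map_add' := fun a b => map_add _ a b
      map_smul' := fun c m => Scheme.Modules.Hom.app_smul j c m }
  have hrange : ∀ x : Γ(𝒯.toModule, U),
      (show 𝒯.presheaf.obj (op U) from x) ∈ 𝒯.deg U hU 1 ↔ x ∈ Submodule.map lin ⊤ := by
    intro x
    constructor
    · intro hx
      obtain ⟨m, hm⟩ := exists_j_eq_of_mem_deg_one E 𝒯 j hj U hU x hx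
      exact ⟨m, trivial, hm⟩
    · rintro ⟨m, -, rfl⟩
      exact hj.2 U hU m
  have hfg : (Submodule.map lin ⊤).FG := (Module.Finite.fg_top).map lin
  obtain ⟨T, hTspan⟩ := hfg
  refine ⟨T, ?_, ?_⟩
  · intro (t : Γ(𝒯.toModule, U)) ht
    exact (hrange t).mpr (hTspan ▸ Submodule.subset_span ht)
  · intro (x : Γ(𝒯.toModule, U)) hx
    have hx' : x ∈ Submodule.span Γ(S, U) (T : Set Γ(𝒯.toModule, U)) :=
      hTspan ▸ (hrange x).mp hx
    obtain ⟨c, -, hc⟩ := Submodule.mem_span_finset.mp hx'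
    exact ⟨c, hc.symm⟩

/-- **A closed subscheme of the projective bundle of a quasi-coherent module of finite type is projective.** -/
theorem isProjective_of_closedImmersion_projBundle {X Y P : Scheme.{u}} (f : X ⟶ Y) (E : Y.Modules)
    (𝒯 : QCGrAlg Y) (j : E ⟶ 𝒯.toModule) (p : P ⟶ Y)
    (chart : ∀ (U : Y.Opens) (hU : IsAffineOpen U), ((p ⁻¹ᵁ U : P.Opens) : Scheme.{u}) ≅ Proj (𝒯.deg U hU))
    (i : X ⟶ P) (hE : Coh.IsQCoh E) (hft : CohB1.IsFT E) (hj : IsGrSymAlg E 𝒯 j) (hP : IsRelProj 𝒯 p chart)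
    [IsClosedImmersion i] (hi : i ≫ p = f) : RelProj.IsProjective f := by
  have : E.IsQuasicoherent := hE
  have : E.IsFiniteType := hft
  have h1 : 𝒯.IsGenDegOne := RelGlued.isGenDegOne_of_isGrSymAlg E 𝒯 j hj
  have h2 : 𝒯.IsFTDeg 1 := isFTDeg_one_of_isGrSymAlg E 𝒯 j hj
  have : QuasiCompact p := RelGlued.quasiCompact_of_genDegOne p chart h1 h2
  rw [← hi]
  exact Groth.Agent.Lib.Helper25.PolyRelProj.isProjective_of_isClosedImmersion 𝒯 p chart hP h1 h2 i

end Groth.Agent.Lib.Helper3.ProjCI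

open CategoryTheory CategoryTheory.Limits AlgebraicGeometry Opposite TopologicalSpace
open RelSpec AlgebraicGeometry.Scheme.AffineZariskiSite
open scoped HomogeneousIdeal
open Groth.Agent.Lib.Helper29

namespace Groth.Agent.Lib.Helper3.ProjCI
open RelProj Groth.Agent.Lib.Helper3 Groth.Agent.Lib.Helper3.SymQC

variable {S : Scheme.{u}}

theorem projOne_idem (𝒮 : QCGrAlg S) : projOne 𝒮 ≫ projOne 𝒮 = projOne 𝒮 := by
  refine modulesHom_ext_aff fun U hU m => ?_
  exact projOne_of_mem 𝒮 U hU _ (projOne_mem 𝒮 U hU m)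

/-- the degree one part of a quasi-coherent graded algebra, as a quasi-coherent module (a retract of the algebra) -/
theorem exists_degOne (𝒮 : QCGrAlg S) (hft : 𝒮.IsFTDeg 1) :
    ∃ (E : S.Modules) (ι : E ⟶ 𝒮.toModule) (r : 𝒮.toModule ⟶ E), E.IsQuasicoherent ∧ E.IsFiniteType ∧
      ι ≫ r = 𝟙 E ∧ r ≫ ι = projOne 𝒮 := by
  classical
  obtain ⟨E, ι, r, h1, h2⟩ := IsIdempotentComplete.idempotents_split 𝒮.toModule (projOne 𝒮) (projOne_idem 𝒮)
  have hq : E.IsQuasicoherent := QCoh.isQuasicoherent_of_retract ι r h1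
  refine ⟨E, ι, r, hq, ?_, h1, h2⟩
  refine QCoh.isFiniteType_of_module_finite E (fun V : S.affineOpens => V.1) ?_ (fun V => V.2) ?_
  · exact QCoh.isOpenCover_affineOpens S
  · intro V
    obtain ⟨T, hT1, hT2⟩ := hft V.1 V.2
    refine Module.Finite.of_fg_top ⟨T.image (fun t => r.app V.1 (show Γ(𝒮.toModule, V.1) from t)), ?_⟩
    rw [eq_top_iff]
    intro m _
    have hrm : r.app V.1 (ι.app V.1 m) = m := congrArg (fun k : E ⟶ E => k.app V.1 m) h1
    have hιm : (show 𝒮.presheaf.obj (op V.1) from ι.app V.1 m) ∈ 𝒮.deg V.1 V.2 1 := by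
      have h3 : (projOne 𝒮).app V.1 (ι.app V.1 m) = ι.app V.1 m := by
        rw [← h2]
        change ι.app V.1 (r.app V.1 (ι.app V.1 m)) = _
        rw [hrm]
      have h4 := projOne_mem 𝒮 V.1 V.2 (ι.app V.1 m)
      rw [h3] at h4
      exact h4
    obtain ⟨c, hc⟩ := hT2 _ hιm
    have hc' : ι.app V.1 m = ∑ t ∈ T, c t • (show Γ(𝒮.toModule, V.1) from t) := hc
    rw [← hrm, hc', map_sum]
    refine Submodule.sum_mem _ fun t ht => ?_
    rw [Scheme.Modules.Hom.app_smul]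
    exact Submodule.smul_mem _ _ (Submodule.subset_span (Finset.mem_coe.mpr (Finset.mem_image_of_mem _ ht)))

end Groth.Agent.Lib.Helper3.ProjCI

open CategoryTheory CategoryTheory.Limits AlgebraicGeometry Opposite TopologicalSpace
open RelSpec AlgebraicGeometry.Scheme.AffineZariskiSite
open scoped HomogeneousIdeal
open Groth.Agent.Lib.Helper29

namespace Groth.Agent.Lib.Helper3.ProjCI
open RelProj Groth.Agent.Lib.Helper3 Groth.Agent.Lib.Helper3.SymQC

/-- **A projective morphism factors through a closed immersion into the projective bundle of a quasi-coherent module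
of finite type.** -/
theorem exists_closedImmersion_projBundle {X Y : Scheme.{u}} (f : X ⟶ Y) (hf : RelProj.IsProjective f) :
    ∃ (E : Y.Modules) (𝒯 : RelProj.QCGrAlg Y) (j : E ⟶ 𝒯.toModule) (P : Scheme.{u}) (p : P ⟶ Y)
      (chart : ∀ (U : Y.Opens) (hU : IsAffineOpen U), ((p ⁻¹ᵁ U : P.Opens) : Scheme.{u}) ≅ Proj (𝒯.deg U hU))
      (i : X ⟶ P),
      Coh.IsQCoh E ∧ CohB1.IsFT E ∧ RelProj.IsGrSymAlg E 𝒯 j ∧ RelProj.IsRelProj 𝒯 p chart ∧
        IsClosedImmersion i ∧ i ≫ p = f := by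
  classical
  obtain ⟨𝒮, P, p, chart, e, h𝒮, hft, hP, he⟩ := hf
  obtain ⟨E, ι, r, hq, hfE, h1, h2⟩ := exists_degOne 𝒮 hft
  have hι1 : ∀ (U : Y.Opens) (hU : IsAffineOpen U) (m : Γ(E, U)),
      (show 𝒮.presheaf.obj (op U) from ι.app U m) ∈ 𝒮.deg U hU 1 := by
    intro U hU m
    have hrm : r.app U (ι.app U m) = m := congrArg (fun k : E ⟶ E => k.app U m) h1
    have h3 : (projOne 𝒮).app U (ι.app U m) = ι.app U m := by
      rw [← h2]
      change ι.app U (r.app U (ι.app U m)) = _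
      rw [hrm]
    have h4 := projOne_mem 𝒮 U hU (ι.app U m)
    rw [h3] at h4
    exact h4
  have hψ : IsGradedHom (𝒜 := grSymAlg E) (ℬ := 𝒮) (liftHom 𝒮.toQCAlg ι) :=
    isGradedHom_liftHom 𝒮 ι hι1
  have hju : SymQC.j E ≫ QCAlg.Hom.toModuleMap (liftHom 𝒮.toQCAlg ι) = ι := j_liftHom 𝒮.toQCAlg ι
  have hT := isGrSymAlg E
  have hsurj : ∀ (U : Y.Opens) (hU : IsAffineOpen U) (n : ℕ), 0 < n → ∀ b ∈ 𝒮.deg U hU n,
      ∃ a ∈ (grSymAlg E).deg U hU n,
        gradedHomAt (𝒜 := grSymAlg E) (ℬ := 𝒮) _ hψ U hU a = b := by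
    intro U hU
    refine ProjAux.surjOn_pos_of_genDegOne _ _
      (gradedHomAt (𝒜 := grSymAlg E) (ℬ := 𝒮) _ hψ U hU) (h𝒮 U hU) ?_
    intro b hb
    refine ⟨(SymQC.j E).app U (r.app U (show Γ(𝒮.toModule, U) from b)), hT.2 U hU _, ?_⟩
    have := congrArg (fun k => (show 𝒮.presheaf.obj (op U) from k.app U (r.app U (show Γ(𝒮.toModule, U) from b)))) hju
    refine this.trans ?_
    have h5 : ι.app U (r.app U (show Γ(𝒮.toModule, U) from b)) = (projOne 𝒮).app U b := by
      rw [← h2]; rfl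
    exact h5.trans (projOne_of_mem 𝒮 U hU b hb)
  have hirr : ∀ (U : Y.Opens) (hU : IsAffineOpen U), (𝒮.deg U hU)₊ ≤
      (((grSymAlg E).deg U hU)₊).map
        (gradedHomAt (𝒜 := grSymAlg E) (ℬ := 𝒮) _ hψ U hU) := by
    intro U hU
    rw [HomogeneousIdeal.irrelevant_le]
    intro k hk x hx
    obtain ⟨a, ha, rfl⟩ := hsurj U hU k hk x hx
    apply Ideal.mem_map_of_mem
    exact HomogeneousIdeal.mem_irrelevant_of_mem _ hk ha
  have hPT := RelProjExist.isRelProj (grSymAlg E)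
  have hh := RelProjMap.isRelProjMap_relProjMap (𝒜 := grSymAlg E) (ℬ := 𝒮) _ hψ hirr hPT hP
  have hci : IsClosedImmersion (RelProjMap.relProjMap (𝒜 := grSymAlg E) (ℬ := 𝒮) _ hψ hirr hPT hP) := by
    refine RelProjMap.of_forall_projMap _ hψ hirr hPT hP @IsClosedImmersion hh fun U hU => ?_
    exact ProjAux.isClosedImmersion_map_of_pos _ _ _ (hsurj U hU) (hirr U hU)
  refine ⟨E, grSymAlg E, SymQC.j E, _, _, _,
    e.hom ≫ RelProjMap.relProjMap (𝒜 := grSymAlg E) (ℬ := 𝒮) _ hψ hirr hPT hP,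
    hq, hfE, hT, hPT, inferInstance, ?_⟩
  rw [Category.assoc, RelProjMap.comp_eq_of_isRelProjMap _ hψ hirr hPT hP hh, he]

end Groth.Agent.Lib.Helper3.ProjCI
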