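import Groth.Agent.Lib.Helper3.ProjBundleEpi
import Groth.Agent.Lib.Helper29.Sky
/-!
# The counit `q^* q_* L → L` is an epimorphism for `L = i^* O_P(1)`, `q = i ≫ p`
-/
set_option autoImplicit false
set_option linter.unusedSectionVars false
universe u
open CategoryTheory CategoryTheory.Limits AlgebraicGeometry Opposite TopologicalSpace DirectSum
open AlgebraicGeometry.Scheme.AffineZariskiSite
open scoped HomogeneousIdeal
open Groth.Agent.Lib.Helper29

namespace Groth.Agent.Lib.Helper3.EpiTriv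
open Groth.Agent.Lib.Helper29.QCoh (IsTriv res germ_res germ_smul)

/-- The germ of a trivialising section generates the stalk. -/
theorem span_germ_eq_top_of_isTriv {X : Scheme.{u}} {G : X.Modules} {W : X.Opens} {s : Γ(G, W)}
    (hs : IsTriv G W s) (x : X) (hx : x ∈ W) :
    Submodule.span (X.presheaf.stalk x) {G.presheaf.germ W x hx s} = ⊤ := by
  rw [eq_top_iff]
  rintro t -
  obtain ⟨W', hxW', m, rfl⟩ := G.presheaf.exists_germ_eq t
  have hle : W ⊓ W' ≤ W := inf_le_left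
  have hle' : W ⊓ W' ≤ W' := inf_le_right
  obtain ⟨r, hr⟩ := (hs (W ⊓ W') hle).2 (res G hle' m)
  have hr' : r • res G hle s = res G hle' m := hr
  rw [← germ_res G hle' x ⟨hx, hxW'⟩ m, ← hr', germ_smul, germ_res]
  exact Submodule.smul_mem _ _ (Submodule.subset_span rfl)

end Groth.Agent.Lib.Helper3.EpiTriv

namespace Groth.Agent.Lib.Helper3.RelGlued
open RelProj Groth.Agent.Lib.Helper3
open Groth.Agent.Lib.Helper3.RelTilde (e comap_mem range_e e_mem_R)
open Groth.Agent.Lib.Helper29.QCoh (IsTriv res germ_res)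

variable {Y P : Scheme.{u}} {𝒮 : QCGrAlg Y} (p : P ⟶ Y)
  (chart : ∀ (U : Y.Opens) (hU : IsAffineOpen U), (((p ⁻¹ᵁ U : P.Opens) : Scheme.{u}) ≅ Proj (𝒮.deg U hU)))

/-- For `𝒮` generated in degree one, every point of `P` over an affine `U` has a neighbourhood `W ⊆ p⁻¹U`
and a section of `O_P(1)` over all of `p⁻¹U` trivialising `O_P(1)` on `W`. -/
theorem exists_section_isTriv_res (hgen : 𝒮.IsGenDegOne) {O1 : P.Modules}
    {lam : ∀ (U : Y.Opens) (hU : IsAffineOpen U),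
      O1 ⟶ (Scheme.Modules.pushforward (emb p chart U hU)).obj (GrTwist.twist (𝒮.deg U hU) 1)}
    (hO1 : IsRelTwist 𝒮 p chart 1 O1 lam) (U : Y.Opens) (hU : IsAffineOpen U) (z : P)
    (hz : p.base z ∈ U) :
    ∃ (W : P.Opens) (hW : W ≤ p ⁻¹ᵁ U) (s : Γ(O1, p ⁻¹ᵁ U)), z ∈ W ∧ IsTriv O1 W (res O1 hW s) := by
  let V' : Y.AffineZariskiSite := ⟨U, hU⟩
  obtain ⟨y, hy⟩ := RelTilde.exists_of_mem_R p chart V' z hz
  obtain ⟨t, ht⟩ := ChartInv.exists_deg_one_notMem (𝒮.deg U hU) (hgen U hU) y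
  have hle : stdOpen p chart V' t ≤ p ⁻¹ᵁ U := stdOpen_le p chart V' t
  have hzW : z ∈ stdOpen p chart V' t := by
    rw [← hy]
    exact (mem_stdOpen p chart V' t y).mpr ht
  let one0 : 𝒮.deg U hU 0 := ⟨1, SetLike.GradedOne.one_mem⟩
  let g0 : Γ(GrTwist.twist (𝒮.deg U hU) 1, emb p chart U hU ⁻¹ᵁ (p ⁻¹ᵁ U)) :=
    TwistTriv.mkSec (𝒮.deg U hU) 1 _ t one0 (fun x => TildeQC.one_not_mem x.1) (by simp)
  obtain ⟨s, hs⟩ := (hO1.bijective U hU (p ⁻¹ᵁ U) le_rfl).2 g0
  refine ⟨stdOpen p chart V' t, hle, s, hzW, ?_⟩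
  obtain ⟨s', hs', hlam⟩ := exists_triv_section p chart 1 hO1 V' t 1 0 (by norm_num)
  have heq : res O1 hle s = s' := by
    apply (hO1.bijective U hU _ hle).1
    refine (QCoh.app_res (lam U hU) hle s).trans (Eq.trans ?_ hlam.symm)
    rw [hs]
    apply TwistTriv.tfun_ext
    intro w
    refine Eq.trans (b := (Localization.mk (t : 𝒮.presheaf.obj (op U))
      ⟨(1 : 𝒮.presheaf.obj (op U)), TildeQC.one_not_mem w.1⟩ : GrTwist.Loc (𝒮.deg U hU) w.1)) rfl ?_
    rw [TwistTriv.tfun_eSec, Localization.mk_eq_mk_iff, Localization.r_iff_exists]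
    refine ⟨1, ?_⟩
    simp only [OneMemClass.coe_one, one_mul, pow_one, pow_zero]
  rw [heq]
  exact hs'

/-- `q^* q_* (i^* O_P(1)) → i^* O_P(1)` is an epimorphism for `q = i ≫ p`. -/
theorem epi_counit_pullback_relTwist_one (hgen : 𝒮.IsGenDegOne) {O1 : P.Modules}
    {lam : ∀ (U : Y.Opens) (hU : IsAffineOpen U),
      O1 ⟶ (Scheme.Modules.pushforward (emb p chart U hU)).obj (GrTwist.twist (𝒮.deg U hU) 1)}
    (hO1 : IsRelTwist 𝒮 p chart 1 O1 lam) {X : Scheme.{u}} (i : X ⟶ P) :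
    Epi ((Scheme.Modules.pullbackPushforwardAdjunction (i ≫ p)).counit.app
      ((Scheme.Modules.pullback i).obj O1)) := by
  apply QCoh.epi_counit_of_span
  intro x
  obtain ⟨U, hU, hxU, -⟩ := exists_isAffineOpen_mem_and_subset (x := p.base (i.base x)) (U := ⊤) trivial
  obtain ⟨W, hW, s, hzW, hT⟩ := exists_section_isTriv_res p chart hgen hO1 U hU (i.base x) hxU
  refine ⟨U, hxU, ?_⟩
  have hT' := QCoh.IsTriv.pullSect i hT
  rw [QCoh.pullSect_res] at hT'
  rw [eq_top_iff, ← EpiTriv.span_germ_eq_top_of_isTriv hT' x hzW, Submodule.span_le]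
  rintro _ rfl
  refine Submodule.subset_span ⟨QCoh.pullSect i O1 (p ⁻¹ᵁ U) s, ?_⟩
  exact (germ_res _ (i.preimage_mono hW) x hzW _).symm

end Groth.Agent.Lib.Helper3.RelGlued
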