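import Groth.Agent.Lib.Helper3.CanMap
import Groth.Agent.Lib.Helper3.VACounit
import Groth.Agent.Lib.Helper3.RelTwistPull
/-!
# The adjunct `p^*L ⟶ O_P(1)` of the canonical map is an isomorphism for invertible `L` (`𝒮 = Sym L`)
-/
set_option autoImplicit false
set_option linter.unusedSectionVars false
universe u
open CategoryTheory CategoryTheory.Limits AlgebraicGeometry Opposite TopologicalSpace DirectSum
open AlgebraicGeometry.Scheme.AffineZariskiSite
open scoped HomogeneousIdeal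
open Groth.Agent.Lib.Helper29

namespace Groth.Agent.Lib.Helper3.RelGlued
open RelProj Groth.Agent.Lib.Helper3
open Groth.Agent.Lib.Helper3.RelTilde (e comap_mem range_e e_mem_R)
open Groth.Agent.Lib.Helper29.QCoh (res IsTriv)

variable {Y P : Scheme.{u}} {𝒮 : QCGrAlg Y} (p : P ⟶ Y)
  (chart : ∀ (U : Y.Opens) (hU : IsAffineOpen U), (((p ⁻¹ᵁ U : P.Opens) : Scheme.{u}) ≅ Proj (𝒮.deg U hU)))
  {O1 : P.Modules}
  {lam : ∀ (U : Y.Opens) (hU : IsAffineOpen U),
      O1 ⟶ (Scheme.Modules.pushforward (emb p chart U hU)).obj (GrTwist.twist (𝒮.deg U hU) 1)}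
  (hO1 : IsRelTwist 𝒮 p chart 1 O1 lam)

/-- `α(t)` trivialises `O_P(1)` over the standard open `D_+(t)`. -/
theorem isTriv_res_alpha (U : Y.Opens) (hU : IsAffineOpen U) (t : 𝒮.deg U hU 1) :
    IsTriv O1 (stdOpen p chart ⟨U, hU⟩ t)
      (res O1 (stdOpen_le p chart ⟨U, hU⟩ t) (alpha p chart hO1 U hU t)) := by
  let V' : Y.AffineZariskiSite := ⟨U, hU⟩
  have hle : stdOpen p chart V' t ≤ p ⁻¹ᵁ U := stdOpen_le p chart V' t
  obtain ⟨s', hs', hlam⟩ := exists_triv_section p chart 1 hO1 V' t 1 0 (by norm_num)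
  have heq : res O1 hle (alpha p chart hO1 U hU t) = s' := by
    apply (hO1.bijective U hU _ hle).1
    refine (QCoh.app_res (lam U hU) hle _).trans (Eq.trans ?_ hlam.symm)
    rw [lam_alpha]
    apply TwistTriv.tfun_ext
    intro w
    refine Eq.trans (b := (Localization.mk (t : 𝒮.presheaf.obj (op U))
      ⟨(1 : 𝒮.presheaf.obj (op U)), TildeQC.one_not_mem w.1⟩ : GrTwist.Loc (𝒮.deg U hU) w.1)) rfl ?_
    rw [TwistTriv.tfun_eSec, Localization.mk_eq_mk_iff, Localization.r_iff_exists]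
    refine ⟨1, ?_⟩
    simp only [OneMemClass.coe_one, one_mul, pow_one, pow_zero]
  rw [heq]
  exact hs'

/-- if `D_+(t)` is everything, `α(t)` trivialises `O_P(1)` over `p⁻¹U` -/
theorem isTriv_alpha_of_forall_notMem (U : Y.Opens) (hU : IsAffineOpen U) (t : 𝒮.deg U hU 1)
    (ht : ∀ y : ProjectiveSpectrum (𝒮.deg U hU), t.1 ∉ y.asHomogeneousIdeal) :
    IsTriv O1 (p ⁻¹ᵁ U) (alpha p chart hO1 U hU t) := by
  refine QCoh.IsTriv.of_eq_of_res (stdOpen_le p chart ⟨U, hU⟩ t) ?_ (isTriv_res_alpha p chart hO1 U hU t)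
  intro w hw
  obtain ⟨y, hy⟩ := RelTilde.exists_of_mem_R p chart ⟨U, hU⟩ w hw
  rw [← hy]
  exact (mem_stdOpen p chart ⟨U, hU⟩ t y).mpr (ht y)

end Groth.Agent.Lib.Helper3.RelGlued

open CategoryTheory CategoryTheory.Limits AlgebraicGeometry Opposite TopologicalSpace DirectSum
open AlgebraicGeometry.Scheme.AffineZariskiSite
open scoped HomogeneousIdeal
open Groth.Agent.Lib.Helper29

namespace Groth.Agent.Lib.Helper3.RelGlued
open RelProj Groth.Agent.Lib.Helper3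
open Groth.Agent.Lib.Helper3.RelTilde (e comap_mem range_e e_mem_R)
open Groth.Agent.Lib.Helper29.QCoh (res IsTriv)

variable {Y P : Scheme.{u}} {𝒮 : QCGrAlg Y} (p : P ⟶ Y)
  (chart : ∀ (U : Y.Opens) (hU : IsAffineOpen U), (((p ⁻¹ᵁ U : P.Opens) : Scheme.{u}) ≅ Proj (𝒮.deg U hU)))
  {O1 : P.Modules}
  {lam : ∀ (U : Y.Opens) (hU : IsAffineOpen U),
      O1 ⟶ (Scheme.Modules.pushforward (emb p chart U hU)).obj (GrTwist.twist (𝒮.deg U hU) 1)}
  (hO1 : IsRelTwist 𝒮 p chart 1 O1 lam) (hP : IsRelProj 𝒮 p chart)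

/-- For the graded symmetric algebra of a module `L`, the image of a trivialising section of `L` over an
affine `U` vanishes nowhere on `Proj 𝒮(U)`. -/
theorem j_notMem_of_isTriv (L : Y.Modules) [L.IsQuasicoherent] (j : L ⟶ 𝒮.toModule)
    (hj : IsGrSymAlg L 𝒮 j) (U : Y.Opens) (hU : IsAffineOpen U) (e₀ : Γ(L, U)) (he₀ : IsTriv L U e₀)
    (y : ProjectiveSpectrum (𝒮.deg U hU)) :
    (show 𝒮.presheaf.obj (op U) from (j.app U) e₀) ∉ y.asHomogeneousIdeal := by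
  intro hmem
  obtain ⟨f, ⟨m, rfl⟩, hf⟩ := ChartInv.exists_notMem_of_closure (𝒮.deg U hU) _
    (by rintro _ ⟨m, rfl⟩; exact hj.2 U hU m) (closure_range_of_isGrSymAlg L 𝒮 j hj U hU) y
  apply hf
  obtain ⟨r, hr⟩ := he₀.bijective.2 m
  have hr' : r • e₀ = m := hr
  rw [← hr']
  change (show 𝒮.presheaf.obj (op U) from (j.app U) (r • e₀)) ∈ y.asHomogeneousIdeal
  rw [Scheme.Modules.Hom.app_smul]
  exact Ideal.mul_mem_left _ _ hmem

/-- **For an invertible module `L`, the canonical map `p^*L → O_{P(L)}(1)` is an isomorphism.** -/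
theorem isIso_adjunct_canMap (L : Y.Modules) [L.IsQuasicoherent] (hL : PicF.IsInvertible L)
    (j : L ⟶ 𝒮.toModule) (hj : IsGrSymAlg L 𝒮 j) :
    IsIso (((Scheme.Modules.pullbackPushforwardAdjunction p).homEquiv L O1).symm
      (canMap p chart hO1 hP j hj.2)) := by
  apply ModGlue.isIso_of_bijective_on_basis _
    (fun W' => ∃ (U : Y.Opens) (_ : IsAffineOpen U) (e₀ : Γ(L, U)), IsTriv L U e₀ ∧ W' ≤ p ⁻¹ᵁ U)
  · rintro W W' hle ⟨U, hU, e₀, he₀, hW⟩
    exact ⟨U, hU, e₀, he₀, hle.trans hW⟩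
  · intro w
    obtain ⟨U, e₀, hU, hwU, -, he₀⟩ := QCoh.exists_affine_isTriv hL (W := ⊤) (p.base w) trivial
    exact ⟨p ⁻¹ᵁ U, ⟨U, hU, e₀, he₀, le_rfl⟩, hwU⟩
  · rintro W ⟨U, hU, e₀, he₀, hW⟩
    refine PullTriv.app_bijective_of_isTriv _ (W := p ⁻¹ᵁ U) (e := QCoh.pullSect p L U e₀)
      (QCoh.IsTriv.pullSect p he₀) ?_ W hW
    rw [PullTriv.adjunct_pullSect]
    have h1 := canMap_app p chart hO1 hP j hj.2 U hU e₀
    change IsTriv O1 (p ⁻¹ᵁ U)
      (show Γ(O1, p ⁻¹ᵁ U) from (canMap p chart hO1 hP j hj.2).app U e₀)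
    rw [h1]
    exact isTriv_alpha_of_forall_notMem p chart hO1 U hU _
      (j_notMem_of_isTriv L j hj U hU e₀ he₀)

end Groth.Agent.Lib.Helper3.RelGlued
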