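import Mathlib.RingTheory.GradedAlgebra.Basic
import Mathlib.Algebra.DirectSum.Decomposition
/-!
# Transport of a ring grading along a ring isomorphism
-/
set_option autoImplicit false
universe u
open scoped DirectSum

namespace Groth.Agent.Lib.Helper3.GrTransport

variable {A B σ : Type u} [CommRing A] [CommRing B] (e : A ≃+* B)
  [SetLike σ A] [AddSubgroupClass σ A] (𝒜 : ℕ → σ)

/-- the image grading under a ring isomorphism -/
def mapDeg (n : ℕ) : AddSubgroup B :=
  AddSubgroup.map e.toAddMonoidHom (AddSubgroup.ofClass (𝒜 n))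

theorem mem_mapDeg_iff (n : ℕ) (b : B) : b ∈ mapDeg e 𝒜 n ↔ e.symm b ∈ 𝒜 n := by
  constructor
  · rintro ⟨a, ha, rfl⟩
    change e.symm (e a) ∈ 𝒜 n
    rw [e.symm_apply_apply]; exact ha
  · intro h
    exact ⟨e.symm b, h, e.apply_symm_apply b⟩

theorem map_mem_mapDeg {n : ℕ} {a : A} (ha : a ∈ 𝒜 n) : e a ∈ mapDeg e 𝒜 n :=
  ⟨a, ha, rfl⟩

variable [GradedRing 𝒜]

instance : SetLike.GradedMonoid (mapDeg e 𝒜) where
  one_mem := by
    rw [mem_mapDeg_iff, map_one]; exact SetLike.GradedOne.one_mem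
  mul_mem := by
    intro i j x y hx hy
    rw [mem_mapDeg_iff] at hx hy ⊢
    rw [map_mul]
    exact SetLike.mul_mem_graded hx hy

/-- the restriction of `e` to graded pieces -/
def restr (i : ℕ) : ↥(𝒜 i) →+ ↥(mapDeg e 𝒜 i) where
  toFun a := ⟨e a.1, map_mem_mapDeg e 𝒜 a.2⟩
  map_zero' := Subtype.ext (map_zero e)
  map_add' a b := Subtype.ext (map_add e a.1 b.1)

theorem coe_map_restr (x : ⨁ i, ↥(𝒜 i)) :
    DirectSum.coeAddMonoidHom (mapDeg e 𝒜) (DirectSum.map (restr e 𝒜) x) =
      e (DirectSum.coeAddMonoidHom 𝒜 x) := by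
  classical
  induction x using DirectSum.induction_on with
  | zero => simp
  | of i a =>
    rw [DirectSum.map_of, DirectSum.coeAddMonoidHom_of, DirectSum.coeAddMonoidHom_of]
    rfl
  | add x y hx hy => rw [map_add, map_add, hx, hy, map_add, map_add]

noncomputable instance : DirectSum.Decomposition (mapDeg e 𝒜) := by
  classical
  exact DirectSum.Decomposition.ofAddHom (mapDeg e 𝒜)
    ((DirectSum.map (restr e 𝒜)).comp
      ((DirectSum.decomposeAddEquiv 𝒜).toAddMonoidHom.comp e.symm.toAddEquiv.toAddMonoidHom))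
    (by
      ext b
      change DirectSum.coeAddMonoidHom (mapDeg e 𝒜)
        (DirectSum.map (restr e 𝒜) (DirectSum.decompose 𝒜 (e.symm b))) = b
      rw [coe_map_restr]
      have : DirectSum.coeAddMonoidHom 𝒜 (DirectSum.decompose 𝒜 (e.symm b)) = e.symm b :=
        DirectSum.Decomposition.left_inv _
      rw [this, e.apply_symm_apply])
    (by
      apply DirectSum.addHom_ext
      rintro i ⟨b, hb⟩
      change DirectSum.map (restr e 𝒜) (DirectSum.decompose 𝒜 (e.symm
        (DirectSum.coeAddMonoidHom (mapDeg e 𝒜) (DirectSum.of _ i ⟨b, hb⟩)))) = DirectSum.of _ i ⟨b, hb⟩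
      rw [DirectSum.coeAddMonoidHom_of]
      have hb' : e.symm b ∈ 𝒜 i := (mem_mapDeg_iff e 𝒜 i b).mp hb
      rw [DirectSum.decompose_of_mem 𝒜 hb', DirectSum.map_of]
      congr 1
      exact Subtype.ext (e.apply_symm_apply b))

noncomputable instance gradedRing : GradedRing (mapDeg e 𝒜) where

end Groth.Agent.Lib.Helper3.GrTransport
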