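import Groth.Agent.Lib.Helper3.SymGrading
import Groth.Agent.Lib.Helper3.GrTransport
import Groth.Agent.Lib.Helper3.SymQCAlg2
import Groth.Agent.Lib.Helper3.ModGlue
import Groth.Prelude.Def_RelProj2
/-!
# The graded symmetric algebra of a quasi-coherent module as a quasi-coherent graded algebra (`grSymAlg`, `isGrSymAlg`)
-/
set_option autoImplicit false
set_option linter.unusedSectionVars false
universe u
open CategoryTheory CategoryTheory.Limits AlgebraicGeometry Opposite TopologicalSpace
open RelSpec AlgebraicGeometry.Scheme.AffineZariskiSite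
open Groth.Agent.Lib.Helper29.QCoh Groth.Agent.Lib.Helper3.SymAlg

namespace Groth.Agent.Lib.Helper3.SymGr

section Alg
variable {R M R' M' : Type u} [CommRing R] [AddCommGroup M] [Module R M]
  [CommRing R'] [AddCommGroup M'] [Module R' M']

theorem ι_mem_symDeg (m : M) : SymmetricAlgebra.ι R M m ∈ symDeg R M 1 := by
  rw [symDeg, pow_one]; exact LinearMap.mem_range_self _ m

theorem algebraMap_mem_symDeg (r : R) : algebraMap R (SymmetricAlgebra R M) r ∈ symDeg R M 0 :=
  SetLike.algebraMap_mem_graded (symDeg R M) r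

/-- semilinear functoriality preserves degrees -/
theorem symMap_mem (ρ : R →+* R') (f : M →+ M') (hf : ∀ r m, f (r • m) = ρ r • f m) {n : ℕ}
    {x : SymmetricAlgebra R M} (hx : x ∈ symDeg R M n) : symMap ρ f hf x ∈ symDeg R' M' n := by
  unfold symDeg at hx
  induction hx using Submodule.pow_induction_on_left' with
  | algebraMap r =>
    rw [symMap_algebraMap]; exact algebraMap_mem_symDeg _
  | add x y i hx hy ihx ihy =>
    rw [map_add]; exact add_mem ihx ihy
  | mem_mul m hm i x hx ih =>
    obtain ⟨m, rfl⟩ := hm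
    rw [map_mul, symMap_ι]
    have := SetLike.mul_mem_graded (ι_mem_symDeg (R := R') (f m)) ih
    rwa [add_comm] at this

end Alg

end Groth.Agent.Lib.Helper3.SymGr

namespace Groth.Agent.Lib.Helper3.SymQC
open Groth.Agent.Lib.Helper3.SymGr Groth.Agent.Lib.Helper3.GrTransport Groth.Agent.Lib.Helper3

variable {S : Scheme.{u}} (E : S.Modules) [E.IsQuasicoherent]

/-- sections of `symAlg E` over an affine open, as a ring isomorphism -/
noncomputable def γe (U : S.Opens) (hU : IsAffineOpen U) :
    SymmetricAlgebra Γ(S, U) Γ(E, U) ≃+* (symAlg E).presheaf.obj (op U) :=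
  RingEquiv.ofRingHom (γi E U hU) (γh E U hU) (RingHom.ext (γi_γh E U hU)) (RingHom.ext (γh_γi E U hU))

/-- the grading of `symAlg E` over an affine open -/
noncomputable def sdeg (U : S.Opens) (hU : IsAffineOpen U) (n : ℕ) :
    AddSubgroup ((symAlg E).presheaf.obj (op U)) :=
  mapDeg (γe E U hU) (symDeg Γ(S, U) Γ(E, U)) n

noncomputable instance (U : S.Opens) (hU : IsAffineOpen U) : GradedRing (sdeg E U hU) :=
  GrTransport.gradedRing (γe E U hU) (symDeg Γ(S, U) Γ(E, U))

theorem mem_sdeg_iff (U : S.Opens) (hU : IsAffineOpen U) (n : ℕ) (x : (symAlg E).presheaf.obj (op U)) :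
    x ∈ sdeg E U hU n ↔ γh E U hU x ∈ symDeg Γ(S, U) Γ(E, U) n :=
  mem_mapDeg_iff (γe E U hU) _ n x

theorem resB_mem_basic {U : S.Opens} (hU : IsAffineOpen U) (f : Γ(S, U)) {n : ℕ}
    {x : (symAlg E).presheaf.obj (op U)} (hx : x ∈ sdeg E U hU n) :
    resB (symAlg E) (S.basicOpen_le f) x ∈ sdeg E (S.basicOpen f) (hU.basicOpen f) n := by
  rw [mem_sdeg_iff] at hx ⊢
  rw [γh_res E hU]
  exact symMap_mem _ _ _ hx

theorem resB_mem_basic' {U : S.Opens} (hU : IsAffineOpen U) (f : Γ(S, U)) {W : S.Opens}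
    (hW : IsAffineOpen W) (hWf : W = S.basicOpen f) (h : W ≤ U) {n : ℕ}
    {x : (symAlg E).presheaf.obj (op U)} (hx : x ∈ sdeg E U hU n) :
    resB (symAlg E) h x ∈ sdeg E W hW n := by
  subst hWf
  exact resB_mem_basic E hU f hx

/-- restriction to a basic open as a graded ring homomorphism -/
noncomputable def resG {U : S.Opens} (hU : IsAffineOpen U) (f : Γ(S, U)) {W : S.Opens}
    (hW : IsAffineOpen W) (hWf : W = S.basicOpen f) (h : W ≤ U) :
    sdeg E U hU →+*ᵍ sdeg E W hW :=
  { resB (symAlg E) h with map_mem := fun hx => resB_mem_basic' E hU f hW hWf h hx }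

theorem resB_mem {U V : S.Opens} (hU : IsAffineOpen U) (hV : IsAffineOpen V) (i : V ≤ U) {n : ℕ}
    {x : (symAlg E).presheaf.obj (op U)} (hx : x ∈ sdeg E U hU n) :
    resB (symAlg E) i x ∈ sdeg E V hV n := by
  classical
  set y := resB (symAlg E) i x with hy
  have key : ∀ k : ℕ, k ≠ n → ((DirectSum.decompose (sdeg E V hV) y k : sdeg E V hV k) :
      (symAlg E).presheaf.obj (op V)) = 0 := by
    intro k hk
    have hloc : ∀ v : V, ∃ (W : S.Opens) (hWV : W ≤ V), (v : S) ∈ W ∧
        resB (symAlg E) hWV ((DirectSum.decompose (sdeg E V hV) y k : sdeg E V hV k) :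
          (symAlg E).presheaf.obj (op V)) = 0 := by
      rintro ⟨v, hv⟩
      obtain ⟨f, g, hfg, hvf⟩ := exists_basicOpen_le_affine_inter hU hV v ⟨i hv, hv⟩
      have hWV : S.basicOpen f ≤ V := hfg ▸ S.basicOpen_le g
      have hWaff : IsAffineOpen (S.basicOpen f) := hU.basicOpen f
      refine ⟨S.basicOpen f, hWV, hvf, ?_⟩
      have h1 := GradedRingHom.map_directSumDecompose (𝒜 := sdeg E V hV)
        (ℬ := sdeg E (S.basicOpen f) hWaff) (resG E hV g hWaff hfg hWV) (x := y) (i := k)
      have h2 : resG E hV g hWaff hfg hWV y ∈ sdeg E (S.basicOpen f) hWaff n := by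
        change resB (symAlg E) hWV (resB (symAlg E) i x) ∈ _
        rw [resB_resB]
        exact resB_mem_basic' E hU f hWaff rfl _ hx
      rw [DirectSum.decompose_of_mem_ne _ h2 hk.symm] at h1
      exact h1
    choose W hWV hvW hzero using hloc
    exact ModGlue.ext_of_cover (symAlg E).toModule W V hWV
      (fun v hv => Opens.mem_iSup.mpr ⟨⟨v, hv⟩, hvW ⟨v, hv⟩⟩) _ 0
      (fun v => (hzero v).trans (map_zero (resB (symAlg E) (hWV v))).symm)
  have hsum : y = ((DirectSum.decompose (sdeg E V hV) y n : sdeg E V hV n) :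
      (symAlg E).presheaf.obj (op V)) := by
    conv_lhs => rw [← DirectSum.sum_support_decompose (sdeg E V hV) y]
    rw [Finset.sum_eq_single n]
    · intro k _ hk; exact key k hk
    · intro hn
      rw [DFinsupp.notMem_support_iff] at hn
      rw [hn]; rfl
  rw [hsum]
  exact SetLike.coe_mem _

/-- **The graded symmetric algebra of a quasi-coherent module.** -/
noncomputable def grSymAlg : RelProj.QCGrAlg S where
  toQCAlg := symAlg E
  deg := sdeg E
  graded U hU := inferInstance
  map_mem := fun {_ _} hU hV i {_ _} hx => resB_mem E hU hV i hx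
  str_mem U hU r := by
    rw [mem_sdeg_iff]
    have := γh_str E U hU r
    rw [show (((symAlg E).str.app (op U)).hom r) = strB (symAlg E) U r from rfl, this]
    exact algebraMap_mem_symDeg r

theorem isGrSymAlg : RelProj.IsGrSymAlg E (grSymAlg E) (j E) := by
  refine ⟨isSymAlg, fun U hU m => ?_⟩
  change (show (symAlg E).presheaf.obj (op U) from (j E).app U m) ∈ sdeg E U hU 1
  rw [j_app E U hU, mem_sdeg_iff, γh_γi]
  exact ι_mem_symDeg m

end Groth.Agent.Lib.Helper3.SymQC
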