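import Groth.Agent.Lib.Helper3.SymAlgBC
import Groth.Agent.Lib.Helper3.SymQCAlg2
import Groth.Agent.Lib.Helper3.QCAlgSub
import Groth.Agent.Helper19.PullUnit
import Groth.Prelude.Def_RelProj4
/-!
# The symmetric algebra of a quasi-coherent module commutes with inverse images (`IsQBaseChange`)
-/
set_option autoImplicit false
set_option linter.unusedSectionVars false
universe u
open CategoryTheory CategoryTheory.Limits AlgebraicGeometry Opposite TopologicalSpace
open scoped TensorProduct
open RelSpec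
open Groth.Agent.Lib.Helper29.QCoh (res pullSect)

namespace Groth.Agent.Lib.Helper3.SymBC

variable {S S' : Scheme.{u}} (g : S' ⟶ S) (E : S.Modules) [E.IsQuasicoherent]

set_option maxRecDepth 8000 in
/-- **The symmetric algebra commutes with inverse images**: the comparison `g`-morphism
`Sym(E) → Sym(g^*E)` is a base change. -/
theorem isQBaseChange_of_isSymAlg
    (A : QCAlg S) (j : E ⟶ A.toModule) (hA : IsSymAlg E A j)
    (B : QCAlg S') (j' : (Scheme.Modules.pullback g).obj E ⟶ B.toModule)
    (hB : IsSymAlg ((Scheme.Modules.pullback g).obj E) B j')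
    (u : QHom g A B)
    (hu : ∀ (U : S.Opens) (x : Γ(E, U)),
      (u.app U).hom ((j.app U) x) =
        (j'.app (g ⁻¹ᵁ U)) (((Scheme.Modules.pullbackPushforwardAdjunction g).unit.app E).app U x)) :
    IsQBaseChange u := by
  intro U hU U' hU' hle
  obtain ⟨εA, hA1, hA2⟩ := SymQC.exists_ringEquiv_of_isSymAlg hA U hU
  obtain ⟨εB, hB1, hB2⟩ := SymQC.exists_ringEquiv_of_isSymAlg hB U' hU'
  letI : Algebra Γ(S, U) Γ(S', U') := (g.appLE U U' hle).hom.toAlgebra
  let ρ : Γ(S, U) →+* Γ(S', U') := (g.appLE U U' hle).hom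
  let f : Γ(E, U) →+ Γ((Scheme.Modules.pullback g).obj E, U') :=
    (res ((Scheme.Modules.pullback g).obj E) hle).comp (pullSect g E U)
  have hf : ∀ (r : Γ(S, U)) (m : Γ(E, U)), f (r • m) = ρ r • f m := by
    intro r m
    change res _ hle (pullSect g E U (r • m)) = _
    rw [Groth.Agent.Lib.Helper29.QCoh.pullSect_smul, Groth.Agent.Lib.Helper29.QCoh.res_smul]
    rfl
  let τ : Γ((Scheme.Modules.pullback g).obj E, U') ≃ₗ[Γ(S', U')] Γ(S', U') ⊗[Γ(S, U)] Γ(E, U) :=
    Groth.Agent.Lib.Helper29.QCoh.pullbackSectionsEquiv g E hU' hU hle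
  have hτ : ∀ m, τ (f m) = (1 : Γ(S', U')) ⊗ₜ[Γ(S, U)] m := by
    intro m
    exact Groth.Agent.Helper19.PullUnit.pullbackSectionsEquiv_pullSect g E hU' hU hle m
  have key := SymAlg.isPushout_sym_baseChange ρ f hf τ hτ
  refine key.of_iso (e₁ := Iso.refl _) (e₂ := Iso.refl _) (e₃ := εA.toCommRingCatIso)
    (e₄ := εB.toCommRingCatIso) ?_ ?_ ?_ ?_
  · rfl
  · ext r
    exact hA1 r
  · ext r
    exact hB1 r
  · ext x
    have : (εB : _ →+* _).comp (SymAlg.symMap ρ f hf) =
        ((u.appLE U U' hle).hom).comp (εA : _ →+* _) := by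
      refine SymAlg.ringHom_ext (fun r => ?_) (fun m => ?_)
      · simp only [RingHom.comp_apply, RingEquiv.coe_toRingHom]
        rw [SymAlg.symMap_algebraMap, hA1, hB1]
        exact (congrArg (fun k => k.hom r) (u.str_appLE U U' hle)).symm
      · simp only [RingHom.comp_apply, RingEquiv.coe_toRingHom]
        rw [SymAlg.symMap_ι, hA2, hB2]
        change _ = (B.presheaf.map (homOfLE hle).op).hom ((u.app U).hom (j.app U m))
        rw [hu U m]
        exact Groth.Agent.Lib.Helper29.QCoh.app_res j' hle (pullSect g E U m)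
    exact congrArg (fun k => k x) this

end Groth.Agent.Lib.Helper3.SymBC
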