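import Groth.Agent.Lib.Helper3.RelTwistQ
import Groth.Agent.Lib.Helper3.RelTwistPull
import Groth.Agent.Lib.Helper3.ProjBundleBC
import Groth.Agent.Lib.Helper3.RelProjBC
import Groth.Agent.Lib.Helper3.RelTwistAmpleP
import Groth.Agent.Lib.Helper3.GrSymAlg
import Groth.Agent.Lib.Helper3.RelProjExist
/-!
# `h^* O_P(n) ≅ O_{P'}(n)` for `h = Proj(u)` over a change of base (`𝒮` generated in degree one)
-/
set_option autoImplicit false
set_option linter.unusedSectionVars false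
universe u
open CategoryTheory CategoryTheory.Limits AlgebraicGeometry Opposite TopologicalSpace
open AlgebraicGeometry.Scheme.AffineZariskiSite
open scoped HomogeneousIdeal
open Groth.Agent.Lib.Helper29 Groth.Agent.Lib.Helper29.QCoh

namespace Groth.Agent.Lib.Helper3.RelTwistQ
open RelProj Groth.Agent.Lib.Helper3 Groth.Agent.Lib.Helper3.RelTilde Groth.Agent.Lib.Helper3.RelTwist
open Groth.Agent.Lib.Helper3.RelGlued Groth.Agent.Lib.Helper3.PullTriv

variable {S S' : Scheme.{u}} {g : S' ⟶ S} {𝒮 : QCGrAlg S} {𝒮' : QCGrAlg S'} (u : QGrHom g 𝒮 𝒮')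
  (hirr : ∀ (U : S.Opens) (hU : IsAffineOpen U) (U' : S'.Opens) (hU' : IsAffineOpen U')
    (hle : U' ≤ g ⁻¹ᵁ U), (𝒮'.deg U' hU')₊ ≤ ((𝒮.deg U hU)₊).map (u.gradedAt U hU U' hU' hle))
  {P P' : Scheme.{u}} {p : P ⟶ S} {p' : P' ⟶ S'}
  {chart : ∀ (U : S.Opens) (hU : IsAffineOpen U), (((p ⁻¹ᵁ U : P.Opens) : Scheme.{u}) ≅ Proj (𝒮.deg U hU))}
  {chart' : ∀ (U' : S'.Opens) (hU' : IsAffineOpen U'), (((p' ⁻¹ᵁ U' : P'.Opens) : Scheme.{u}) ≅ Proj (𝒮'.deg U' hU'))}
  (hP : IsRelProj 𝒮 p chart) (hP' : IsRelProj 𝒮' p' chart')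
  (h : P' ⟶ P)
  (hh : ∀ (U : S.Opens) (hU : IsAffineOpen U) (U' : S'.Opens) (hU' : IsAffineOpen U')
    (hle : U' ≤ g ⁻¹ᵁ U), emb p' chart' U' hU' ≫ h =
      Proj.map (u.gradedAt U hU U' hU' hle) (hirr U hU U' hU' hle) ≫ emb p chart U hU)
  (n : ℤ)
  {LA : P.Modules}
  {lamA : ∀ (U : S.Opens) (hU : IsAffineOpen U),
      LA ⟶ (Scheme.Modules.pushforward (emb p chart U hU)).obj (GrTwist.twist (𝒮.deg U hU) n)}
  (hLA : IsRelTwist 𝒮 p chart n LA lamA)
  {LB : P'.Modules}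
  {lamB : ∀ (U' : S'.Opens) (hU' : IsAffineOpen U'),
      LB ⟶ (Scheme.Modules.pushforward (emb p' chart' U' hU')).obj (GrTwist.twist (𝒮'.deg U' hU') n)}
  (hLB : IsRelTwist 𝒮' p' chart' n LB lamB)

/-- the image of a homogeneous element -/
noncomputable def ug {d : ℕ} (c : Pair g) (a : 𝒮.deg c.U.1 c.U.2 d) : 𝒮'.deg c.U'.1 c.U'.2 d :=
  ⟨uc u c a.1, (uc u c).map_mem a.2⟩

/-- The adjoint `h^* O_P(n) ⟶ O_{P'}(n)` of the comparison map over a change of base is an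
isomorphism when `𝒮` is generated in degree one. -/
theorem isIso_adjunct_θ (hgen : 𝒮.IsGenDegOne) :
    IsIso (((Scheme.Modules.pullbackPushforwardAdjunction h).homEquiv LA LB).symm
      (θ u hirr hP hP' h hh n hLA hLB)) := by
  have hE : n = ((n.toNat : ℤ) - (-n).toNat) * (1 : ℕ) := by
    rw [Int.toNat_sub_toNat_neg]; simp
  apply ModGlue.isIso_of_bijective_on_basis _
    (fun W' => ∃ (W : P'.Opens) (e : Γ((Scheme.Modules.pullback h).obj LA, W)), W' ≤ W ∧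
      IsTriv ((Scheme.Modules.pullback h).obj LA) W e ∧
      IsTriv LB W ((((Scheme.Modules.pullbackPushforwardAdjunction h).homEquiv LA LB).symm
        (θ u hirr hP hP' h hh n hLA hLB)).app W e))
  · rintro W₁ W₂ h12 ⟨W, e, hW, h1, h2⟩
    exact ⟨W, e, h12.trans hW, h1, h2⟩
  · intro x
    obtain ⟨V, hV, hxV, -⟩ := exists_isAffineOpen_mem_and_subset (x := g.base (p'.base x)) (U := ⊤) trivial
    obtain ⟨V', hV', hxV', hle⟩ := exists_isAffineOpen_mem_and_subset (x := p'.base x) (U := g ⁻¹ᵁ V) hxV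
    let c : Pair g := ⟨⟨V, hV⟩, ⟨V', hV'⟩, hle⟩
    obtain ⟨y, hy⟩ := exists_of_mem_R p' chart' c.U' x hxV'
    obtain ⟨a, ha⟩ := ChartInv.exists_deg_one_notMem (𝒮.deg V hV) (hgen V hV)
      (ProjectiveSpectrum.comap (uc u c) (hirr V hV V' hV' hle) y)
    have hay : (ug u c a).1 ∉ y.asHomogeneousIdeal := ha
    obtain ⟨sA, hsA1, hsA2⟩ := exists_triv_section p chart n hLA c.U a _ _ hE
    obtain ⟨sB, hsB1, hsB2⟩ := exists_triv_section p' chart' n hLB c.U' (ug u c a) _ _ hE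
    let W : P'.Opens := h ⁻¹ᵁ (stdOpen p chart c.U a) ⊓ stdOpen p' chart' c.U' (ug u c a)
    have hxW : x ∈ W := by
      refine ⟨?_, ?_⟩
      · change h.base x ∈ stdOpen p chart c.U a
        have h1 := congrArg (fun m => m.base y) (pmQ_e u hirr h hh c)
        simp only [Scheme.Hom.comp_base, TopCat.hom_comp, ContinuousMap.comp_apply] at h1
        rw [← hy, ← h1]
        exact (mem_stdOpen p chart c.U a _).mpr ha
      · rw [← hy]
        exact (mem_stdOpen p' chart' c.U' (ug u c a) y).mpr hay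
    let e₀ := pullSect h LA (stdOpen p chart c.U a) sA
    have he₀ : IsTriv ((Scheme.Modules.pullback h).obj LA) (h ⁻¹ᵁ (stdOpen p chart c.U a)) e₀ :=
      hsA1.pullSect h
    refine ⟨W, ⟨W, QCoh.res _ inf_le_left e₀, le_rfl, he₀.restrict inf_le_left, ?_⟩, hxW⟩
    rw [QCoh.app_res, adjunct_pullSect]
    have hkey : QCoh.res LB (inf_le_left : W ≤ h ⁻¹ᵁ (stdOpen p chart c.U a))
        ((θ u hirr hP hP' h hh n hLA hLB).app (stdOpen p chart c.U a) sA) =
        QCoh.res LB (inf_le_right : W ≤ stdOpen p' chart' c.U' (ug u c a)) sB := by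
      have hWle : W ≤ p' ⁻¹ᵁ V' := inf_le_right.trans (stdOpen_le p' chart' c.U' (ug u c a))
      apply (hLB.bijective V' hV' W hWle).1
      rw [QCoh.app_res, QCoh.app_res, hsB2]
      apply sec_ext p' chart' n (U := c.U') (W := W)
      intro y' hy'
      have h1 := θ_val u hirr hP hP' h hh n hLA hLB c (stdOpen p chart c.U a) sA y' hy'.1
      rw [hsA2] at h1
      refine h1.trans ?_
      change GrTwist.locMap (uc u c) (hirr V hV V' hV' hle) y'
        (Localization.mk (a.1 ^ n.toNat) ⟨a.1 ^ (-n).toNat, _⟩) =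
        Localization.mk ((ug u c a).1 ^ n.toNat) ⟨(ug u c a).1 ^ (-n).toNat, _⟩
      rw [GrTwist.locMap_mk]
      apply mk_congr
      · rw [map_pow]; rfl
      · change (uc u c) (a.1 ^ (-n).toNat) = _
        rw [map_pow]; rfl
    change IsTriv LB W (QCoh.res LB _ _)
    rw [hkey]
    exact hsB1.restrict inf_le_right
  · rintro W' ⟨W, e, hW', h1, h2⟩
    exact app_bijective_of_isTriv _ h1 h2 W' hW'

end Groth.Agent.Lib.Helper3.RelTwistQ

open CategoryTheory CategoryTheory.Limits AlgebraicGeometry Opposite TopologicalSpace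
open scoped HomogeneousIdeal
open Groth.Agent.Lib.Helper29

namespace Groth.Agent.Lib.Helper3.RelTwistQ
open RelProj RelSpec Groth.Agent.Lib.Helper3

variable {S S' : Scheme.{u}} {g : S' ⟶ S} {𝒮 : QCGrAlg S} {𝒮' : QCGrAlg S'} (u : QGrHom g 𝒮 𝒮')
  {P P' : Scheme.{u}} {p : P ⟶ S} {p' : P' ⟶ S'}
  {chart : ∀ (U : S.Opens) (hU : IsAffineOpen U), (((p ⁻¹ᵁ U : P.Opens) : Scheme.{u}) ≅ Proj (𝒮.deg U hU))}
  {chart' : ∀ (U' : S'.Opens) (hU' : IsAffineOpen U'), (((p' ⁻¹ᵁ U' : P'.Opens) : Scheme.{u}) ≅ Proj (𝒮'.deg U' hU'))}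
  (hP : IsRelProj 𝒮 p chart) (hP' : IsRelProj 𝒮' p' chart')
  (h : P' ⟶ P) (n : ℤ)
  {LA : P.Modules}
  {lamA : ∀ (U : S.Opens) (hU : IsAffineOpen U),
      LA ⟶ (Scheme.Modules.pushforward (emb p chart U hU)).obj (GrTwist.twist (𝒮.deg U hU) n)}
  (hLA : IsRelTwist 𝒮 p chart n LA lamA)
  {LB : P'.Modules}
  {lamB : ∀ (U' : S'.Opens) (hU' : IsAffineOpen U'),
      LB ⟶ (Scheme.Modules.pushforward (emb p' chart' U' hU')).obj (GrTwist.twist (𝒮'.deg U' hU') n)}
  (hLB : IsRelTwist 𝒮' p' chart' n LB lamB)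

include hP hP' hLA hLB in
/-- **`h^* O_P(n) ≅ O_{P'}(n)`** for the morphism `h = Proj(u)` over a change of base, when `𝒮` is
generated in degree one and Mathlib's hypothesis on irrelevant ideals holds on all affine pairs. -/
theorem nonempty_iso_pullback_of_isProjQMap
    (hirr : ∀ (U : S.Opens) (hU : IsAffineOpen U) (U' : S'.Opens) (hU' : IsAffineOpen U')
      (hle : U' ≤ g ⁻¹ᵁ U), (𝒮'.deg U' hU')₊ ≤ ((𝒮.deg U hU)₊).map (u.gradedAt U hU U' hU' hle))
    (hh : IsProjQMap u p chart p' chart' h) (hgen : 𝒮.IsGenDegOne) :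
    Nonempty ((Scheme.Modules.pullback h).obj LA ≅ LB) := by
  have hh' : ∀ (U : S.Opens) (hU : IsAffineOpen U) (U' : S'.Opens) (hU' : IsAffineOpen U')
      (hle : U' ≤ g ⁻¹ᵁ U), emb p' chart' U' hU' ≫ h =
        Proj.map (u.gradedAt U hU U' hU' hle) (hirr U hU U' hU' hle) ≫ emb p chart U hU :=
    fun U hU U' hU' hle => QProj.emb_comp_eq_of_isProjQMap hh U hU U' hU' hle (hirr U hU U' hU' hle)
  have := isIso_adjunct_θ u hirr hP hP' h hh' n hLA hLB hgen
  exact ⟨asIso (((Scheme.Modules.pullbackPushforwardAdjunction h).homEquiv LA LB).symm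
      (θ u hirr hP hP' h hh' n hLA hLB))⟩

include hP hP' hLA hLB in
theorem nonempty_iso_pullback_of_isQBaseChange (hu : IsQBaseChange u.toQHom)
    (hh : IsProjQMap u p chart p' chart' h) (hgen : 𝒮.IsGenDegOne) :
    Nonempty ((Scheme.Modules.pullback h).obj LA ≅ LB) :=
  nonempty_iso_pullback_of_isProjQMap u hP hP' h n hLA hLB
    (fun U hU U' hU' hle => (QProj.pair_facts u hu U hU U' hU' hle).choose) hh hgen

end Groth.Agent.Lib.Helper3.RelTwistQ
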