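import Groth.Agent.Lib.Helper3.SymLine3
/-!
# The morphism `r_{L,ψ}`: everywhere-definedness over a general base
-/
universe u
open CategoryTheory CategoryTheory.Limits AlgebraicGeometry Opposite TopologicalSpace
open HomogeneousLocalization
open scoped HomogeneousIdeal
open Groth.Agent.Lib.Helper29.QCoh

namespace Groth.Agent.Lib.Helper3.SymLine
open RelProj RelSpec RelCone Groth.Agent.Lib.Helper3 Groth.Agent.Lib.Helper3.Cone Groth.Agent.Lib.Helper3.QProj

section Line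
variable {Y X PL : Scheme.{u}} {q : X ⟶ Y} {L : X.Modules} [L.IsQuasicoherent]
  {𝒮 : QCGrAlg Y} {𝒮L : QCGrAlg X} {j : L ⟶ 𝒮L.toModule}
  (hL : PicF.IsInvertible L) (hj : IsGrSymAlg L 𝒮L j) (u : QGrHom q 𝒮 𝒮L)
  {pL : PL ⟶ X}
  {chartL : ∀ (U : X.Opens) (hU : IsAffineOpen U), (((pL ⁻¹ᵁ U : PL.Opens) : Scheme.{u}) ≅ Proj (𝒮L.deg U hU))}
  (hPL : IsRelProj 𝒮L pL chartL)

include hL hj hPL in
/-- `r_{L,ψ}` is everywhere defined iff the sections `ψ♭(s)` generate `L^n` locally (general base) -/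
theorem domQ_eq_top_iff_gen :
    domQ u pL chartL = ⊤ ↔
      ∀ x : X, ∃ (U : Y.Opens) (hU : IsAffineOpen U) (n : ℕ) (_ : 0 < n) (s : 𝒮.presheaf.obj (op U))
        (_ : s ∈ 𝒮.deg U hU n) (V : X.Opens) (hV : IsAffineOpen V) (hle : V ≤ q ⁻¹ᵁ U), x ∈ V ∧
          Good u U V hV hle n s := by
  have hiso : IsIso pL := isIso_pL hL hj hPL
  constructor
  · intro htop x
    obtain ⟨x', rfl⟩ := pL.homeomorph.surjective x
    have hx' : x' ∈ domQ u pL chartL := htop ▸ trivial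
    obtain ⟨U, hU, hxU⟩ : ∃ (U : Y.Opens) (_ : IsAffineOpen U), q.base (pL.base x') ∈ U := by
      obtain ⟨U, hU, hxU, -⟩ := exists_isAffineOpen_mem_and_subset (x := q.base (pL.base x')) (U := ⊤) trivial
      exact ⟨U, hU, hxU⟩
    obtain ⟨V', hV', hle, d, hd, f, hf, hmem⟩ := exists_awayEmb_of_mem_domQ hPL U hU x' hx' hxU
    obtain ⟨y', hy', rfl⟩ := (Idx.mem_range_j_iff pL chartL (Idx.std (u := u) U hU V' hV' hle d hd f hf) _).mp hmem
    obtain ⟨W, hW, hWV, hxW, hgood⟩ := exists_good_of_point hL hj u hPL U hU hd f hf V' hV' hle y' hy'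
    exact ⟨U, hU, d, hd, f, hf, W, hW, hWV.trans hle, hxW, hgood⟩
  · intro H
    rw [eq_top_iff]
    intro x' _
    obtain ⟨U, hU, n, hn, s, hs, V, hV, hle, hxV, hgood⟩ := H (pL.base x')
    obtain ⟨V₁, hV₁, hVW, y, hy, rfl⟩ := exists_point_of_good hL hj u hPL U hU s hs V hV hle hgood x' hxV
    have hmem : (emb pL chartL V₁ hV₁).base y ∈
        Set.range ((Idx.std (u := u) U hU V₁ hV₁ (hVW.trans hle) n hn s hs).j pL chartL).base :=
      (Idx.mem_range_j_iff pL chartL _ _).mpr ⟨y, hy, rfl⟩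
    have h2 := Idx.range_j_subset_domQ pL chartL (Idx.std (u := u) U hU V₁ hV₁ (hVW.trans hle) n hn s hs) hmem
    rw [Scheme.Opens.range_ι] at h2
    exact h2

end Line

end Groth.Agent.Lib.Helper3.SymLine
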