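import Groth.Agent.Lib.Helper3.QProj
import Groth.Agent.Lib.Helper3.RelProjExist
import Groth.Agent.Lib.Helper3.RelTwistQIso
import Groth.Agent.Lib.Helper3.SymLine4
import Groth.Agent.Lib.Helper3.CanMapIso
import Groth.Agent.Lib.Helper3.ProjBundleVA
import Groth.Agent.Lib.Helper3.TNAlg
/-!
# `r_{L,ψ}` an immersion (`𝒜` generated in degree one, `ψ` surjective in degree one) makes `L` very ample
-/
set_option autoImplicit false
set_option linter.unusedSectionVars false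
universe u
open CategoryTheory CategoryTheory.Limits AlgebraicGeometry Opposite TopologicalSpace
open scoped HomogeneousIdeal

namespace Groth.Agent.Lib.Helper3.ProjLoc
open HomogeneousLocalization DirectSum

variable {A B σ τ : Type u} [CommRing A] [SetLike σ A] [AddSubgroupClass σ A]
  [CommRing B] [SetLike τ B] [AddSubgroupClass τ B]
  {𝒜 : ℕ → σ} {ℬ : ℕ → τ} [GradedRing 𝒜] [GradedRing ℬ]
  {ψ : 𝒜 →+*ᵍ ℬ} {c : A}

/-- homogeneous elements of a localization at a degree-zero element come from homogeneous elements of the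
same degree, up to a power of the element. -/
theorem IsLocAt.exists_mem (h : IsLocAt ψ c) (hc : c ∈ 𝒜 0) {n : ℕ} {b : B} (hb : b ∈ ℬ n) :
    ∃ a ∈ 𝒜 n, ∃ k : ℕ, b * ψ c ^ k = ψ a := by
  classical
  obtain ⟨a, k, hak⟩ := h.surj b
  have hbk : b * ψ c ^ k ∈ ℬ n := by
    have := SetLike.mul_mem_graded hb (SetLike.pow_mem_graded k (ψ.map_mem hc))
    simpa using this
  refine ⟨(decompose 𝒜 a n : A), SetLike.coe_mem _, k, ?_⟩
  rw [GradedRingHom.map_directSumDecompose, ← hak, decompose_of_mem_same ℬ hbk]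

end Groth.Agent.Lib.Helper3.ProjLoc

namespace Groth.Agent.Lib.Helper3.QLocal
open RelProj RelSpec Groth.Agent.Lib.Helper3

variable {S S' : Scheme.{u}} {g : S' ⟶ S} {𝒮 : QCGrAlg S} {𝒮' : QCGrAlg S'} (u : QGrHom g 𝒮 𝒮')

/-- **Local-to-global.** If locally on `S'` the degree-`d` part of `𝒮'` is generated by the image of a single
degree-`d` section of `𝒮`, then over every affine pair `(U, V)` the degree-`d` part of `𝒮'(V)` lies in every ideal
containing the image of `𝒮(U)_d`. -/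
theorem mem_of_local {d : ℕ}
    (hcov : ∀ x : S', ∃ (U₁ : S.Opens) (hU₁ : IsAffineOpen U₁) (e₁ : 𝒮.presheaf.obj (op U₁))
        (_ : e₁ ∈ 𝒮.deg U₁ hU₁ d) (V₁ : S'.Opens) (hV₁ : IsAffineOpen V₁) (hle₁ : V₁ ≤ g ⁻¹ᵁ U₁), x ∈ V₁ ∧
          ((𝒮'.deg V₁ hV₁ d : AddSubgroup (𝒮'.presheaf.obj (op V₁))) : Set (𝒮'.presheaf.obj (op V₁))) ⊆
            (Ideal.span {(u.appLE U₁ V₁ hle₁).hom e₁} : Set (𝒮'.presheaf.obj (op V₁))))
    (U : S.Opens) (hU : IsAffineOpen U) (V : S'.Opens) (hV : IsAffineOpen V) (hle : V ≤ g ⁻¹ᵁ U)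
    (I : Ideal (𝒮'.presheaf.obj (op V)))
    (hI : ∀ a ∈ 𝒮.deg U hU d, (u.appLE U V hle).hom a ∈ I)
    (b₀ : 𝒮'.presheaf.obj (op V)) (hb₀ : b₀ ∈ 𝒮'.deg V hV d) : b₀ ∈ I := by
  classical
  by_contra hcon
  let J : Ideal Γ(S', V) :=
    { carrier := {r | (𝒮'.str.app (op V)).hom r * b₀ ∈ I}
      add_mem' := fun {a c} ha hc => by
        simp only [Set.mem_ofPred_eq, map_add, add_mul] at ha hc ⊢
        exact Ideal.add_mem _ ha hc
      zero_mem' := by simp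
      smul_mem' := fun c a ha => by
        simp only [Set.mem_ofPred_eq, smul_eq_mul, map_mul, mul_assoc] at ha ⊢
        exact Ideal.mul_mem_left _ _ ha }
  have hJ : J ≠ ⊤ := by
    intro htop
    have h1 : (1 : Γ(S', V)) ∈ J := htop ▸ Submodule.mem_top
    have h2 : (𝒮'.str.app (op V)).hom 1 * b₀ ∈ I := h1
    rw [map_one, one_mul] at h2
    exact hcon h2
  obtain ⟨𝔪, hmax, hJ𝔪⟩ := Ideal.exists_le_maximal J hJ
  have hprime : 𝔪.IsPrime := hmax.isPrime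
  let pt : Spec Γ(S', V) := ⟨𝔪, hprime⟩
  have hxV : hV.fromSpec.base pt ∈ V := by
    have : hV.fromSpec.base pt ∈ Set.range hV.fromSpec.base := ⟨pt, rfl⟩
    rw [hV.range_fromSpec] at this
    exact this
  obtain ⟨U₁, hU₁, e₁, he₁, V₁, hV₁, hle₁, hxV₁, hgood₁⟩ := hcov (hV.fromSpec.base pt)
  obtain ⟨s, s₁, hss, hqs, -⟩ := QProj.exists_common_basicOpen hU hU₁ ⊤ (g.base (hV.fromSpec.base pt))
    (hle hxV) (hle₁ hxV₁) trivial
  obtain ⟨r, r₁, hrr, hxr, hrN⟩ := QProj.exists_common_basicOpen hV hV₁ (g ⁻¹ᵁ S.basicOpen s)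
    (hV.fromSpec.base pt) hxV hxV₁ hqs
  have hr𝔪 : r ∉ 𝔪 := by
    have h1 : pt ∈ hV.fromSpec ⁻¹ᵁ S'.basicOpen r := hxr
    rw [hV.fromSpec_preimage_basicOpen] at h1
    exact h1
  have hclaim : ∃ N : ℕ, r ^ N ∈ J := by
    have hV₂ : IsAffineOpen (S'.basicOpen r) := hV.basicOpen r
    have hV₂' : IsAffineOpen (S'.basicOpen r₁) := hV₁.basicOpen r₁
    have hU₂ : IsAffineOpen (S.basicOpen s) := hU.basicOpen s
    have hU₂' : IsAffineOpen (S.basicOpen s₁) := hU₁.basicOpen s₁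
    have l1 : S'.basicOpen r ≤ S'.basicOpen r₁ := hrr.le
    have l2 : S.basicOpen s ≤ S.basicOpen s₁ := hss.le
    have l3 : S'.basicOpen r₁ ≤ V := hrr.ge.trans (S'.basicOpen_le r)
    set c := (𝒮'.str.app (op V)).hom r with hc
    set c₁ := (𝒮'.str.app (op V₁)).hom r₁ with hc₁
    set cs := (𝒮.str.app (op U)).hom s with hcs
    set ψ := 𝒮'.res hV hV₂ (S'.basicOpen_le r) with hψ
    set ψ₁ := 𝒮'.res hV₁ hV₂' (S'.basicOpen_le r₁) with hψ₁
    set ρ := 𝒮'.res hV₂' hV₂ l1 with hρ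
    set χ := 𝒮.res hU hU₂ (S.basicOpen_le s) with hχ
    set χ₁ := 𝒮.res hU₁ hU₂' (S.basicOpen_le s₁) with hχ₁
    set τ := 𝒮.res hU₂' hU₂ l2 with hτ
    set u₂ := u.gradedAt (S.basicOpen s) hU₂ (S'.basicOpen r) hV₂ hrN with hu₂
    have locψ : ProjLoc.IsLocAt ψ c := RelProjExist.isLocAt_res 𝒮' V hV r
    have locψ₁ : ProjLoc.IsLocAt ψ₁ c₁ := RelProjExist.isLocAt_res 𝒮' V₁ hV₁ r₁
    have locχ : ProjLoc.IsLocAt χ cs := RelProjExist.isLocAt_res 𝒮 U hU s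
    have hb' : (𝒮'.res hV hV₂' l3) b₀ ∈ 𝒮'.deg _ hV₂' d := (𝒮'.res hV hV₂' l3).map_mem hb₀
    obtain ⟨a₁, ha₁, k, hk⟩ := locψ₁.exists_mem (𝒮'.str_mem V₁ hV₁ r₁) hb'
    obtain ⟨m₁, hm₁⟩ := Ideal.mem_span_singleton'.mp (hgood₁ ha₁)
    have he₁' : τ (χ₁ e₁) ∈ 𝒮.deg _ hU₂ d := τ.map_mem (χ₁.map_mem he₁)
    obtain ⟨a, ha, l, hl⟩ := locχ.exists_mem (𝒮.str_mem U hU s) he₁'
    have E1 : ∀ y, u₂ (χ y) = ψ ((u.appLE U V hle).hom y) := by
      intro y
      have h1 := congrArg (fun m => m.hom y) (u.toQHom.map_appLE (S.basicOpen_le s) hrN)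
      have h2 := congrArg (fun m => m.hom y) (u.toQHom.appLE_map hle (S'.basicOpen_le r))
      exact h1.trans h2.symm
    have E2 : ∀ y, u₂ (τ (χ₁ y)) = ρ (ψ₁ ((u.appLE U₁ V₁ hle₁).hom y)) := by
      intro y
      have h0 := congrArg (fun m => m.hom (χ₁ y)) (u.toQHom.map_appLE l2 hrN)
      have h1 := congrArg (fun m => m.hom y) (u.toQHom.map_appLE (S.basicOpen_le s₁)
        (hrN.trans (g.preimage_mono l2)))
      have h2 := congrArg (fun m => m.hom y) (u.toQHom.appLE_map hle₁ (S'.basicOpen_le r₁))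
      have h3 := congrArg (fun m => m.hom y)
        (u.toQHom.appLE_map ((S'.basicOpen_le r₁).trans hle₁) l1)
      exact h0.trans (h1.trans (h3.symm.trans (congrArg ρ h2.symm)))
    have E3 : ρ ((𝒮'.res hV hV₂' l3) b₀) = ψ b₀ := by
      change (𝒮'.presheaf.map (homOfLE l3).op ≫ 𝒮'.presheaf.map (homOfLE l1).op).hom b₀ = _
      rw [← 𝒮'.presheaf.map_comp]; rfl
    obtain ⟨vinv, hv⟩ := isUnit_iff_exists_inv.mp ((locψ₁.unit).map ρ)
    obtain ⟨winv, hw⟩ := isUnit_iff_exists_inv.mp ((locχ.unit).map u₂)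
    have H : ψ b₀ * ρ (ψ₁ c₁) ^ k * u₂ (χ cs) ^ l = ρ (ψ₁ m₁) * ψ ((u.appLE U V hle).hom a) := by
      have h1 := congrArg ρ hk
      rw [map_mul, map_pow, E3] at h1
      have h2 := congrArg u₂ hl
      rw [map_mul, map_pow, E2, E1 a] at h2
      rw [h1, ← hm₁, map_mul, map_mul, mul_assoc, h2]
    have hvk : ρ (ψ₁ c₁) ^ k * vinv ^ k = 1 := by rw [← mul_pow, hv, one_pow]
    have hwl : u₂ (χ cs) ^ l * winv ^ l = 1 := by rw [← mul_pow, hw, one_pow]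
    have H2 : ψ b₀ = (ρ (ψ₁ m₁) * vinv ^ k * winv ^ l) * ψ ((u.appLE U V hle).hom a) := by
      calc ψ b₀ = ψ b₀ * (ρ (ψ₁ c₁) ^ k * vinv ^ k) * (u₂ (χ cs) ^ l * winv ^ l) := by
            rw [hvk, hwl, mul_one, mul_one]
        _ = (ψ b₀ * ρ (ψ₁ c₁) ^ k * u₂ (χ cs) ^ l) * (vinv ^ k * winv ^ l) := by ring
        _ = _ := by rw [H]; ring
    obtain ⟨m', k', hm'⟩ := locψ.surj (ρ (ψ₁ m₁) * vinv ^ k * winv ^ l)
    have h3 : ψ (c ^ k' * b₀ - m' * (u.appLE U V hle).hom a) = 0 := by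
      rw [map_sub, map_mul, map_mul, map_pow, H2, ← hm']; ring
    obtain ⟨l', hl'⟩ := locψ.ker _ h3
    refine ⟨l' + k', ?_⟩
    change (𝒮'.str.app (op V)).hom (r ^ (l' + k')) * b₀ ∈ I
    have h4 : (𝒮'.str.app (op V)).hom (r ^ (l' + k')) * b₀ = c ^ l' * m' * (u.appLE U V hle).hom a := by
      rw [map_pow, pow_add, mul_assoc, mul_assoc]
      rw [mul_sub] at hl'
      exact sub_eq_zero.mp hl'
    rw [h4]
    exact Ideal.mul_mem_left _ _ (hI a ha)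
  obtain ⟨N, hN⟩ := hclaim
  exact hr𝔪 (hprime.mem_of_pow_mem N (hJ𝔪 hN))

end Groth.Agent.Lib.Helper3.QLocal

open CategoryTheory CategoryTheory.Limits AlgebraicGeometry Opposite TopologicalSpace
open scoped HomogeneousIdeal
open Groth.Agent.Lib.Helper29

namespace Groth.Agent.Lib.Helper3.QLocal
open RelProj RelSpec Groth.Agent.Lib.Helper3

variable {S S' : Scheme.{u}} {g : S' ⟶ S} {𝒮 : QCGrAlg S} {𝒮' : QCGrAlg S'} (u : QGrHom g 𝒮 𝒮')

/-- If `𝒮'` is generated in degree one and locally its degree-one part is generated by the image of a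
degree-one section of `𝒮`, then Mathlib's hypothesis on irrelevant ideals holds over every affine pair. -/
theorem irrelevant_le_map_of_local (hgen' : 𝒮'.IsGenDegOne)
    (hcov : ∀ x : S', ∃ (U₁ : S.Opens) (hU₁ : IsAffineOpen U₁) (e₁ : 𝒮.presheaf.obj (op U₁))
        (_ : e₁ ∈ 𝒮.deg U₁ hU₁ 1) (V₁ : S'.Opens) (hV₁ : IsAffineOpen V₁) (hle₁ : V₁ ≤ g ⁻¹ᵁ U₁), x ∈ V₁ ∧
          ((𝒮'.deg V₁ hV₁ 1 : AddSubgroup (𝒮'.presheaf.obj (op V₁))) : Set (𝒮'.presheaf.obj (op V₁))) ⊆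
            (Ideal.span {(u.appLE U₁ V₁ hle₁).hom e₁} : Set (𝒮'.presheaf.obj (op V₁))))
    (U : S.Opens) (hU : IsAffineOpen U) (V : S'.Opens) (hV : IsAffineOpen V) (hle : V ≤ g ⁻¹ᵁ U) :
    (𝒮'.deg V hV)₊ ≤ ((𝒮.deg U hU)₊).map (u.gradedAt U hU V hV hle) := by
  rw [HomogeneousIdeal.irrelevant_le]
  intro k hk x hx
  have hx1 := TNAlg.mem_span_of_mem_pos (𝒮'.deg V hV) (hgen' V hV) hk hx
  refine (Ideal.span_le.mpr ?_) hx1
  intro b hb
  exact mem_of_local u hcov U hU V hV hle _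
    (fun a ha => Ideal.mem_map_of_mem _ (HomogeneousIdeal.mem_irrelevant_of_mem _ one_pos ha)) b hb

end Groth.Agent.Lib.Helper3.QLocal

namespace Groth.Agent.Lib.Helper3.ProjBundle
open RelProj RelSpec Groth.Agent.Lib.Helper3 Groth.Agent.Lib.Helper3.SymLine

/-- **`r_{L,ψ}` an immersion with `𝒜` generated in degree one and `ψ` surjective in degree one: `L` is very ample.** -/
theorem isRelVeryAmple_of_rLpsi_isImmersion {X Y P PL : Scheme.{u}} (f : X ⟶ Y)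
    (L : X.Modules) (hL : PicF.IsInvertible L) [L.IsQuasicoherent]
    (𝒮L : QCGrAlg X) (jL : L ⟶ 𝒮L.toModule) (hjL : IsGrSymAlg L 𝒮L jL)
    (pL : PL ⟶ X) (chartL : ∀ (U : X.Opens) (hU : IsAffineOpen U), (((pL ⁻¹ᵁ U : PL.Opens) : Scheme.{u}) ≅ Proj (𝒮L.deg U hU)))
    (hPL : IsRelProj 𝒮L pL chartL)
    (𝒜 : QCGrAlg Y) (h1 : 𝒜.IsGenDegOne)
    (u : QGrHom f 𝒜 𝒮L)
    (hsurj : ∀ x : X, ∃ (U : Y.Opens) (hU : IsAffineOpen U) (e : 𝒜.presheaf.obj (op U)) (_ : e ∈ 𝒜.deg U hU 1)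
        (V : X.Opens) (hV : IsAffineOpen V) (hVU : V ≤ f ⁻¹ᵁ U), x ∈ V ∧
          ((𝒮L.deg V hV 1 : AddSubgroup (𝒮L.presheaf.obj (op V))) : Set (𝒮L.presheaf.obj (op V))) ⊆
            (Ideal.span {(u.appLE U V hVU).hom e} : Set (𝒮L.presheaf.obj (op V))))
    (p : P ⟶ Y) (chart : ∀ (U : Y.Opens) (hU : IsAffineOpen U), (((p ⁻¹ᵁ U : P.Opens) : Scheme.{u}) ≅ Proj (𝒜.deg U hU)))
    (hP : IsRelProj 𝒜 p chart)
    (r : ((domQ u pL chartL : PL.Opens) : Scheme.{u}) ⟶ P)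
    (hr : IsProjQMapOn u p chart pL chartL (domQ u pL chartL) r)
    (himm : IsImmersion r) :
    IsRelVeryAmple f L := by
  have hisoL : IsIso pL := isIso_pL hL hjL hPL
  -- `r` is everywhere defined
  have htop : domQ u pL chartL = ⊤ := by
    refine (domQ_eq_top_iff_gen hL hjL u hPL).mpr fun x => ?_
    obtain ⟨U, hU, e, he, V, hV, hVU, hxV, hgood⟩ := hsurj x
    exact ⟨U, hU, 1, one_pos, e, he, V, hV, hVU, hxV, hgood⟩
  have hisoι : IsIso (domQ u pL chartL).ι := by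
    rw [htop]; exact PL.topIso.isIso_hom
  -- the total morphism
  let h : PL ⟶ P := inv (domQ u pL chartL).ι ≫ r
  have hh : IsProjQMap u p chart pL chartL h := by
    refine ⟨htop, fun U hU U' hU' hle d hd a ha => ?_⟩
    have hW := range_awayEmb_subset_domQ u pL chartL U hU U' hU' hle hd a ha
    rw [← hr U hU U' hU' hle d hd a ha hW]
    change _ ≫ inv (domQ u pL chartL).ι ≫ r = _
    rw [← Category.assoc]
    congr 1
    rw [IsIso.comp_inv_eq, IsOpenImmersion.lift_fac]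
  have hgenL : 𝒮L.IsGenDegOne := RelGlued.isGenDegOne_of_isGrSymAlg L 𝒮L jL hjL
  have hirr := QLocal.irrelevant_le_map_of_local u hgenL hsurj
  have hO1 := RelTwist.isRelTwist _ _ hP 1
  have hO1L := RelTwist.isRelTwist _ _ hPL 1
  obtain ⟨eO⟩ := RelTwistQ.nonempty_iso_pullback_of_isProjQMap u hP hPL h 1 hO1 hO1L hirr hh h1
  have hcan := RelGlued.isIso_adjunct_canMap pL chartL hO1L hPL L hL jL hjL
  have himm' : IsImmersion (inv pL ≫ h) := by
    change IsImmersion (inv pL ≫ inv (domQ u pL chartL).ι ≫ r)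
    infer_instance
  have hcomp : (inv pL ≫ h) ≫ p = f := by
    rw [Category.assoc, QProj.comp_eq_of_isProjQMap hP hPL hh, IsIso.inv_hom_id_assoc]
  refine isRelVeryAmple_of_immersion_relProj f L 𝒜 h1 p chart hP _ _ hO1 (inv pL ≫ h) hcomp ?_
  exact ((Scheme.Modules.pullbackId X).app L).symm ≪≫
    ((Scheme.Modules.pullbackCongr (IsIso.inv_hom_id pL)).app L).symm ≪≫
    ((Scheme.Modules.pullbackComp (inv pL) pL).app L).symm ≪≫
    (Scheme.Modules.pullback (inv pL)).mapIso (@asIso _ _ _ _ _ hcan) ≪≫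
    (Scheme.Modules.pullback (inv pL)).mapIso eO.symm ≪≫
    (Scheme.Modules.pullbackComp (inv pL) h).app _

end Groth.Agent.Lib.Helper3.ProjBundle
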