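import Groth.Agent.Lib.Helper3.SymLine8
/-!
# Degree one local data for `r_{L,σ}` over an affine open with affine trivialising preimage
-/
set_option autoImplicit false
set_option linter.unusedSectionVars false
universe u
open CategoryTheory CategoryTheory.Limits AlgebraicGeometry Opposite TopologicalSpace
open scoped HomogeneousIdeal
open Groth.Agent.Lib.Helper29.QCoh

namespace Groth.Agent.Lib.Helper3.SymLine
open RelProj RelSpec Groth.Agent.Lib.Helper3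

variable {Y X : Scheme.{u}} {q : X ⟶ Y} {L : X.Modules} [L.IsQuasicoherent]
  {𝒮 : QCGrAlg Y} {𝒮L : QCGrAlg X} {j : L ⟶ 𝒮L.toModule}
  (hj : IsGrSymAlg L 𝒮L j) (u : QGrHom q 𝒮 𝒮L)
  (jE : (Scheme.Modules.pushforward q).obj L ⟶ 𝒮.toModule)
  (hjE1 : ∀ (U : Y.Opens) (hU : IsAffineOpen U) (x : Γ((Scheme.Modules.pushforward q).obj L, U)),
    (jE.app U) x ∈ 𝒮.deg U hU 1)
  (U : Y.Opens) (hU : IsAffineOpen U)
  (hu : ∀ x : Γ((Scheme.Modules.pushforward q).obj L, U), (u.app U).hom ((jE.app U) x) = (j.app (q ⁻¹ᵁ U)) x)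
  (hV : IsAffineOpen (q ⁻¹ᵁ U)) (s₀ : Γ(L, q ⁻¹ᵁ U)) (hT : IsTriv L (q ⁻¹ᵁ U) s₀)

include hu in
omit [L.IsQuasicoherent] in
theorem appLE_self_jE (x : Γ(L, q ⁻¹ᵁ U)) :
    (u.appLE U (q ⁻¹ᵁ U) le_rfl).hom ((jE.app U) x) = tt j x := by
  have h1 : u.appLE U (q ⁻¹ᵁ U) le_rfl = u.app U := by
    rw [QHom.appLE_eq]
    have : (homOfLE (le_refl (q ⁻¹ᵁ U))).op = 𝟙 _ := rfl
    rw [this, CategoryTheory.Functor.map_id, Category.comp_id]
  rw [h1]
  exact hu x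

include hj hu hT in
theorem good_self_jE : Good u U (q ⁻¹ᵁ U) hV le_rfl 1 ((jE.app U) s₀) := by
  refine good_of_isUnit hj u hV le_rfl hT _ 1 1 ?_ isUnit_one
  rw [appLE_self_jE u jE U hu, map_one, one_mul, pow_one]

include hj hu hT hV in
theorem Xf_jE_eq : Xf u U 1 ((jE.app U) s₀) = q ⁻¹ᵁ U := by
  refine le_antisymm (Xf_le u U 1 _) ?_
  intro x hx
  exact (mem_Xf_iff u U 1 _ x).mpr ⟨q ⁻¹ᵁ U, hV, le_rfl, hx, good_self_jE hj u jE U hu hV s₀ hT⟩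

include hj hu hT hjE1 hV in
theorem condIII_jE : CondIII u U hU 1 ((jE.app U) s₀) := by
  rw [condIII_iff]
  refine (condIIIOn_congr u U hU 1 _ (Xf_jE_eq hj u jE U hu hV s₀ hT) (Xf_le u U 1 _) le_rfl).mpr ?_
  intro t
  refine ⟨1, one_pos, (jE.app U) (t • s₀), hjE1 U hU _, ?_⟩
  rw [appLE_self_jE u jE U hu, appLE_self_jE u jE U hu, pow_one]
  exact (Scheme.Modules.Hom.app_smul j t s₀).symm

end Groth.Agent.Lib.Helper3.SymLine
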