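import Groth.Agent.Lib.Helper3.SymQGrHomGen
import Groth.Agent.Lib.Helper3.SymLineDegOne
import Groth.Agent.Lib.Helper3.RLpsiVA
import Groth.Agent.Lib.Helper3.RelProjExist
/-!
# Invertible modules trivial over affine preimages of affine opens of the base are relatively very ample
-/
set_option autoImplicit false
set_option linter.unusedSectionVars false
universe u
open CategoryTheory CategoryTheory.Limits AlgebraicGeometry Opposite TopologicalSpace
open scoped HomogeneousIdeal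
open Groth.Agent.Lib.Helper29.QCoh

namespace Groth.Agent.Lib.Helper3.SymLine
open RelProj RelSpec Groth.Agent.Lib.Helper3

/-- the canonical graded `q`-morphism `Sym(q_*L) → q_* Sym(L)` -/
theorem exists_canonical_qgrHom {X Y : Scheme.{u}} (q : X ⟶ Y) (L : X.Modules)
    [((Scheme.Modules.pushforward q).obj L).IsQuasicoherent]
    (𝒜 : QCGrAlg Y) (jE : (Scheme.Modules.pushforward q).obj L ⟶ 𝒜.toModule)
    (h𝒜 : IsGrSymAlg ((Scheme.Modules.pushforward q).obj L) 𝒜 jE)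
    (𝒮L : QCGrAlg X) (jL : L ⟶ 𝒮L.toModule)
    (hjL1 : ∀ (U : X.Opens) (hU : IsAffineOpen U) (x : Γ(L, U)), (jL.app U) x ∈ 𝒮L.deg U hU 1) :
    ∃ u : QGrHom q 𝒜 𝒮L, ∀ (U : Y.Opens) (_ : IsAffineOpen U) (x : Γ((Scheme.Modules.pushforward q).obj L, U)),
      (u.app U).hom ((jE.app U) x) = (jL.app (q ⁻¹ᵁ U)) x := by
  obtain ⟨u, hu⟩ := SymQC.exists_qgrHom_of_hom q ((Scheme.Modules.pushforward q).obj L) 𝒜 jE h𝒜 𝒮L
    ((Scheme.Modules.pushforward q).map jL) (fun U U' hU' hle m => by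
      have h2 : Groth.Agent.Lib.Helper3.resB 𝒮L.toQCAlg hle (SymQC.φSecQ q 𝒮L.toQCAlg ((Scheme.Modules.pushforward q).map jL) U m) =
          (show 𝒮L.presheaf.obj (op U') from jL.app U' (res L hle m)) :=
        (app_res jL hle m).symm
      rw [h2]
      exact hjL1 U' hU' _)
  exact ⟨u, fun U hU x => hu U hU x⟩

theorem isRelVeryAmple_of_forall_exists_affine_triv {X Y : Scheme.{u}} (q : X ⟶ Y) (L : X.Modules)
    (hL : PicF.IsInvertible L) [L.IsQuasicoherent] [((Scheme.Modules.pushforward q).obj L).IsQuasicoherent]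
    (H : ∀ x : X, ∃ (U : Y.Opens) (_ : IsAffineOpen U) (s₀ : Γ(L, q ⁻¹ᵁ U)), q.base x ∈ U ∧
      IsAffineOpen (q ⁻¹ᵁ U) ∧ IsTriv L (q ⁻¹ᵁ U) s₀) :
    IsRelVeryAmple q L := by
  have h𝒜 := SymQC.isGrSymAlg (E := (Scheme.Modules.pushforward q).obj L)
  have hjL := SymQC.isGrSymAlg (E := L)
  obtain ⟨u, hu⟩ := exists_canonical_qgrHom q L _ _ h𝒜 (SymQC.grSymAlg L) (SymQC.j L) hjL.2
  have hP := RelProjExist.isRelProj (SymQC.grSymAlg ((Scheme.Modules.pushforward q).obj L))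
  have hPL := RelProjExist.isRelProj (SymQC.grSymAlg L)
  obtain ⟨r, hr, -⟩ := QProj.existsUnique_isProjQMapOn_domQ (u := u) hP hPL
  have h1 := RelGlued.isGenDegOne_of_isGrSymAlg _ _ _ h𝒜
  refine ProjBundle.isRelVeryAmple_of_rLpsi_isImmersion q L hL _ _ hjL _ _ hPL _ h1 u ?_ _ _ hP r hr ?_
  · intro x
    obtain ⟨U, hU, s₀, hxU, hV, hT⟩ := H x
    exact ⟨U, hU, _, h𝒜.2 U hU s₀, q ⁻¹ᵁ U, hV, le_rfl, hxU,
      good_self_jE hjL u _ U (hu U hU) hV s₀ hT⟩
  · refine isImmersion_of_forall hL hjL u hPL hP r hr fun w => ?_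
    obtain ⟨U, hU, s₀, hxU, hV, hT⟩ := H ((RelProjExist.relProjπ (SymQC.grSymAlg L)).base
      ((domQ u (RelProjExist.relProjπ (SymQC.grSymAlg L)) (RelProjExist.chart (SymQC.grSymAlg L))).ι.base w))
    have hX := Xf_jE_eq hjL u (SymQC.j _) U (hu U hU) hV s₀ hT
    refine ⟨U, hU, 1, one_pos, _, h𝒜.2 U hU s₀, ?_, ?_, condIII_jE hjL u _ h𝒜.2 U hU (hu U hU) hV s₀ hT⟩
    · rw [hX]; exact hxU
    · rw [hX]; exact hV

end Groth.Agent.Lib.Helper3.SymLine
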