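import Groth.Agent.Lib.Helper3.VAF16
import Groth.Agent.Lib.Helper3.VAAffTriv
import Groth.Agent.Lib.Helper3.ProjCI
import Groth.Agent.Lib.Helper29.QCohQcqs
import Mathlib.AlgebraicGeometry.ProjectiveSpectrum.Proper
set_option autoImplicit false
set_option linter.unusedSectionVars false
universe u
open CategoryTheory CategoryTheory.Limits AlgebraicGeometry Opposite TopologicalSpace
open scoped HomogeneousIdeal
open Groth.Agent.Lib.Helper29

namespace Groth.Agent.Lib.Helper3.VAF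
open RelProj RelSpec Groth.Agent.Lib.Helper3 Groth.Agent.Lib.Helper3.SymLine

/-- a relative homogeneous spectrum is separated over its base -/
theorem isSeparated_of_isRelProj {Y P : Scheme.{u}} {𝒮 : QCGrAlg Y} {p : P ⟶ Y}
    (chart : ∀ (U : Y.Opens) (hU : IsAffineOpen U), (((p ⁻¹ᵁ U : P.Opens) : Scheme.{u}) ≅ Proj (𝒮.deg U hU))) :
    IsSeparated p := by
  rw [HasAffineProperty.eq_targetAffineLocally (P := @IsSeparated)]
  intro U
  change Scheme.IsSeparated ((p ⁻¹ᵁ U.1 : P.Opens) : Scheme.{u})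
  refine ⟨?_⟩
  rw [← terminal.comp_from (chart U.1 U.2).hom]
  infer_instance

end Groth.Agent.Lib.Helper3.VAF

namespace Groth.Agent.Lib.Helper3.VAF
open RelProj RelSpec Groth.Agent.Lib.Helper3 Groth.Agent.Lib.Helper3.SymLine

/-- an everywhere defined immersion `r_{L,ψ}` for a proper `q` gives a closed immersion of `X` -/
theorem exists_closedImmersion_of_isProper {X Y P PL : Scheme.{u}} (q : X ⟶ Y) [IsProper q]
    (L : X.Modules) (hL : PicF.IsInvertible L) [L.IsQuasicoherent]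
    (𝒮L : QCGrAlg X) (jL : L ⟶ 𝒮L.toModule) (hjL : IsGrSymAlg L 𝒮L jL)
    (pL : PL ⟶ X) (chartL : ∀ (U : X.Opens) (hU : IsAffineOpen U), (((pL ⁻¹ᵁ U : PL.Opens) : Scheme.{u}) ≅ Proj (𝒮L.deg U hU)))
    (hPL : IsRelProj 𝒮L pL chartL)
    (𝒜 : QCGrAlg Y) (u : QGrHom q 𝒜 𝒮L)
    (p : P ⟶ Y) (chart : ∀ (U : Y.Opens) (hU : IsAffineOpen U), (((p ⁻¹ᵁ U : P.Opens) : Scheme.{u}) ≅ Proj (𝒜.deg U hU)))
    (hP : IsRelProj 𝒜 p chart)
    (r : ((domQ u pL chartL : PL.Opens) : Scheme.{u}) ⟶ P)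
    (hr : IsProjQMapOn u p chart pL chartL (domQ u pL chartL) r)
    (htop : domQ u pL chartL = ⊤) (himm : IsImmersion r) :
    ∃ i : X ⟶ P, IsClosedImmersion i ∧ i ≫ p = q := by
  have hisoL : IsIso pL := isIso_pL hL hjL hPL
  have hisoι : IsIso (domQ u pL chartL).ι := by
    rw [htop]; exact (Scheme.topIso _).isIso_hom
  have hcomp := QProj.comp_eq_of_isProjQMapOn_domQ hP hPL r hr
  have hc : (inv pL ≫ inv (domQ u pL chartL).ι ≫ r) ≫ p = q := by
    rw [Category.assoc, Category.assoc, hcomp, IsIso.inv_hom_id_assoc, IsIso.inv_hom_id_assoc]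
  refine ⟨inv pL ≫ inv (domQ u pL chartL).ι ≫ r, ?_, hc⟩
  have hi' : IsImmersion (inv pL ≫ inv (domQ u pL chartL).ι ≫ r) := inferInstance
  haveI : IsSeparated p := isSeparated_of_isRelProj chart
  haveI : IsProper ((inv pL ≫ inv (domQ u pL chartL).ι ≫ r) ≫ p) := by
    rw [hc]; infer_instance
  haveI : IsProper (inv pL ≫ inv (domQ u pL chartL).ι ≫ r) := IsProper.of_comp _ p
  exact IsClosedImmersion.of_isPreimmersion _ (Scheme.Hom.isClosedMap _).isClosed_range

/-- a proper morphism with a relatively very ample module `L` is a closed subscheme of `P(f_*L)` -/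
theorem exists_closedImmersion_projBundle_of_isProper {X Y : Scheme.{u}} (f : X ⟶ Y) [IsProper f]
    (L : X.Modules) (hL : PicF.IsInvertible L) (hva : IsRelVeryAmple f L) :
    ∃ (_ : ((Scheme.Modules.pushforward f).obj L).IsQuasicoherent) (𝒯 : QCGrAlg Y)
      (j : (Scheme.Modules.pushforward f).obj L ⟶ 𝒯.toModule) (P : Scheme.{u}) (p : P ⟶ Y)
      (chart : ∀ (U : Y.Opens) (hU : IsAffineOpen U), ((p ⁻¹ᵁ U : P.Opens) : Scheme.{u}) ≅ Proj (𝒯.deg U hU))
      (i : X ⟶ P), IsGrSymAlg ((Scheme.Modules.pushforward f).obj L) 𝒯 j ∧ IsRelProj 𝒯 p chart ∧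
        IsClosedImmersion i ∧ i ≫ p = f := by
  haveI hLq : L.IsQuasicoherent := QCoh.isQuasicoherent_of_isInvertible hL
  haveI hEq : ((Scheme.Modules.pushforward f).obj L).IsQuasicoherent :=
    QCoh.isQuasicoherent_pushforward_of_qcqs f L
  obtain ⟨E', hE', 𝒮', j', hj', P', p', chart', hP', O1, lam, hO1, i, himm, hip, ⟨eL⟩⟩ := hva
  subst hip
  haveI : E'.IsQuasicoherent := hE'
  haveI : IsImmersion i := himm
  have h𝒜 := SymQC.isGrSymAlg (E := (Scheme.Modules.pushforward (i ≫ p')).obj L)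
  have hjL := SymQC.isGrSymAlg (E := L)
  obtain ⟨u, hu⟩ := exists_canonical_qgrHom (i ≫ p') L _ _ h𝒜 (SymQC.grSymAlg L) (SymQC.j L) hjL.2
  have hP := RelProjExist.isRelProj (SymQC.grSymAlg ((Scheme.Modules.pushforward (i ≫ p')).obj L))
  have hPL := RelProjExist.isRelProj (SymQC.grSymAlg L)
  obtain ⟨r, hr, -⟩ := QProj.existsUnique_isProjQMapOn_domQ (u := u) hP hPL
  obtain ⟨htop, hrimm⟩ := domQ_eq_top_and_isImmersion (𝒮' := 𝒮') p' chart' hO1 hP' i eL hj' hL
    (𝒮L := SymQC.grSymAlg L) (SymQC.j L) hjL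
    (pL := RelProjExist.relProjπ (SymQC.grSymAlg L)) (chartL := RelProjExist.chart (SymQC.grSymAlg L)) hPL
    (𝒜 := SymQC.grSymAlg ((Scheme.Modules.pushforward (i ≫ p')).obj L))
    (SymQC.j ((Scheme.Modules.pushforward (i ≫ p')).obj L)) h𝒜.2 u hu
    (p := RelProjExist.relProjπ (SymQC.grSymAlg ((Scheme.Modules.pushforward (i ≫ p')).obj L)))
    (chart := RelProjExist.chart (SymQC.grSymAlg ((Scheme.Modules.pushforward (i ≫ p')).obj L))) hP r hr
  obtain ⟨i', hi', hc⟩ := exists_closedImmersion_of_isProper (i ≫ p') L hL (SymQC.grSymAlg L) (SymQC.j L) hjL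
    (RelProjExist.relProjπ (SymQC.grSymAlg L)) (RelProjExist.chart (SymQC.grSymAlg L)) hPL
    (SymQC.grSymAlg ((Scheme.Modules.pushforward (i ≫ p')).obj L)) u
    (RelProjExist.relProjπ (SymQC.grSymAlg ((Scheme.Modules.pushforward (i ≫ p')).obj L)))
    (RelProjExist.chart (SymQC.grSymAlg ((Scheme.Modules.pushforward (i ≫ p')).obj L))) hP r hr htop hrimm
  exact ⟨hEq, SymQC.grSymAlg ((Scheme.Modules.pushforward (i ≫ p')).obj L),
    SymQC.j ((Scheme.Modules.pushforward (i ≫ p')).obj L), _,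
    RelProjExist.relProjπ (SymQC.grSymAlg ((Scheme.Modules.pushforward (i ≫ p')).obj L)),
    RelProjExist.chart (SymQC.grSymAlg ((Scheme.Modules.pushforward (i ≫ p')).obj L)), i', h𝒜, hP, hi', hc⟩

end Groth.Agent.Lib.Helper3.VAF
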