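import Groth.Agent.Lib.Helper3.AmpleBridge7
import Groth.Agent.Lib.Helper3.VAProper
import Mathlib.AlgebraicGeometry.Morphisms.Proper
/-!
# `r_{L,σ}` is an isomorphism for relatively ample `L` on a universally closed morphism
-/
universe u
open CategoryTheory CategoryTheory.Limits AlgebraicGeometry Opposite TopologicalSpace
open Groth.Agent.Lib.Helper29.QCoh

namespace Groth.Agent.Lib.Helper3.AmpleBridge
open RelProj RelSpec RelCone Groth.Agent.Lib.Helper3 Groth.Agent.Lib.Helper3.SymLine Groth.Agent.Lib.Helper3.QProj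

theorem rLsigma_isIso_of_universallyClosed {X Y P PL : Scheme.{u}} (f : X ⟶ Y) [UniversallyClosed f]
    (L : X.Modules) (hL : PicF.IsInvertible L) (hLq : Coh.IsQCoh L)
    (𝒮L : RelProj.QCGrAlg X) (jL : L ⟶ 𝒮L.toModule) (hjL : RelProj.IsGrSymAlg L 𝒮L jL)
    (pL : PL ⟶ X) (chartL : ∀ (U : X.Opens) (hU : IsAffineOpen U), (((pL ⁻¹ᵁ U : PL.Opens) : Scheme.{u}) ≅ Proj (𝒮L.deg U hU)))
    (hPL : RelProj.IsRelProj 𝒮L pL chartL)
    (𝒜 : RelProj.QCGrAlg Y) (u : RelProj.QGrHom f 𝒜 𝒮L)
    (p : P ⟶ Y) (chart : ∀ (U : Y.Opens) (hU : IsAffineOpen U), (((p ⁻¹ᵁ U : P.Opens) : Scheme.{u}) ≅ Proj (𝒜.deg U hU)))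
    (hP : RelProj.IsRelProj 𝒜 p chart)
    (r : ((RelProj.domQ u pL chartL : PL.Opens) : Scheme.{u}) ⟶ P)
    (hr : RelProj.IsProjQMapOn u p chart pL chartL (RelProj.domQ u pL chartL) r)
    (hu : ∀ (U : Y.Opens), IsAffineOpen U → Function.Bijective (u.app U).hom)
    (h : RelAmple.IsRelAmple f L) :
    RelProj.domQ u pL chartL = ⊤ ∧ IsIso r := by
  haveI : L.IsQuasicoherent := hLq
  haveI : QuasiCompact f := h.1
  obtain ⟨htop, hopen, hdom⟩ := rLsigma_of_relAmple f L hL hLq 𝒮L jL hjL pL chartL hPL 𝒜 u p chart hP r hr hu h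
  refine ⟨htop, ?_⟩
  haveI : IsSeparated p := VAF.isSeparated_of_isRelProj chart
  have hcomp := comp_eq_of_isProjQMapOn_domQ hP hPL r hr
  haveI := isIso_pL hL hjL hPL
  haveI : IsIso (RelProj.domQ u pL chartL).ι := by
    apply isIso_of_isOpenImmersion_of_opensRange_eq_top
    rw [Scheme.Opens.opensRange_ι, htop]
  haveI : UniversallyClosed (r ≫ p) := by rw [hcomp]; infer_instance
  haveI : UniversallyClosed r := UniversallyClosed.of_comp_of_isSeparated r p
  have hclosed : IsClosed (Set.range r.base) := r.isClosedMap.isClosed_range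
  have hdense : DenseRange r.base := hdom.denseRange
  have hrange : Set.range r.base = Set.univ := by
    rw [← hclosed.closure_eq]; exact hdense.closure_range
  apply isIso_of_isOpenImmersion_of_opensRange_eq_top
  rw [eq_top_iff]
  intro z _
  have : z ∈ Set.range r.base := hrange ▸ Set.mem_univ z
  exact this

end Groth.Agent.Lib.Helper3.AmpleBridge
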