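import Groth.Agent.Lib.Helper9.FlatInj
import Groth.Agent.Lib.Helper9.FlatArtin
import Mathlib.RingTheory.Artinian.Ring
import Mathlib.RingTheory.TensorProduct.Quotient

/-!
# Flatness over Artinian local rings: injectivity modulo a proper ideal (helper3 library)

For an Artinian local ring `A`, a proper ideal `I` and an `A`-linear map `u : N → M` between flat
`A`-modules: `u` is injective iff `(A ⧸ I) ⊗ u` is injective, and then `V ⊗ u` is injective for all
`V` and `coker u` is flat.
-/

set_option autoImplicit false

namespace Groth.Agent.Lib.Helper3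

open TensorProduct Function IsLocalRing

universe u v

section Socle

variable {A : Type u} [CommRing A] [IsArtinianRing A] [IsLocalRing A]

theorem isNilpotent_maximalIdeal_of_isArtinianRing : IsNilpotent (maximalIdeal A) := by
  have := IsArtinianRing.isNilpotent_jacobson_bot (R := A)
  rwa [IsLocalRing.jacobson_eq_maximalIdeal ⊥ bot_ne_top] at this

/-- A socle element of `A ⧸ I`. -/
theorem exists_socle (I : Ideal A) (hI : I ≠ ⊤) :
    ∃ s : A, s ∉ I ∧ ∀ a ∈ maximalIdeal A, a * s ∈ I := by
  classical
  obtain ⟨n, hn⟩ : ∃ n, maximalIdeal A ^ n ≤ I := by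
    obtain ⟨n, hn⟩ := isNilpotent_maximalIdeal_of_isArtinianRing (A := A)
    exact ⟨n, by rw [hn]; exact bot_le⟩
  have hex : ∃ n, maximalIdeal A ^ n ≤ I := ⟨n, hn⟩
  have hn0 : maximalIdeal A ^ Nat.find hex ≤ I := Nat.find_spec hex
  have hpos : Nat.find hex ≠ 0 := by
    intro h
    rw [h, pow_zero, Ideal.one_eq_top, top_le_iff] at hn0
    exact hI hn0
  obtain ⟨k, hk⟩ := Nat.exists_eq_succ_of_ne_zero hpos
  have hk' : ¬ maximalIdeal A ^ k ≤ I := Nat.find_min hex (by omega)
  obtain ⟨s, hs, hsI⟩ := SetLike.not_le_iff_exists.1 hk'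
  refine ⟨s, hsI, fun a ha => hn0 ?_⟩
  rw [hk, Nat.succ_eq_add_one, pow_succ']
  exact Ideal.mul_mem_mul ha hs

/-- The residue field embeds `A`-linearly into `A ⧸ I` for every proper ideal `I`. -/
theorem exists_injective_residue_quotient (I : Ideal A) (hI : I ≠ ⊤) :
    ∃ ι : (A ⧸ maximalIdeal A) →ₗ[A] (A ⧸ I), Injective ι := by
  obtain ⟨s, hs, hms⟩ := exists_socle I hI
  let g : A →ₗ[A] A ⧸ I := LinearMap.toSpanSingleton A (A ⧸ I) (Ideal.Quotient.mk I s)
  have hg : ∀ a : A, g a = Ideal.Quotient.mk I (a * s) := fun a => by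
    simp [g, LinearMap.toSpanSingleton_apply, Algebra.smul_def]
  have hker : maximalIdeal A ≤ LinearMap.ker g := by
    intro a ha
    rw [LinearMap.mem_ker, hg, Ideal.Quotient.eq_zero_iff_mem]
    exact hms a ha
  refine ⟨Submodule.liftQ _ g hker, ?_⟩
  rw [← LinearMap.ker_eq_bot, Submodule.ker_liftQ_eq_bot']
  refine le_antisymm hker ?_
  intro a ha
  rw [LinearMap.mem_ker, hg, Ideal.Quotient.eq_zero_iff_mem] at ha
  by_contra hna
  have hu : IsUnit a := by
    by_contra h
    exact hna ((IsLocalRing.mem_maximalIdeal a).2 h)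
  obtain ⟨b, hb⟩ := hu.exists_left_inv
  apply hs
  have : s = b * (a * s) := by rw [← mul_assoc, hb, one_mul]
  rw [this]
  exact I.mul_mem_left b ha

end Socle

section Maps

variable {A : Type u} [CommRing A] [IsArtinianRing A] [IsLocalRing A]
  {N M : Type*} [AddCommGroup N] [Module A N] [AddCommGroup M] [Module A M]
  (u : N →ₗ[A] M)

omit [IsArtinianRing A] [IsLocalRing A] in
/-- If `k ↪ V` and `N` is flat, injectivity of `V ⊗ u` implies injectivity of `k ⊗ u`. -/
theorem lTensor_injective_of_injective_of_lTensor_injective [Module.Flat A N]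
    {k V : Type*} [AddCommGroup k] [Module A k] [AddCommGroup V] [Module A V]
    (ι : k →ₗ[A] V) (hι : Injective ι) (h : Injective (u.lTensor V)) :
    Injective (u.lTensor k) := by
  have h1 : Injective (ι.rTensor N) := Module.Flat.rTensor_preserves_injective_linearMap ι hι
  have h2 : Injective ((u.lTensor V) ∘ₗ (ι.rTensor N)) := h.comp h1
  rw [LinearMap.lTensor_comp_rTensor, ← LinearMap.rTensor_comp_lTensor] at h2
  exact Injective.of_comp h2

/-- Over an Artinian local ring, if `(A ⧸ I) ⊗ u` is injective for one proper ideal `I` then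
`k ⊗ u` is injective. -/
theorem lTensor_residue_injective [Module.Flat A N] (I : Ideal A) (hI : I ≠ ⊤)
    (h : Injective (u.lTensor (A ⧸ I))) : Injective (u.lTensor (A ⧸ maximalIdeal A)) := by
  obtain ⟨ι, hι⟩ := exists_injective_residue_quotient I hI
  exact lTensor_injective_of_injective_of_lTensor_injective u ι hι h

/-- Over an Artinian local ring, if `(A ⧸ I) ⊗ u` is injective for one proper ideal `I` and `M` is
flat then `V ⊗ u` is injective for every `V`. -/
theorem lTensor_injective_of_lTensor_quotient_injective [Module.Flat A N] [Module.Flat A M]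
    (I : Ideal A) (hI : I ≠ ⊤) (h : Injective (u.lTensor (A ⧸ I)))
    (V : Type v) [AddCommGroup V] [Module A V] : Injective (u.lTensor V) := by
  have hk : Injective (u.lTensor (IsLocalRing.ResidueField A)) := lTensor_residue_injective u I hI h
  obtain ⟨n, hn⟩ := isNilpotent_maximalIdeal_of_isArtinianRing (A := A)
  refine Groth.Agent.Lib.Helper9.lTensor_injective_of_isTorsionBySet_pow u hk n ?_
  rintro x ⟨a, ha⟩
  rw [hn] at ha
  have : a = 0 := by simpa using ha
  simp [this]

omit [IsArtinianRing A] [IsLocalRing A] in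
theorem injective_of_lTensor_self_injective (h : Injective (u.lTensor A)) : Injective u := by
  intro a b hab
  have h2 : u.lTensor A ((1 : A) ⊗ₜ a) = u.lTensor A ((1 : A) ⊗ₜ b) := by
    rw [LinearMap.lTensor_tmul, LinearMap.lTensor_tmul, hab]
  have h3 := congrArg (TensorProduct.lid A N) (h h2)
  simpa using h3

/-- Over an Artinian local ring, a map between flat modules is injective iff it is so modulo one
proper ideal. -/
theorem injective_iff_lTensor_quotient_injective [Module.Flat A N] [Module.Flat A M]
    (I : Ideal A) (hI : I ≠ ⊤) : Injective u ↔ Injective (u.lTensor (A ⧸ I)) := by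
  constructor
  · intro hu
    have h1 : Injective (u.lTensor A) := Module.Flat.lTensor_preserves_injective_linearMap u hu
    obtain ⟨ι, hι⟩ := exists_injective_residue_quotient (⊥ : Ideal A) bot_ne_top
    let e : (A ⧸ (⊥ : Ideal A)) ≃ₗ[A] A := Submodule.quotEquivOfEqBot ⊥ rfl
    have h2 : Injective (u.lTensor (A ⧸ maximalIdeal A)) :=
      lTensor_injective_of_injective_of_lTensor_injective u (e.toLinearMap ∘ₗ ι)
        (e.injective.comp hι) h1
    have h3 : Injective (u.lTensor (A ⧸ maximalIdeal A)) →
        Injective (u.lTensor (A ⧸ I)) := fun h =>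
      lTensor_injective_of_lTensor_quotient_injective u (maximalIdeal A)
        (Ideal.IsPrime.ne_top inferInstance) h (A ⧸ I)
    exact h3 h2
  · intro h
    exact injective_of_lTensor_self_injective u
      (lTensor_injective_of_lTensor_quotient_injective u I hI h A)

/-- Over an Artinian local ring, the cokernel of a map between flat modules that is injective modulo
a proper ideal is flat. -/
theorem flat_quotient_range_of_lTensor_quotient_injective [Module.Flat A N] [Module.Flat A M]
    (I : Ideal A) (hI : I ≠ ⊤) (h : Injective (u.lTensor (A ⧸ I))) :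
    Module.Flat A (M ⧸ LinearMap.range u) := by
  rw [Module.Flat.iff_lTensor_injective']
  intro J
  exact lTensor_injective_of_exact_of_exact_of_rTensor_injective
    (LinearMap.exact_map_mkQ_range u) (Submodule.mkQ_surjective _)
    (LinearMap.exact_subtype_mkQ J) (Submodule.mkQ_surjective _)
    ((u.lTensor_inj_iff_rTensor_inj (A ⧸ J)).mp
      (lTensor_injective_of_lTensor_quotient_injective u I hI h (A ⧸ J)))
    (Module.Flat.lTensor_preserves_injective_linearMap _ J.injective_subtype)

theorem flat_quotient_range_of_injective [Module.Flat A N] [Module.Flat A M]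
    (hu : Injective u) : Module.Flat A (M ⧸ LinearMap.range u) :=
  flat_quotient_range_of_lTensor_quotient_injective u (maximalIdeal A)
    (Ideal.IsPrime.ne_top inferInstance)
    ((injective_iff_lTensor_quotient_injective u _ (Ideal.IsPrime.ne_top inferInstance)).1 hu)

end Maps

end Groth.Agent.Lib.Helper3
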