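import Groth.Agent.Lib.Helper3.ArtinLocalFlat
import Mathlib.RingTheory.Regular.RegularSequence
import Mathlib.LinearAlgebra.Isomorphisms

/-!
# Regular sequences on flat modules over Artinian local rings (helper3 library)

`A` Artinian local, `I` a proper ideal, `S` an `A`-algebra, `M` an `S`-module flat over `A`.
A sequence in `S` is `M`-regular iff it is `M/IM`-regular, and then `M/(rs)M` is flat over `A`.
-/

set_option autoImplicit false

namespace Groth.Agent.Lib.Helper3

open TensorProduct Function IsLocalRing Pointwise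

universe u v w

section SModule

variable (A : Type u) [CommRing A] (S : Type v) [CommRing S] [Algebra A S]
  (M : Type w) [AddCommGroup M] [Module A M] [Module S M] [IsScalarTower A S M]

/-- Multiplication by `f : S` as an `A`-linear endomorphism of `M`. -/
def smulLin (f : S) : M →ₗ[A] M := (LinearMap.lsmul S M f).restrictScalars A

@[simp] lemma smulLin_apply (f : S) (m : M) : smulLin A S M f m = f • m := rfl

lemma isSMulRegular_iff_injective_smulLin (f : S) :
    IsSMulRegular M f ↔ Injective (smulLin A S M f) := Iff.rfl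

variable {A}

/-- `(A ⧸ I) ⊗[A] M ≃ M ⧸ (IS)M`. -/
noncomputable def quotTensorEquivQuotMapSMul (I : Ideal A) :
    (A ⧸ I) ⊗[A] M ≃ₗ[A] M ⧸ (I.map (algebraMap A S) • (⊤ : Submodule S M)) :=
  (TensorProduct.quotTensorEquivQuotSMul M I).trans
    ((Submodule.quotEquivOfEq _ _ (by
      rw [Ideal.smul_restrictScalars, Submodule.restrictScalars_top])).trans
      (Submodule.Quotient.restrictScalarsEquiv A
        (I.map (algebraMap A S) • (⊤ : Submodule S M))))

lemma quotTensorEquivQuotMapSMul_mk_tmul (I : Ideal A) (a : A) (m : M) :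
    quotTensorEquivQuotMapSMul S M I (Ideal.Quotient.mk I a ⊗ₜ m) =
      Submodule.Quotient.mk (a • m) := rfl

lemma quotTensorEquivQuotMapSMul_lTensor (I : Ideal A) (f : S) (z : (A ⧸ I) ⊗[A] M) :
    quotTensorEquivQuotMapSMul S M I ((smulLin A S M f).lTensor (A ⧸ I) z) =
      f • quotTensorEquivQuotMapSMul S M I z := by
  induction z using TensorProduct.induction_on with
  | zero => simp
  | add x y hx hy => rw [map_add, map_add, hx, hy, map_add, smul_add]
  | tmul q m =>
    obtain ⟨a, rfl⟩ := Ideal.Quotient.mk_surjective q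
    rw [LinearMap.lTensor_tmul, smulLin_apply, quotTensorEquivQuotMapSMul_mk_tmul,
      quotTensorEquivQuotMapSMul_mk_tmul, ← Submodule.Quotient.mk_smul, smul_comm]

lemma isSMulRegular_quot_iff (I : Ideal A) (f : S) :
    IsSMulRegular (M ⧸ (I.map (algebraMap A S) • (⊤ : Submodule S M))) f ↔
      Injective ((smulLin A S M f).lTensor (A ⧸ I)) := by
  let e := quotTensorEquivQuotMapSMul S M I
  have hcomm : (fun x : M ⧸ (I.map (algebraMap A S) • (⊤ : Submodule S M)) => f • x) ∘ e =
      e ∘ ((smulLin A S M f).lTensor (A ⧸ I)) := by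
    funext z
    exact (quotTensorEquivQuotMapSMul_lTensor S M I f z).symm
  unfold IsSMulRegular
  rw [← Injective.of_comp_iff' _ e.bijective, hcomm, Injective.of_comp_iff e.injective]

lemma range_smulLin (f : S) :
    LinearMap.range (smulLin A S M f) = (f • (⊤ : Submodule S M)).restrictScalars A := by
  ext x
  rw [Submodule.restrictScalars_mem, Submodule.mem_smul_pointwise_iff_exists, LinearMap.mem_range]
  constructor
  · rintro ⟨y, rfl⟩; exact ⟨y, trivial, rfl⟩
  · rintro ⟨y, -, rfl⟩; exact ⟨y, rfl⟩

/-- `M ⧸ range (f • ·) ≃ QuotSMulTop f M` as `A`-modules. -/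
noncomputable def quotRangeSMulLinEquiv (f : S) :
    (M ⧸ LinearMap.range (smulLin A S M f)) ≃ₗ[A] QuotSMulTop f M :=
  (Submodule.quotEquivOfEq _ _ (range_smulLin S M f)).trans
    (Submodule.Quotient.restrictScalarsEquiv A (f • (⊤ : Submodule S M)))

variable [IsArtinianRing A] [IsLocalRing A]

theorem isSMulRegular_iff_isSMulRegular_quot [Module.Flat A M] (I : Ideal A) (hI : I ≠ ⊤)
    (f : S) :
    IsSMulRegular M f ↔
      IsSMulRegular (M ⧸ (I.map (algebraMap A S) • (⊤ : Submodule S M))) f := by
  rw [isSMulRegular_quot_iff S, isSMulRegular_iff_injective_smulLin A S,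
    injective_iff_lTensor_quotient_injective _ I hI]

theorem flat_quotSMulTop [Module.Flat A M] (f : S) (hf : IsSMulRegular M f) :
    Module.Flat A (QuotSMulTop f M) :=
  haveI := flat_quotient_range_of_injective (smulLin A S M f) hf
  Module.Flat.of_linearEquiv (quotRangeSMulLinEquiv S M f).symm

end SModule

section Sequence

open RingTheory.Sequence

variable {S : Type v} [CommRing S]

lemma isRegular_nil_iff (M : Type w) [AddCommGroup M] [Module S M] :
    IsRegular M ([] : List S) ↔ Nontrivial M := by
  rw [isRegular_iff, Ideal.ofList_nil, Submodule.bot_smul]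
  simp only [IsWeaklyRegular.nil, true_and]
  rw [ne_comm, Ne, subsingleton_iff_bot_eq_top, Submodule.subsingleton_iff,
    not_subsingleton_iff_nontrivial]

/-- `(M/rM)/J(M/rM) ≃ (M/JM)/r(M/JM)`. -/
noncomputable def quotSMulTopQuotEquiv (M : Type w) [AddCommGroup M] [Module S M] (J : Ideal S)
    (r : S) :
    (QuotSMulTop r M ⧸ (J • (⊤ : Submodule S (QuotSMulTop r M)))) ≃ₗ[S]
      QuotSMulTop r (M ⧸ (J • (⊤ : Submodule S M))) :=
  have h1 : (J • (⊤ : Submodule S (M ⧸ (r • (⊤ : Submodule S M))))) =
      (J • (⊤ : Submodule S M)).map (r • (⊤ : Submodule S M)).mkQ := by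
    rw [Submodule.map_smul'', Submodule.map_top, Submodule.range_mkQ]
  have h2 : (r • (⊤ : Submodule S (M ⧸ (J • (⊤ : Submodule S M))))) =
      (r • (⊤ : Submodule S M)).map (J • (⊤ : Submodule S M)).mkQ := by
    rw [Submodule.map_pointwise_smul, Submodule.map_top, Submodule.range_mkQ]
  (Submodule.quotEquivOfEq _ _ h1).trans <|
    (Submodule.quotientQuotientEquivQuotientSup (r • (⊤ : Submodule S M))
      (J • (⊤ : Submodule S M))).trans <|
      (Submodule.quotEquivOfEq _ _ (sup_comm _ _)).trans <|
        (Submodule.quotientQuotientEquivQuotientSup (J • (⊤ : Submodule S M))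
          (r • (⊤ : Submodule S M))).symm.trans
          (Submodule.quotEquivOfEq _ _ h2.symm)

variable {A : Type u} [CommRing A] [IsArtinianRing A] [IsLocalRing A] [Algebra A S]

omit [IsArtinianRing A] [IsLocalRing A] in
lemma nontrivial_quot_iff_of_isNilpotent (I : Ideal A) (hI : IsNilpotent I)
    (M : Type w) [AddCommGroup M] [Module A M] [Module S M] [IsScalarTower A S M] :
    Nontrivial (M ⧸ (I.map (algebraMap A S) • (⊤ : Submodule S M))) ↔ Nontrivial M := by
  rw [← not_subsingleton_iff_nontrivial, ← not_subsingleton_iff_nontrivial, not_iff_not]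
  constructor
  · intro h
    rw [Submodule.Quotient.subsingleton_iff] at h
    have h1 : (I • (⊤ : Submodule A M)) = ⊤ := by
      rw [← Submodule.restrictScalars_top A S M, ← Ideal.smul_restrictScalars, h]
    have h3 : (⊥ : Submodule A M) = ⊤ :=
      Groth.Agent.Lib.Helper9.eq_top_of_sup_smul_top_eq_top I hI ⊥ (by rw [bot_sup_eq, h1])
    exact (Submodule.subsingleton_iff A).mp (subsingleton_of_bot_eq_top h3)
  · intro h
    infer_instance

lemma isNilpotent_of_ne_top (I : Ideal A) (hI : I ≠ ⊤) : IsNilpotent I := by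
  obtain ⟨n, hn⟩ := isNilpotent_maximalIdeal_of_isArtinianRing (A := A)
  refine ⟨n, ?_⟩
  have : I ^ n ≤ maximalIdeal A ^ n := Ideal.pow_right_mono (IsLocalRing.le_maximalIdeal hI) n
  rw [hn] at this
  exact le_bot_iff.1 this

/-- Main theorem: regular sequences on flat modules over an Artinian local ring can be tested
modulo a proper ideal, and the quotient is flat. -/
theorem isRegular_iff_and_flat (I : Ideal A) (hI : I ≠ ⊤) (rs : List S) :
    ∀ (M : Type w) [AddCommGroup M] [Module A M] [Module S M] [IsScalarTower A S M]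
      [Module.Flat A M],
      (IsRegular M rs ↔
        IsRegular (M ⧸ (I.map (algebraMap A S) • (⊤ : Submodule S M))) rs) ∧
      (IsRegular M rs → Module.Flat A (M ⧸ (Ideal.ofList rs • (⊤ : Submodule S M)))) := by
  induction rs with
  | nil =>
    intro M _ _ _ _ _
    constructor
    · rw [isRegular_nil_iff, isRegular_nil_iff,
        nontrivial_quot_iff_of_isNilpotent I (isNilpotent_of_ne_top I hI)]
    · intro _
      have h0 : (Ideal.ofList ([] : List S) • (⊤ : Submodule S M)) = ⊥ := by
        rw [Ideal.ofList_nil, Submodule.bot_smul]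
      exact Module.Flat.of_linearEquiv
        ((Submodule.quotEquivOfEqBot _ h0).restrictScalars A)
  | cons r rs ih =>
    intro M _ _ _ _ _
    have hr := isSMulRegular_iff_isSMulRegular_quot S M I hI r
    constructor
    · rw [isRegular_cons_iff, isRegular_cons_iff, ← hr]
      refine and_congr_right fun hreg => ?_
      haveI : Module.Flat A (QuotSMulTop r M) := flat_quotSMulTop S M r hreg
      rw [(ih (QuotSMulTop r M)).1]
      exact (quotSMulTopQuotEquiv M (I.map (algebraMap A S)) r).isRegular_congr rs
    · intro h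
      rw [isRegular_cons_iff] at h
      haveI : Module.Flat A (QuotSMulTop r M) := flat_quotSMulTop S M r h.1
      haveI := (ih (QuotSMulTop r M)).2 h.2
      exact Module.Flat.of_linearEquiv
        ((Submodule.quotOfListConsSMulTopEquivQuotSMulTopInner M r rs).restrictScalars A)

end Sequence

end Groth.Agent.Lib.Helper3
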