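import Mathlib

/-!
# Associated primes of `N ⊗[R] M` for `N` flat over a Noetherian ring `R`
(EGA IV 3.3.1 / Bourbaki AC IV §2.6 Thm 2), for Mathlib's radical-annihilator notion of
associated prime.
-/

namespace Groth.Agent.Lib.Helper3.AssTensor

open TensorProduct

universe v

section Pi

variable {S : Type*} [CommRing S] {ι : Type*} [Finite ι] (X : ι → Type*)
  [∀ i, AddCommGroup (X i)] [∀ i, Module S (X i)]

theorem mem_radical_colon_bot {Y : Type*} [AddCommGroup Y] [Module S Y] (y : Y) (r : S) :
    r ∈ ((⊥ : Submodule S Y).colon {y}).radical ↔ ∃ k : ℕ, r ^ k • y = 0 := by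
  simp [Ideal.mem_radical_iff, Submodule.mem_colon_singleton]

theorem associatedPrimes_pi_subset :
    associatedPrimes S (∀ i, X i) ⊆ ⋃ i, associatedPrimes S (X i) := by
  classical
  cases nonempty_fintype ι
  rintro q ⟨hq, z, hz⟩
  have hinf : q = Finset.univ.inf fun i => ((⊥ : Submodule S (X i)).colon {z i}).radical := by
    ext r
    rw [hz, mem_radical_colon_bot]
    simp only [Submodule.mem_finsetInf, Finset.mem_univ, true_imp_iff, mem_radical_colon_bot]
    constructor
    · rintro ⟨k, hk⟩ i
      exact ⟨k, by simpa using congrFun hk i⟩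
    · intro h
      choose k hk using h
      refine ⟨Finset.univ.sup k, ?_⟩
      ext i
      have : k i ≤ Finset.univ.sup k := Finset.le_sup (Finset.mem_univ i)
      obtain ⟨d, hd⟩ := Nat.exists_eq_add_of_le this
      simp only [Pi.smul_apply, Pi.zero_apply]
      rw [hd, pow_add, mul_comm, mul_smul, hk i, smul_zero]
  rw [hinf] at hq
  obtain ⟨i, -, hi⟩ := Ideal.eq_inf_of_isPrime_inf hq
  rw [← hinf] at hi hq
  exact Set.mem_iUnion.mpr ⟨i, ⟨hq, z i, hi.symm⟩⟩

end Pi

section Basic

variable {R : Type*} (S : Type*) [CommRing R] [CommRing S] [Algebra R S]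
  (N : Type*) [AddCommGroup N] [Module S N] [Module R N] [IsScalarTower R S N] [Module.Flat R N]

theorem ass_subset_of_injective {A B : Type*} [AddCommGroup A] [Module R A] [AddCommGroup B]
    [Module R B] (f : A →ₗ[R] B) (hf : Function.Injective f) :
    associatedPrimes S (N ⊗[R] A) ⊆ associatedPrimes S (N ⊗[R] B) :=
  associatedPrimes.subset_of_injective (f := AlgebraTensorModule.lTensor S N f)
    (Module.Flat.lTensor_preserves_injective_linearMap f hf)

theorem ass_subset_union_of_exact {A B C : Type*} [AddCommGroup A] [Module R A] [AddCommGroup B]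
    [Module R B] [AddCommGroup C] [Module R C] (f : A →ₗ[R] B) (g : B →ₗ[R] C)
    (hf : Function.Injective f) (hfg : Function.Exact f g) :
    associatedPrimes S (N ⊗[R] B) ⊆
      associatedPrimes S (N ⊗[R] A) ∪ associatedPrimes S (N ⊗[R] C) :=
  associatedPrimes.subset_union_of_exact (f := AlgebraTensorModule.lTensor S N f)
    (g := AlgebraTensorModule.lTensor S N g)
    (Module.Flat.lTensor_preserves_injective_linearMap f hf)
    (Module.Flat.lTensor_exact N hfg)

theorem ass_eq_empty_of_subsingleton {A : Type*} [AddCommGroup A] [Module R A] [Subsingleton A] :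
    associatedPrimes S (N ⊗[R] A) = ∅ :=
  associatedPrimes.eq_empty_of_subsingleton

theorem ass_pi_subset {ι : Type*} [Finite ι] (A : ι → Type*) [∀ i, AddCommGroup (A i)]
    [∀ i, Module R (A i)] :
    associatedPrimes S (N ⊗[R] (∀ i, A i)) ⊆ ⋃ i, associatedPrimes S (N ⊗[R] A i) := by
  classical
  cases nonempty_fintype ι
  rw [LinearEquiv.AssociatedPrimes.eq (TensorProduct.piRight R S N A)]
  exact associatedPrimes_pi_subset _

end Basic

section TorsionFree

open Submodule Set Module in
/-- A finite torsion-free module over a domain embeds into a finite free module. -/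
theorem exists_injective_to_free {D L : Type*} [CommRing D] [IsDomain D] [AddCommGroup L]
    [Module D L] [Module.Finite D L] [Module.IsTorsionFree D L] :
    ∃ (ι : Type) (_ : Finite ι) (f : L →ₗ[D] (ι → D)), Function.Injective f := by
  classical
  obtain ⟨n, s, hs⟩ := Module.Finite.exists_fin (R := D) (M := L)
  obtain ⟨I, indepI, hI⟩ := exists_maximal_linearIndepOn D s
  have indepI' : LinearIndependent D (s ∘ (fun x => x) : I → L) := indepI
  let N := span D (range <| (s ∘ (fun x => x) : I → L))
  let sI_basis : Basis I D N := Basis.span indepI'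
  have exists_a : ∀ i : Fin n, ∃ a : D, a ≠ 0 ∧ a • s i ∈ N := by
    intro i
    by_cases hi : i ∈ I
    · use 1, zero_ne_one.symm
      rw [one_smul]
      exact subset_span (mem_range_self (⟨i, hi⟩ : I))
    · simpa [image_eq_range s I] using! hI i hi
  choose a ha ha' using exists_a
  let A := ∏ i, a i
  have hA : A ≠ 0 := by
    rw [Finset.prod_ne_zero_iff]
    simpa using! ha
  let φ : L →ₗ[D] L := LinearMap.lsmul D L A
  have hker : LinearMap.ker φ = ⊥ := LinearMap.ker_lsmul hA
  have hrange : LinearMap.range φ ≤ N := by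
    suffices ∀ i, φ (s i) ∈ N by
      rw [LinearMap.range_eq_map, ← hs, map_span_le]
      rintro _ ⟨i, rfl⟩
      apply this
    intro i
    calc
      (∏ j ∈ {i}ᶜ, a j) • a i • s i ∈ N := N.smul_mem _ (ha' i)
      _ = (∏ j, a j) • s i := by rw [Fintype.prod_eq_prod_compl_mul i, mul_smul]
  let ψ : L →ₗ[D] N := φ.codRestrict N (fun x => hrange (LinearMap.mem_range_self φ x))
  have hψ : Function.Injective ψ := by
    rw [← LinearMap.ker_eq_bot, LinearMap.ker_codRestrict, hker]
  refine ⟨I, inferInstance,
    ((Finsupp.linearEquivFunOnFinite D D I).toLinearMap ∘ₗ sI_basis.repr.toLinearMap) ∘ₗ ψ, ?_⟩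
  simp only [LinearMap.coe_comp, LinearEquiv.coe_coe]
  exact ((Finsupp.linearEquivFunOnFinite D D I).injective.comp sI_basis.repr.injective).comp hψ

end TorsionFree

section Coprimary

variable {R : Type*} (S : Type*) [CommRing R] [CommRing S] [Algebra R S]
  (N : Type*) [AddCommGroup N] [Module S N] [Module R N] [IsScalarTower R S N] [Module.Flat R N]

theorem ass_subset_of_torsionFree_quotient (p : Ideal R) [p.IsPrime] {L : Type*} [AddCommGroup L]
    [Module R L] [Module.Finite R L]
    (hp : ∀ a ∈ p, ∀ x : L, a • x = 0) (hreg : ∀ a ∉ p, ∀ x : L, a • x = 0 → x = 0) :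
    associatedPrimes S (N ⊗[R] L) ⊆ associatedPrimes S (N ⊗[R] (R ⧸ p)) := by
  have hM : Module.IsTorsionBySet R L p := fun x a => hp a a.2 x
  letI := hM.module
  haveI : IsScalarTower R (R ⧸ p) L := hM.isScalarTower
  haveI : Module.Finite (R ⧸ p) L := Module.Finite.of_restrictScalars_finite R (R ⧸ p) L
  haveI : Module.IsTorsionFree (R ⧸ p) L := by
    refine ⟨fun r hr x y hxy => ?_⟩
    obtain ⟨a, rfl⟩ := Ideal.Quotient.mk_surjective r
    have ha : a ∉ p := by
      intro ha
      have : (Ideal.Quotient.mk p a) = 0 := Ideal.Quotient.eq_zero_iff_mem.mpr ha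
      exact hr.ne_zero this
    have h1 : a • (x - y) = 0 := by
      have : a • x = a • y := hxy
      rw [smul_sub, this, sub_self]
    exact sub_eq_zero.mp (hreg a ha _ h1)
  obtain ⟨ι, _, f, hf⟩ := exists_injective_to_free (D := R ⧸ p) (L := L)
  refine (ass_subset_of_injective S N (f.restrictScalars R) hf).trans ?_
  refine (ass_pi_subset S N (fun _ : ι => R ⧸ p)).trans ?_
  exact Set.iUnion_subset fun _ => subset_rfl

theorem ass_subset_of_coprimary [IsNoetherianRing R] (p : Ideal R) [p.IsPrime] (k : ℕ) :
    ∀ {L : Type v} [AddCommGroup L] [Module R L] [Module.Finite R L],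
      (∀ a ∈ p ^ k, ∀ x : L, a • x = 0) → (∀ a ∉ p, ∀ x : L, a • x = 0 → x = 0) →
      associatedPrimes S (N ⊗[R] L) ⊆ associatedPrimes S (N ⊗[R] (R ⧸ p)) := by
  induction k with
  | zero =>
    intro L _ _ _ hk _
    have : Subsingleton L := ⟨fun x y => by
      have hx := hk 1 (by simp) x
      have hy := hk 1 (by simp) y
      rw [one_smul] at hx hy
      rw [hx, hy]⟩
    rw [ass_eq_empty_of_subsingleton]
    exact Set.empty_subset _
  | succ k ih =>
    intro L _ _ _ hk hreg
    let L' : Submodule R L :=
      { carrier := {x | ∀ a ∈ p, a • x = 0}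
        add_mem' := fun {x y} hx hy a ha => by rw [smul_add, hx a ha, hy a ha, add_zero]
        zero_mem' := fun a _ => smul_zero a
        smul_mem' := fun c x hx a ha => by rw [smul_comm, hx a ha, smul_zero] }
    have h1 : associatedPrimes S (N ⊗[R] L') ⊆ associatedPrimes S (N ⊗[R] (R ⧸ p)) := by
      apply ass_subset_of_torsionFree_quotient S N p
      · intro a ha x
        exact Subtype.ext (x.2 a ha)
      · intro a ha x hx
        exact Subtype.ext (hreg a ha x (congrArg Subtype.val hx))
    have h2 : associatedPrimes S (N ⊗[R] (L ⧸ L')) ⊆ associatedPrimes S (N ⊗[R] (R ⧸ p)) := by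
      apply ih
      · intro a ha x
        obtain ⟨x, rfl⟩ := Submodule.Quotient.mk_surjective L' x
        rw [← Submodule.Quotient.mk_smul, Submodule.Quotient.mk_eq_zero]
        intro b hb
        rw [← mul_smul]
        exact hk _ (by rw [pow_succ']; exact Ideal.mul_mem_mul hb ha) x
      · intro a ha x hx
        obtain ⟨x, rfl⟩ := Submodule.Quotient.mk_surjective L' x
        rw [← Submodule.Quotient.mk_smul, Submodule.Quotient.mk_eq_zero] at hx
        rw [Submodule.Quotient.mk_eq_zero]
        intro b hb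
        apply hreg a ha
        rw [smul_comm]
        exact hx b hb
    exact (ass_subset_union_of_exact S N L'.subtype L'.mkQ L'.injective_subtype
      (LinearMap.exact_subtype_mkQ L')).trans (Set.union_subset h1 h2)

theorem ass_subset_of_finite [IsNoetherianRing R] {M : Type v} [AddCommGroup M] [Module R M]
    [Module.Finite R M] :
    associatedPrimes S (N ⊗[R] M) ⊆
      ⋃ p ∈ associatedPrimes R M, associatedPrimes S (N ⊗[R] (R ⧸ p)) := by
  classical
  obtain ⟨t, ht⟩ := Submodule.IsLasker.exists_isMinimalPrimaryDecomposition (Submodule.isLasker R M) ⊥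
  let φ : M →ₗ[R] (∀ Q : t, M ⧸ Q.1) := LinearMap.pi fun Q => Q.1.mkQ
  have hφ : Function.Injective φ := by
    rw [← LinearMap.ker_eq_bot, eq_bot_iff]
    intro x hx
    rw [← ht.inf_eq, Submodule.mem_finsetInf]
    intro Q hQ
    have := congrFun hx ⟨Q, hQ⟩
    simpa [φ] using this
  refine (ass_subset_of_injective S N φ hφ).trans ?_
  refine (ass_pi_subset S N _).trans ?_
  refine Set.iUnion_subset fun Q => ?_
  have hQ := ht.primary Q.2
  have hprime := hQ.isPrime_radical_colon
  have hp : (Q.1.colon Set.univ).radical ∈ associatedPrimes R M := ht.mem_associatedPrimes Q.2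
  refine subset_trans ?_ (Set.subset_biUnion_of_mem hp)
  obtain ⟨k, hk⟩ := Ideal.exists_pow_le_of_le_radical_of_fg
    (le_refl (Q.1.colon Set.univ).radical) (IsNoetherian.noetherian _)
  apply ass_subset_of_coprimary S N _ k
  · intro a ha x
    obtain ⟨x, rfl⟩ := Submodule.Quotient.mk_surjective _ x
    rw [← Submodule.Quotient.mk_smul, Submodule.Quotient.mk_eq_zero]
    exact Submodule.mem_colon.mp (hk ha) x (Set.mem_univ x)
  · intro a ha x hx
    obtain ⟨x, rfl⟩ := Submodule.Quotient.mk_surjective _ x
    rw [← Submodule.Quotient.mk_smul, Submodule.Quotient.mk_eq_zero] at hx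
    rw [Submodule.Quotient.mk_eq_zero]
    exact (hQ.mem_or_mem hx).resolve_right ha

theorem ass_subset [IsNoetherianRing R] {M : Type v} [AddCommGroup M] [Module R M] :
    associatedPrimes S (N ⊗[R] M) ⊆
      ⋃ p ∈ associatedPrimes R M, associatedPrimes S (N ⊗[R] (R ⧸ p)) := by
  rintro q ⟨hq, z, hz⟩
  obtain ⟨M', hfin, hM'⟩ :=
    TensorProduct.exists_finite_submodule_right_of_setFinite (M := N) ({z} : Set (N ⊗[R] M))
      (Set.finite_singleton z)
  obtain ⟨z', hz'⟩ := hM' (Set.mem_singleton z)
  have hinj : Function.Injective (AlgebraTensorModule.lTensor S N M'.subtype) :=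
    Module.Flat.lTensor_preserves_injective_linearMap _ M'.injective_subtype
  have hz'' : AlgebraTensorModule.lTensor S N M'.subtype z' = z := hz'
  have hmem : q ∈ associatedPrimes S (N ⊗[R] M') := by
    refine ⟨hq, z', ?_⟩
    rw [hz]
    ext r
    simp only [Ideal.mem_radical_iff, Submodule.mem_colon_singleton, Submodule.mem_bot]
    refine exists_congr fun k => ?_
    rw [← hz'', ← map_smul, map_eq_zero_iff _ hinj]
  obtain ⟨p, hp, hqp⟩ := Set.mem_iUnion₂.mp (ass_subset_of_finite S N hmem)
  exact Set.mem_iUnion₂.mpr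
    ⟨p, associatedPrimes.subset_of_injective M'.injective_subtype hp, hqp⟩

end Coprimary

section Main

variable {R : Type*} (S : Type*) [CommRing R] [CommRing S] [Algebra R S]
  (N : Type*) [AddCommGroup N] [Module S N] [Module R N] [IsScalarTower R S N]

/-- `N ⊗[R] (R ⧸ p) ≃ N ⧸ pN`, as `R`-modules, with target the quotient by an `S`-submodule. -/
noncomputable def tensorQuotEquivR (p : Ideal R) :
    N ⊗[R] (R ⧸ p) ≃ₗ[R] N ⧸ (p.map (algebraMap R S) • (⊤ : Submodule S N)) :=
  (TensorProduct.tensorQuotEquivQuotSMul N p).trans <|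
    (Submodule.quotEquivOfEq _ _ (by rw [Ideal.smul_restrictScalars]; rfl)).trans
      (Submodule.Quotient.restrictScalarsEquiv R
        (p.map (algebraMap R S) • (⊤ : Submodule S N)))

theorem tensorQuotEquivR_tmul (p : Ideal R) (n : N) (r : R) :
    tensorQuotEquivR S N p (n ⊗ₜ[R] Ideal.Quotient.mk p r) = Submodule.Quotient.mk (r • n) := by
  simp [tensorQuotEquivR]

/-- `N ⊗[R] (R ⧸ p) ≃ N ⧸ pN` as `S`-modules. -/
noncomputable def tensorQuotEquiv (p : Ideal R) :
    N ⊗[R] (R ⧸ p) ≃ₗ[S] N ⧸ (p.map (algebraMap R S) • (⊤ : Submodule S N)) :=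
  { tensorQuotEquivR S N p with
    map_smul' := by
      intro s z
      induction z with
      | zero => simp
      | add x y hx hy =>
        simp only [smul_add, map_add, AddHom.toFun_eq_coe, LinearMap.coe_toAddHom,
          LinearEquiv.coe_coe, RingHom.id_apply] at hx hy ⊢
        rw [hx, hy]
      | tmul n r =>
        obtain ⟨r, rfl⟩ := Ideal.Quotient.mk_surjective r
        simp only [AddHom.toFun_eq_coe, LinearMap.coe_toAddHom, LinearEquiv.coe_coe,
          RingHom.id_apply, TensorProduct.smul_tmul', tensorQuotEquivR_tmul]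
        rw [smul_comm, Submodule.Quotient.mk_smul] }

/-- EGA IV 3.3.1: associated primes of `N ⊗[R] M` for `N` flat over Noetherian `R`. -/
theorem associatedPrimes_tensor [IsNoetherianRing R] [Module.Flat R N] {M : Type v}
    [AddCommGroup M] [Module R M] :
    associatedPrimes S (N ⊗[R] M) =
      ⋃ p ∈ associatedPrimes R M,
        associatedPrimes S (N ⧸ p.map (algebraMap R S) • (⊤ : Submodule S N)) := by
  have key : ∀ p : Ideal R, associatedPrimes S (N ⧸ p.map (algebraMap R S) • (⊤ : Submodule S N))
      = associatedPrimes S (N ⊗[R] (R ⧸ p)) :=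
    fun p => (LinearEquiv.AssociatedPrimes.eq (tensorQuotEquiv S N p)).symm
  simp_rw [key]
  apply subset_antisymm (ass_subset S N)
  refine Set.iUnion₂_subset fun p hp => ?_
  obtain ⟨_, f, hf⟩ := (isAssociatedPrime_iff_exists_injective_linearMap (I := p) (M := M)).mp hp
  exact ass_subset_of_injective S N f hf

end Main

end Groth.Agent.Lib.Helper3.AssTensor
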