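import Mathlib.AlgebraicGeometry.Gluing
import Mathlib.AlgebraicGeometry.Pullbacks
/-!
# Checking that a square of schemes is a pullback on explicit charts
-/
universe u
open CategoryTheory CategoryTheory.Limits AlgebraicGeometry Opposite TopologicalSpace

namespace Groth.Agent.Lib.Helper3.GlueCharts

/-- A square is a pullback if it is so over the members of an open cover of one factor, where the
preimages of the members are given explicitly. -/
theorem isPullback_of_forall_chart {W X Y Z : Scheme.{u}} (fWX : W ⟶ X) (fWY : W ⟶ Y) (fXZ : X ⟶ Z)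
    (fYZ : Y ⟶ Z) (𝒰 : X.OpenCover) (D' : 𝒰.I₀ → Scheme.{u}) (k : ∀ i, D' i ⟶ 𝒰.X i) (j' : ∀ i, D' i ⟶ W)
    (hpb : ∀ i, IsPullback (k i) (j' i) (𝒰.f i) fWX)
    (H : ∀ i, IsPullback (k i) (j' i ≫ fWY) (𝒰.f i ≫ fXZ) fYZ) : IsPullback fWX fWY fXZ fYZ := by
  refine Scheme.isPullback_of_openCover fWX fWY fXZ fYZ 𝒰 fun i => ?_
  have h1 : (hpb i).flip.isoPullback.hom ≫ pullback.fst fWX (𝒰.f i) = j' i :=
    (hpb i).flip.isoPullback_hom_fst
  have h2 : (hpb i).flip.isoPullback.hom ≫ pullback.snd fWX (𝒰.f i) = k i :=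
    (hpb i).flip.isoPullback_hom_snd
  refine IsPullback.of_iso (H i) (hpb i).flip.isoPullback (Iso.refl _) (Iso.refl _) (Iso.refl _) ?_ ?_ ?_ ?_
  · change k i ≫ 𝟙 _ = (hpb i).flip.isoPullback.hom ≫ pullback.snd fWX (𝒰.f i)
    rw [Category.comp_id, h2]
  · change (j' i ≫ fWY) ≫ 𝟙 _ = (hpb i).flip.isoPullback.hom ≫ pullback.fst fWX (𝒰.f i) ≫ fWY
    rw [Category.comp_id, reassoc_of% h1]
  · simp
  · simp

end Groth.Agent.Lib.Helper3.GlueCharts
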