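import Groth.Agent.Lib.Helper3.QProj4
import Groth.Agent.Lib.Helper3.ProjLoc
import Groth.Agent.Lib.Helper3.PullbackCharts
import Mathlib.RingTheory.IsTensorProduct
import Mathlib.Algebra.Category.Ring.Constructions
/-!
# Homogeneous localization commutes with base change
-/
universe u
open CategoryTheory CategoryTheory.Limits AlgebraicGeometry Opposite TopologicalSpace
open HomogeneousLocalization TensorProduct
open scoped HomogeneousIdeal

namespace Groth.Agent.Lib.Helper3.AwayBC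

section Lam
variable {R A σ : Type u} [CommRing R] [CommRing A] [Algebra R A] [SetLike σ A] [AddSubgroupClass σ A]
  (𝒜 : ℕ → σ) [GradedRing 𝒜] (ρ₀ : R →+* 𝒜 0) (hρ₀ : ∀ r, (ρ₀ r : A) = algebraMap R A r)
  {d : ℕ} {f : A} (hf : f ∈ 𝒜 d)

/-- the `R`-algebra structure on the homogeneous localization through the degree zero part -/
@[reducible] def awayAlgebra (f : A) : Algebra R (Away 𝒜 f) :=
  ((fromZeroRingHom 𝒜 (Submonoid.powers f)).comp ρ₀).toAlgebra

theorem mk_add (k : ℕ) (x y : A) (hx : x ∈ 𝒜 (k • d)) (hy : y ∈ 𝒜 (k • d)) :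
    Away.mk 𝒜 hf k (x + y) (add_mem hx hy) = Away.mk 𝒜 hf k x hx + Away.mk 𝒜 hf k y hy := by
  apply HomogeneousLocalization.val_injective
  rw [HomogeneousLocalization.val_add]
  simp only [Away.val_mk]
  rw [Localization.add_mk_self]

theorem fromZero_mul_mk (k : ℕ) (c : 𝒜 0) (x : A) (hx : x ∈ 𝒜 (k • d)) :
    fromZeroRingHom 𝒜 (Submonoid.powers f) c * Away.mk 𝒜 hf k x hx =
      Away.mk 𝒜 hf k ((c : A) * x) (by simpa using SetLike.mul_mem_graded c.2 hx) := by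
  apply HomogeneousLocalization.val_injective
  rw [HomogeneousLocalization.val_mul]
  simp only [Away.val_mk, fromZeroRingHom, RingHom.coe_mk, MonoidHom.coe_mk, OneHom.coe_mk, val_mk]
  rw [Localization.mk_mul]
  congr 1
  simp

theorem mk_congr (k : ℕ) {x y : A} (h : x = y) (hx : x ∈ 𝒜 (k • d)) (hy : y ∈ 𝒜 (k • d)) :
    Away.mk 𝒜 hf k x hx = Away.mk 𝒜 hf k y hy := by
  subst h; rfl

/-- `a ↦ a_{kd} / f ^ k` -/
noncomputable def lam (k : ℕ) :
    letI := awayAlgebra 𝒜 ρ₀ f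
    A →ₗ[R] Away 𝒜 f :=
  letI := awayAlgebra 𝒜 ρ₀ f
  { toFun := fun a => Away.mk 𝒜 hf k (DirectSum.decompose 𝒜 a (k • d)) (SetLike.coe_mem _)
    map_add' := fun a b => by
      rw [← mk_add]
      exact mk_congr 𝒜 hf k (by rw [DirectSum.decompose_add]; rfl) _ _
    map_smul' := fun r a => by
      have h1 : (r • a : A) = (ρ₀ r : A) * a := by rw [Algebra.smul_def, hρ₀]
      have h2 : ∀ y : Away 𝒜 f, r • y = fromZeroRingHom 𝒜 (Submonoid.powers f) (ρ₀ r) * y :=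
        fun y => Algebra.smul_def r y
      rw [RingHom.id_apply, h2, fromZero_mul_mk]
      refine mk_congr 𝒜 hf k ?_ _ _
      rw [h1]
      exact DirectSum.coe_decompose_mul_of_left_mem_zero 𝒜 (ρ₀ r).2 }

theorem lam_apply (k : ℕ) (a : A) :
    letI := awayAlgebra 𝒜 ρ₀ f
    lam 𝒜 ρ₀ hρ₀ hf k a = Away.mk 𝒜 hf k (DirectSum.decompose 𝒜 a (k • d)) (SetLike.coe_mem _) := rfl

theorem lam_of_mem (k : ℕ) (a : A) (ha : a ∈ 𝒜 (k • d)) :
    letI := awayAlgebra 𝒜 ρ₀ f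
    lam 𝒜 ρ₀ hρ₀ hf k a = Away.mk 𝒜 hf k a ha := by
  rw [lam_apply]
  exact mk_congr 𝒜 hf k (DirectSum.decompose_of_mem_same 𝒜 ha) _ _

/-- (I2) -/
theorem lam_mul_pow (k m : ℕ) (a : A) :
    letI := awayAlgebra 𝒜 ρ₀ f
    lam 𝒜 ρ₀ hρ₀ hf (k + m) (a * f ^ m) = lam 𝒜 ρ₀ hρ₀ hf k a := by
  rw [lam_apply, lam_apply, AwayTo.mk_add_pow hf k m _ (SetLike.coe_mem _)]
  refine mk_congr 𝒜 hf (k + m) ?_ _ _
  have : (k + m) • d = k • d + m • d := add_smul _ _ _
  rw [this]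
  exact DirectSum.coe_decompose_mul_add_of_right_mem 𝒜 (SetLike.pow_mem_graded m hf)

end Lam

section Main
variable {R R' A B : Type u} [CommRing R] [CommRing R'] [CommRing A] [CommRing B]
  [Algebra R R'] [Algebra R A] [Algebra R' B] [Algebra A B] [Algebra R B]
  [IsScalarTower R R' B] [IsScalarTower R A B] [Algebra.IsPushout R R' A B]
  {σ τ : Type u} [SetLike σ A] [AddSubgroupClass σ A] (𝒜 : ℕ → σ) [GradedRing 𝒜]
  [SetLike τ B] [AddSubgroupClass τ B] (ℬ : ℕ → τ) [GradedRing ℬ]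
  (ρ₀ : R →+* 𝒜 0) (hρ₀ : ∀ r, (ρ₀ r : A) = algebraMap R A r)
  (ρ₀' : R' →+* ℬ 0) (hρ₀' : ∀ r, (ρ₀' r : B) = algebraMap R' B r)
  (ψ : 𝒜 →+*ᵍ ℬ) (hψ : ∀ a, ψ a = algebraMap A B a)
  {d : ℕ} {f : A} (hf : f ∈ 𝒜 d)

include hρ₀ hρ₀' hψ in
theorem psi_rho (r : R) : ψ.gradedZeroRingHom (ρ₀ r) = ρ₀' (algebraMap R R' r) := by
  apply Subtype.ext
  change ψ (ρ₀ r : A) = (ρ₀' (algebraMap R R' r) : B)
  rw [hρ₀, hρ₀', hψ, ← IsScalarTower.algebraMap_apply, ← IsScalarTower.algebraMap_apply]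

include hρ₀ hρ₀' hψ in
theorem awayMap_comp_rho :
    (Away.map ψ f).comp ((fromZeroRingHom 𝒜 (Submonoid.powers f)).comp ρ₀) =
      ((fromZeroRingHom ℬ (Submonoid.powers (ψ f))).comp ρ₀').comp (algebraMap R R') := by
  ext r
  simp only [RingHom.comp_apply]
  rw [← AwayTo.mapTo_rfl, AwayTo.mapTo_fromZeroRingHom, psi_rho 𝒜 ℬ ρ₀ hρ₀ ρ₀' hρ₀' ψ hψ]

/-- the base change isomorphism of the ambient rings, as a linear equivalence -/
noncomputable def eB : R' ⊗[R] A ≃ₗ[R'] B :=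
  (Algebra.IsPushout.out (R := R) (S := R') (R' := A) (S' := B)).equiv

theorem eB_tmul (r' : R') (a : A) : eB (R := R) (r' ⊗ₜ[R] a) = r' • algebraMap A B a :=
  (Algebra.IsPushout.out (R := R) (S := R') (R' := A) (S' := B)).equiv_tmul r' a

set_option maxHeartbeats 1600000 in
include hρ₀ hρ₀' hψ hf in
/-- Homogeneous localization commutes with base change. -/
theorem isPushout_away :
    IsPushout (CommRingCat.ofHom (algebraMap R R'))
      (CommRingCat.ofHom ((fromZeroRingHom 𝒜 (Submonoid.powers f)).comp ρ₀))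
      (CommRingCat.ofHom ((fromZeroRingHom ℬ (Submonoid.powers (ψ f))).comp ρ₀'))
      (CommRingCat.ofHom (Away.map ψ f)) := by
  have hψf : ψ f ∈ ℬ d := ψ.map_mem hf
  let iA₀ : Algebra R (Away 𝒜 f) := awayAlgebra 𝒜 ρ₀ f
  let iB₀ : Algebra R' (Away ℬ (ψ f)) := awayAlgebra ℬ ρ₀' (ψ f)
  let iAB : Algebra (Away 𝒜 f) (Away ℬ (ψ f)) := (Away.map ψ f).toAlgebra
  let iRB : Algebra R (Away ℬ (ψ f)) :=
    ((algebraMap R' (Away ℬ (ψ f))).comp (algebraMap R R')).toAlgebra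
  have t1 : IsScalarTower R R' (Away ℬ (ψ f)) := .of_algebraMap_eq' rfl
  have t2 : IsScalarTower R (Away 𝒜 f) (Away ℬ (ψ f)) :=
    .of_algebraMap_eq' (awayMap_comp_rho 𝒜 ℬ ρ₀ hρ₀ ρ₀' hρ₀' ψ hψ).symm
  -- the linear maps
  let L : ℕ → A →ₗ[R] Away 𝒜 f := fun k => lam 𝒜 ρ₀ hρ₀ hf k
  let L' : ℕ → B →ₗ[R'] Away ℬ (ψ f) := fun k => lam ℬ ρ₀' hρ₀' hψf k
  let ι : Away 𝒜 f →ₗ[R] Away ℬ (ψ f) := (IsScalarTower.toAlgHom R (Away 𝒜 f) (Away ℬ (ψ f))).toLinearMap
  have hι : ∀ x, ι x = Away.map ψ f x := fun x => rfl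
  let Φ : R' ⊗[R] Away 𝒜 f →ₗ[R'] Away ℬ (ψ f) := ι.liftBaseChange R'
  let T : ℕ → R' ⊗[R] A →ₗ[R] R' ⊗[R] Away 𝒜 f := fun k => LinearMap.lTensor R' (L k)
  let M : ℕ → R' ⊗[R] A →ₗ[R] R' ⊗[R] A := fun m => LinearMap.lTensor R' (LinearMap.mulRight R (f ^ m))
  -- (I1)
  have hιL : ∀ k a, ι (L k a) = L' k (ψ a) := by
    intro k a
    rw [hι]
    change Away.map ψ f (Away.mk 𝒜 hf k _ _) = Away.mk ℬ hψf k _ _
    rw [Away.map_mk]
    refine mk_congr ℬ hψf k ?_ _ _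
    rw [GradedRingHom.map_directSumDecompose]
  have I1 : ∀ k s, Φ (T k s) = L' k (eB (R := R) s) := by
    intro k s
    induction s using TensorProduct.induction_on with
    | zero => simp
    | tmul r' a =>
      change Φ (r' ⊗ₜ[R] L k a) = _
      rw [LinearMap.liftBaseChange_tmul, eB_tmul, map_smul, hιL,
        show algebraMap A B a = ψ a from (hψ a).symm]
    | add x y hx hy => rw [map_add, map_add, hx, hy, map_add, map_add]
  -- shift
  have I2 : ∀ k m s, T k s = T (k + m) (M m s) := by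
    intro k m s
    induction s using TensorProduct.induction_on with
    | zero => simp
    | tmul r' a =>
      change r' ⊗ₜ[R] L k a = r' ⊗ₜ[R] L (k + m) (a * f ^ m)
      rw [show L (k + m) (a * f ^ m) = L k a from lam_mul_pow 𝒜 ρ₀ hρ₀ hf k m a]
    | add x y hx hy => rw [map_add, map_add, map_add, hx, hy]
  have I5 : ∀ m s, eB (R := R) (M m s) = eB (R := R) s * ψ f ^ m := by
    intro m s
    induction s using TensorProduct.induction_on with
    | zero => simp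
    | tmul r' a =>
      change eB (R := R) (r' ⊗ₜ[R] (a * f ^ m)) = _
      rw [eB_tmul, eB_tmul, map_mul, map_pow, show algebraMap A B f = ψ f from (hψ f).symm, smul_mul_assoc]
    | add x y hx hy => rw [map_add, map_add, hx, hy, map_add, add_mul]
  -- (I3')
  have I3 : ∀ t : R' ⊗[R] Away 𝒜 f, ∃ k s, t = T k s ∧ eB (R := R) s ∈ ℬ (k • d) := by
    intro t
    induction t using TensorProduct.induction_on with
    | zero => exact ⟨0, 0, by simp, by simp⟩
    | tmul r' x =>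
      obtain ⟨k, a, ha, rfl⟩ := Away.mk_surjective 𝒜 hf x
      refine ⟨k, r' ⊗ₜ[R] a, ?_, ?_⟩
      · change _ = r' ⊗ₜ[R] L k a
        rw [show L k a = Away.mk 𝒜 hf k a ha from lam_of_mem 𝒜 ρ₀ hρ₀ hf k a ha]
      · have hsm : r' • algebraMap A B a = (ρ₀' r' : B) * ψ a := by
          rw [Algebra.smul_def, hρ₀', hψ]
        rw [eB_tmul, hsm]
        simpa using SetLike.mul_mem_graded (ρ₀' r').2 (ψ.map_mem ha)
    | add x y hx hy =>
      obtain ⟨k, s₁, rfl, h₁⟩ := hx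
      obtain ⟨l, s₂, rfl, h₂⟩ := hy
      refine ⟨k + l, M l s₁ + M k s₂, ?_, ?_⟩
      · rw [map_add, ← I2 k l s₁]
        have := I2 l k s₂
        rw [add_comm l k] at this
        rw [← this]
      · rw [map_add, I5, I5]
        refine add_mem ?_ ?_
        · rw [add_smul]
          exact SetLike.mul_mem_graded h₁ (SetLike.pow_mem_graded l hψf)
        · rw [add_comm k l, add_smul]
          exact SetLike.mul_mem_graded h₂ (SetLike.pow_mem_graded k hψf)
  have hinj : Function.Injective Φ := by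
    rw [injective_iff_map_eq_zero]
    intro t ht
    obtain ⟨k, s, rfl, hs⟩ := I3 t
    rw [I1, show L' k (eB (R := R) s) = Away.mk ℬ hψf k _ hs from lam_of_mem ℬ ρ₀' hρ₀' hψf k _ hs] at ht
    have hval := congrArg HomogeneousLocalization.val ht
    rw [Away.val_mk, HomogeneousLocalization.val_zero, Localization.mk_eq_mk',
      IsLocalization.mk'_eq_zero_iff] at hval
    obtain ⟨⟨_, m, rfl⟩, hm⟩ := hval
    have h0 : M m s = 0 := by
      apply (eB (R := R) (R' := R') (A := A) (B := B)).injective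
      rw [I5, map_zero, mul_comm]
      exact hm
    rw [I2 k m s, h0, map_zero]
  have hsurj : Function.Surjective Φ := by
    intro y
    obtain ⟨k, b, hb, rfl⟩ := Away.mk_surjective ℬ hψf y
    refine ⟨T k ((eB (R := R) (R' := R') (A := A) (B := B)).symm b), ?_⟩
    rw [I1, LinearEquiv.apply_symm_apply]
    exact lam_of_mem ℬ ρ₀' hρ₀' hψf k b hb
  have hbc : IsBaseChange R' ι :=
    IsBaseChange.of_equiv (LinearEquiv.ofBijective Φ ⟨hinj, hsurj⟩) fun x => by
      change Φ (1 ⊗ₜ[R] x) = ι x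
      rw [LinearMap.liftBaseChange_tmul, one_smul]
  have hpo : Algebra.IsPushout R R' (Away 𝒜 f) (Away ℬ (ψ f)) := ⟨hbc⟩
  exact CommRingCat.isPushout_iff_isPushout.mpr hpo

include hρ₀ hρ₀' hψ in
/-- After base change the irrelevant ideal is generated by the image of the irrelevant ideal. -/
theorem irrelevant_le_map : ℬ₊ ≤ (𝒜₊).map ψ := by
  classical
  have key : ∀ (s : R' ⊗[R] A) (n : ℕ), 0 < n →
      (DirectSum.decompose ℬ (eB (R := R) s) n : B) ∈ (𝒜₊).toIdeal.map ψ := by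
    intro s n hn
    induction s using TensorProduct.induction_on with
    | zero => simp
    | tmul r' a =>
      have hsm : eB (R := R) (r' ⊗ₜ[R] a) = (ρ₀' r' : B) * ψ a := by
        rw [eB_tmul, Algebra.smul_def, hρ₀', hψ]
      rw [hsm, DirectSum.coe_decompose_mul_of_left_mem_zero ℬ (ρ₀' r').2,
        ← GradedRingHom.map_directSumDecompose]
      exact Ideal.mul_mem_left _ _ (Ideal.mem_map_of_mem _
        (HomogeneousIdeal.mem_irrelevant_of_mem _ hn (SetLike.coe_mem _)))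
    | add x y hx hy =>
      rw [map_add, DirectSum.decompose_add]
      exact add_mem hx hy
  rw [HomogeneousIdeal.irrelevant_le]
  intro n hn b hb
  have := key ((eB (R := R) (R' := R') (A := A) (B := B)).symm b) n hn
  rw [LinearEquiv.apply_symm_apply, DirectSum.decompose_of_mem_same ℬ hb] at this
  exact this

include hρ₀ hρ₀' hψ in
/-- `Proj` commutes with base change (affine base, general gradings). -/
theorem isPullback_proj (hirr : ℬ₊ ≤ (𝒜₊).map ψ) :
    IsPullback (Proj.map ψ hirr) (Proj.toSpecZero ℬ ≫ Spec.map (CommRingCat.ofHom ρ₀'))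
      (Proj.toSpecZero 𝒜 ≫ Spec.map (CommRingCat.ofHom ρ₀))
      (Spec.map (CommRingCat.ofHom (algebraMap R R'))) := by
  refine GlueCharts.isPullback_of_forall_chart _ _ _ _ (Proj.affineOpenCover 𝒜).openCover
    (fun s => Spec (CommRingCat.of (Away ℬ (ψ s.2.1))))
    (fun s => Spec.map (CommRingCat.ofHom (Away.map ψ s.2.1)))
    (fun s => Proj.awayι ℬ (ψ s.2.1) (ψ.map_mem s.2.2) s.1.pos) (fun s => ?_) (fun s => ?_)
  · exact ProjLoc.isPullback_awayι hirr s.1.pos s.2.1 s.2.2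
  · obtain ⟨i, s⟩ := s
    have hi : 0 < (i : ℕ) := i.pos
    change IsPullback (Spec.map (CommRingCat.ofHom (Away.map ψ s.1)))
      (Proj.awayι ℬ (ψ s.1) (ψ.map_mem s.2) hi ≫ Proj.toSpecZero ℬ ≫ Spec.map (CommRingCat.ofHom ρ₀'))
      (Proj.awayι 𝒜 s.1 s.2 hi ≫ Proj.toSpecZero 𝒜 ≫ Spec.map (CommRingCat.ofHom ρ₀))
      (Spec.map (CommRingCat.ofHom (algebraMap R R')))
    rw [Proj.awayι_toSpecZero_assoc, Proj.awayι_toSpecZero_assoc, ← Spec.map_comp, ← Spec.map_comp]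
    exact isPullback_SpecMap_of_isPushout _ _ _ _
      (isPushout_away 𝒜 ℬ ρ₀ hρ₀ ρ₀' hρ₀' ψ hψ s.2).flip

end Main

end Groth.Agent.Lib.Helper3.AwayBC
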