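import Mathlib.AlgebraicGeometry.ProjectiveSpectrum.Functor
import Mathlib.AlgebraicGeometry.ProjectiveSpectrum.Proper
/-!
# `Away.map` with a flexible target element
-/
universe u
open CategoryTheory CategoryTheory.Limits AlgebraicGeometry Opposite TopologicalSpace
open HomogeneousLocalization
open scoped HomogeneousIdeal

namespace Groth.Agent.Lib.Helper3.AwayTo
variable {A B C σ τ ρ : Type u} [CommRing A] [SetLike σ A] [AddSubgroupClass σ A]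
  [CommRing B] [SetLike τ B] [AddSubgroupClass τ B] [CommRing C] [SetLike ρ C] [AddSubgroupClass ρ C]
  {𝒜 : ℕ → σ} {ℬ : ℕ → τ} {𝒞 : ℕ → ρ} [GradedRing 𝒜] [GradedRing ℬ] [GradedRing 𝒞]

/-- `Away.map ψ f`, with target the localization away from an element `b` propositionally equal to `ψ f`. -/
def mapTo (ψ : 𝒜 →+*ᵍ ℬ) {f : A} {b : B} (hb : ψ f = b) : Away 𝒜 f →+* Away ℬ b :=
  HomogeneousLocalization.map ψ (by rintro _ ⟨n, rfl⟩; exact ⟨n, by simp [← hb]⟩)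

theorem mapTo_rfl (ψ : 𝒜 →+*ᵍ ℬ) (f : A) : mapTo ψ (rfl : ψ f = ψ f) = Away.map ψ f := rfl

theorem mapTo_comp (ψ : 𝒜 →+*ᵍ ℬ) (χ : ℬ →+*ᵍ 𝒞) {f : A} {b : B} {c : C} (hb : ψ f = b) (hc : χ b = c)
    (hbc : (χ.comp ψ) f = c) :
    mapTo (χ.comp ψ) hbc = (mapTo χ hc).comp (mapTo ψ hb) := by
  subst hb hc
  exact Away.map_comp ψ χ f

theorem mapTo_congr {ψ ψ' : 𝒜 →+*ᵍ ℬ} (h : ψ = ψ') {f : A} {b : B} (hb : ψ f = b) (hb' : ψ' f = b) :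
    mapTo ψ hb = mapTo ψ' hb' := by
  subst h; rfl

theorem awayι_comp_map (ψ : 𝒜 →+*ᵍ ℬ) (hirr : ℬ₊ ≤ 𝒜₊.map ψ) {i : ℕ} (hi : 0 < i) {f : A} (hf : f ∈ 𝒜 i)
    {b : B} (hb : ψ f = b) (hb' : b ∈ ℬ i) :
    Proj.awayι ℬ b hb' hi ≫ Proj.map ψ hirr =
      Spec.map (CommRingCat.ofHom (mapTo ψ hb)) ≫ Proj.awayι 𝒜 f hf hi := by
  subst hb
  exact Proj.awayι_comp_map ψ hirr hi f hf

theorem awayMap_comp_mapTo (ψ : 𝒜 →+*ᵍ ℬ) {d e : ℕ} {f f₂ : A} {b b₂ : B} (hf : f ∈ 𝒜 d) (hb : ψ f = b)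
    (hb₂ : ψ f₂ = b₂) (hf₂ : f₂ ∈ 𝒜 e) (hb₂' : b₂ ∈ ℬ e) {x : A} (hx : x = f * f₂) {y : B} (hy : y = b * b₂)
    (hxy : ψ x = y) :
    (awayMap ℬ hb₂' hy).comp (mapTo ψ hb) = (mapTo ψ hxy).comp (awayMap 𝒜 hf₂ hx) := by
  subst hb hb₂ hx
  obtain rfl : y = ψ (f * f₂) := hxy.symm
  ext a
  obtain ⟨n, a, ha, rfl⟩ := a.mk_surjective _ hf
  simp only [RingHom.comp_apply]
  have h1 : mapTo ψ (rfl : ψ f = ψ f) (Away.mk 𝒜 hf n a ha) = Away.mk ℬ (ψ.map_mem hf) n (ψ a) (ψ.map_mem ha) :=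
    Away.map_mk ψ f hf n a ha
  rw [h1, awayMap_mk, awayMap_mk]
  have h2 : mapTo ψ hxy (Away.mk 𝒜 (SetLike.mul_mem_graded hf hf₂) n (a * f₂ ^ n)
      (by rw [smul_add]; exact SetLike.mul_mem_graded ha (SetLike.pow_mem_graded n hf₂))) = _ :=
    Away.map_mk ψ (f * f₂) (SetLike.mul_mem_graded hf hf₂) n (a * f₂ ^ n)
      (by rw [smul_add]; exact SetLike.mul_mem_graded ha (SetLike.pow_mem_graded n hf₂))
  rw [h2]
  simp [Away.val_mk, map_mul, map_pow]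

theorem mapTo_fromZeroRingHom (ψ : 𝒜 →+*ᵍ ℬ) {f : A} {b : B} (hb : ψ f = b) (a : 𝒜 0) :
    mapTo ψ hb (fromZeroRingHom 𝒜 _ a) = fromZeroRingHom ℬ _ (ψ.gradedZeroRingHom a) := by
  subst hb
  apply HomogeneousLocalization.val_injective
  simp only [fromZeroRingHom, RingHom.coe_mk, MonoidHom.coe_mk, OneHom.coe_mk, mapTo,
    HomogeneousLocalization.map_mk, val_mk]
  simp

end Groth.Agent.Lib.Helper3.AwayTo
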