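import Groth.Agent.Lib.Helper3.RelStrFun
import Groth.Agent.Lib.Helper3.ModHomAff
import Groth.Agent.Lib.Helper3.TwistFin
import Groth.Agent.Lib.Helper3.QCAlgSub
/-!
# The canonical map `E ⟶ p_* O_P(1)` for a relative twist `O_P(1)` on `Proj(𝒮)` and `j : E ⟶ 𝒮`
-/
set_option autoImplicit false
set_option linter.unusedSectionVars false
universe u
open CategoryTheory CategoryTheory.Limits AlgebraicGeometry Opposite TopologicalSpace DirectSum
open AlgebraicGeometry.Scheme.AffineZariskiSite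
open scoped HomogeneousIdeal
open Groth.Agent.Lib.Helper29

namespace Groth.Agent.Lib.Helper3.RelGlued
open RelProj Groth.Agent.Lib.Helper3
open Groth.Agent.Lib.Helper3.RelTilde (e comap_mem range_e e_mem_R)
open Groth.Agent.Lib.Helper29.QCoh (res)

variable {Y P : Scheme.{u}} {𝒮 : QCGrAlg Y} (p : P ⟶ Y)
  (chart : ∀ (U : Y.Opens) (hU : IsAffineOpen U), (((p ⁻¹ᵁ U : P.Opens) : Scheme.{u}) ≅ Proj (𝒮.deg U hU)))
  {O1 : P.Modules}
  {lam : ∀ (U : Y.Opens) (hU : IsAffineOpen U),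
      O1 ⟶ (Scheme.Modules.pushforward (emb p chart U hU)).obj (GrTwist.twist (𝒮.deg U hU) 1)}
  (hO1 : IsRelTwist 𝒮 p chart 1 O1 lam)

/-- the section `a / 1` of `O(1)` on `Proj 𝒮(U)` for `a` of degree one -/
noncomputable def oneSec (U : Y.Opens) (hU : IsAffineOpen U) (W : (Proj (𝒮.deg U hU)).Opens)
    (a : 𝒮.deg U hU 1) : Γ(GrTwist.twist (𝒮.deg U hU) 1, W) :=
  TwistTriv.mkSec (𝒮.deg U hU) 1 W a (⟨1, SetLike.GradedOne.one_mem⟩ : 𝒮.deg U hU 0)
    (fun x => TildeQC.one_not_mem x.1) (by simp)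

theorem tfun_oneSec (U : Y.Opens) (hU : IsAffineOpen U) (W : (Proj (𝒮.deg U hU)).Opens)
    (a : 𝒮.deg U hU 1) (y : W) :
    TwistTriv.tfun (𝒮.deg U hU) (oneSec U hU W a) y =
      Localization.mk a.1 ⟨1, TildeQC.one_not_mem y.1⟩ := rfl

include hO1 in
/-- the section of `O_P(1)` over `p⁻¹U` attached to a degree one element of `𝒮(U)` -/
theorem exists_alpha (U : Y.Opens) (hU : IsAffineOpen U) (a : 𝒮.deg U hU 1) :
    ∃! s : Γ(O1, p ⁻¹ᵁ U), (lam U hU).app (p ⁻¹ᵁ U) s = oneSec U hU _ a := by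
  obtain ⟨s, hs⟩ := (hO1.bijective U hU (p ⁻¹ᵁ U) le_rfl).2 (oneSec U hU _ a)
  exact ⟨s, hs, fun s' hs' => (hO1.bijective U hU (p ⁻¹ᵁ U) le_rfl).1 (hs'.trans hs.symm)⟩

/-- the section of `O_P(1)` over `p⁻¹U` attached to a degree one element of `𝒮(U)` -/
noncomputable def alpha (U : Y.Opens) (hU : IsAffineOpen U) (a : 𝒮.deg U hU 1) : Γ(O1, p ⁻¹ᵁ U) :=
  (exists_alpha p chart hO1 U hU a).choose

theorem lam_alpha (U : Y.Opens) (hU : IsAffineOpen U) (a : 𝒮.deg U hU 1) :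
    (lam U hU).app (p ⁻¹ᵁ U) (alpha p chart hO1 U hU a) = oneSec U hU _ a :=
  (exists_alpha p chart hO1 U hU a).choose_spec.1

theorem eq_alpha (U : Y.Opens) (hU : IsAffineOpen U) (a : 𝒮.deg U hU 1) (s : Γ(O1, p ⁻¹ᵁ U))
    (hs : (lam U hU).app (p ⁻¹ᵁ U) s = oneSec U hU _ a) : s = alpha p chart hO1 U hU a :=
  (exists_alpha p chart hO1 U hU a).choose_spec.2 s hs

theorem alpha_add (U : Y.Opens) (hU : IsAffineOpen U) (a b c : 𝒮.deg U hU 1) (h : c.1 = a.1 + b.1) :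
    alpha p chart hO1 U hU c = alpha p chart hO1 U hU a + alpha p chart hO1 U hU b := by
  symm
  apply eq_alpha
  rw [map_add, lam_alpha, lam_alpha]
  exact (TwistFin.mkSec_add (𝒮.deg U hU) 1 _ a b c _ _ _ h).symm

theorem alpha_smul (hP : IsRelProj 𝒮 p chart) (U : Y.Opens) (hU : IsAffineOpen U) (r : Γ(Y, U))
    (a c : 𝒮.deg U hU 1) (h : c.1 = (𝒮.str.app (op U)).hom r * a.1) :
    alpha p chart hO1 U hU c = (p.app U r) • alpha p chart hO1 U hU a := by
  symm
  apply eq_alpha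
  rw [Scheme.Modules.Hom.app_smul, lam_alpha]
  apply TwistTriv.tfun_ext
  intro y
  refine (TwistTriv.tfun_smul (𝒮.deg U hU) _ _ y).trans ?_
  refine (congrArg (fun z => z * TwistTriv.tfun (𝒮.deg U hU) (oneSec U hU _ a) y)
    (ofun_emb_app_p_app p chart hP U hU r y)).trans ?_
  rw [tfun_oneSec, tfun_oneSec, Localization.mk_mul, h]
  rw [Localization.mk_eq_mk_iff, Localization.r_iff_exists]
  exact ⟨1, by simp⟩

theorem alpha_res (hP : IsRelProj 𝒮 p chart) (U : Y.Opens) (hU : IsAffineOpen U) (f : Γ(Y, U))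
    (a : 𝒮.deg U hU 1) (c : 𝒮.deg (Y.basicOpen f) (hU.basicOpen f) 1)
    (h : c.1 = (𝒮.presheaf.map (homOfLE (Y.basicOpen_le f)).op).hom a.1) :
    res O1 (p.preimage_mono (Y.basicOpen_le f)) (alpha p chart hO1 U hU a) =
      alpha p chart hO1 (Y.basicOpen f) (hU.basicOpen f) c := by
  apply eq_alpha
  apply TwistTriv.tfun_ext
  intro y
  have hy : (emb p chart (Y.basicOpen f) (hU.basicOpen f)).base y.1 ∈ p ⁻¹ᵁ Y.basicOpen f := y.2
  have hy' : (emb p chart U hU).base (ProjectiveSpectrum.comap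
      (𝒮.res hU (hU.basicOpen f) (Y.basicOpen_le f)) (𝒮.irrelevant_le_map U hU f) y.1) ∈
        p ⁻¹ᵁ Y.basicOpen f := by
    have := congrArg (fun m => m.base y.1) (map_res_emb hP U hU f)
    simp only [Scheme.Hom.comp_base, TopCat.hom_comp, ContinuousMap.comp_apply] at this
    change (emb p chart U hU).base ((Proj.map (𝒮.res hU (hU.basicOpen f) (Y.basicOpen_le f))
      (𝒮.irrelevant_le_map U hU f)).base y.1) ∈ _
    rw [this]; exact hy
  have hc := hO1.compat U hU f (p ⁻¹ᵁ Y.basicOpen f)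
    (res O1 (p.preimage_mono (Y.basicOpen_le f)) (alpha p chart hO1 U hU a)) y.1 hy hy'
  refine hc.trans ?_
  have h2 : (lam U hU).app (p ⁻¹ᵁ Y.basicOpen f)
      (res O1 (p.preimage_mono (Y.basicOpen_le f)) (alpha p chart hO1 U hU a)) =
      res _ (p.preimage_mono (Y.basicOpen_le f)) (oneSec U hU _ a) := by
    rw [QCoh.app_res, lam_alpha]
  rw [h2]
  refine (congrArg (GrTwist.locMap (𝒮.res hU (hU.basicOpen f) (Y.basicOpen_le f))
    (𝒮.irrelevant_le_map U hU f) y.1) (a₂ := Localization.mk a.1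
      ⟨1, TildeQC.one_not_mem _⟩) rfl).trans ?_
  rw [GrTwist.locMap_mk, tfun_oneSec, h]
  rw [Localization.mk_eq_mk_iff, Localization.r_iff_exists]
  exact ⟨1, by simp⟩

end Groth.Agent.Lib.Helper3.RelGlued

open CategoryTheory CategoryTheory.Limits AlgebraicGeometry Opposite TopologicalSpace DirectSum
open AlgebraicGeometry.Scheme.AffineZariskiSite
open scoped HomogeneousIdeal
open Groth.Agent.Lib.Helper29

namespace Groth.Agent.Lib.Helper3.RelGlued
open RelProj Groth.Agent.Lib.Helper3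
open Groth.Agent.Lib.Helper3.RelTilde (e comap_mem range_e e_mem_R)
open Groth.Agent.Lib.Helper29.QCoh (res)

variable {Y P : Scheme.{u}} {𝒮 : QCGrAlg Y} (p : P ⟶ Y)
  (chart : ∀ (U : Y.Opens) (hU : IsAffineOpen U), (((p ⁻¹ᵁ U : P.Opens) : Scheme.{u}) ≅ Proj (𝒮.deg U hU)))
  {O1 : P.Modules}
  {lam : ∀ (U : Y.Opens) (hU : IsAffineOpen U),
      O1 ⟶ (Scheme.Modules.pushforward (emb p chart U hU)).obj (GrTwist.twist (𝒮.deg U hU) 1)}
  (hO1 : IsRelTwist 𝒮 p chart 1 O1 lam) (hP : IsRelProj 𝒮 p chart)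
  {E : Y.Modules} (j : E ⟶ 𝒮.toModule)
  (hj1 : ∀ (U : Y.Opens) (hU : IsAffineOpen U) (m : Γ(E, U)),
    (show 𝒮.presheaf.obj (op U) from (j.app U) m) ∈ 𝒮.deg U hU 1)

/-- affine-local data of the canonical map `E → p_* O_P(1)` -/
noncomputable def canData : AffHomData E ((Scheme.Modules.pushforward p).obj O1) where
  t U hU := AddMonoidHom.mk'
    (fun m => (show Γ((Scheme.Modules.pushforward p).obj O1, U) from
      alpha p chart hO1 U hU ⟨(show 𝒮.presheaf.obj (op U) from (j.app U) m), hj1 U hU m⟩))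
    (fun m m' => alpha_add p chart hO1 U hU _ _ _ (by
      change (show 𝒮.presheaf.obj (op U) from (j.app U) (m + m')) = _
      rw [map_add]; rfl))
  res_t U hU f m := by
    refine alpha_res p chart hO1 hP U hU f _ _ ?_
    change (show 𝒮.presheaf.obj (op (Y.basicOpen f)) from
      (j.app (Y.basicOpen f)) (res E (Y.basicOpen_le f) m)) = _
    rw [QCoh.app_res j (Y.basicOpen_le f) m]
    rfl
  t_smul U hU r m := by
    refine alpha_smul p chart hO1 hP U hU r _ _ ?_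
    change (show 𝒮.presheaf.obj (op U) from (j.app U) (r • m)) = _
    rw [Scheme.Modules.Hom.app_smul]
    rfl

/-- **The canonical map `E → p_* O_P(1)`.** -/
noncomputable def canMap : E ⟶ (Scheme.Modules.pushforward p).obj O1 :=
  (canData p chart hO1 hP j hj1).hom

theorem canMap_app (U : Y.Opens) (hU : IsAffineOpen U) (m : Γ(E, U)) :
    (show Γ(O1, p ⁻¹ᵁ U) from (canMap p chart hO1 hP j hj1).app U m) =
      alpha p chart hO1 U hU ⟨(show 𝒮.presheaf.obj (op U) from (j.app U) m), hj1 U hU m⟩ :=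
  (canData p chart hO1 hP j hj1).hom_app U hU m

theorem canMap_val (U : Y.Opens) (hU : IsAffineOpen U) (m : Γ(E, U))
    (y : ↥(emb p chart U hU ⁻¹ᵁ (p ⁻¹ᵁ U))) :
    GrTwist.val (V := emb p chart U hU ⁻¹ᵁ (p ⁻¹ᵁ U))
        ((lam U hU).app (p ⁻¹ᵁ U) ((canMap p chart hO1 hP j hj1).app U m)) y =
      algebraMap (𝒮.presheaf.obj (op U)) (GrTwist.Loc (𝒮.deg U hU) y.1)
        ((j.app U) m : 𝒮.presheaf.obj (op U)) := by
  have h1 := canMap_app p chart hO1 hP j hj1 U hU m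
  have h2 := lam_alpha p chart hO1 U hU
    ⟨(show 𝒮.presheaf.obj (op U) from (j.app U) m), hj1 U hU m⟩
  have h3 : (lam U hU).app (p ⁻¹ᵁ U) ((canMap p chart hO1 hP j hj1).app U m) =
      oneSec U hU _ ⟨(show 𝒮.presheaf.obj (op U) from (j.app U) m), hj1 U hU m⟩ :=
    (congrArg ((lam U hU).app (p ⁻¹ᵁ U)) h1).trans h2
  rw [h3, ← Localization.mk_one_eq_algebraMap]
  rfl

end Groth.Agent.Lib.Helper3.RelGlued
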