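import Groth.Agent.Lib.Helper3.ChartInv
/-!
# Trivialising sections from chartwise identifications
-/
universe u
set_option linter.unusedSectionVars false
open CategoryTheory CategoryTheory.Limits AlgebraicGeometry Opposite TopologicalSpace DirectSum
open Groth.Agent.Lib.Helper29 Groth.Agent.Lib.Helper29.QCoh

namespace Groth.Agent.Lib.Helper3.ChartTriv

variable {P Q : Scheme.{u}} (j : Q ⟶ P) [IsOpenImmersion j] (L : P.Modules) (T : Q.Modules)
  (lam : L ⟶ (Scheme.Modules.pushforward j).obj T)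

/-- If `T` is invertible on the open `V` of the chart, `L` has trivialising sections near the points of
the image of `V`. -/
theorem exists_isTriv_of_chart
    (hbij : ∀ W : P.Opens, W ≤ j.opensRange → Function.Bijective (lam.app W))
    (V : Q.Opens) (hT : PicF.IsInvertible (T.restrict V.ι)) (y : Q) (hy : y ∈ V) :
    ∃ (W : P.Opens) (e : Γ(L, W)), j.base y ∈ W ∧ W ≤ j ''ᵁ V ∧ IsTriv L W e := by
  have := ChartQC.isIso_adjunct j L T lam hbij
  let μ : L.restrict j ≅ T := asIso (((Scheme.Modules.restrictAdjunction j).homEquiv L T).symm lam)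
  have hLj : PicF.IsInvertible ((L.restrict j).restrict V.ι) :=
    isInvertible_of_iso ((Scheme.Modules.restrictFunctor V.ι).mapIso μ).symm hT
  obtain ⟨U', e, hyU', he⟩ := exists_isTriv hLj (⟨y, hy⟩ : V)
  have h1 : IsTriv (L.restrict j) (V.ι ''ᵁ U') e := he.of_restrict V.ι
  have h2 : IsTriv L (j ''ᵁ (V.ι ''ᵁ U')) e := h1.of_restrict j
  refine ⟨j ''ᵁ (V.ι ''ᵁ U'), e, ⟨y, ⟨⟨y, hy⟩, hyU', rfl⟩, rfl⟩, ?_, h2⟩
  exact j.image_mono (V.ι_image_le U')

end Groth.Agent.Lib.Helper3.ChartTriv
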