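import Mathlib.AlgebraicGeometry.ProjectiveSpectrum.Functor
import Mathlib.AlgebraicGeometry.ProjectiveSpectrum.Proper
import Mathlib.Algebra.Polynomial.Div
/-!
# Ring-level facts on `ℬ = 𝒜[z]`, `z` of degree one
-/
universe u
open HomogeneousLocalization Polynomial
open scoped HomogeneousIdeal

namespace Groth.Agent.Lib.Helper3.PolyCone
variable {A B σ τ : Type u} [CommRing A] [SetLike σ A] [AddSubgroupClass σ A]
  [CommRing B] [SetLike τ B] [AddSubgroupClass τ B]
  {𝒜 : ℕ → σ} {ℬ : ℕ → τ} [GradedRing 𝒜] [GradedRing ℬ] (ι : 𝒜 →+*ᵍ ℬ) {z : B} (hz : z ∈ ℬ 1)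

include hz in
theorem pow_mem (n : ℕ) : z ^ n ∈ ℬ n := by
  have := SetLike.pow_mem_graded n hz
  simpa using this

include hz in
/-- The degree `k` component of a polynomial expression in `z`. -/
theorem decompose_eval₂ (p : A[X]) (k : ℕ) :
    (DirectSum.decompose ℬ (p.eval₂ (ι : A →+* B) z) k : B) =
      ∑ n ∈ Finset.range (k + 1), ι (DirectSum.decompose 𝒜 (p.coeff n) (k - n)) * z ^ n := by
  classical
  induction p using Polynomial.induction_on' with
  | add p q hp hq =>
    rw [eval₂_add, DirectSum.decompose_add, DirectSum.add_apply, AddMemClass.coe_add, hp, hq,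
      ← Finset.sum_add_distrib]
    refine Finset.sum_congr rfl fun n _ => ?_
    rw [coeff_add, DirectSum.decompose_add, DirectSum.add_apply, AddMemClass.coe_add, map_add, add_mul]
  | monomial m a =>
    rw [eval₂_monomial]
    by_cases hmk : m ≤ k
    · rw [DirectSum.coe_decompose_mul_of_right_mem_of_le ℬ (pow_mem hz m) hmk]
      rw [Finset.sum_eq_single m]
      · rw [coeff_monomial_same]
        congr 1
        exact (GradedRingHom.map_directSumDecompose (𝒜 := 𝒜) (ℬ := ℬ) ι (x := a) (i := k - m)).symm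
      · intro n _ hnm
        rw [coeff_monomial_of_ne _ hnm]
        simp
      · intro hm
        exact absurd (Finset.mem_range.mpr (Nat.lt_succ_of_le hmk)) hm
    · rw [DirectSum.coe_decompose_mul_of_right_mem_of_not_le ℬ (pow_mem hz m) hmk]
      symm
      refine Finset.sum_eq_zero fun n hn => ?_
      have hnm : n ≠ m := by
        rintro rfl
        exact hmk (Nat.lt_succ_iff.mp (Finset.mem_range.mp hn))
      rw [coeff_monomial_of_ne _ hnm]
      simp

include hz in
/-- Every homogeneous element of degree `k` is `∑_{n ≤ k} ι(a_n) z^n` with `a_n` of degree `k - n`. -/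
theorem exists_rep (hsurj : ∀ x : B, ∃ p : A[X], p.eval₂ (ι : A →+* B) z = x) {k : ℕ} {x : B} (hx : x ∈ ℬ k) :
    ∃ a : ℕ → A, (∀ n, a n ∈ 𝒜 (k - n)) ∧ x = ∑ n ∈ Finset.range (k + 1), ι (a n) * z ^ n := by
  obtain ⟨p, rfl⟩ := hsurj x
  refine ⟨fun n => DirectSum.decompose 𝒜 (p.coeff n) (k - n), fun n => SetLike.coe_mem _, ?_⟩
  rw [← decompose_eval₂ ι hz p k, DirectSum.decompose_of_mem_same ℬ hx]

variable (e : B →+* A) (heι : ∀ a, e (ι a) = a) (hez : e z = 1)

include heι hez in
theorem e_rep {k : ℕ} (a : ℕ → A) :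
    e (∑ n ∈ Finset.range (k + 1), ι (a n) * z ^ n) = ∑ n ∈ Finset.range (k + 1), a n := by
  rw [map_sum]
  refine Finset.sum_congr rfl fun n _ => ?_
  rw [map_mul, map_pow, hez, one_pow, mul_one, heι]

include hz heι hez in
/-- "`z = 1`" is injective on each homogeneous piece. -/
theorem e_injOn (hsurj : ∀ x : B, ∃ p : A[X], p.eval₂ (ι : A →+* B) z = x) {k : ℕ} {x : B} (hx : x ∈ ℬ k)
    (h0 : e x = 0) : x = 0 := by
  classical
  obtain ⟨a, ha, rfl⟩ := exists_rep ι hz hsurj hx
  rw [e_rep ι e heι hez] at h0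
  refine Finset.sum_eq_zero fun m hm => ?_
  have hmk : m ≤ k := Nat.lt_succ_iff.mp (Finset.mem_range.mp hm)
  have key : (DirectSum.decompose 𝒜 (∑ n ∈ Finset.range (k + 1), a n) (k - m) : A) = a m := by
    rw [DirectSum.decompose_sum, DFinsupp.finsetSum_apply, AddSubmonoidClass.coe_finsetSum,
      Finset.sum_eq_single m]
    · exact DirectSum.decompose_of_mem_same 𝒜 (ha m)
    · intro n hn hnm
      have hnk : n ≤ k := Nat.lt_succ_iff.mp (Finset.mem_range.mp hn)
      exact DirectSum.decompose_of_mem_ne 𝒜 (ha n) (by omega)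
    · intro h; exact absurd hm h
  rw [h0, DirectSum.decompose_zero] at key
  rw [← key]
  simp

/-- the homomorphism `ℬ_(z) → A`, `x / z^k ↦ x(z := 1)` -/
noncomputable def awayToBase : Away ℬ z →+* A :=
  (IsLocalization.Away.lift z (g := e) (by rw [hez]; exact isUnit_one)).comp
    (algebraMap (Away ℬ z) (Localization.Away z))

theorem awayToBase_of_val (q : Away ℬ z) (x : B) (k : ℕ)
    (hq : q.val = Localization.mk x ⟨z ^ k, _root_.pow_mem (Submonoid.mem_powers _) k⟩) :
    awayToBase e hez q = e x := by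
  rw [awayToBase, RingHom.comp_apply, HomogeneousLocalization.algebraMap_apply, hq, Localization.mk_eq_mk',
    IsLocalization.Away.lift, IsLocalization.lift_mk', Units.mul_inv_eq_iff_eq_mul, IsUnit.coe_liftRight]
  simp [map_pow, hez]

theorem awayToBase_mk (k : ℕ) (x : B) (hx : x ∈ ℬ (k • 1)) :
    awayToBase e hez (Away.mk ℬ hz k x hx) = e x :=
  awayToBase_of_val e hez _ x k (Away.val_mk ℬ k hz x hx)

include heι in
theorem awayToBase_mk_ι (k : ℕ) (a : A) (ha : a ∈ 𝒜 k) :
    awayToBase e hez (Away.mk ℬ hz k (ι a) (by simpa using ι.map_mem ha)) = a := by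
  rw [awayToBase_mk, heι]

include hz heι in
theorem awayToBase_bijective (hsurj : ∀ x : B, ∃ p : A[X], p.eval₂ (ι : A →+* B) z = x) :
    Function.Bijective (awayToBase (ℬ := ℬ) e hez) := by
  classical
  constructor
  · rw [injective_iff_map_eq_zero]
    intro q hq
    obtain ⟨k, x, hx, rfl⟩ := Away.mk_surjective ℬ hz q
    rw [awayToBase_mk] at hq
    have hx' : x ∈ ℬ k := by simpa using hx
    have := e_injOn ι hz e heι hez hsurj hx' hq
    subst this
    apply HomogeneousLocalization.val_injective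
    simp [Localization.mk_zero]
  · intro a
    have hmem : ∀ k, ((DirectSum.decompose 𝒜 a k : 𝒜 k) : A) ∈
        (RingHom.range (awayToBase (ℬ := ℬ) e hez)) := fun k =>
      ⟨_, awayToBase_mk_ι ι hz e heι hez k _ (SetLike.coe_mem _)⟩
    have : a ∈ RingHom.range (awayToBase (ℬ := ℬ) e hez) := by
      rw [← DirectSum.sum_support_decompose 𝒜 a]
      exact Subring.sum_mem _ fun k _ => hmem k
    exact this

section Zero
variable {C : Type u} [CommRing C]

omit [AddSubgroupClass σ A] [AddSubgroupClass τ B] [GradedRing 𝒜] [GradedRing ℬ] in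
/-- ring homomorphisms out of `𝒜[z]` are determined by their values on `𝒜` and `z` -/
theorem ringHom_ext (hsurj : ∀ x : B, ∃ p : A[X], p.eval₂ (ι : A →+* B) z = x) (f g : B →+* C)
    (h1 : ∀ a, f (ι a) = g (ι a)) (h2 : f z = g z) : f = g := by
  ext x
  obtain ⟨p, rfl⟩ := hsurj x
  rw [Polynomial.hom_eval₂, Polynomial.hom_eval₂, h2]
  congr 1
  exact RingHom.ext h1

variable (t : B →+* A) (htι : ∀ a, t (ι a) = a) (htz : t z = 0)

include htι htz in
omit [AddSubgroupClass σ A] [AddSubgroupClass τ B] [GradedRing 𝒜] [GradedRing ℬ] in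
theorem t_eval₂ (p : A[X]) : t (p.eval₂ (ι : A →+* B) z) = p.coeff 0 := by
  rw [Polynomial.hom_eval₂, htz]
  have : t.comp (ι : A →+* B) = RingHom.id A := RingHom.ext htι
  rw [this, Polynomial.eval₂_id, Polynomial.coeff_zero_eq_eval_zero]

include hz htι htz in
/-- "`z = 0`" preserves degrees -/
theorem t_mem (hsurj : ∀ x : B, ∃ p : A[X], p.eval₂ (ι : A →+* B) z = x) {k : ℕ} {x : B} (hx : x ∈ ℬ k) :
    t x ∈ 𝒜 k := by
  obtain ⟨a, ha, rfl⟩ := exists_rep ι hz hsurj hx
  rw [map_sum, Finset.sum_eq_single 0]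
  · rw [map_mul, map_pow, htι, pow_zero, mul_one]
    simpa using ha 0
  · intro n _ hn
    rw [map_mul, map_pow, htz, zero_pow hn, mul_zero]
  · intro h0
    exact absurd (Finset.mem_range.mpr (Nat.succ_pos k)) h0

include htι htz in
omit [AddSubgroupClass σ A] [AddSubgroupClass τ B] [GradedRing 𝒜] [GradedRing ℬ] in
/-- the kernel of "`z = 0`" is generated by `z` -/
theorem exists_eq_mul_of_t_eq_zero (hsurj : ∀ x : B, ∃ p : A[X], p.eval₂ (ι : A →+* B) z = x) {x : B}
    (hx : t x = 0) : ∃ y : B, x = y * z := by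
  obtain ⟨p, rfl⟩ := hsurj x
  rw [t_eval₂ ι t htι htz] at hx
  refine ⟨p.divX.eval₂ (ι : A →+* B) z, ?_⟩
  conv_lhs => rw [← Polynomial.divX_mul_X_add p, hx]
  simp [Polynomial.eval₂_add, Polynomial.eval₂_mul]

include htι htz in
omit [AddSubgroupClass σ A] [AddSubgroupClass τ B] [GradedRing 𝒜] [GradedRing ℬ] in
theorem sub_ι_t (hsurj : ∀ x : B, ∃ p : A[X], p.eval₂ (ι : A →+* B) z = x) (x : B) :
    ∃ y : B, x - ι (t x) = y * z := by
  apply exists_eq_mul_of_t_eq_zero ι t htι htz hsurj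
  rw [map_sub, htι, sub_self]

end Zero

section Irr

include hz in
/-- the irrelevant ideal of `𝒜[z]` is generated by `z` and the irrelevant ideal of `𝒜` -/
theorem irrelevant_le_of (hsurj : ∀ x : B, ∃ p : A[X], p.eval₂ (ι : A →+* B) z = x) (I : Ideal B)
    (hI : ∀ f ∈ 𝒜₊, ι f ∈ I) (hzI : z ∈ I) : ℬ₊.toIdeal ≤ I := by
  rw [HomogeneousIdeal.toIdeal_irrelevant_le]
  intro k hk x hx
  obtain ⟨a, ha, rfl⟩ := exists_rep ι hz hsurj (show x ∈ ℬ k from hx)
  refine Ideal.sum_mem _ fun n hn => ?_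
  have hnk : n ≤ k := Nat.lt_succ_iff.mp (Finset.mem_range.mp hn)
  by_cases hnk' : n = k
  · subst hnk'
    exact I.mul_mem_left _ (I.pow_mem_of_mem hzI n hk)
  · exact I.mul_mem_right _ (hI _ (HomogeneousIdeal.mem_irrelevant_of_mem _ (by omega : 0 < k - n) (ha n)))

end Irr

end Groth.Agent.Lib.Helper3.PolyCone
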