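import Groth.Prelude.Def_RelProj4
import Groth.Agent.Lib.Helper3.QProj4
import Groth.Agent.Lib.Helper3.PolyCone
/-!
# Cones over a general base: basic facts
-/
universe u
open CategoryTheory CategoryTheory.Limits AlgebraicGeometry Opposite TopologicalSpace
open HomogeneousLocalization
open scoped HomogeneousIdeal

namespace Groth.Agent.Lib.Helper3.Cone
open RelProj RelSpec RelCone Groth.Agent.Lib.Helper3

section Ring
variable {A B C σ τ ρ : Type u} [CommRing A] [SetLike σ A] [AddSubgroupClass σ A]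
  [CommRing B] [SetLike τ B] [AddSubgroupClass τ B] [CommRing C] [SetLike ρ C] [AddSubgroupClass ρ C]
  {𝒜 : ℕ → σ} {ℬ : ℕ → τ} {𝒞 : ℕ → ρ} [GradedRing 𝒜] [GradedRing ℬ] [GradedRing 𝒞]

theorem map_mem_irrelevant (ψ : 𝒜 →+*ᵍ ℬ) {f : A} (hf : f ∈ 𝒜₊) : ψ f ∈ ℬ₊ := by
  rw [HomogeneousIdeal.mem_irrelevant_iff, GradedRing.proj_apply] at hf ⊢
  rw [← GradedRingHom.map_directSumDecompose (𝒜 := 𝒜) (ℬ := ℬ) ψ, hf, map_zero]

theorem domOpen_comp_le (χ : ℬ →+*ᵍ 𝒞) (ψ : 𝒜 →+*ᵍ ℬ) : domOpen (χ.comp ψ) ≤ domOpen χ := by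
  intro x hx
  rw [mem_domOpen] at hx ⊢
  obtain ⟨f, hf, hfx⟩ := hx
  exact ⟨ψ f, map_mem_irrelevant ψ hf, hfx⟩

theorem domOpen_congr {ψ ψ' : 𝒜 →+*ᵍ ℬ} (h : ψ = ψ') : domOpen ψ = domOpen ψ' := by subst h; rfl

end Ring

section Pointed
variable {S : Scheme.{u}} {𝒮 𝒮h : QCGrAlg S} {ι : 𝒮.toQCAlg ⟶ 𝒮h.toQCAlg} {z : 𝒮h.presheaf.obj (op ⊤)}
  (h : IsPolyOver 𝒮 𝒮h ι z) {PC : Scheme.{u}} (pC : PC ⟶ S)
  (chartC : ∀ (U : S.Opens) (hU : IsAffineOpen U), (((pC ⁻¹ᵁ U : PC.Opens) : Scheme.{u}) ≅ Proj (𝒮h.deg U hU)))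

theorem gradedAt_ofHom_eq {𝒜 ℬ : QCGrAlg S} (φ : 𝒜.toQCAlg ⟶ ℬ.toQCAlg) (hφ : IsGradedHom φ)
    (U : S.Opens) (hU : IsAffineOpen U) (hle : U ≤ (𝟙 S : S ⟶ S) ⁻¹ᵁ U) :
    (QGrHom.ofHom φ hφ).gradedAt U hU U hU hle = gradedHomAt φ hφ U hU :=
  GradedRingHom.ext fun x => QProj.gradedAt_ofHom_apply φ hφ U hU hle x

theorem gradedAt_ofHom_eq_comp {𝒜 ℬ : QCGrAlg S} (φ : 𝒜.toQCAlg ⟶ ℬ.toQCAlg) (hφ : IsGradedHom φ)
    (U : S.Opens) (hU : IsAffineOpen U) (U' : S.Opens) (hU' : IsAffineOpen U') (hle : U' ≤ (𝟙 S : S ⟶ S) ⁻¹ᵁ U) :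
    (QGrHom.ofHom φ hφ).gradedAt U hU U' hU' hle = (gradedHomAt φ hφ U' hU').comp (𝒜.res hU hU' hle) := by
  ext x
  exact congr($(φ.hom.naturality (homOfLE hle).op) x).symm

theorem pointedProjCone_eq_domQ :
    pointedProjCone 𝒮 h pC chartC = domQ (QGrHom.ofHom ι h.graded) pC chartC := by
  apply le_antisymm
  · refine iSup_le fun U => ?_
    refine le_trans ?_ (le_iSup _ ⟨(U, U), le_refl _⟩)
    rw [domOpen_congr (gradedAt_ofHom_eq ι h.graded U.1 U.2 (le_refl _))]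
  · refine iSup_le fun V => ?_
    refine le_trans ?_ (le_iSup _ V.1.2)
    rw [domOpen_congr (gradedAt_ofHom_eq_comp ι h.graded V.1.1.1 V.1.1.2 V.1.2.1 V.1.2.2 V.2)]
    exact Scheme.Hom.image_mono _ (domOpen_comp_le _ _)

end Pointed

section Poly
variable {S : Scheme.{u}} {𝒮 𝒮h : QCGrAlg S} {ι : 𝒮.toQCAlg ⟶ 𝒮h.toQCAlg} {z : 𝒮h.presheaf.obj (op ⊤)}
  (h : IsPolyOver 𝒮 𝒮h ι z) (U : S.Opens) (hU : IsAffineOpen U)

theorem hsurj (x : 𝒮h.presheaf.obj (op U)) :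
    ∃ p : Polynomial (𝒮.presheaf.obj (op U)),
      p.eval₂ ((gradedHomAt ι h.graded U hU : 𝒮.deg U hU →+*ᵍ 𝒮h.deg U hU) :
        𝒮.presheaf.obj (op U) →+* 𝒮h.presheaf.obj (op U)) (restrictTop 𝒮h z U) = x :=
  (h.bij U hU).2 x

theorem evalOne_ι' (a : 𝒮.presheaf.obj (op U)) :
    h.evalOne U hU (gradedHomAt ι h.graded U hU a) = a := h.evalOne_ι U hU a

/-- "`z = 0`" as a ring homomorphism -/
noncomputable def evalZeroRingHom : 𝒮h.presheaf.obj (op U) →+* 𝒮.presheaf.obj (op U) :=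
  (Polynomial.evalRingHom 0).comp (h.polyEquiv U hU).symm.toRingHom

theorem evalZero_ι (x : 𝒮.presheaf.obj (op U)) :
    evalZeroRingHom h U hU (gradedHomAt ι h.graded U hU x) = x := by
  have e : h.polyEquiv U hU (Polynomial.C x) = (ι.hom.app (op U)).hom x := by
    rw [IsPolyOver.polyEquiv_apply, Polynomial.eval₂_C]
  change Polynomial.eval 0 ((h.polyEquiv U hU).symm ((ι.hom.app (op U)).hom x)) = x
  rw [← e, RingEquiv.symm_apply_apply, Polynomial.eval_C]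

theorem evalZero_z : evalZeroRingHom h U hU (restrictTop 𝒮h z U) = 0 := by
  have e : h.polyEquiv U hU Polynomial.X = restrictTop 𝒮h z U := by
    rw [IsPolyOver.polyEquiv_apply, Polynomial.eval₂_X]
  change Polynomial.eval 0 ((h.polyEquiv U hU).symm (restrictTop 𝒮h z U)) = 0
  rw [← e, RingEquiv.symm_apply_apply, Polynomial.eval_X]

/-- "`z = 0`" as a graded ring homomorphism -/
noncomputable def evalZero : 𝒮h.deg U hU →+*ᵍ 𝒮.deg U hU :=
  { evalZeroRingHom h U hU with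
    map_mem := fun hx => PolyCone.t_mem (gradedHomAt ι h.graded U hU) (h.deg_z U hU) (evalZeroRingHom h U hU)
      (evalZero_ι h U hU) (evalZero_z h U hU) (hsurj h U hU) hx }

theorem evalZero_comp : (evalZero h U hU).comp (gradedHomAt ι h.graded U hU) = GradedRingHom.id _ :=
  GradedRingHom.ext fun x => evalZero_ι h U hU x

theorem awayZToBase_eq :
    h.awayZToBase U hU = PolyCone.awayToBase (ℬ := 𝒮h.deg U hU) (h.evalOne U hU) (h.evalOne_z U hU) := rfl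

theorem awayZToBase_bijective : Function.Bijective (h.awayZToBase U hU) :=
  PolyCone.awayToBase_bijective (gradedHomAt ι h.graded U hU) (h.deg_z U hU) (h.evalOne U hU)
    (h.evalOne_ι U hU) (h.evalOne_z U hU) (hsurj h U hU)

end Poly

end Groth.Agent.Lib.Helper3.Cone
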