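import Groth.Agent.Lib.Helper3.ConeImm2
/-!
# Existence of the canonical immersion of the affine cone into the projective cone; its kernel
-/
universe u
open CategoryTheory CategoryTheory.Limits AlgebraicGeometry Opposite TopologicalSpace
open HomogeneousLocalization
open scoped HomogeneousIdeal

namespace Groth.Agent.Lib.Helper3.PolyCone
section
variable {A B σ τ : Type u} [CommRing A] [SetLike σ A] [AddSubgroupClass σ A]
  [CommRing B] [SetLike τ B] [AddSubgroupClass τ B]
  {𝒜 : ℕ → σ} {ℬ : ℕ → τ} [GradedRing 𝒜] [GradedRing ℬ] (ι : 𝒜 →+*ᵍ ℬ) {z : B} (hz : z ∈ ℬ 1)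
  (e : B →+* A) (heι : ∀ a, e (ι a) = a) (hez : e z = 1)

include hz heι hez in
/-- ring homomorphisms out of `𝒜[z]_(z)` are determined by their values on the `ι a / z ^ k` -/
theorem away_hom_ext {C : Type*} [CommRing C]
    (hsurj : ∀ x : B, ∃ p : Polynomial A, p.eval₂ (ι : A →+* B) z = x) (f g : Away ℬ z →+* C)
    (H : ∀ (q : Away ℬ z) (k : ℕ) (a : A), a ∈ 𝒜 k →
      q.val = Localization.mk (ι a) ⟨z ^ k, _root_.pow_mem (Submonoid.mem_powers z) k⟩ → f q = g q) :
    f = g := by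
  classical
  have hbij := awayToBase_bijective ι hz e heι hez hsurj
  have hmem : ∀ a : A, a ∈ (RingHom.eqLocus f g).map (awayToBase (ℬ := ℬ) e hez) := by
    intro a
    rw [← DirectSum.sum_support_decompose 𝒜 a]
    refine Subring.sum_mem _ fun k _ => ?_
    refine ⟨Away.mk ℬ hz k (ι (DirectSum.decompose 𝒜 a k : A)) (by rw [smul_eq_mul, mul_one]; exact ι.map_mem (SetLike.coe_mem _)), ?_,
      awayToBase_mk_ι ι hz e heι hez k _ (SetLike.coe_mem _)⟩
    exact H _ k _ (SetLike.coe_mem _) (Away.val_mk ℬ k hz _ _)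
  ext q
  obtain ⟨q', hq', hqq⟩ := hmem (awayToBase e hez q)
  rw [← hbij.1 hqq]
  exact hq'

include hz heι hez in
/-- `z` is a nonzerodivisor, so `𝒜[z]_(g) → 𝒜[z]_(g z)` is injective -/
theorem awayMap_injective (hsurj : ∀ x : B, ∃ p : Polynomial A, p.eval₂ (ι : A →+* B) z = x)
    {d : ℕ} {g : B} (hg : g ∈ ℬ d) {x : B} (hx : x = g * z) :
    Function.Injective (awayMap ℬ hz hx : Away ℬ g →+* Away ℬ x) := by
  rw [injective_iff_map_eq_zero]
  intro q hq
  obtain ⟨n, a, ha, rfl⟩ := Away.mk_surjective ℬ hg q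
  rw [awayMap_mk] at hq
  have hv := congrArg HomogeneousLocalization.val hq
  rw [Away.val_mk, HomogeneousLocalization.val_zero, Localization.mk_eq_mk', IsLocalization.mk'_eq_zero_iff] at hv
  obtain ⟨⟨_, j, rfl⟩, hj⟩ := hv
  have hj' : z ^ (j + n) * (g ^ j * a) = 0 := by
    have : x ^ j * (a * z ^ n) = 0 := hj
    rw [hx] at this
    rw [← this]
    ring
  have hmem : g ^ j * a ∈ ℬ (j • d + n • d) := SetLike.mul_mem_graded (SetLike.pow_mem_graded j hg) ha
  have h0 : g ^ j * a = 0 := by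
    refine e_injOn ι hz e heι hez hsurj hmem ?_
    have := congrArg e hj'
    rwa [map_mul, map_pow, hez, one_pow, one_mul, map_zero] at this
  apply HomogeneousLocalization.val_injective
  rw [Away.val_mk, HomogeneousLocalization.val_zero, Localization.mk_eq_mk', IsLocalization.mk'_eq_zero_iff]
  exact ⟨⟨g ^ j, j, rfl⟩, h0⟩

end
end Groth.Agent.Lib.Helper3.PolyCone

namespace Groth.Agent.Lib.Helper3.Cone
open RelProj RelSpec RelCone Groth.Agent.Lib.Helper3 Groth.Agent.Lib.Helper3.QProj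

/-- injectivity of a morphism on the sections over the image of an open immersion can be checked after
base change -/
theorem app_injective_of_comm {X Y X' Y' : Scheme.{u}} (f : X ⟶ Y) (k : Y' ⟶ Y) [IsOpenImmersion k]
    (k' : X' ⟶ X) (f' : X' ⟶ Y') (comm : k' ≫ f = f' ≫ k) (hinj : Function.Injective f'.appTop) :
    Function.Injective (f.app k.opensRange) := by
  have h1 : ∀ W : Y'.Opens, W = ⊤ → Function.Injective (f'.app W) := by
    rintro _ rfl; exact hinj
  have h2 : Function.Injective (k.app k.opensRange) := by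
    have : IsIso (k.app k.opensRange) := Scheme.Hom.isIso_app k _ le_rfl
    exact ((ConcreteCategory.isIso_iff_bijective _).mp this).1
  have h3 := Scheme.Hom.congr_app comm k.opensRange
  rw [Scheme.Hom.comp_app, Scheme.Hom.comp_app] at h3
  intro s t hst
  apply h2
  apply h1 _ (Scheme.Hom.preimage_opensRange k)
  have h4 : (f.app k.opensRange ≫ k'.app (f ⁻¹ᵁ k.opensRange)) s =
      (f.app k.opensRange ≫ k'.app (f ⁻¹ᵁ k.opensRange)) t := by
    rw [CommRingCat.comp_apply, CommRingCat.comp_apply, hst]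
  rw [h3] at h4
  have h5 : ∀ (W W' : X'.Opens) (e : W = W'), Function.Injective (X'.presheaf.map (eqToHom e).op) := by
    intro W W' e
    have : IsIso (X'.presheaf.map (eqToHom e).op) := inferInstance
    exact ((ConcreteCategory.isIso_iff_bijective _).mp this).1
  exact h5 _ _ _ h4

section Exist
variable {S PC : Scheme.{u}} {𝒮 𝒮h : QCGrAlg S} {ι : 𝒮.toQCAlg ⟶ 𝒮h.toQCAlg} {z : 𝒮h.presheaf.obj (op ⊤)}
  (h : IsPolyOver 𝒮 𝒮h ι z)
  {pC : PC ⟶ S}
  {chartC : ∀ (U : S.Opens) (hU : IsAffineOpen U), (((pC ⁻¹ᵁ U : PC.Opens) : Scheme.{u}) ≅ Proj (𝒮h.deg U hU))}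
  (hC : IsRelProj 𝒮h pC chartC)

include h in
theorem away_hom_ext (U : S.Opens) (hU : IsAffineOpen U) {C : Type u} [CommRing C]
    (f g : Away (𝒮h.deg U hU) (restrictTop 𝒮h z U) →+* C)
    (H : ∀ (q : Away (𝒮h.deg U hU) (restrictTop 𝒮h z U)) (k : ℕ) (a : 𝒮.presheaf.obj (op U)), a ∈ 𝒮.deg U hU k →
      q.val = Localization.mk ((ι.hom.app (op U)).hom a)
        ⟨restrictTop 𝒮h z U ^ k, pow_mem (Submonoid.mem_powers (restrictTop 𝒮h z U)) k⟩ → f q = g q) :
    f = g :=
  PolyCone.away_hom_ext (gradedHomAt ι h.graded U hU) (h.deg_z U hU) (h.evalOne U hU) (h.evalOne_ι U hU)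
    (h.evalOne_z U hU) (hsurj h U hU) f g H

/-- the defining property `x / z ^ k ↦ x` pins `awayZToBase` -/
theorem hom_eq_awayZToBase (U : S.Opens) (hU : IsAffineOpen U)
    (θ : CommRingCat.of (Away (𝒮h.deg U hU) (restrictTop 𝒮h z U)) ⟶ 𝒮.presheaf.obj (op U))
    (hθ : ∀ (q : Away (𝒮h.deg U hU) (restrictTop 𝒮h z U)) (k : ℕ) (x : 𝒮.presheaf.obj (op U)), x ∈ 𝒮.deg U hU k →
      q.val = Localization.mk ((ι.hom.app (op U)).hom x)
        ⟨restrictTop 𝒮h z U ^ k, pow_mem (Submonoid.mem_powers (restrictTop 𝒮h z U)) k⟩ → θ.hom q = x) :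
    θ = CommRingCat.ofHom (h.awayZToBase U hU) := by
  refine CommRingCat.hom_ext (away_hom_ext h U hU _ _ fun q k a ha hq => ?_)
  rw [hθ q k a ha hq]
  symm
  exact (h.awayZToBase_of_val U hU q _ k hq).trans (h.evalOne_ι U hU a)

theorem restrictTop_res {U V : S.Opens} (hU : IsAffineOpen U) (hV : IsAffineOpen V) (i : V ≤ U) :
    𝒮h.res hU hV i (restrictTop 𝒮h z U) = restrictTop 𝒮h z V := by
  change (𝒮h.presheaf.map (homOfLE i).op).hom ((𝒮h.presheaf.map (homOfLE le_top).op).hom z) =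
    (𝒮h.presheaf.map (homOfLE le_top).op).hom z
  rw [← CommRingCat.comp_apply, ← Functor.map_comp]
  rfl

/-- `awayZToBase` is compatible with restriction -/
theorem awayZToBase_res {U V : S.Opens} (hU : IsAffineOpen U) (hV : IsAffineOpen V) (i : V ≤ U) :
    (h.awayZToBase V hV).comp (AwayTo.mapTo (𝒮h.res hU hV i) (restrictTop_res hU hV i)) =
      (𝒮.presheaf.map (homOfLE i).op).hom.comp (h.awayZToBase U hU) := by
  refine away_hom_ext h U hU _ _ fun q k a ha hq => ?_
  rw [RingHom.comp_apply, RingHom.comp_apply, (h.awayZToBase_of_val U hU q _ k hq).trans (h.evalOne_ι U hU a)]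
  have hq' : q = Away.mk (𝒮h.deg U hU) (h.deg_z U hU) k ((ι.hom.app (op U)).hom a)
      (by rw [smul_eq_mul, mul_one]; exact h.graded U hU k a ha) :=
    HomogeneousLocalization.val_injective _ (hq.trans (Away.val_mk _ k (h.deg_z U hU) _ _).symm)
  have hnat : (𝒮h.presheaf.map (homOfLE i).op).hom ((ι.hom.app (op U)).hom a) =
      (ι.hom.app (op V)).hom ((𝒮.presheaf.map (homOfLE i).op).hom a) :=
    (congrArg (fun m => m.hom a) (ι.hom.naturality (homOfLE i).op)).symm
  refine (h.awayZToBase_of_val V hV _ ((ι.hom.app (op V)).hom ((𝒮.presheaf.map (homOfLE i).op).hom a)) k ?_).trans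
    (h.evalOne_ι V hV _)
  rw [hq', Away.mk, AwayTo.mapTo, HomogeneousLocalization.map_mk, HomogeneousLocalization.val_mk]
  congr 1
  apply Subtype.ext
  change 𝒮h.res hU hV i (restrictTop 𝒮h z U ^ k) = restrictTop 𝒮h z V ^ k
  rw [map_pow, restrictTop_res]

include hC in
theorem immChart_res (U : S.Opens) (hU : IsAffineOpen U) (r : Γ(S, U)) :
    Spec.map (𝒮.presheaf.map (homOfLE (S.basicOpen_le r)).op) ≫ immChart h U hU ≫ emb pC chartC U hU =
      immChart h (S.basicOpen r) (hU.basicOpen r) ≫ emb pC chartC (S.basicOpen r) (hU.basicOpen r) := by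
  have h1 : emb pC chartC (S.basicOpen r) (hU.basicOpen r) =
      Proj.map (𝒮h.res hU (hU.basicOpen r) (S.basicOpen_le r)) (𝒮h.irrelevant_le_map U hU r) ≫
        emb pC chartC U hU :=
    (RelProjMap.map_res_chart_inv hC U hU r).symm
  have h2 := AwayTo.awayι_comp_map (𝒮h.res hU (hU.basicOpen r) (S.basicOpen_le r)) (𝒮h.irrelevant_le_map U hU r)
    one_pos (h.deg_z U hU) (restrictTop_res hU (hU.basicOpen r) (S.basicOpen_le r))
    (h.deg_z (S.basicOpen r) (hU.basicOpen r))
  have h3 : Spec.map (𝒮.presheaf.map (homOfLE (S.basicOpen_le r)).op) ≫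
      Spec.map (CommRingCat.ofHom (h.awayZToBase U hU)) =
      Spec.map (CommRingCat.ofHom (h.awayZToBase (S.basicOpen r) (hU.basicOpen r))) ≫
        Spec.map (CommRingCat.ofHom (AwayTo.mapTo (𝒮h.res hU (hU.basicOpen r) (S.basicOpen_le r))
          (restrictTop_res hU (hU.basicOpen r) (S.basicOpen_le r)))) := by
    rw [← Spec.map_comp, ← Spec.map_comp]
    congr 1
    exact CommRingCat.hom_ext (awayZToBase_res h hU (hU.basicOpen r) (S.basicOpen_le r)).symm
  rw [h1, immChart, immChart]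
  simp only [Category.assoc]
  rw [reassoc_of% h2, reassoc_of% h3]

include hC in
/-- the canonical immersion of the affine cone into the projective cone exists -/
theorem exists_coneImm : ∃ i : 𝒮.toQCAlg.spec ⟶ PC, IsConeImm 𝒮 h pC chartC i := by
  let c : Cocone 𝒮.toQCAlg.glueData.functor :=
    { pt := PC
      ι :=
        { app := fun U => immChart h U.1 U.2 ≫ emb pC chartC U.1 U.2
          naturality := fun V U i => by
            obtain ⟨f, hf⟩ := i.le
            obtain rfl : U.basicOpen f = V := Subtype.ext hf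
            refine Eq.trans ?_ (Category.comp_id _).symm
            exact immChart_res h hC U.1 U.2 f } }
  refine ⟨colimit.desc _ c, fun U hU => ?_⟩
  have := colimit.ι_desc c ⟨U, hU⟩
  exact this.trans (Category.assoc _ _ _)

theorem appTop_SpecMap_injective {R T : CommRingCat.{u}} (φ : R ⟶ T) (hφ : Function.Injective φ.hom) :
    Function.Injective (Spec.map φ).appTop := by
  have h1 := Scheme.ΓSpecIso_naturality φ
  have h2 : (Spec.map φ).appTop = (Scheme.ΓSpecIso R).hom ≫ φ ≫ (Scheme.ΓSpecIso T).inv := by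
    rw [← Category.assoc, ← h1, Category.assoc, Iso.hom_inv_id, Category.comp_id]
  rw [h2]
  intro s t hst
  rw [CommRingCat.comp_apply, CommRingCat.comp_apply, CommRingCat.comp_apply, CommRingCat.comp_apply] at hst
  have i1 : Function.Injective (Scheme.ΓSpecIso T).inv :=
    ((ConcreteCategory.isIso_iff_bijective _).mp inferInstance).1
  have i2 : Function.Injective (Scheme.ΓSpecIso R).hom :=
    ((ConcreteCategory.isIso_iff_bijective _).mp inferInstance).1
  exact i2 (hφ (i1 hst))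

variable (i : 𝒮.toQCAlg.spec ⟶ PC) (hi : IsConeImm 𝒮 h pC chartC i)

include hi in
theorem app_injective_coneImm (U : S.Opens) (hU : IsAffineOpen U) {d : ℕ} (hd : 0 < d)
    (g : 𝒮h.presheaf.obj (op U)) (hg : g ∈ 𝒮h.deg U hU d) :
    Function.Injective (i.app (Proj.awayι (𝒮h.deg U hU) g hg hd ≫ emb pC chartC U hU).opensRange) := by
  have hiso : IsIso (CommRingCat.ofHom (h.awayZToBase U hU)) :=
    (ConcreteCategory.isIso_iff_bijective _).mpr (awayZToBase_bijective h U hU)
  refine app_injective_of_comm i (Proj.awayι (𝒮h.deg U hU) g hg hd ≫ emb pC chartC U hU)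
    (Spec.map (CommRingCat.ofHom (awayMap (𝒮h.deg U hU) hg (mul_comm g (restrictTop 𝒮h z U)))) ≫
      inv (Spec.map (CommRingCat.ofHom (h.awayZToBase U hU))) ≫ 𝒮.toQCAlg.ι U hU)
    (Spec.map (CommRingCat.ofHom (awayMap (𝒮h.deg U hU) (h.deg_z U hU)
      (rfl : g * restrictTop 𝒮h z U = g * restrictTop 𝒮h z U)))) ?_ ?_
  · simp only [Category.assoc]
    rw [hi U hU, IsIso.inv_hom_id_assoc]
    rw [← Category.assoc, ← Category.assoc]
    congr 1
    rw [Proj.SpecMap_awayMap_awayι, Proj.SpecMap_awayMap_awayι]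
    have key : ∀ (m m' : ℕ) (_ : m = m') (x : 𝒮h.presheaf.obj (op U)) (hx : x ∈ 𝒮h.deg U hU m)
        (hx' : x ∈ 𝒮h.deg U hU m') (hm : 0 < m) (hm' : 0 < m'),
        Proj.awayι (𝒮h.deg U hU) x hx hm = Proj.awayι (𝒮h.deg U hU) x hx' hm' := by
      intro m m' e x hx hx' hm hm'
      subst e
      rfl
    exact key _ _ (Nat.add_comm _ _) _ _ _ _ _
  · refine appTop_SpecMap_injective _ ?_
    exact PolyCone.awayMap_injective (gradedHomAt ι h.graded U hU) (h.deg_z U hU) (h.evalOne U hU)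
      (h.evalOne_ι U hU) (h.evalOne_z U hU) (hsurj h U hU) hg rfl

include hC hi in
/-- the projective cone is the scheme-theoretic closure of the affine cone -/
theorem ker_coneImm : i.ker = ⊥ := by
  have : IsAffineHom i := isAffineHom_coneImm h hC i hi
  refine Scheme.IdealSheafData.ext_of_iSup_eq_top
    (ι := {V : PC.affineOpens // Function.Injective (i.app V.1)}) (fun V => V.1) ?_ ?_
  · rw [eq_top_iff]
    intro x _
    obtain ⟨_, ⟨U, hU, rfl⟩, hxU, -⟩ := S.isBasis_affineOpens.exists_subset_of_mem_open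
      (Set.mem_univ (pC.base x)) isOpen_univ
    have hx : x ∈ Set.range (emb pC chartC U hU).base := by
      rw [Idx.range_emb]; exact hxU
    obtain ⟨y, rfl⟩ := hx
    obtain ⟨f₀, hf₀, hf₀y⟩ : ∃ f₀ ∈ (𝒮h.deg U hU)₊, f₀ ∉ y.asHomogeneousIdeal := by
      by_contra hcon
      push Not at hcon
      exact y.not_irrelevant_le fun f hf => hcon f hf
    obtain ⟨d, hd, g, hg, hgy⟩ := exists_homogeneous_not_mem y.asHomogeneousIdeal.toIdeal hf₀ hf₀y
    obtain ⟨w, rfl⟩ := exists_awayι_eq_of_not_mem hg hd y hgy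
    exact Opens.mem_iSup.mpr ⟨⟨⟨_, isAffineOpen_opensRange
      (Proj.awayι (𝒮h.deg U hU) g hg hd ≫ emb pC chartC U hU)⟩,
      app_injective_coneImm h i hi U hU hd g hg⟩, ⟨w, rfl⟩⟩
  · rintro ⟨V, hV⟩
    rw [Scheme.Hom.ker_apply]
    simp only [Scheme.IdealSheafData.ideal_bot, Pi.bot_apply]
    exact (RingHom.injective_iff_ker_eq_bot _).mp hV

include hC hi in
/-- the image of the cone immersion is the open where `z` does not vanish -/
theorem range_coneImm_eq (Xz : PC.Opens)
    (hXz : ∀ (U : S.Opens) (hU : IsAffineOpen U), Xz ⊓ pC ⁻¹ᵁ U =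
      (pC ⁻¹ᵁ U).ι ''ᵁ ((chartC U hU).hom ⁻¹ᵁ Proj.basicOpen (𝒮h.deg U hU) (restrictTop 𝒮h z U))) :
    Set.range i.base = (Xz : Set PC) := by
  ext x
  obtain ⟨_, ⟨U, hU, rfl⟩, hxU, -⟩ := S.isBasis_affineOpens.exists_subset_of_mem_open
    (Set.mem_univ (pC.base x)) isOpen_univ
  have hx : x ∈ Set.range (emb pC chartC U hU).base := by
    rw [Idx.range_emb]; exact hxU
  obtain ⟨y, rfl⟩ := hx
  rw [mem_range_coneImm_iff h hC i hi U hU y]
  have h1 : (emb pC chartC U hU).base y ∈ (Xz : Set PC) ↔ (emb pC chartC U hU).base y ∈ Xz ⊓ pC ⁻¹ᵁ U :=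
    ⟨fun hx => ⟨hx, hxU⟩, fun hx => hx.1⟩
  rw [h1, hXz U hU]
  have h2 : (chartC U hU).hom.base ((chartC U hU).inv.base y) = y := by
    rw [← Scheme.Hom.comp_apply, Iso.inv_hom_id]
    rfl
  constructor
  · intro hy
    refine ⟨(chartC U hU).inv.base y, ?_, rfl⟩
    change (chartC U hU).hom.base ((chartC U hU).inv.base y) ∈ Proj.basicOpen (𝒮h.deg U hU) (restrictTop 𝒮h z U)
    rw [h2]
    exact hy
  · rintro ⟨w, hw, hwx⟩
    have hw' : w = (chartC U hU).inv.base y := (pC ⁻¹ᵁ U).ι.isOpenEmbedding.injective hwx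
    subst hw'
    have hw2 : (chartC U hU).hom.base ((chartC U hU).inv.base y) ∈
        Proj.basicOpen (𝒮h.deg U hU) (restrictTop 𝒮h z U) := hw
    rw [h2] at hw2
    exact hw2

end Exist

end Groth.Agent.Lib.Helper3.Cone
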