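import Groth.Agent.Lib.Helper3.ConeImm
/-!
# The canonical immersion of the affine cone into the projective cone: scheme-theoretic properties
-/
universe u
open CategoryTheory CategoryTheory.Limits AlgebraicGeometry Opposite TopologicalSpace
open HomogeneousLocalization
open scoped HomogeneousIdeal

namespace Groth.Agent.Lib.Helper3.Cone
open RelProj RelSpec RelCone Groth.Agent.Lib.Helper3 Groth.Agent.Lib.Helper3.QProj

section Cover
variable {S PC : Scheme.{u}} {𝒮h : QCGrAlg S} (pC : PC ⟶ S)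
  (chartC : ∀ (U : S.Opens) (hU : IsAffineOpen U), (((pC ⁻¹ᵁ U : PC.Opens) : Scheme.{u}) ≅ Proj (𝒮h.deg U hU)))

/-- the cover of a relative Proj by its charts over the affine opens of the base -/
noncomputable def embCover : PC.OpenCover :=
  Scheme.Cover.mkOfCovers S.affineOpens (fun U => Proj (𝒮h.deg U.1 U.2)) (fun U => emb pC chartC U.1 U.2)
    (fun x => by
      obtain ⟨_, ⟨U, hU, rfl⟩, hxU, -⟩ := S.isBasis_affineOpens.exists_subset_of_mem_open
        (Set.mem_univ (pC.base x)) isOpen_univ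
      have hx : x ∈ Set.range (emb pC chartC U hU).base := by
        rw [Idx.range_emb]; exact hxU
      exact ⟨⟨U, hU⟩, hx⟩)
    (fun U => inferInstance)

theorem opensRange_emb (U : S.Opens) (hU : IsAffineOpen U) : (emb pC chartC U hU).opensRange = pC ⁻¹ᵁ U := by
  ext x
  exact Set.ext_iff.mp (Idx.range_emb pC chartC U hU) x

end Cover

section Imm
variable {S PC : Scheme.{u}} {𝒮 𝒮h : QCGrAlg S} {ι : 𝒮.toQCAlg ⟶ 𝒮h.toQCAlg} {z : 𝒮h.presheaf.obj (op ⊤)}
  (h : IsPolyOver 𝒮 𝒮h ι z)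
  {pC : PC ⟶ S}
  {chartC : ∀ (U : S.Opens) (hU : IsAffineOpen U), (((pC ⁻¹ᵁ U : PC.Opens) : Scheme.{u}) ≅ Proj (𝒮h.deg U hU))}
  (hC : IsRelProj 𝒮h pC chartC)
  (i : 𝒮.toQCAlg.spec ⟶ PC) (hi : IsConeImm 𝒮 h pC chartC i)

/-- the chart of the cone immersion -/
noncomputable def immChart (U : S.Opens) (hU : IsAffineOpen U) :
    Spec (𝒮.presheaf.obj (op U)) ⟶ Proj (𝒮h.deg U hU) :=
  Spec.map (CommRingCat.ofHom (h.awayZToBase U hU)) ≫
    Proj.awayι (𝒮h.deg U hU) (restrictTop 𝒮h z U) (h.deg_z U hU) one_pos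

instance (U : S.Opens) (hU : IsAffineOpen U) : IsOpenImmersion (immChart h U hU) := by
  have : IsIso (CommRingCat.ofHom (h.awayZToBase U hU)) :=
    (ConcreteCategory.isIso_iff_bijective _).mpr (awayZToBase_bijective h U hU)
  unfold immChart
  infer_instance

instance (U : S.Opens) (hU : IsAffineOpen U) : IsAffineHom (immChart h U hU) := by
  have : IsAffineHom (immChart h U hU ≫ Proj.toSpecZero (𝒮h.deg U hU)) := inferInstance
  exact IsAffineHom.of_comp (immChart h U hU) (Proj.toSpecZero (𝒮h.deg U hU))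

include hC hi in
theorem isPullback_coneImm (U : S.Opens) (hU : IsAffineOpen U) :
    IsPullback (immChart h U hU) (𝒮.toQCAlg.ι U hU) (emb pC chartC U hU) i := by
  refine IsOpenImmersion.isPullback _ _ _ _ ?_ ?_
  · rw [hi U hU, immChart, Category.assoc]
  · rw [opensRange_emb, ← Scheme.Hom.comp_preimage, coneImm_comp h hC i hi, 𝒮.toQCAlg.π_preimage U hU]

include hC hi in
theorem coneImm_of_forall (Q : MorphismProperty Scheme.{u}) [IsZariskiLocalAtTarget Q]
    (H : ∀ (U : S.Opens) (hU : IsAffineOpen U), Q (immChart h U hU)) : Q i := by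
  refine IsZariskiLocalAtTarget.of_openCover (P := Q) (embCover pC chartC) fun U => ?_
  have hpb := isPullback_coneImm h hC i hi U.1 U.2
  change Q (pullback.snd i (emb pC chartC U.1 U.2))
  have heq : pullback.snd i (emb pC chartC U.1 U.2) = hpb.flip.isoPullback.inv ≫ immChart h U.1 U.2 := by
    rw [Iso.eq_inv_comp]
    exact hpb.flip.isoPullback_hom_snd
  rw [heq, Q.cancel_left_of_respectsIso]
  exact H U.1 U.2

include hC hi in
theorem isOpenImmersion_coneImm : IsOpenImmersion i :=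
  coneImm_of_forall h hC i hi @IsOpenImmersion fun U hU => inferInstance

include hC hi in
theorem isAffineHom_coneImm : IsAffineHom i :=
  coneImm_of_forall h hC i hi @IsAffineHom fun U hU => inferInstance

end Imm

section Retr2
variable {S PC P : Scheme.{u}} {𝒮 𝒮h : QCGrAlg S} {ι : 𝒮.toQCAlg ⟶ 𝒮h.toQCAlg} {z : 𝒮h.presheaf.obj (op ⊤)}
  (h : IsPolyOver 𝒮 𝒮h ι z)
  {pC : PC ⟶ S}
  {chartC : ∀ (U : S.Opens) (hU : IsAffineOpen U), (((pC ⁻¹ᵁ U : PC.Opens) : Scheme.{u}) ≅ Proj (𝒮h.deg U hU))}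
  (hC : IsRelProj 𝒮h pC chartC)
  {p : P ⟶ S}
  {chart : ∀ (U : S.Opens) (hU : IsAffineOpen U), (((p ⁻¹ᵁ U : P.Opens) : Scheme.{u}) ≅ Proj (𝒮.deg U hU))}
  (hP : IsRelProj 𝒮 p chart)

/-- the value of the retraction at a point of a standard chart -/
theorem retr_apply (r : ((domQ (QGrHom.ofHom ι h.graded) pC chartC : PC.Opens) : Scheme.{u}) ⟶ P)
    (hr : RetrCond h pC chartC p chart (domQ (QGrHom.ofHom ι h.graded) pC chartC) r)
    (U : S.Opens) (hU : IsAffineOpen U) {d : ℕ} (hd : 0 < d) (f : 𝒮.presheaf.obj (op U)) (hf : f ∈ 𝒮.deg U hU d)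
    (x₀ : ((domQ (QGrHom.ofHom ι h.graded) pC chartC : PC.Opens) : Scheme.{u})) (y : Proj (𝒮h.deg U hU))
    (hy : (domQ (QGrHom.ofHom ι h.graded) pC chartC).ι.base x₀ = (emb pC chartC U hU).base y)
    (hfy : gradedHomAt ι h.graded U hU f ∉ y.asHomogeneousIdeal) :
    ∃ y' : Proj (𝒮.deg U hU), r.base x₀ = (emb p chart U hU).base y' ∧ f ∉ y'.asHomogeneousIdeal ∧
      ∀ n, 0 < n → ∀ a ∈ 𝒮.deg U hU n,
        (a ∈ y'.asHomogeneousIdeal ↔ gradedHomAt ι h.graded U hU a ∈ y.asHomogeneousIdeal) := by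
  obtain ⟨w', rfl⟩ := exists_awayι_eq_of_not_mem ((gradedHomAt ι h.graded U hU).map_mem hf) hd y hfy
  have hWr := Idx.range_j_subset_domQ pC chartC (idx h U hU d hd f hf)
  have hx₀ : x₀ = (IsOpenImmersion.lift (domQ (QGrHom.ofHom ι h.graded) pC chartC).ι
      ((idx h U hU d hd f hf).j pC chartC) hWr).base w' := by
    apply (domQ (QGrHom.ofHom ι h.graded) pC chartC).ι.isOpenEmbedding.injective
    rw [hy]
    have e := congrArg (fun m : _ ⟶ PC => m.base w') (IsOpenImmersion.lift_fac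
      (domQ (QGrHom.ofHom ι h.graded) pC chartC).ι ((idx h U hU d hd f hf).j pC chartC) hWr)
    exact e.symm
  have h3 := hr U hU d hd f hf (IsOpenImmersion.lift (domQ (QGrHom.ofHom ι h.graded) pC chartC).ι
      ((idx h U hU d hd f hf).j pC chartC) hWr) (IsOpenImmersion.lift_fac _ _ _)
  refine ⟨(Proj.awayι (𝒮.deg U hU) f hf hd).base
    ((Spec.map (CommRingCat.ofHom (Away.map (gradedHomAt ι h.graded U hU) f))).base w'), ?_,
    not_mem_awayι_self _ _ _, ?_⟩
  · rw [hx₀]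
    exact congrArg (fun m : _ ⟶ P => m.base w') h3
  · intro n hn a ha
    refine (mem_awayι_iff hf hd ha hn _).trans ?_
    refine Iff.trans ?_ (mem_awayι_iff ((gradedHomAt ι h.graded U hU).map_mem hf) hd
      ((gradedHomAt ι h.graded U hU).map_mem ha) hn w').symm
    have e := AwayTo.mapTo_isLocalizationElem (gradedHomAt ι h.graded U hU) hf ha rfl
      ((gradedHomAt ι h.graded U hU).map_mem hf)
    change Away.map (gradedHomAt ι h.graded U hU) f (Away.isLocalizationElem hf ha) ∈ w'.asIdeal ↔ _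
    exact iff_of_eq (congrArg (fun t => t ∈ w'.asIdeal) e)

variable (i : 𝒮.toQCAlg.spec ⟶ PC) (hi : IsConeImm 𝒮 h pC chartC i)

include hC hP hi in
/-- the composite `E → Ê → X` is affine and surjective -/
theorem pointedCone_retr (W : PC.Opens) (hW : W = domQ (QGrHom.ofHom ι h.graded) pC chartC)
    (r : (W : Scheme.{u}) ⟶ P) (hr : RetrCond h pC chartC p chart W r) :
    (pointedCone 𝒮 : 𝒮.toQCAlg.spec.Opens) ≤ i ⁻¹ᵁ W ∧
      ∀ i' : ((pointedCone 𝒮 : 𝒮.toQCAlg.spec.Opens) : Scheme.{u}) ⟶ (W : Scheme.{u}),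
        i' ≫ W.ι = (pointedCone 𝒮).ι ≫ i →
          IsAffineHom (i' ≫ r) ∧ Function.Surjective (i' ≫ r).base := by
  have hpre := preimage_pointed_eq_pointedCone h hC i hi W hW
  refine ⟨hpre.ge, fun i' hi' => ⟨?_, ?_⟩⟩
  · have : IsAffineHom r := retr_isAffineHom h hC hP W hW r hr
    have hpb : IsPullback i' (pointedCone 𝒮).ι W.ι i := by
      refine IsOpenImmersion.isPullback _ _ _ _ hi'.symm ?_
      rw [Scheme.Opens.opensRange_ι, Scheme.Opens.opensRange_ι, hpre]
    have : IsAffineHom i := isAffineHom_coneImm h hC i hi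
    have : IsAffineHom i' := MorphismProperty.of_isPullback hpb.flip this
    infer_instance
  · subst hW
    intro x
    obtain ⟨_, ⟨U, hU, rfl⟩, hxU, -⟩ := S.isBasis_affineOpens.exists_subset_of_mem_open
      (Set.mem_univ (p.base x)) isOpen_univ
    have hx : x ∈ Set.range (emb p chart U hU).base := by
      rw [Idx.range_emb]; exact hxU
    obtain ⟨y₀, rfl⟩ := hx
    -- a homogeneous element of positive degree not vanishing at `y₀`
    obtain ⟨f₀, hf₀, hf₀y⟩ : ∃ f₀ ∈ (𝒮.deg U hU)₊, f₀ ∉ y₀.asHomogeneousIdeal := by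
      by_contra hcon
      push Not at hcon
      exact y₀.not_irrelevant_le fun f hf => hcon f hf
    obtain ⟨d, hd, f, hf, hfy⟩ := exists_homogeneous_not_mem y₀.asHomogeneousIdeal.toIdeal hf₀ hf₀y
    -- the cone point over `y₀`
    let v : Spec (𝒮.presheaf.obj (op U)) := ⟨y₀.asHomogeneousIdeal.toIdeal, y₀.isPrime⟩
    have hv : v ∈ vertexCompl (𝒮.deg U hU) :=
      (mem_vertexCompl_iff (𝒮.deg U hU) v).mpr ⟨d, hd, f, hf, hfy⟩
    have hc : (𝒮.toQCAlg.ι U hU).base v ∈ pointedCone 𝒮 := Opens.mem_iSup.mpr ⟨⟨U, hU⟩, v, hv, rfl⟩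
    let e : ((pointedCone 𝒮 : 𝒮.toQCAlg.spec.Opens) : Scheme.{u}) := ⟨(𝒮.toQCAlg.ι U hU).base v, hc⟩
    have he : (domQ (QGrHom.ofHom ι h.graded) pC chartC).ι.base (i'.base e) =
        (emb pC chartC U hU).base (ptZ h U hU v) := by
      rw [← Scheme.Hom.comp_apply, hi', Scheme.Hom.comp_apply]
      exact coneImm_apply' h i hi U hU v
    have hfz : gradedHomAt ι h.graded U hU f ∉ (ptZ h U hU v).asHomogeneousIdeal :=
      fun hmem => hfy ((ι_mem_ptZ_iff h U hU v hd f hf).mp hmem)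
    obtain ⟨y', hy', hfy', hiff⟩ := retr_apply h r hr U hU hd f hf (i'.base e) (ptZ h U hU v) he hfz
    refine ⟨e, ?_⟩
    rw [Scheme.Hom.comp_apply, hy']
    congr 1
    refine proj_point_ext_of_pos y' y₀ hd hf hfy' hfy fun n hn a ha => ?_
    rw [hiff n hn a ha, ι_mem_ptZ_iff h U hU v hn a ha]
    rfl

end Retr2

end Groth.Agent.Lib.Helper3.Cone
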