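import Groth.Agent.Lib.Helper3.ConeRetr
/-!
# Functoriality of projective cones
-/
universe u
open CategoryTheory CategoryTheory.Limits AlgebraicGeometry Opposite TopologicalSpace
open HomogeneousLocalization
open scoped HomogeneousIdeal

namespace Groth.Agent.Lib.Helper3.Cone
open RelProj RelSpec RelCone Groth.Agent.Lib.Helper3 Groth.Agent.Lib.Helper3.QProj

theorem specMap_ofHom_comp {R₁ R₂ R₃ : Type u} [CommRing R₁] [CommRing R₂] [CommRing R₃] (f : R₂ →+* R₃)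
    (g : R₁ →+* R₂) :
    Spec.map (CommRingCat.ofHom (f.comp g)) = Spec.map (CommRingCat.ofHom f) ≫ Spec.map (CommRingCat.ofHom g) := by
  rw [CommRingCat.ofHom_comp, Spec.map_comp]

/-- local factorisation of a morphism through an open immersion -/
theorem exists_factor {T X D : Scheme.{u}} (d : T ⟶ X) (j : D ⟶ X) [IsOpenImmersion j] (τ : T)
    (hτ : d.base τ ∈ Set.range j.base) :
    ∃ (E : Scheme.{u}) (e : E ⟶ T) (_ : IsOpenImmersion e) (d' : E ⟶ D), τ ∈ Set.range e.base ∧ e ≫ d = d' ≫ j := by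
  have hr : Set.range ((d ⁻¹ᵁ j.opensRange).ι ≫ d).base ⊆ Set.range j.base := by
    rintro _ ⟨y, rfl⟩
    rw [Scheme.Hom.comp_apply]
    exact y.2
  refine ⟨_, (d ⁻¹ᵁ j.opensRange).ι, inferInstance, IsOpenImmersion.lift j ((d ⁻¹ᵁ j.opensRange).ι ≫ d) hr,
    ?_, (IsOpenImmersion.lift_fac _ _ _).symm⟩
  rw [Scheme.Opens.range_ι]
  exact hτ

section Map
variable {Y Y' : Scheme.{u}} {q : Y' ⟶ Y}
    {𝒮 : QCGrAlg Y} {𝒮' : QCGrAlg Y'} (u : QGrHom q 𝒮 𝒮')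
    {𝒮h : QCGrAlg Y} {ι : 𝒮.toQCAlg ⟶ 𝒮h.toQCAlg} {z : 𝒮h.presheaf.obj (op ⊤)} (hz : IsPolyOver 𝒮 𝒮h ι z)
    {𝒮h' : QCGrAlg Y'} {ι' : 𝒮'.toQCAlg ⟶ 𝒮h'.toQCAlg} {z' : 𝒮h'.presheaf.obj (op ⊤)}
    (hz' : IsPolyOver 𝒮' 𝒮h' ι' z')
    (uh : QGrHom q 𝒮h 𝒮h')
    (huh : ∀ U : Y.Opens, ι.hom.app (op U) ≫ uh.app U = u.app U ≫ ι'.hom.app (op (q ⁻¹ᵁ U)))
    (huhz : (uh.app ⊤).hom z = restrictTop 𝒮h' z' (q ⁻¹ᵁ ⊤))
    (U : Y.Opens) (hU : IsAffineOpen U) (U' : Y'.Opens) (hU' : IsAffineOpen U') (hle : U' ≤ q ⁻¹ᵁ U)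

include huhz in
theorem uh_z : uh.gradedAt U hU U' hU' hle (restrictTop 𝒮h z U) = restrictTop 𝒮h' z' U' := by
  have h1 : (uh.gradedAt U hU U' hU' hle) (restrictTop 𝒮h z U) =
      (𝒮h.presheaf.map (homOfLE (le_top : U ≤ ⊤)).op ≫ uh.appLE U U' hle).hom z := rfl
  rw [h1, uh.toQHom.map_appLE]
  change (𝒮h'.presheaf.map _).hom ((uh.app ⊤).hom z) = _
  rw [huhz]
  change (𝒮h'.presheaf.map _ ≫ 𝒮h'.presheaf.map _).hom z' = _
  rw [← Functor.map_comp]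
  rfl

include huh in
theorem uh_ι : (uh.gradedAt U hU U' hU' hle).comp (gradedHomAt ι hz.graded U hU) =
    (gradedHomAt ι' hz'.graded U' hU').comp (u.gradedAt U hU U' hU' hle) := by
  ext x
  have h1 : ι.hom.app (op U) ≫ uh.appLE U U' hle = u.appLE U U' hle ≫ ι'.hom.app (op U') := by
    rw [QHom.appLE, ← Category.assoc, huh U, Category.assoc, QHom.appLE, Category.assoc]
    congr 1
    exact (ι'.hom.naturality (homOfLE hle).op).symm
  exact congr($h1 x)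

include huh in
theorem uh_ι_apply (x : 𝒮.presheaf.obj (op U)) :
    uh.gradedAt U hU U' hU' hle (gradedHomAt ι hz.graded U hU x) =
      gradedHomAt ι' hz'.graded U' hU' (u.gradedAt U hU U' hU' hle x) :=
  congrArg (fun m : 𝒮.deg U hU →+*ᵍ 𝒮h'.deg U' hU' => m x) (uh_ι u hz hz' uh huh U hU U' hU' hle)

include huh huhz in
/-- "`z = 1`" commutes with the maps of cones -/
theorem evalOne_uh :
    (hz'.evalOne U' hU').comp (uh.gradedAt U hU U' hU' hle : 𝒮h.presheaf.obj (op U) →+* 𝒮h'.presheaf.obj (op U')) =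
      (u.gradedAt U hU U' hU' hle : 𝒮.presheaf.obj (op U) →+* 𝒮'.presheaf.obj (op U')).comp (hz.evalOne U hU) := by
  refine PolyCone.ringHom_ext (gradedHomAt ι hz.graded U hU) (hsurj hz U hU) _ _ (fun a => ?_) ?_
  · simp only [RingHom.comp_apply]
    have e1 : hz.evalOne U hU ((gradedHomAt ι hz.graded U hU) a) = a := hz.evalOne_ι U hU a
    have e2 : (uh.gradedAt U hU U' hU' hle : 𝒮h.presheaf.obj (op U) →+* 𝒮h'.presheaf.obj (op U'))
        ((gradedHomAt ι hz.graded U hU) a) =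
        gradedHomAt ι' hz'.graded U' hU' (u.gradedAt U hU U' hU' hle a) :=
      uh_ι_apply u hz hz' uh huh U hU U' hU' hle a
    rw [e1, e2]
    exact hz'.evalOne_ι U' hU' _
  · simp only [RingHom.comp_apply]
    have e2 : (uh.gradedAt U hU U' hU' hle : 𝒮h.presheaf.obj (op U) →+* 𝒮h'.presheaf.obj (op U'))
        (restrictTop 𝒮h z U) = restrictTop 𝒮h' z' U' := uh_z uh huhz U hU U' hU' hle
    rw [e2, hz'.evalOne_z, hz.evalOne_z, map_one]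

include huh huhz in
theorem awayZToBase_uh :
    (hz'.awayZToBase U' hU').comp (AwayTo.mapTo (uh.gradedAt U hU U' hU' hle) (uh_z uh huhz U hU U' hU' hle)) =
      (u.gradedAt U hU U' hU' hle : 𝒮.presheaf.obj (op U) →+* 𝒮'.presheaf.obj (op U')).comp
        (hz.awayZToBase U hU) := by
  ext a
  obtain ⟨k, x, hx, rfl⟩ := Away.mk_surjective _ (hz.deg_z U hU) a
  simp only [RingHom.comp_apply]
  have h1 : hz.awayZToBase U hU (Away.mk (𝒮h.deg U hU) (hz.deg_z U hU) k x hx) = hz.evalOne U hU x :=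
    hz.awayZToBase_of_val U hU _ x k (Away.val_mk _ _ _ _ _)
  have h2 : (AwayTo.mapTo (uh.gradedAt U hU U' hU' hle) (uh_z uh huhz U hU U' hU' hle))
      (Away.mk (𝒮h.deg U hU) (hz.deg_z U hU) k x hx) =
      Away.mk (𝒮h'.deg U' hU') (hz'.deg_z U' hU') k (uh.gradedAt U hU U' hU' hle x)
        ((uh.gradedAt U hU U' hU' hle).map_mem hx) := by
    apply HomogeneousLocalization.val_injective
    rw [Away.val_mk]
    simp only [AwayTo.mapTo, Away.mk, HomogeneousLocalization.map_mk, HomogeneousLocalization.val_mk]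
    congr 1
    apply Subtype.ext
    simp only [map_pow]
    rw [uh_z uh huhz U hU U' hU' hle]
  rw [h1, h2, hz'.awayZToBase_of_val U' hU' _ _ k (Away.val_mk _ _ _ _ _)]
  exact congrArg (fun m : 𝒮h.presheaf.obj (op U) →+* 𝒮'.presheaf.obj (op U') => m x)
    (evalOne_uh u hz hz' uh huh huhz U hU U' hU' hle)

end Map

theorem exists_pair {Y Y' : Scheme.{u}} (q : Y' ⟶ Y) (y' : Y') :
    ∃ (U : Y.Opens) (_ : IsAffineOpen U) (U' : Y'.Opens) (_ : IsAffineOpen U') (_ : U' ≤ q ⁻¹ᵁ U), y' ∈ U' := by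
  obtain ⟨_, ⟨U, hU, rfl⟩, hyU, -⟩ := Y.isBasis_affineOpens.exists_subset_of_mem_open
    (Set.mem_univ (q.base y')) isOpen_univ
  obtain ⟨_, ⟨U', hU', rfl⟩, hyU', hle⟩ := Y'.isBasis_affineOpens.exists_subset_of_mem_open
    (show y' ∈ ((q ⁻¹ᵁ U : Y'.Opens) : Set Y') from hyU) (q ⁻¹ᵁ U).2
  exact ⟨U, hU, U', hU', hle, hyU'⟩

section ConeImm
variable {Y Y' PC PC' : Scheme.{u}} {q : Y' ⟶ Y}
    {𝒮 : QCGrAlg Y} {𝒮' : QCGrAlg Y'} (u : QGrHom q 𝒮 𝒮')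
    {𝒮h : QCGrAlg Y} {ι : 𝒮.toQCAlg ⟶ 𝒮h.toQCAlg} {z : 𝒮h.presheaf.obj (op ⊤)} (hz : IsPolyOver 𝒮 𝒮h ι z)
    {pC : PC ⟶ Y}
    {chartC : ∀ (U : Y.Opens) (hU : IsAffineOpen U), (((pC ⁻¹ᵁ U : PC.Opens) : Scheme.{u}) ≅ Proj (𝒮h.deg U hU))}
    {𝒮h' : QCGrAlg Y'} {ι' : 𝒮'.toQCAlg ⟶ 𝒮h'.toQCAlg} {z' : 𝒮h'.presheaf.obj (op ⊤)}
    (hz' : IsPolyOver 𝒮' 𝒮h' ι' z')
    {pC' : PC' ⟶ Y'}
    {chartC' : ∀ (U : Y'.Opens) (hU : IsAffineOpen U), (((pC' ⁻¹ᵁ U : PC'.Opens) : Scheme.{u}) ≅ Proj (𝒮h'.deg U hU))}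
    (uh : QGrHom q 𝒮h 𝒮h')
    (huh : ∀ U : Y.Opens, ι.hom.app (op U) ≫ uh.app U = u.app U ≫ ι'.hom.app (op (q ⁻¹ᵁ U)))
    (huhz : (uh.app ⊤).hom z = restrictTop 𝒮h' z' (q ⁻¹ᵁ ⊤))
    (Φh : ((domQ uh pC' chartC' : PC'.Opens) : Scheme.{u}) ⟶ PC)
    (hΦh : IsProjQMapOn uh pC chartC pC' chartC' (domQ uh pC' chartC') Φh)
    (Φc : 𝒮'.toQCAlg.spec ⟶ 𝒮.toQCAlg.spec) (hΦc : IsSpecQMap u.toQHom Φc)
    (i : 𝒮.toQCAlg.spec ⟶ PC) (hi : IsConeImm 𝒮 hz pC chartC i)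
    (i' : 𝒮'.toQCAlg.spec ⟶ PC') (hi' : IsConeImm 𝒮' hz' pC' chartC' i')

/-- the chart of `G(uh)` at `z` -/
def idxZ (U : Y.Opens) (hU : IsAffineOpen U) (U' : Y'.Opens) (hU' : IsAffineOpen U') (hle : U' ≤ q ⁻¹ᵁ U) :
    Idx uh :=
  ⟨U, hU, U', hU', hle, 1, one_pos, restrictTop 𝒮h z U, hz.deg_z U hU, restrictTop 𝒮h' z' U',
    uh_z uh huhz U hU U' hU' hle⟩

include hz huhz hi' in
theorem coneImm_range : Set.range i'.base ⊆ ((domQ uh pC' chartC' : PC'.Opens) : Set PC') := by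
  rintro _ ⟨x, rfl⟩
  obtain ⟨U, hU, U', hU', hle, hy⟩ := exists_pair q (𝒮'.toQCAlg.π.base x)
  have hx : x ∈ (𝒮'.toQCAlg.ι U' hU').opensRange := by
    rw [← 𝒮'.toQCAlg.π_preimage U' hU']; exact hy
  obtain ⟨w, rfl⟩ := hx
  rw [← Scheme.Hom.comp_apply, hi' U' hU']
  have := Idx.range_j_subset_domQ pC' chartC' (idxZ hz uh huhz U hU U' hU' hle)
  rw [Scheme.Opens.range_ι] at this
  exact this ⟨(Spec.map (CommRingCat.ofHom (hz'.awayZToBase U' hU'))).base w, rfl⟩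

include huh huhz hΦh hΦc hi hi' in
theorem coneImm_comm (i'' : 𝒮'.toQCAlg.spec ⟶ ((domQ uh pC' chartC' : PC'.Opens) : Scheme.{u}))
    (hi'' : i'' ≫ (domQ uh pC' chartC').ι = i') : i'' ≫ Φh = Φc ≫ i := by
  refine GlueCharts.hom_ext_of_forall_immersion _ _ fun x => ?_
  obtain ⟨U, hU, U', hU', hle, hy⟩ := exists_pair q (𝒮'.toQCAlg.π.base x)
  have hx : x ∈ (𝒮'.toQCAlg.ι U' hU').opensRange := by
    rw [← 𝒮'.toQCAlg.π_preimage U' hU']; exact hy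
  refine ⟨_, 𝒮'.toQCAlg.ι U' hU', inferInstance, hx, ?_⟩
  have hW := Idx.range_j_subset_domQ pC' chartC' (idxZ hz uh huhz U hU U' hU' hle)
  have h1 : 𝒮'.toQCAlg.ι U' hU' ≫ i'' = Spec.map (CommRingCat.ofHom (hz'.awayZToBase U' hU')) ≫
      IsOpenImmersion.lift (domQ uh pC' chartC').ι ((idxZ hz uh huhz U hU U' hU' hle).j pC' chartC') hW := by
    rw [← cancel_mono (domQ uh pC' chartC').ι, Category.assoc, hi'', Category.assoc, IsOpenImmersion.lift_fac]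
    exact hi' U' hU'
  have h2 := (isProjQMapOn_iff _ _).mp hΦh (idxZ hz uh huhz U hU U' hU' hle) hW
  have h3 : Spec.map (CommRingCat.ofHom (hz'.awayZToBase U' hU')) ≫
      Spec.map (CommRingCat.ofHom (AwayTo.mapTo (uh.gradedAt U hU U' hU' hle) (uh_z uh huhz U hU U' hU' hle))) =
      Spec.map (u.appLE U U' hle) ≫ Spec.map (CommRingCat.ofHom (hz.awayZToBase U hU)) := by
    rw [← Spec.map_comp, ← Spec.map_comp]
    congr 1
    ext1
    exact awayZToBase_uh u hz hz' uh huh huhz U hU U' hU' hle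
  calc 𝒮'.toQCAlg.ι U' hU' ≫ i'' ≫ Φh = (𝒮'.toQCAlg.ι U' hU' ≫ i'') ≫ Φh := (Category.assoc _ _ _).symm
    _ = (Spec.map (CommRingCat.ofHom (hz'.awayZToBase U' hU')) ≫
          IsOpenImmersion.lift (domQ uh pC' chartC').ι ((idxZ hz uh huhz U hU U' hU' hle).j pC' chartC') hW) ≫ Φh :=
        congrArg (· ≫ Φh) h1
    _ = Spec.map (CommRingCat.ofHom (hz'.awayZToBase U' hU')) ≫
          IsOpenImmersion.lift (domQ uh pC' chartC').ι ((idxZ hz uh huhz U hU U' hU' hle).j pC' chartC') hW ≫ Φh :=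
        Category.assoc _ _ _
    _ = Spec.map (CommRingCat.ofHom (hz'.awayZToBase U' hU')) ≫ (idxZ hz uh huhz U hU U' hU' hle).t pC chartC :=
        congrArg (Spec.map (CommRingCat.ofHom (hz'.awayZToBase U' hU')) ≫ ·) h2
    _ = (Spec.map (CommRingCat.ofHom (hz'.awayZToBase U' hU')) ≫
          Spec.map (CommRingCat.ofHom (AwayTo.mapTo (uh.gradedAt U hU U' hU' hle) (uh_z uh huhz U hU U' hU' hle)))) ≫
          Proj.awayι (𝒮h.deg U hU) (restrictTop 𝒮h z U) (hz.deg_z U hU) one_pos ≫ emb pC chartC U hU :=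
        (Category.assoc _ _ _).symm
    _ = (Spec.map (u.appLE U U' hle) ≫ Spec.map (CommRingCat.ofHom (hz.awayZToBase U hU))) ≫
          Proj.awayι (𝒮h.deg U hU) (restrictTop 𝒮h z U) (hz.deg_z U hU) one_pos ≫ emb pC chartC U hU :=
        congrArg (· ≫ _) h3
    _ = Spec.map (u.appLE U U' hle) ≫ 𝒮.toQCAlg.ι U hU ≫ i := by
        rw [hi U hU, Category.assoc]
    _ = (𝒮'.toQCAlg.ι U' hU' ≫ Φc) ≫ i := by rw [hΦc U hU U' hU' hle, Category.assoc]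
    _ = 𝒮'.toQCAlg.ι U' hU' ≫ Φc ≫ i := Category.assoc _ _ _

end ConeImm

section IdxGeneral
variable {S S' : Scheme.{u}} {g : S' ⟶ S} {𝒮 : QCGrAlg S} {𝒮' : QCGrAlg S'} {u : QGrHom g 𝒮 𝒮'}
  {P : Scheme.{u}} {p : P ⟶ S}
  {chart : ∀ (U : S.Opens) (hU : IsAffineOpen U), (((p ⁻¹ᵁ U : P.Opens) : Scheme.{u}) ≅ Proj (𝒮.deg U hU))}
  {P' : Scheme.{u}} {p' : P' ⟶ S'}
  {chart' : ∀ (U' : S'.Opens) (hU' : IsAffineOpen U'), (((p' ⁻¹ᵁ U' : P'.Opens) : Scheme.{u}) ≅ Proj (𝒮'.deg U' hU'))}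

theorem isProjQMap_idx {h : P' ⟶ P} (hh : IsProjQMap u p chart p' chart' h) (c : Idx u) :
    c.j p' chart' ≫ h = c.t p chart := by
  obtain ⟨U, hU, U', hU', hle, d, hd, f, hf, b, hb⟩ := c
  subst hb
  exact hh.2 U hU U' hU' hle d hd f hf

theorem isProjQMapOn_idx {W : P'.Opens} {r : (W : Scheme.{u}) ⟶ P} (hr : IsProjQMapOn u p chart p' chart' W r)
    (c : Idx u) (hW : Set.range (c.j p' chart').base ⊆ Set.range W.ι.base) :
    IsOpenImmersion.lift W.ι (c.j p' chart') hW ≫ r = c.t p chart :=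
  (isProjQMapOn_iff _ _).mp hr c hW

end IdxGeneral

section Infinity
variable {Y Y' PC PC' : Scheme.{u}} {q : Y' ⟶ Y}
    {𝒮 : QCGrAlg Y} {𝒮' : QCGrAlg Y'} (u : QGrHom q 𝒮 𝒮')
    {𝒮h : QCGrAlg Y} {ι : 𝒮.toQCAlg ⟶ 𝒮h.toQCAlg} {z : 𝒮h.presheaf.obj (op ⊤)} (hz : IsPolyOver 𝒮 𝒮h ι z)
    {pC : PC ⟶ Y}
    {chartC : ∀ (U : Y.Opens) (hU : IsAffineOpen U), (((pC ⁻¹ᵁ U : PC.Opens) : Scheme.{u}) ≅ Proj (𝒮h.deg U hU))}
    {𝒮h' : QCGrAlg Y'} {ι' : 𝒮'.toQCAlg ⟶ 𝒮h'.toQCAlg} {z' : 𝒮h'.presheaf.obj (op ⊤)}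
    (hz' : IsPolyOver 𝒮' 𝒮h' ι' z')
    {pC' : PC' ⟶ Y'}
    {chartC' : ∀ (U : Y'.Opens) (hU : IsAffineOpen U), (((pC' ⁻¹ᵁ U : PC'.Opens) : Scheme.{u}) ≅ Proj (𝒮h'.deg U hU))}
    (uh : QGrHom q 𝒮h 𝒮h')
    (huh : ∀ U : Y.Opens, ι.hom.app (op U) ≫ uh.app U = u.app U ≫ ι'.hom.app (op (q ⁻¹ᵁ U)))
    (huhz : (uh.app ⊤).hom z = restrictTop 𝒮h' z' (q ⁻¹ᵁ ⊤))
    (θ : 𝒮h.toQCAlg ⟶ 𝒮.toQCAlg) (hθ : IsGradedHom θ) (hθι : ι ≫ θ = 𝟙 _)
    (hθz : (θ.hom.app (op ⊤)).hom z = 0)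
    (θ' : 𝒮h'.toQCAlg ⟶ 𝒮'.toQCAlg) (hθ' : IsGradedHom θ') (hθι' : ι' ≫ θ' = 𝟙 _)
    (hθz' : (θ'.hom.app (op ⊤)).hom z' = 0)

include hθι in
theorem θ_ι (U : Y.Opens) (hU : IsAffineOpen U) (x : 𝒮.presheaf.obj (op U)) :
    gradedHomAt θ hθ U hU (gradedHomAt ι hz.graded U hU x) = x :=
  congrArg (fun m : 𝒮.toQCAlg ⟶ 𝒮.toQCAlg => (m.hom.app (op U)).hom x) hθι

include hθz in
theorem θ_z (U : Y.Opens) (hU : IsAffineOpen U) : gradedHomAt θ hθ U hU (restrictTop 𝒮h z U) = 0 := by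
  have h1 : gradedHomAt θ hθ U hU (restrictTop 𝒮h z U) =
      (𝒮h.presheaf.map (homOfLE (le_top : U ≤ ⊤)).op ≫ θ.hom.app (op U)).hom z := rfl
  rw [h1, θ.hom.naturality]
  change (𝒮.presheaf.map _).hom ((θ.hom.app (op ⊤)).hom z) = 0
  rw [hθz, map_zero]

include hz hz' huh huhz hθι hθz hθι' hθz' in
theorem θ_uh (U : Y.Opens) (hU : IsAffineOpen U) (U' : Y'.Opens) (hU' : IsAffineOpen U') (hle : U' ≤ q ⁻¹ᵁ U) :
    (gradedHomAt θ' hθ' U' hU').comp (uh.gradedAt U hU U' hU' hle) =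
      (u.gradedAt U hU U' hU' hle).comp (gradedHomAt θ hθ U hU) := by
  have key : ((gradedHomAt θ' hθ' U' hU' : 𝒮h'.presheaf.obj (op U') →+* 𝒮'.presheaf.obj (op U'))).comp
      (uh.gradedAt U hU U' hU' hle : 𝒮h.presheaf.obj (op U) →+* 𝒮h'.presheaf.obj (op U')) =
      (u.gradedAt U hU U' hU' hle : 𝒮.presheaf.obj (op U) →+* 𝒮'.presheaf.obj (op U')).comp
        (gradedHomAt θ hθ U hU : 𝒮h.presheaf.obj (op U) →+* 𝒮.presheaf.obj (op U)) := by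
    refine PolyCone.ringHom_ext (gradedHomAt ι hz.graded U hU) (hsurj hz U hU) _ _ (fun a => ?_) ?_
    · simp only [RingHom.comp_apply]
      have e2 : (uh.gradedAt U hU U' hU' hle : 𝒮h.presheaf.obj (op U) →+* 𝒮h'.presheaf.obj (op U'))
          ((gradedHomAt ι hz.graded U hU) a) =
          gradedHomAt ι' hz'.graded U' hU' (u.gradedAt U hU U' hU' hle a) :=
        uh_ι_apply u hz hz' uh huh U hU U' hU' hle a
      have e1 : (gradedHomAt θ hθ U hU : 𝒮h.presheaf.obj (op U) →+* 𝒮.presheaf.obj (op U))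
          ((gradedHomAt ι hz.graded U hU) a) = a := θ_ι hz θ hθ hθι U hU a
      rw [e1, e2]
      exact θ_ι hz' θ' hθ' hθι' U' hU' _
    · simp only [RingHom.comp_apply]
      have e2 : (uh.gradedAt U hU U' hU' hle : 𝒮h.presheaf.obj (op U) →+* 𝒮h'.presheaf.obj (op U'))
          (restrictTop 𝒮h z U) = restrictTop 𝒮h' z' U' := uh_z uh huhz U hU U' hU' hle
      have e1 : (gradedHomAt θ hθ U hU : 𝒮h.presheaf.obj (op U) →+* 𝒮.presheaf.obj (op U))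
          (restrictTop 𝒮h z U) = 0 := θ_z θ hθ hθz U hU
      rw [e1, e2, map_zero]
      exact θ_z θ' hθ' hθz' U' hU'
  ext x
  exact congrArg (fun m : 𝒮h.presheaf.obj (op U) →+* 𝒮'.presheaf.obj (op U') => m x) key

variable {P P' : Scheme.{u}} {p : P ⟶ Y}
    {chart : ∀ (U : Y.Opens) (hU : IsAffineOpen U), (((p ⁻¹ᵁ U : P.Opens) : Scheme.{u}) ≅ Proj (𝒮.deg U hU))}
    {p' : P' ⟶ Y'}
    {chart' : ∀ (U : Y'.Opens) (hU : IsAffineOpen U), (((p' ⁻¹ᵁ U : P'.Opens) : Scheme.{u}) ≅ Proj (𝒮'.deg U hU))}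

/-- the chart of `Proj(θ')` over a chart of `G(u)` -/
def cTil (c : Idx u) : Idx (QGrHom.ofHom θ' hθ') :=
  ⟨c.U', c.hU', c.U', c.hU', le_id_preimage c.U', c.d, c.hd, gradedHomAt ι' hz'.graded c.U' c.hU' c.b,
    (gradedHomAt ι' hz'.graded c.U' c.hU').map_mem c.hb', c.b,
    (gradedAt_ofHom_apply θ' hθ' c.U' c.hU' _ _).trans (θ_ι hz' θ' hθ' hθι' c.U' c.hU' c.b)⟩

/-- the chart of `G(uh)` over a chart of `G(u)` -/
def cHat (c : Idx u) : Idx uh :=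
  ⟨c.U, c.hU, c.U', c.hU', c.hle, c.d, c.hd, gradedHomAt ι hz.graded c.U c.hU c.f,
    (gradedHomAt ι hz.graded c.U c.hU).map_mem c.hf, gradedHomAt ι' hz'.graded c.U' c.hU' c.b,
    (uh_ι_apply u hz hz' uh huh c.U c.hU c.U' c.hU' c.hle c.f).trans
      (congrArg (gradedHomAt ι' hz'.graded c.U' c.hU') c.hb)⟩

/-- the chart of `Proj(θ)` under a chart of `G(u)` -/
def cBar (c : Idx u) : Idx (QGrHom.ofHom θ hθ) :=
  ⟨c.U, c.hU, c.U, c.hU, le_id_preimage c.U, c.d, c.hd, gradedHomAt ι hz.graded c.U c.hU c.f,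
    (gradedHomAt ι hz.graded c.U c.hU).map_mem c.hf, c.f,
    (gradedAt_ofHom_apply θ hθ c.U c.hU _ _).trans (θ_ι hz θ hθ hθι c.U c.hU c.f)⟩

include hz hz' huh huhz hθι hθz hθι' hθz' in
theorem mapTo_square (c : Idx u) :
    (AwayTo.mapTo ((QGrHom.ofHom θ' hθ').gradedAt c.U' c.hU' c.U' c.hU' (le_id_preimage c.U'))
        (cTil u hz' θ' hθ' hθι' c).hb).comp
      (AwayTo.mapTo (uh.gradedAt c.U c.hU c.U' c.hU' c.hle) (cHat u hz hz' uh huh c).hb) =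
    (AwayTo.mapTo (u.gradedAt c.U c.hU c.U' c.hU' c.hle) c.hb).comp
      (AwayTo.mapTo ((QGrHom.ofHom θ hθ).gradedAt c.U c.hU c.U c.hU (le_id_preimage c.U))
        (cBar u hz θ hθ hθι c).hb) := by
  have hcomp : ((QGrHom.ofHom θ' hθ').gradedAt c.U' c.hU' c.U' c.hU' (le_id_preimage c.U')).comp
      (uh.gradedAt c.U c.hU c.U' c.hU' c.hle) =
      (u.gradedAt c.U c.hU c.U' c.hU' c.hle).comp
        ((QGrHom.ofHom θ hθ).gradedAt c.U c.hU c.U c.hU (le_id_preimage c.U)) := by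
    rw [gradedAt_ofHom_eq, gradedAt_ofHom_eq]
    exact θ_uh u hz hz' uh huh huhz θ hθ hθι hθz θ' hθ' hθι' hθz' c.U c.hU c.U' c.hU' c.hle
  have h1 : (((QGrHom.ofHom θ' hθ').gradedAt c.U' c.hU' c.U' c.hU' (le_id_preimage c.U')).comp
      (uh.gradedAt c.U c.hU c.U' c.hU' c.hle)) (gradedHomAt ι hz.graded c.U c.hU c.f) = c.b := by
    change (QGrHom.ofHom θ' hθ').gradedAt c.U' c.hU' c.U' c.hU' (le_id_preimage c.U')
      (uh.gradedAt c.U c.hU c.U' c.hU' c.hle (gradedHomAt ι hz.graded c.U c.hU c.f)) = c.b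
    exact (congrArg ((QGrHom.ofHom θ' hθ').gradedAt c.U' c.hU' c.U' c.hU' (le_id_preimage c.U'))
      (cHat u hz hz' uh huh c).hb).trans (cTil u hz' θ' hθ' hθι' c).hb
  have h2 : ((u.gradedAt c.U c.hU c.U' c.hU' c.hle).comp
        ((QGrHom.ofHom θ hθ).gradedAt c.U c.hU c.U c.hU (le_id_preimage c.U)))
      (gradedHomAt ι hz.graded c.U c.hU c.f) = c.b := by
    change u.gradedAt c.U c.hU c.U' c.hU' c.hle
      ((QGrHom.ofHom θ hθ).gradedAt c.U c.hU c.U c.hU (le_id_preimage c.U)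
        (gradedHomAt ι hz.graded c.U c.hU c.f)) = c.b
    exact (congrArg (u.gradedAt c.U c.hU c.U' c.hU' c.hle) (cBar u hz θ hθ hθι c).hb).trans c.hb
  have e1 := AwayTo.mapTo_comp (uh.gradedAt c.U c.hU c.U' c.hU' c.hle)
    ((QGrHom.ofHom θ' hθ').gradedAt c.U' c.hU' c.U' c.hU' (le_id_preimage c.U'))
    (cHat u hz hz' uh huh c).hb (cTil u hz' θ' hθ' hθι' c).hb h1
  have e2 := AwayTo.mapTo_comp ((QGrHom.ofHom θ hθ).gradedAt c.U c.hU c.U c.hU (le_id_preimage c.U))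
    (u.gradedAt c.U c.hU c.U' c.hU' c.hle) (cBar u hz θ hθ hθι c).hb c.hb h2
  exact e1.symm.trans ((AwayTo.mapTo_congr hcomp h1 h2).trans e2)

variable (Φh : ((domQ uh pC' chartC' : PC'.Opens) : Scheme.{u}) ⟶ PC)
    (hΦh : IsProjQMapOn uh pC chartC pC' chartC' (domQ uh pC' chartC') Φh)
    (Φ : ((domQ u p' chart' : P'.Opens) : Scheme.{u}) ⟶ P)
    (hΦ : IsProjQMapOn u p chart p' chart' (domQ u p' chart') Φ)
    (jX : P ⟶ PC) (hjX : IsProjQMap (QGrHom.ofHom θ hθ) pC chartC p chart jX)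
    (jX' : P' ⟶ PC') (hjX' : IsProjQMap (QGrHom.ofHom θ' hθ') pC' chartC' p' chart' jX')

include hz hz' huh hθι' hjX' in
theorem infinity_range :
    jX'.base '' ((domQ u p' chart' : P'.Opens) : Set P') ⊆ ((domQ uh pC' chartC' : PC'.Opens) : Set PC') := by
  rintro _ ⟨x, hx, rfl⟩
  obtain ⟨c, y, rfl⟩ := Idx.exists_mem_range_j p' chart' x hx
  have h1 : c.j p' chart' ≫ jX' = (cTil u hz' θ' hθ' hθι' c).t pC' chartC' :=
    isProjQMap_idx hjX' (cTil u hz' θ' hθ' hθι' c)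
  rw [← Scheme.Hom.comp_apply, h1]
  have := Idx.range_j_subset_domQ pC' chartC' (cHat u hz hz' uh huh c)
  rw [Scheme.Opens.range_ι] at this
  exact this ⟨(Spec.map (CommRingCat.ofHom (AwayTo.mapTo
    ((QGrHom.ofHom θ' hθ').gradedAt c.U' c.hU' c.U' c.hU' (le_id_preimage c.U'))
      (cTil u hz' θ' hθ' hθι' c).hb))).base y, rfl⟩

include hz hz' huh huhz hθι hθι' hθz hθz' hΦh hΦ hjX hjX' in
theorem infinity_comm {T : Scheme.{u}} (d : T ⟶ ((domQ u p' chart' : P'.Opens) : Scheme.{u}))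
    (e : T ⟶ ((domQ uh pC' chartC' : PC'.Opens) : Scheme.{u}))
    (hde : d ≫ (domQ u p' chart').ι ≫ jX' = e ≫ (domQ uh pC' chartC').ι) : e ≫ Φh = d ≫ Φ ≫ jX := by
  refine GlueCharts.hom_ext_of_forall_immersion _ _ fun τ => ?_
  obtain ⟨c, y, hy⟩ := Idx.exists_mem_range_j p' chart' (d.base τ).1 (d.base τ).2
  have hW := Idx.range_j_subset_domQ p' chart' c
  have hWh := Idx.range_j_subset_domQ pC' chartC' (cHat u hz hz' uh huh c)
  have : IsOpenImmersion (IsOpenImmersion.lift (domQ u p' chart').ι (c.j p' chart') hW) := by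
    have : IsOpenImmersion (IsOpenImmersion.lift (domQ u p' chart').ι (c.j p' chart') hW ≫
        (domQ u p' chart').ι) := by
      rw [IsOpenImmersion.lift_fac]; infer_instance
    exact IsOpenImmersion.of_comp _ (domQ u p' chart').ι
  have hτ : d.base τ ∈ Set.range (IsOpenImmersion.lift (domQ u p' chart').ι (c.j p' chart') hW).base := by
    refine ⟨y, ?_⟩
    apply (domQ u p' chart').ι.isOpenEmbedding.injective
    rw [← Scheme.Hom.comp_apply, IsOpenImmersion.lift_fac]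
    exact hy
  obtain ⟨E, e₀, he₀, d', hτE, hfac⟩ := exists_factor d _ τ hτ
  refine ⟨E, e₀, he₀, hτE, ?_⟩
  -- the right hand side
  have hR : e₀ ≫ d ≫ Φ ≫ jX = d' ≫ Spec.map (CommRingCat.ofHom
        (AwayTo.mapTo (u.gradedAt c.U c.hU c.U' c.hU' c.hle) c.hb)) ≫
      Spec.map (CommRingCat.ofHom (AwayTo.mapTo
        ((QGrHom.ofHom θ hθ).gradedAt c.U c.hU c.U c.hU (le_id_preimage c.U)) (cBar u hz θ hθ hθι c).hb)) ≫
      Proj.awayι (𝒮h.deg c.U c.hU) (gradedHomAt ι hz.graded c.U c.hU c.f)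
        ((gradedHomAt ι hz.graded c.U c.hU).map_mem c.hf) c.hd ≫ emb pC chartC c.U c.hU := by
    rw [← Category.assoc, hfac, Category.assoc, ← Category.assoc _ Φ, isProjQMapOn_idx hΦ c hW]
    have h2 : c.t p chart ≫ jX = Spec.map (CommRingCat.ofHom
        (AwayTo.mapTo (u.gradedAt c.U c.hU c.U' c.hU' c.hle) c.hb)) ≫ (cBar u hz θ hθ hθι c).t pC chartC := by
      have := isProjQMap_idx hjX (cBar u hz θ hθ hθι c)
      rw [← this]
      rfl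
    rw [h2]
    rfl
  -- the left hand side
  have hL1 : e₀ ≫ e = (d' ≫ Spec.map (CommRingCat.ofHom (AwayTo.mapTo
      ((QGrHom.ofHom θ' hθ').gradedAt c.U' c.hU' c.U' c.hU' (le_id_preimage c.U'))
        (cTil u hz' θ' hθ' hθι' c).hb))) ≫
      IsOpenImmersion.lift (domQ uh pC' chartC').ι ((cHat u hz hz' uh huh c).j pC' chartC') hWh := by
    rw [← cancel_mono (domQ uh pC' chartC').ι]
    simp only [Category.assoc]
    rw [← hde, IsOpenImmersion.lift_fac, ← Category.assoc, hfac, Category.assoc,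
      IsOpenImmersion.lift_fac_assoc]
    have := isProjQMap_idx hjX' (cTil u hz' θ' hθ' hθι' c)
    exact congrArg (d' ≫ ·) this
  have hL : e₀ ≫ e ≫ Φh = d' ≫ Spec.map (CommRingCat.ofHom (AwayTo.mapTo
      ((QGrHom.ofHom θ' hθ').gradedAt c.U' c.hU' c.U' c.hU' (le_id_preimage c.U'))
        (cTil u hz' θ' hθ' hθι' c).hb)) ≫
      Spec.map (CommRingCat.ofHom (AwayTo.mapTo (uh.gradedAt c.U c.hU c.U' c.hU' c.hle)
        (cHat u hz hz' uh huh c).hb)) ≫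
      Proj.awayι (𝒮h.deg c.U c.hU) (gradedHomAt ι hz.graded c.U c.hU c.f)
        ((gradedHomAt ι hz.graded c.U c.hU).map_mem c.hf) c.hd ≫ emb pC chartC c.U c.hU := by
    have h4 := isProjQMapOn_idx hΦh (cHat u hz hz' uh huh c) hWh
    exact (Category.assoc _ _ _).symm.trans ((congrArg (· ≫ Φh) hL1).trans ((Category.assoc _ _ _).trans
      ((congrArg ((d' ≫ Spec.map (CommRingCat.ofHom (AwayTo.mapTo
      ((QGrHom.ofHom θ' hθ').gradedAt c.U' c.hU' c.U' c.hU' (le_id_preimage c.U'))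
        (cTil u hz' θ' hθ' hθι' c).hb))) ≫ ·) h4).trans (Category.assoc _ _ _))))
  rw [hL, hR, ← Spec.map_comp_assoc, ← Spec.map_comp_assoc, ← CommRingCat.ofHom_comp, ← CommRingCat.ofHom_comp]
  exact congrArg (fun m => d' ≫ Spec.map (CommRingCat.ofHom m) ≫
      Proj.awayι (𝒮h.deg c.U c.hU) (gradedHomAt ι hz.graded c.U c.hU c.f)
        ((gradedHomAt ι hz.graded c.U c.hU).map_mem c.hf) c.hd ≫ emb pC chartC c.U c.hU)
    (mapTo_square u hz hz' uh huh huhz θ hθ hθι hθz θ' hθ' hθι' hθz' c)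

end Infinity

section RetrComm
variable {Y Y' PC PC' : Scheme.{u}} {q : Y' ⟶ Y}
    {𝒮 : QCGrAlg Y} {𝒮' : QCGrAlg Y'} (u : QGrHom q 𝒮 𝒮')
    {𝒮h : QCGrAlg Y} {ι : 𝒮.toQCAlg ⟶ 𝒮h.toQCAlg} {z : 𝒮h.presheaf.obj (op ⊤)} (hz : IsPolyOver 𝒮 𝒮h ι z)
    {pC : PC ⟶ Y}
    {chartC : ∀ (U : Y.Opens) (hU : IsAffineOpen U), (((pC ⁻¹ᵁ U : PC.Opens) : Scheme.{u}) ≅ Proj (𝒮h.deg U hU))}
    (hC : IsRelProj 𝒮h pC chartC)
    {𝒮h' : QCGrAlg Y'} {ι' : 𝒮'.toQCAlg ⟶ 𝒮h'.toQCAlg} {z' : 𝒮h'.presheaf.obj (op ⊤)}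
    (hz' : IsPolyOver 𝒮' 𝒮h' ι' z')
    {pC' : PC' ⟶ Y'}
    {chartC' : ∀ (U : Y'.Opens) (hU : IsAffineOpen U), (((pC' ⁻¹ᵁ U : PC'.Opens) : Scheme.{u}) ≅ Proj (𝒮h'.deg U hU))}
    (hC' : IsRelProj 𝒮h' pC' chartC')
    (uh : QGrHom q 𝒮h 𝒮h')
    (huh : ∀ U : Y.Opens, ι.hom.app (op U) ≫ uh.app U = u.app U ≫ ι'.hom.app (op (q ⁻¹ᵁ U)))
    (Φh : ((domQ uh pC' chartC' : PC'.Opens) : Scheme.{u}) ⟶ PC)
    (hΦh : IsProjQMapOn uh pC chartC pC' chartC' (domQ uh pC' chartC') Φh)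
    {P P' : Scheme.{u}} {p : P ⟶ Y}
    {chart : ∀ (U : Y.Opens) (hU : IsAffineOpen U), (((p ⁻¹ᵁ U : P.Opens) : Scheme.{u}) ≅ Proj (𝒮.deg U hU))}
    {p' : P' ⟶ Y'}
    {chart' : ∀ (U : Y'.Opens) (hU : IsAffineOpen U), (((p' ⁻¹ᵁ U : P'.Opens) : Scheme.{u}) ≅ Proj (𝒮'.deg U hU))}

/-- the chart of `Ê` under a chart of `G(u)` -/
def cι (c : Idx u) : Idx (QGrHom.ofHom ι hz.graded) := idx hz c.U c.hU c.d c.hd c.f c.hf

/-- the chart of `Ê'` over a chart of `G(u)` -/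
def cι' (c : Idx u) : Idx (QGrHom.ofHom ι' hz'.graded) := idx hz' c.U' c.hU' c.d c.hd c.b c.hb'

include huh in
theorem mapTo_square₂ (c : Idx u) :
    (AwayTo.mapTo (uh.gradedAt c.U c.hU c.U' c.hU' c.hle) (cHat u hz hz' uh huh c).hb).comp
      (AwayTo.mapTo ((QGrHom.ofHom ι hz.graded).gradedAt c.U c.hU c.U c.hU (le_id_preimage c.U)) (cι u hz c).hb) =
    (AwayTo.mapTo ((QGrHom.ofHom ι' hz'.graded).gradedAt c.U' c.hU' c.U' c.hU' (le_id_preimage c.U'))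
        (cι' u hz' c).hb).comp
      (AwayTo.mapTo (u.gradedAt c.U c.hU c.U' c.hU' c.hle) c.hb) := by
  have hcomp : (uh.gradedAt c.U c.hU c.U' c.hU' c.hle).comp
      ((QGrHom.ofHom ι hz.graded).gradedAt c.U c.hU c.U c.hU (le_id_preimage c.U)) =
      ((QGrHom.ofHom ι' hz'.graded).gradedAt c.U' c.hU' c.U' c.hU' (le_id_preimage c.U')).comp
        (u.gradedAt c.U c.hU c.U' c.hU' c.hle) := by
    rw [gradedAt_ofHom_eq, gradedAt_ofHom_eq]
    exact uh_ι u hz hz' uh huh c.U c.hU c.U' c.hU' c.hle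
  have h1 : ((uh.gradedAt c.U c.hU c.U' c.hU' c.hle).comp
      ((QGrHom.ofHom ι hz.graded).gradedAt c.U c.hU c.U c.hU (le_id_preimage c.U))) c.f =
      gradedHomAt ι' hz'.graded c.U' c.hU' c.b :=
    (congrArg (uh.gradedAt c.U c.hU c.U' c.hU' c.hle) (cι u hz c).hb).trans (cHat u hz hz' uh huh c).hb
  have h2 : (((QGrHom.ofHom ι' hz'.graded).gradedAt c.U' c.hU' c.U' c.hU' (le_id_preimage c.U')).comp
        (u.gradedAt c.U c.hU c.U' c.hU' c.hle)) c.f = gradedHomAt ι' hz'.graded c.U' c.hU' c.b :=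
    (congrArg ((QGrHom.ofHom ι' hz'.graded).gradedAt c.U' c.hU' c.U' c.hU' (le_id_preimage c.U')) c.hb).trans
      (cι' u hz' c).hb
  have e1 := AwayTo.mapTo_comp ((QGrHom.ofHom ι hz.graded).gradedAt c.U c.hU c.U c.hU (le_id_preimage c.U))
    (uh.gradedAt c.U c.hU c.U' c.hU' c.hle) (cι u hz c).hb (cHat u hz hz' uh huh c).hb h1
  have e2 := AwayTo.mapTo_comp (u.gradedAt c.U c.hU c.U' c.hU' c.hle)
    ((QGrHom.ofHom ι' hz'.graded).gradedAt c.U' c.hU' c.U' c.hU' (le_id_preimage c.U')) c.hb (cι' u hz' c).hb h2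
  exact e1.symm.trans ((AwayTo.mapTo_congr hcomp h1 h2).trans e2)

include hC hC' hΦh in
theorem exists_cHat (x : ((domQ uh pC' chartC' : PC'.Opens) : Scheme.{u}))
    (hx : Φh.base x ∈ domQ (QGrHom.ofHom ι hz.graded) pC chartC) :
    ∃ c₀ : Idx u, (domQ uh pC' chartC').ι.base x ∈ Set.range ((cHat u hz hz' uh huh c₀).j pC' chartC').base := by
  obtain ⟨U, hU, d, hd, f, hf, hy⟩ := cover_domQ hz hC (Φh.base x) hx
  obtain ⟨V', hV', hle, hxV⟩ := exists_awayEmb_of_mem hC hC' Φh hΦh U hU d hd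
    (gradedHomAt ι hz.graded U hU f) ((gradedHomAt ι hz.graded U hU).map_mem hf) x hy
  refine ⟨Idx.std U hU V' hV' hle d hd f hf, ?_⟩
  have h2 := range_j_eq_of_b_eq (u := uh) (p' := pC') (chart' := chartC')
    U hU V' hV' hle U hU hle d hd (gradedHomAt ι hz.graded U hU f) ((gradedHomAt ι hz.graded U hU).map_mem hf) _ rfl
    d hd (gradedHomAt ι hz.graded U hU f) ((gradedHomAt ι hz.graded U hU).map_mem hf)
    (gradedHomAt ι' hz'.graded V' hV' (u.gradedAt U hU V' hV' hle f))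
    (uh_ι_apply u hz hz' uh huh U hU V' hV' hle f) (uh_ι_apply u hz hz' uh huh U hU V' hV' hle f)
  rw [cHat, Idx.std, ← h2]
  exact hxV

theorem isOpenImmersion_lift {X D : Scheme.{u}} (W : X.Opens) (j : D ⟶ X) [IsOpenImmersion j]
    (hW : Set.range j.base ⊆ Set.range W.ι.base) : IsOpenImmersion (IsOpenImmersion.lift W.ι j hW) := by
  have : IsOpenImmersion (IsOpenImmersion.lift W.ι j hW ≫ W.ι) := by
    rw [IsOpenImmersion.lift_fac]; infer_instance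
  exact IsOpenImmersion.of_comp _ W.ι

theorem mem_range_lift {X D : Scheme.{u}} (W : X.Opens) (j : D ⟶ X) [IsOpenImmersion j]
    (hW : Set.range j.base ⊆ Set.range W.ι.base) (x : (W : Scheme.{u})) (hx : W.ι.base x ∈ Set.range j.base) :
    x ∈ Set.range (IsOpenImmersion.lift W.ι j hW).base := by
  obtain ⟨y, hy⟩ := hx
  refine ⟨y, ?_⟩
  apply W.ι.isOpenEmbedding.injective
  rw [← Scheme.Hom.comp_apply, IsOpenImmersion.lift_fac]
  exact hy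

include hC hC' huh hΦh in
theorem retr_key
    (r : ((domQ (QGrHom.ofHom ι hz.graded) pC chartC : PC.Opens) : Scheme.{u}) ⟶ P)
    (hr : IsProjQMapOn (QGrHom.ofHom ι hz.graded) p chart pC chartC (domQ (QGrHom.ofHom ι hz.graded) pC chartC) r)
    (r' : ((domQ (QGrHom.ofHom ι' hz'.graded) pC' chartC' : PC'.Opens) : Scheme.{u}) ⟶ P')
    (hr' : IsProjQMapOn (QGrHom.ofHom ι' hz'.graded) p' chart' pC' chartC'
      (domQ (QGrHom.ofHom ι' hz'.graded) pC' chartC') r')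
    {T : Scheme.{u}} (a : T ⟶ ((domQ (QGrHom.ofHom ι' hz'.graded) pC' chartC' : PC'.Opens) : Scheme.{u}))
    (b : T ⟶ ((domQ uh pC' chartC' : PC'.Opens) : Scheme.{u}))
    (c : T ⟶ ((domQ (QGrHom.ofHom ι hz.graded) pC chartC : PC.Opens) : Scheme.{u}))
    (hab : a ≫ (domQ (QGrHom.ofHom ι' hz'.graded) pC' chartC').ι = b ≫ (domQ uh pC' chartC').ι)
    (hbc : b ≫ Φh = c ≫ (domQ (QGrHom.ofHom ι hz.graded) pC chartC).ι) (τ : T) :
    ∃ (E : Scheme.{u}) (e₀ : E ⟶ T) (_ : IsOpenImmersion e₀) (c₀ : Idx u) (k : E ⟶ c₀.D),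
      τ ∈ Set.range e₀.base ∧ e₀ ≫ a ≫ r' = k ≫ c₀.j p' chart' ∧ e₀ ≫ c ≫ r = k ≫ c₀.t p chart := by
  have hx : Φh.base (b.base τ) ∈ domQ (QGrHom.ofHom ι hz.graded) pC chartC := by
    have : Φh.base (b.base τ) = (domQ (QGrHom.ofHom ι hz.graded) pC chartC).ι.base (c.base τ) := by
      rw [← Scheme.Hom.comp_apply, ← Scheme.Hom.comp_apply, hbc]
    rw [this]
    exact (c.base τ).2
  obtain ⟨c₀, hc₀⟩ := exists_cHat u hz hC hz' hC' uh huh Φh hΦh (b.base τ) hx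
  have hWh := Idx.range_j_subset_domQ pC' chartC' (cHat u hz hz' uh huh c₀)
  have := isOpenImmersion_lift (domQ uh pC' chartC') ((cHat u hz hz' uh huh c₀).j pC' chartC') hWh
  obtain ⟨E, e₀, he₀, b', hτE, hfac⟩ := exists_factor b
    (IsOpenImmersion.lift (domQ uh pC' chartC').ι ((cHat u hz hz' uh huh c₀).j pC' chartC') hWh) τ
    (mem_range_lift _ _ hWh _ hc₀)
  refine ⟨E, e₀, he₀, c₀, b' ≫ Spec.map (CommRingCat.ofHom (AwayTo.mapTo
    ((QGrHom.ofHom ι' hz'.graded).gradedAt c₀.U' c₀.hU' c₀.U' c₀.hU' (le_id_preimage c₀.U')) (cι' u hz' c₀).hb)),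
    hτE, ?_, ?_⟩
  · have hW' := Idx.range_j_subset_domQ pC' chartC' (cι' u hz' c₀)
    have hA1 : e₀ ≫ a = b' ≫ IsOpenImmersion.lift (domQ (QGrHom.ofHom ι' hz'.graded) pC' chartC').ι
        ((cι' u hz' c₀).j pC' chartC') hW' := by
      rw [← cancel_mono (domQ (QGrHom.ofHom ι' hz'.graded) pC' chartC').ι, Category.assoc, hab,
        ← Category.assoc, hfac, Category.assoc, IsOpenImmersion.lift_fac, Category.assoc,
        IsOpenImmersion.lift_fac]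
      rfl
    have h4 := isProjQMapOn_idx hr' (cι' u hz' c₀) hW'
    exact (Category.assoc _ _ _).symm.trans ((congrArg (· ≫ r') hA1).trans ((Category.assoc _ _ _).trans
      ((congrArg (b' ≫ ·) h4).trans (Category.assoc _ _ _).symm)))
  · have hW := Idx.range_j_subset_domQ pC chartC (cι u hz c₀)
    have hB1 : e₀ ≫ c = (b' ≫ Spec.map (CommRingCat.ofHom (AwayTo.mapTo
        (uh.gradedAt c₀.U c₀.hU c₀.U' c₀.hU' c₀.hle) (cHat u hz hz' uh huh c₀).hb))) ≫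
        IsOpenImmersion.lift (domQ (QGrHom.ofHom ι hz.graded) pC chartC).ι ((cι u hz c₀).j pC chartC) hW := by
      rw [← cancel_mono (domQ (QGrHom.ofHom ι hz.graded) pC chartC).ι, Category.assoc, ← hbc,
        ← Category.assoc, hfac, Category.assoc, Category.assoc, IsOpenImmersion.lift_fac]
      have h5 := isProjQMapOn_idx hΦh (cHat u hz hz' uh huh c₀) hWh
      exact (congrArg (b' ≫ ·) h5).trans (Category.assoc _ _ _).symm
    have h4 := isProjQMapOn_idx hr (cι u hz c₀) hW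
    have h6 : e₀ ≫ c ≫ r = (b' ≫ Spec.map (CommRingCat.ofHom (AwayTo.mapTo
        (uh.gradedAt c₀.U c₀.hU c₀.U' c₀.hU' c₀.hle) (cHat u hz hz' uh huh c₀).hb))) ≫
        (cι u hz c₀).t p chart :=
      (Category.assoc _ _ _).symm.trans ((congrArg (· ≫ r) hB1).trans ((Category.assoc _ _ _).trans
        (congrArg ((b' ≫ Spec.map (CommRingCat.ofHom (AwayTo.mapTo
        (uh.gradedAt c₀.U c₀.hU c₀.U' c₀.hU' c₀.hle) (cHat u hz hz' uh huh c₀).hb))) ≫ ·) h4)))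
    rw [h6]
    change (b' ≫ Spec.map _) ≫ Spec.map _ ≫ Proj.awayι (𝒮.deg c₀.U c₀.hU) c₀.f c₀.hf c₀.hd ≫ emb p chart c₀.U c₀.hU =
      (b' ≫ Spec.map _) ≫ Spec.map _ ≫ Proj.awayι (𝒮.deg c₀.U c₀.hU) c₀.f c₀.hf c₀.hd ≫ emb p chart c₀.U c₀.hU
    simp only [Category.assoc]
    have e3 := (specMap_ofHom_comp _ _).symm.trans ((congrArg (fun m => Spec.map (CommRingCat.ofHom m))
      (mapTo_square₂ u hz hz' uh huh c₀)).trans (specMap_ofHom_comp _ _))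
    exact congrArg (b' ≫ ·) ((Category.assoc _ _ _).symm.trans
      ((congrArg (· ≫ Proj.awayι (𝒮.deg c₀.U c₀.hU) c₀.f c₀.hf c₀.hd ≫ emb p chart c₀.U c₀.hU) e3).trans
        (Category.assoc _ _ _)))

include hC hC' huh hΦh in
theorem retr_comm (W : PC.Opens) (hW : W = domQ (QGrHom.ofHom ι hz.graded) pC chartC)
    (r : (W : Scheme.{u}) ⟶ P) (hr : IsProjQMapOn (QGrHom.ofHom ι hz.graded) p chart pC chartC W r)
    (W' : PC'.Opens) (hW' : W' = domQ (QGrHom.ofHom ι' hz'.graded) pC' chartC')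
    (r' : (W' : Scheme.{u}) ⟶ P') (hr' : IsProjQMapOn (QGrHom.ofHom ι' hz'.graded) p' chart' pC' chartC' W' r')
    (Φ : ((domQ u p' chart' : P'.Opens) : Scheme.{u}) ⟶ P)
    (hΦ : IsProjQMapOn u p chart p' chart' (domQ u p' chart') Φ)
    {T : Scheme.{u}} (a : T ⟶ (W' : Scheme.{u})) (b : T ⟶ ((domQ uh pC' chartC' : PC'.Opens) : Scheme.{u}))
    (c : T ⟶ (W : Scheme.{u})) (hab : a ≫ W'.ι = b ≫ (domQ uh pC' chartC').ι) (hbc : b ≫ Φh = c ≫ W.ι) :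
    Set.range (a ≫ r').base ⊆ ((domQ u p' chart' : P'.Opens) : Set P') ∧
      ∀ d : T ⟶ ((domQ u p' chart' : P'.Opens) : Scheme.{u}),
        a ≫ r' = d ≫ (domQ u p' chart').ι → c ≫ r = d ≫ Φ := by
  subst hW hW'
  have key := retr_key u hz hC hz' hC' uh huh Φh hΦh r hr r' hr' a b c hab hbc
  constructor
  · rintro _ ⟨τ, rfl⟩
    obtain ⟨E, e₀, he₀, c₀, k, ⟨τ₀, rfl⟩, h1, -⟩ := key τ
    rw [← Scheme.Hom.comp_apply, h1]
    have := Idx.range_j_subset_domQ p' chart' c₀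
    rw [Scheme.Opens.range_ι] at this
    exact this ⟨k.base τ₀, rfl⟩
  · intro d hd
    refine GlueCharts.hom_ext_of_forall_immersion _ _ fun τ => ?_
    obtain ⟨E, e₀, he₀, c₀, k, hτ, h1, h2⟩ := key τ
    refine ⟨E, e₀, he₀, hτ, ?_⟩
    have hWu := Idx.range_j_subset_domQ p' chart' c₀
    have h3 : e₀ ≫ d = k ≫ IsOpenImmersion.lift (domQ u p' chart').ι (c₀.j p' chart') hWu := by
      rw [← cancel_mono (domQ u p' chart').ι, Category.assoc, ← hd, h1, Category.assoc, IsOpenImmersion.lift_fac]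
    rw [h2]
    have h4 := isProjQMapOn_idx hΦ c₀ hWu
    exact ((congrArg (k ≫ ·) h4).symm.trans (Category.assoc _ _ _).symm).trans
      ((congrArg (· ≫ Φ) h3).symm.trans (Category.assoc _ _ _))

end RetrComm

end Groth.Agent.Lib.Helper3.Cone
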