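import Groth.Agent.Lib.Helper3.ConeMap
/-!
# Functoriality of projective cones: the preimage of the pointed cone
-/
universe u
open CategoryTheory CategoryTheory.Limits AlgebraicGeometry Opposite TopologicalSpace
open HomogeneousLocalization
open scoped HomogeneousIdeal

namespace Groth.Agent.Lib.Helper3.Cone
open RelProj RelSpec RelCone Groth.Agent.Lib.Helper3 Groth.Agent.Lib.Helper3.QProj

section PreimagePointed
variable {Y Y' PC PC' : Scheme.{u}} {q : Y' ⟶ Y}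
    {𝒮 : QCGrAlg Y} {𝒮' : QCGrAlg Y'} (u : QGrHom q 𝒮 𝒮')
    {𝒮h : QCGrAlg Y} {ι : 𝒮.toQCAlg ⟶ 𝒮h.toQCAlg} {z : 𝒮h.presheaf.obj (op ⊤)} (hz : IsPolyOver 𝒮 𝒮h ι z)
    {pC : PC ⟶ Y}
    {chartC : ∀ (U : Y.Opens) (hU : IsAffineOpen U), (((pC ⁻¹ᵁ U : PC.Opens) : Scheme.{u}) ≅ Proj (𝒮h.deg U hU))}
    (hC : IsRelProj 𝒮h pC chartC)
    {𝒮h' : QCGrAlg Y'} {ι' : 𝒮'.toQCAlg ⟶ 𝒮h'.toQCAlg} {z' : 𝒮h'.presheaf.obj (op ⊤)}
    (hz' : IsPolyOver 𝒮' 𝒮h' ι' z')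
    {pC' : PC' ⟶ Y'}
    {chartC' : ∀ (U : Y'.Opens) (hU : IsAffineOpen U), (((pC' ⁻¹ᵁ U : PC'.Opens) : Scheme.{u}) ≅ Proj (𝒮h'.deg U hU))}
    (hC' : IsRelProj 𝒮h' pC' chartC')
    (uh : QGrHom q 𝒮h 𝒮h')
    (huh : ∀ U : Y.Opens, ι.hom.app (op U) ≫ uh.app U = u.app U ≫ ι'.hom.app (op (q ⁻¹ᵁ U)))
    (huhz : (uh.app ⊤).hom z = restrictTop 𝒮h' z' (q ⁻¹ᵁ ⊤))
    (Φh : ((domQ uh pC' chartC' : PC'.Opens) : Scheme.{u}) ⟶ PC)
    (hΦh : IsProjQMapOn uh pC chartC pC' chartC' (domQ uh pC' chartC') Φh)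
    {P' : Scheme.{u}} {p' : P' ⟶ Y'}
    {chart' : ∀ (U : Y'.Opens) (hU : IsAffineOpen U), (((p' ⁻¹ᵁ U : P'.Opens) : Scheme.{u}) ≅ Proj (𝒮'.deg U hU))}
    (hP' : IsRelProj 𝒮' p' chart')

include hC hC' huh hΦh in
theorem preimage_pointed_le (W : PC.Opens) (hW : W = domQ (QGrHom.ofHom ι hz.graded) pC chartC)
    (W' : PC'.Opens) (hW' : W' = domQ (QGrHom.ofHom ι' hz'.graded) pC' chartC') :
    (domQ uh pC' chartC').ι ''ᵁ (Φh ⁻¹ᵁ W) ≤ W' := by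
  subst hW hW'
  rintro _ ⟨x₀, hx₀, rfl⟩
  obtain ⟨c₀, hc₀⟩ := exists_cHat u hz hC hz' hC' uh huh Φh hΦh x₀ hx₀
  have := Idx.range_j_subset_domQ pC' chartC' (cι' u hz' c₀)
  rw [Scheme.Opens.range_ι] at this
  exact this hc₀

include hC' hP' in
theorem mem_of_mem_pointed (hdom : domQ u p' chart' = ⊤) (x : PC')
    (hx : x ∈ domQ (QGrHom.ofHom ι' hz'.graded) pC' chartC') :
    ∃ c₀ : Idx u, x ∈ Set.range ((cHat u hz hz' uh huh c₀).j pC' chartC').base := by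
  obtain ⟨r', hr', -⟩ := existsUnique_isProjQMapOn_domQ (u := QGrHom.ofHom ι' hz'.graded) hP' hC'
  obtain ⟨c₀, y, hy⟩ := Idx.exists_mem_range_j (u := u) p' chart' (r'.base ⟨x, hx⟩) (by rw [hdom]; trivial)
  refine ⟨c₀, ?_⟩
  have hpre := preimage_opensRange_eq_on ι' hz'.graded hP' hC' hr' c₀.U' c₀.hU' c₀.d c₀.hd c₀.b c₀.hb'
  have hmem : (⟨x, hx⟩ : ((domQ (QGrHom.ofHom ι' hz'.graded) pC' chartC' : PC'.Opens) : Scheme.{u})) ∈
      r' ⁻¹ᵁ (Proj.awayι (𝒮'.deg c₀.U' c₀.hU') c₀.b c₀.hb' c₀.hd ≫ emb p' chart' c₀.U' c₀.hU').opensRange :=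
    ⟨y, hy⟩
  rw [hpre] at hmem
  obtain ⟨w, hw⟩ := hmem
  have h1 : x ∈ Set.range (awayEmb (QGrHom.ofHom ι' hz'.graded) pC' chartC' c₀.U' c₀.hU' c₀.U' c₀.hU'
      (le_id_preimage c₀.U') c₀.hd c₀.b c₀.hb').base := by
    refine ⟨w, ?_⟩
    rw [← awayEmbOn_ι ι' hz'.graded, Scheme.Hom.comp_apply]
    exact congrArg (fun t => (domQ (QGrHom.ofHom ι' hz'.graded) pC' chartC').ι.base t) hw
  have h2 := range_j_eq_of_b_eq (u := QGrHom.ofHom ι' hz'.graded) (p' := pC') (chart' := chartC')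
    c₀.U' c₀.hU' c₀.U' c₀.hU' (le_id_preimage c₀.U') c₀.U' c₀.hU' (le_id_preimage c₀.U')
    c₀.d c₀.hd c₀.b c₀.hb' _ rfl c₀.d c₀.hd c₀.b c₀.hb'
    (gradedHomAt ι' hz'.graded c₀.U' c₀.hU' c₀.b) (gradedAt_ofHom_apply ι' hz'.graded c₀.U' c₀.hU' _ c₀.b)
    (gradedAt_ofHom_apply ι' hz'.graded c₀.U' c₀.hU' _ c₀.b)
  have h3 : x ∈ Set.range ((cι' u hz' c₀).j pC' chartC').base := by
    rw [cι', idx, ← h2]
    exact h1
  exact h3

include hΦh in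
theorem Φh_mem_of_mem_cHat (c₀ : Idx u) (x₀ : ((domQ uh pC' chartC' : PC'.Opens) : Scheme.{u}))
    (hx : (domQ uh pC' chartC').ι.base x₀ ∈ Set.range ((cHat u hz hz' uh huh c₀).j pC' chartC').base) :
    Φh.base x₀ ∈ domQ (QGrHom.ofHom ι hz.graded) pC chartC := by
  have hWh := Idx.range_j_subset_domQ pC' chartC' (cHat u hz hz' uh huh c₀)
  obtain ⟨w, rfl⟩ := mem_range_lift _ _ hWh x₀ hx
  rw [← Scheme.Hom.comp_apply, isProjQMapOn_idx hΦh (cHat u hz hz' uh huh c₀) hWh]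
  have := Idx.range_j_subset_domQ pC chartC (cι u hz c₀)
  rw [Scheme.Opens.range_ι] at this
  exact this ⟨(Spec.map (CommRingCat.ofHom (AwayTo.mapTo (uh.gradedAt c₀.U c₀.hU c₀.U' c₀.hU' c₀.hle)
    (cHat u hz hz' uh huh c₀).hb))).base w, rfl⟩

include hz huhz in
theorem mem_domQ_uh_of_not_mem (x : PC') (hx : x ∉ domQ (QGrHom.ofHom ι' hz'.graded) pC' chartC') :
    x ∈ domQ uh pC' chartC' := by
  obtain ⟨U, hU, U', hU', hle, hy⟩ := exists_pair q (pC'.base x)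
  have hxr : x ∈ Set.range (emb pC' chartC' U' hU').base := by
    rw [Idx.range_emb]; exact hy
  obtain ⟨y, rfl⟩ := hxr
  by_cases hzy : restrictTop 𝒮h' z' U' ∈ y.asHomogeneousIdeal
  · exfalso
    apply hx
    refine Opens.mem_iSup.mpr ⟨⟨(⟨U', hU'⟩, ⟨U', hU'⟩), le_refl _⟩, y, ?_, rfl⟩
    change y ∈ domOpen ((QGrHom.ofHom ι' hz'.graded).gradedAt U' hU' U' hU' _)
    rw [domOpen_congr (gradedAt_ofHom_eq ι' hz'.graded U' hU' _), mem_domOpen]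
    by_contra hcon
    push Not at hcon
    apply y.not_irrelevant_le
    change (𝒮h'.deg U' hU')₊.toIdeal ≤ y.asHomogeneousIdeal.toIdeal
    exact PolyCone.irrelevant_le_of (gradedHomAt ι' hz'.graded U' hU') (hz'.deg_z U' hU') (hsurj hz' U' hU') _
      hcon hzy
  · have := Idx.range_j_subset_domQ pC' chartC' (idxZ hz uh huhz U hU U' hU' hle)
    rw [Scheme.Opens.range_ι] at this
    exact this ((Idx.mem_range_j_iff pC' chartC' _ _).mpr ⟨y, hzy, rfl⟩)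

include hC hC' huh huhz hΦh hP' in
theorem preimage_pointed_eq (hdom : domQ u p' chart' = ⊤)
    (W : PC.Opens) (hW : W = domQ (QGrHom.ofHom ι hz.graded) pC chartC)
    (W' : PC'.Opens) (hW' : W' = domQ (QGrHom.ofHom ι' hz'.graded) pC' chartC') :
    domQ uh pC' chartC' = ⊤ ∧ (domQ uh pC' chartC').ι ''ᵁ (Φh ⁻¹ᵁ W) = W' := by
  refine ⟨?_, le_antisymm (preimage_pointed_le u hz hC hz' hC' uh huh Φh hΦh W hW W' hW') ?_⟩
  · refine eq_top_iff.mpr fun x _ => ?_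
    by_cases hx : x ∈ domQ (QGrHom.ofHom ι' hz'.graded) pC' chartC'
    · obtain ⟨c₀, hc₀⟩ := mem_of_mem_pointed u hz hz' hC' uh huh hP' hdom x hx
      have := Idx.range_j_subset_domQ pC' chartC' (cHat u hz hz' uh huh c₀)
      rw [Scheme.Opens.range_ι] at this
      exact this hc₀
    · exact mem_domQ_uh_of_not_mem hz hz' uh huhz x hx
  · subst hW hW'
    intro x hx
    obtain ⟨c₀, hc₀⟩ := mem_of_mem_pointed u hz hz' hC' uh huh hP' hdom x hx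
    have := Idx.range_j_subset_domQ pC' chartC' (cHat u hz hz' uh huh c₀)
    rw [Scheme.Opens.range_ι] at this
    exact ⟨⟨x, this hc₀⟩, Φh_mem_of_mem_cHat u hz hz' uh huh Φh hΦh c₀ ⟨x, this hc₀⟩ hc₀, rfl⟩

end PreimagePointed

end Groth.Agent.Lib.Helper3.Cone
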