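import Groth.Agent.Lib.Helper3.QProj4
/-!
# `Proj(φ)` on its open of definition (same base): the preimage of a standard chart
-/
universe u
open CategoryTheory CategoryTheory.Limits AlgebraicGeometry Opposite TopologicalSpace
open HomogeneousLocalization
open scoped HomogeneousIdeal

namespace Groth.Agent.Lib.Helper3.QProj
open RelProj RelSpec Groth.Agent.Lib.Helper3

section SameBaseOn
variable {Y PA PB : Scheme.{u}} {𝒜 ℬ : RelProj.QCGrAlg Y}
    (φ : 𝒜.toQCAlg ⟶ ℬ.toQCAlg) (hφ : RelProj.IsGradedHom φ)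
    {pA : PA ⟶ Y} {pB : PB ⟶ Y}
    {chartA : ∀ (U : Y.Opens) (hU : IsAffineOpen U),
      (((pA ⁻¹ᵁ U : PA.Opens) : Scheme.{u}) ≅ Proj (𝒜.deg U hU))}
    {chartB : ∀ (U : Y.Opens) (hU : IsAffineOpen U),
      (((pB ⁻¹ᵁ U : PB.Opens) : Scheme.{u}) ≅ Proj (ℬ.deg U hU))}
    (hA : RelProj.IsRelProj 𝒜 pA chartA) (hB : RelProj.IsRelProj ℬ pB chartB)

/-- the standard chart of `G(φ)`, lifted into `G(φ)` -/
noncomputable def awayEmbOn (U : Y.Opens) (hU : IsAffineOpen U) {d : ℕ} (hd : 0 < d) (f : 𝒜.presheaf.obj (op U))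
    (hf : f ∈ 𝒜.deg U hU d) :
    Spec (CommRingCat.of (Away (ℬ.deg U hU) ((QGrHom.ofHom φ hφ).gradedAt U hU U hU (le_id_preimage U) f))) ⟶
      ((domQ (QGrHom.ofHom φ hφ) pB chartB : PB.Opens) : Scheme.{u}) :=
  IsOpenImmersion.lift (domQ (QGrHom.ofHom φ hφ) pB chartB).ι
    (awayEmb (QGrHom.ofHom φ hφ) pB chartB U hU U hU (le_id_preimage U) hd f hf)
    (range_awayEmb_subset_domQ _ _ _ _ _ _ _ _ _ _ _)

instance (U : Y.Opens) (hU : IsAffineOpen U) {d : ℕ} (hd : 0 < d) (f : 𝒜.presheaf.obj (op U))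
    (hf : f ∈ 𝒜.deg U hU d) : IsOpenImmersion (awayEmbOn φ hφ (pB := pB) (chartB := chartB) U hU hd f hf) := by
  have : IsOpenImmersion (awayEmbOn φ hφ (pB := pB) (chartB := chartB) U hU hd f hf ≫
      (domQ (QGrHom.ofHom φ hφ) pB chartB).ι) := by
    rw [awayEmbOn, IsOpenImmersion.lift_fac]; infer_instance
  exact IsOpenImmersion.of_comp _ (domQ (QGrHom.ofHom φ hφ) pB chartB).ι

theorem awayEmbOn_ι (U : Y.Opens) (hU : IsAffineOpen U) {d : ℕ} (hd : 0 < d) (f : 𝒜.presheaf.obj (op U))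
    (hf : f ∈ 𝒜.deg U hU d) :
    awayEmbOn φ hφ (pB := pB) (chartB := chartB) U hU hd f hf ≫ (domQ (QGrHom.ofHom φ hφ) pB chartB).ι =
      awayEmb (QGrHom.ofHom φ hφ) pB chartB U hU U hU (le_id_preimage U) hd f hf :=
  IsOpenImmersion.lift_fac _ _ _

include hA hB in
theorem preimage_opensRange_eq_on {v : ((domQ (QGrHom.ofHom φ hφ) pB chartB : PB.Opens) : Scheme.{u}) ⟶ PA}
    (hv : IsProjQMapOn (QGrHom.ofHom φ hφ) pA chartA pB chartB (domQ (QGrHom.ofHom φ hφ) pB chartB) v)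
    (U : Y.Opens) (hU : IsAffineOpen U) (d : ℕ) (hd : 0 < d) (f : 𝒜.presheaf.obj (op U)) (hf : f ∈ 𝒜.deg U hU d) :
    v ⁻¹ᵁ (Proj.awayι (𝒜.deg U hU) f hf hd ≫ emb pA chartA U hU).opensRange =
      (awayEmbOn φ hφ (pB := pB) (chartB := chartB) U hU hd f hf).opensRange := by
  ext x
  constructor
  · intro hx
    obtain ⟨V', hV', hle, hxV⟩ := exists_awayEmb_of_mem hA hB v hv U hU d hd f hf x hx
    obtain ⟨y, hy⟩ := range_awayEmb_mono (u := QGrHom.ofHom φ hφ) hB U hU V' hV' U hU hle (le_id_preimage U)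
      d hd f hf hxV
    refine ⟨y, ?_⟩
    apply (domQ (QGrHom.ofHom φ hφ) pB chartB).ι.isOpenEmbedding.injective
    rw [← Scheme.Hom.comp_apply, awayEmbOn_ι]
    exact hy
  · rintro ⟨y, rfl⟩
    change v.base _ ∈ Set.range _
    rw [← Scheme.Hom.comp_apply]
    have := hv U hU U hU (le_id_preimage U) d hd f hf (range_awayEmb_subset_domQ _ _ _ _ _ _ _ _ _ _ _)
    rw [show awayEmbOn φ hφ (pB := pB) (chartB := chartB) U hU hd f hf ≫ v = _ from this]
    exact ⟨(Spec.map (CommRingCat.ofHom (HomogeneousLocalization.Away.map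
      ((QGrHom.ofHom φ hφ).gradedAt U hU U hU (le_id_preimage U)) f))).base y, by
        rw [← Scheme.Hom.comp_apply]⟩

include hA hB in
theorem isPullback_chart_on {v : ((domQ (QGrHom.ofHom φ hφ) pB chartB : PB.Opens) : Scheme.{u}) ⟶ PA}
    (hv : IsProjQMapOn (QGrHom.ofHom φ hφ) pA chartA pB chartB (domQ (QGrHom.ofHom φ hφ) pB chartB) v)
    (U : Y.Opens) (hU : IsAffineOpen U) (d : ℕ) (hd : 0 < d) (f : 𝒜.presheaf.obj (op U)) (hf : f ∈ 𝒜.deg U hU d) :
    IsPullback (Spec.map (CommRingCat.ofHom (HomogeneousLocalization.Away.map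
        ((QGrHom.ofHom φ hφ).gradedAt U hU U hU (le_id_preimage U)) f)))
      (awayEmbOn φ hφ (pB := pB) (chartB := chartB) U hU hd f hf)
      (Proj.awayι (𝒜.deg U hU) f hf hd ≫ emb pA chartA U hU) v :=
  IsOpenImmersion.isPullback _ _ _ _
    (hv U hU U hU (le_id_preimage U) d hd f hf (range_awayEmb_subset_domQ _ _ _ _ _ _ _ _ _ _ _))
    (preimage_opensRange_eq_on φ hφ hA hB hv U hU d hd f hf)

include hA hB in
/-- A property local on the target holds for `Proj(φ) : G(φ) ⟶ Proj 𝒜` as soon as it holds for the maps of spectra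
of the degree-zero localizations. -/
theorem of_forall_awayMap_on (Q : MorphismProperty Scheme.{u}) [IsZariskiLocalAtTarget Q]
    {v : ((domQ (QGrHom.ofHom φ hφ) pB chartB : PB.Opens) : Scheme.{u}) ⟶ PA}
    (hv : IsProjQMapOn (QGrHom.ofHom φ hφ) pA chartA pB chartB (domQ (QGrHom.ofHom φ hφ) pB chartB) v)
    (H : ∀ (U : Y.Opens) (hU : IsAffineOpen U) (d : ℕ) (_ : 0 < d) (f : 𝒜.presheaf.obj (op U))
      (_ : f ∈ 𝒜.deg U hU d), Q (Spec.map (CommRingCat.ofHom (HomogeneousLocalization.Away.map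
        ((QGrHom.ofHom φ hφ).gradedAt U hU U hU (le_id_preimage U)) f)))) : Q v := by
  refine IsZariskiLocalAtTarget.of_openCover (P := Q) (chartCover pA chartA) fun c => ?_
  have hpb := isPullback_chart_on φ hφ hA hB hv c.U c.hU c.d c.hd c.f c.hf
  change Q (pullback.snd v (Proj.awayι (𝒜.deg c.U c.hU) c.f c.hf c.hd ≫ emb pA chartA c.U c.hU))
  have heq : pullback.snd v (Proj.awayι (𝒜.deg c.U c.hU) c.f c.hf c.hd ≫ emb pA chartA c.U c.hU) =
      hpb.flip.isoPullback.inv ≫ Spec.map (CommRingCat.ofHom (HomogeneousLocalization.Away.map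
        ((QGrHom.ofHom φ hφ).gradedAt c.U c.hU c.U c.hU (le_id_preimage c.U)) c.f)) := by
    rw [Iso.eq_inv_comp]
    exact hpb.flip.isoPullback_hom_snd
  rw [heq, Q.cancel_left_of_respectsIso]
  exact H c.U c.hU c.d c.hd c.f c.hf

end SameBaseOn

end Groth.Agent.Lib.Helper3.QProj
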