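import Groth.Agent.Lib.Helper3.ConeBase
import Groth.Agent.Lib.Helper3.QProj5
/-!
# The canonical retraction of the pointed projective cone
-/
universe u
open CategoryTheory CategoryTheory.Limits AlgebraicGeometry Opposite TopologicalSpace
open HomogeneousLocalization
open scoped HomogeneousIdeal

namespace Groth.Agent.Lib.Helper3.Cone
open RelProj RelSpec RelCone Groth.Agent.Lib.Helper3 Groth.Agent.Lib.Helper3.QProj

section Ring
variable {A B σ τ : Type u} [CommRing A] [SetLike σ A] [AddSubgroupClass σ A]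
  [CommRing B] [SetLike τ B] [AddSubgroupClass τ B]
  {𝒜 : ℕ → σ} {ℬ : ℕ → τ} [GradedRing 𝒜] [GradedRing ℬ]

theorem mapTo_retract {ψ : 𝒜 →+*ᵍ ℬ} {χ : ℬ →+*ᵍ 𝒜} (hχψ : χ.comp ψ = GradedRingHom.id 𝒜) (f : A)
    (hb : χ (ψ f) = f) :
    (AwayTo.mapTo χ hb).comp (Away.map ψ f) = RingHom.id _ := by
  have hbc : (χ.comp ψ) f = f := hb
  have h1 := AwayTo.mapTo_comp ψ χ (rfl : ψ f = ψ f) hb hbc
  rw [AwayTo.mapTo_rfl] at h1
  rw [← h1, AwayTo.mapTo_congr hχψ hbc (rfl : (GradedRingHom.id 𝒜) f = f)]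
  exact Away.map_id 𝒜 f

theorem surjective_specMap_of_retract {R T : Type u} [CommRing R] [CommRing T] (a : R →+* T) (b : T →+* R)
    (hba : b.comp a = RingHom.id R) :
    Function.Surjective (Spec.map (CommRingCat.ofHom a)).base := by
  intro x
  refine ⟨(Spec.map (CommRingCat.ofHom b)).base x, ?_⟩
  rw [← Scheme.Hom.comp_apply, ← Spec.map_comp, ← CommRingCat.ofHom_comp, hba, CommRingCat.ofHom_id, Spec.map_id]
  rfl

end Ring

section Retr
variable {S PC P : Scheme.{u}} {𝒮 𝒮h : QCGrAlg S} {ι : 𝒮.toQCAlg ⟶ 𝒮h.toQCAlg} {z : 𝒮h.presheaf.obj (op ⊤)}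
  (h : IsPolyOver 𝒮 𝒮h ι z)
  {pC : PC ⟶ S}
  {chartC : ∀ (U : S.Opens) (hU : IsAffineOpen U), (((pC ⁻¹ᵁ U : PC.Opens) : Scheme.{u}) ≅ Proj (𝒮h.deg U hU))}
  {p : P ⟶ S}
  {chart : ∀ (U : S.Opens) (hU : IsAffineOpen U), (((p ⁻¹ᵁ U : P.Opens) : Scheme.{u}) ≅ Proj (𝒮.deg U hU))}

/-- the chart condition characterising the canonical retraction, in the form used by the statements -/
def RetrCond (pC : PC ⟶ S)
    (chartC : ∀ (U : S.Opens) (hU : IsAffineOpen U), (((pC ⁻¹ᵁ U : PC.Opens) : Scheme.{u}) ≅ Proj (𝒮h.deg U hU)))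
    (p : P ⟶ S)
    (chart : ∀ (U : S.Opens) (hU : IsAffineOpen U), (((p ⁻¹ᵁ U : P.Opens) : Scheme.{u}) ≅ Proj (𝒮.deg U hU)))
    (W : PC.Opens) (r : (W : Scheme.{u}) ⟶ P) : Prop :=
  ∀ (U : S.Opens) (hU : IsAffineOpen U) (d : ℕ) (hd : 0 < d) (f : 𝒮.presheaf.obj (op U)) (hf : f ∈ 𝒮.deg U hU d)
    (g : Spec (CommRingCat.of (HomogeneousLocalization.Away (𝒮h.deg U hU) ((RelProj.gradedHomAt ι h.graded U hU) f))) ⟶
      (W : Scheme.{u})),
    g ≫ W.ι =
        Proj.awayι (𝒮h.deg U hU) ((RelProj.gradedHomAt ι h.graded U hU) f) ((RelProj.gradedHomAt ι h.graded U hU).2 hf) hd ≫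
          RelProj.emb pC chartC U hU →
      g ≫ r =
        Spec.map (CommRingCat.ofHom (HomogeneousLocalization.Away.map (RelProj.gradedHomAt ι h.graded U hU) f)) ≫
          Proj.awayι (𝒮.deg U hU) f hf hd ≫ RelProj.emb p chart U hU

/-- the index of the standard chart attached to `(U, f)` -/
def idx (U : S.Opens) (hU : IsAffineOpen U) (d : ℕ) (hd : 0 < d) (f : 𝒮.presheaf.obj (op U))
    (hf : f ∈ 𝒮.deg U hU d) : Idx (QGrHom.ofHom ι h.graded) :=
  ⟨U, hU, U, hU, le_id_preimage U, d, hd, f, hf, gradedHomAt ι h.graded U hU f,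
    gradedAt_ofHom_apply ι h.graded U hU _ f⟩

theorem idx_j (U : S.Opens) (hU : IsAffineOpen U) (d : ℕ) (hd : 0 < d) (f : 𝒮.presheaf.obj (op U))
    (hf : f ∈ 𝒮.deg U hU d) :
    (idx h U hU d hd f hf).j pC chartC =
      Proj.awayι (𝒮h.deg U hU) ((RelProj.gradedHomAt ι h.graded U hU) f) ((RelProj.gradedHomAt ι h.graded U hU).2 hf) hd ≫
          RelProj.emb pC chartC U hU := rfl

theorem idx_t (U : S.Opens) (hU : IsAffineOpen U) (d : ℕ) (hd : 0 < d) (f : 𝒮.presheaf.obj (op U))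
    (hf : f ∈ 𝒮.deg U hU d) :
    (idx h U hU d hd f hf).t p chart =
      Spec.map (CommRingCat.ofHom (HomogeneousLocalization.Away.map (RelProj.gradedHomAt ι h.graded U hU) f)) ≫
          Proj.awayι (𝒮.deg U hU) f hf hd ≫ RelProj.emb p chart U hU := by
  have e : AwayTo.mapTo ((QGrHom.ofHom ι h.graded).gradedAt U hU U hU (le_id_preimage U))
      (gradedAt_ofHom_apply ι h.graded U hU (le_id_preimage U) f) =
      HomogeneousLocalization.Away.map (RelProj.gradedHomAt ι h.graded U hU) f :=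
    (AwayTo.mapTo_congr (gradedAt_ofHom_eq ι h.graded U hU (le_id_preimage U)) _ rfl).trans
      (AwayTo.mapTo_rfl _ _)
  exact congrArg (fun m => Spec.map (CommRingCat.ofHom m) ≫ Proj.awayι (𝒮.deg U hU) f hf hd ≫
    RelProj.emb p chart U hU) e

theorem retrCond_of_isProjQMapOn (W : PC.Opens) (r : (W : Scheme.{u}) ⟶ P)
    (hr : IsProjQMapOn (QGrHom.ofHom ι h.graded) p chart pC chartC W r) :
    RetrCond h pC chartC p chart W r := by
  intro U hU d hd f hf g hg
  have hW : Set.range ((idx h U hU d hd f hf).j pC chartC).base ⊆ Set.range W.ι.base := by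
    rintro _ ⟨y, rfl⟩
    refine ⟨g.base y, ?_⟩
    rw [← Scheme.Hom.comp_apply]
    exact congr($(hg).base y)
  have h1 := (isProjQMapOn_iff _ _).mp hr (idx h U hU d hd f hf) hW
  have h2 : g = IsOpenImmersion.lift W.ι ((idx h U hU d hd f hf).j pC chartC) hW :=
    (cancel_mono W.ι).mp (hg.trans (IsOpenImmersion.lift_fac _ _ _).symm)
  rw [h2]
  exact h1.trans (idx_t h U hU d hd f hf)

variable (hC : IsRelProj 𝒮h pC chartC) (hP : IsRelProj 𝒮 p chart)

include hC in
theorem cover_domQ (x : PC) (hx : x ∈ domQ (QGrHom.ofHom ι h.graded) pC chartC) :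
    ∃ (U : S.Opens) (hU : IsAffineOpen U) (d : ℕ) (hd : 0 < d) (f : 𝒮.presheaf.obj (op U))
      (hf : f ∈ 𝒮.deg U hU d), x ∈ Set.range ((idx h U hU d hd f hf).j pC chartC).base := by
  obtain ⟨_, ⟨U, hU, rfl⟩, hxU, -⟩ := S.isBasis_affineOpens.exists_subset_of_mem_open
    (Set.mem_univ (pC.base x)) isOpen_univ
  obtain ⟨V', hV', hle, d, hd, f, hf, hxV⟩ := exists_awayEmb_of_mem_domQ (u := QGrHom.ofHom ι h.graded) hC U hU x hx hxU
  have h1 := range_awayEmb_mono (u := QGrHom.ofHom ι h.graded) hC U hU V' hV' U hU hle (le_id_preimage U)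
      d hd f hf hxV
  refine ⟨U, hU, d, hd, f, hf, ?_⟩
  have h2 := range_j_eq_of_b_eq (u := QGrHom.ofHom ι h.graded) (p' := pC) (chart' := chartC)
    U hU U hU (le_id_preimage U) U hU (le_id_preimage U) d hd f hf _ rfl d hd f hf
    (gradedHomAt ι h.graded U hU f) (gradedAt_ofHom_apply ι h.graded U hU _ f)
    (gradedAt_ofHom_apply ι h.graded U hU _ f)
  rw [idx, ← h2]
  exact h1

include hC hP in
theorem isProjQMapOn_of_retrCond (r : ((domQ (QGrHom.ofHom ι h.graded) pC chartC : PC.Opens) : Scheme.{u}) ⟶ P)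
    (hr : RetrCond h pC chartC p chart (domQ (QGrHom.ofHom ι h.graded) pC chartC) r) :
    IsProjQMapOn (QGrHom.ofHom ι h.graded) p chart pC chartC (domQ (QGrHom.ofHom ι h.graded) pC chartC) r := by
  obtain ⟨v, hv, -⟩ := existsUnique_isProjQMapOn_domQ (u := QGrHom.ofHom ι h.graded) hP hC
  suffices r = v by rw [this]; exact hv
  have hv' := retrCond_of_isProjQMapOn h _ v hv
  refine GlueCharts.hom_ext_of_forall_immersion r v fun q => ?_
  obtain ⟨U, hU, d, hd, f, hf, y, hy⟩ := cover_domQ h hC q.1 q.2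
  have hW := Idx.range_j_subset_domQ pC chartC (idx h U hU d hd f hf)
  refine ⟨_, IsOpenImmersion.lift (domQ (QGrHom.ofHom ι h.graded) pC chartC).ι
    ((idx h U hU d hd f hf).j pC chartC) hW, ?_, ⟨y, ?_⟩, ?_⟩
  · have : IsOpenImmersion (IsOpenImmersion.lift (domQ (QGrHom.ofHom ι h.graded) pC chartC).ι
        ((idx h U hU d hd f hf).j pC chartC) hW ≫ (domQ (QGrHom.ofHom ι h.graded) pC chartC).ι) := by
      rw [IsOpenImmersion.lift_fac]; infer_instance
    exact IsOpenImmersion.of_comp _ (domQ (QGrHom.ofHom ι h.graded) pC chartC).ι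
  · apply (domQ (QGrHom.ofHom ι h.graded) pC chartC).ι.isOpenEmbedding.injective
    rw [← Scheme.Hom.comp_apply, IsOpenImmersion.lift_fac]
    exact hy
  · exact (hr U hU d hd f hf _ (IsOpenImmersion.lift_fac _ _ _)).trans
      (hv' U hU d hd f hf _ (IsOpenImmersion.lift_fac _ _ _)).symm

include hC hP in
theorem existsUnique_retr (W : PC.Opens) (hW : W = domQ (QGrHom.ofHom ι h.graded) pC chartC) :
    ∃! r : (W : Scheme.{u}) ⟶ P, RetrCond h pC chartC p chart W r := by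
  subst hW
  obtain ⟨v, hv, huniq⟩ := existsUnique_isProjQMapOn_domQ (u := QGrHom.ofHom ι h.graded) hP hC
  exact ⟨v, retrCond_of_isProjQMapOn h _ v hv, fun r hr => huniq r (isProjQMapOn_of_retrCond h hC hP r hr)⟩

include hC hP in
theorem retr_comp (W : PC.Opens) (hW : W = domQ (QGrHom.ofHom ι h.graded) pC chartC)
    (r : (W : Scheme.{u}) ⟶ P) (hr : RetrCond h pC chartC p chart W r) : r ≫ p = W.ι ≫ pC := by
  subst hW
  have := comp_eq_of_isProjQMapOn_domQ hP hC r (isProjQMapOn_of_retrCond h hC hP r hr)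
  simpa using this

include hC hP in
theorem retr_isAffineHom (W : PC.Opens) (hW : W = domQ (QGrHom.ofHom ι h.graded) pC chartC)
    (r : (W : Scheme.{u}) ⟶ P) (hr : RetrCond h pC chartC p chart W r) : IsAffineHom r := by
  subst hW
  exact of_forall_awayMap_on ι h.graded hP hC @IsAffineHom (isProjQMapOn_of_retrCond h hC hP r hr)
    fun U hU d _ f _ => inferInstance

theorem gradedAt_retract (U : S.Opens) (hU : IsAffineOpen U) :
    (evalZero h U hU).comp ((QGrHom.ofHom ι h.graded).gradedAt U hU U hU (le_id_preimage U)) =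
      GradedRingHom.id _ := by
  rw [gradedAt_ofHom_eq]
  exact evalZero_comp h U hU

include hC hP in
theorem retr_surjective (W : PC.Opens) (hW : W = domQ (QGrHom.ofHom ι h.graded) pC chartC)
    (r : (W : Scheme.{u}) ⟶ P) (hr : RetrCond h pC chartC p chart W r) : Function.Surjective r.base := by
  subst hW
  have : Surjective r := by
    refine of_forall_awayMap_on ι h.graded hP hC @Surjective (isProjQMapOn_of_retrCond h hC hP r hr)
      fun U hU d _ f _ => ⟨?_⟩
    have hb : evalZero h U hU ((QGrHom.ofHom ι h.graded).gradedAt U hU U hU (le_id_preimage U) f) = f :=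
      congrArg (fun m : 𝒮.deg U hU →+*ᵍ 𝒮.deg U hU => m f) (gradedAt_retract h U hU)
    exact surjective_specMap_of_retract _ _ (mapTo_retract (gradedAt_retract h U hU) f hb)
  exact this.surj

include hC hP in
theorem retr_section (W : PC.Opens) (hW : W = domQ (QGrHom.ofHom ι h.graded) pC chartC)
    (r : (W : Scheme.{u}) ⟶ P) (hr : RetrCond h pC chartC p chart W r)
    (θ : 𝒮h.toQCAlg ⟶ 𝒮.toQCAlg) (hθ : IsGradedHom θ) (hιθ : ι ≫ θ = 𝟙 _)
    (hirr : ∀ (U : S.Opens) (hU : IsAffineOpen U),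
      (𝒮.deg U hU)₊ ≤ ((𝒮h.deg U hU)₊).map (gradedHomAt θ hθ U hU))
    (j : P ⟶ PC) (hj : IsRelProjMap θ hθ hirr chartC chart j)
    (j' : P ⟶ (W : Scheme.{u})) (hj' : j' ≫ W.ι = j) : j' ≫ r = 𝟙 P := by
  subst hW
  refine (chartCover p chart).hom_ext _ _ fun c => ?_
  obtain ⟨U, hU, d, hd, f, hf⟩ := c
  change (Proj.awayι (𝒮.deg U hU) f hf hd ≫ emb p chart U hU) ≫ j' ≫ r =
    (Proj.awayι (𝒮.deg U hU) f hf hd ≫ emb p chart U hU) ≫ 𝟙 P
  have hcomp : (gradedHomAt θ hθ U hU).comp (gradedHomAt ι h.graded U hU) = GradedRingHom.id _ := by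
    ext x
    exact congrArg (fun m : 𝒮.toQCAlg ⟶ 𝒮.toQCAlg => (m.hom.app (op U)).hom x) hιθ
  have hb : gradedHomAt θ hθ U hU (gradedHomAt ι h.graded U hU f) = f :=
    congrArg (fun m : 𝒮.deg U hU →+*ᵍ 𝒮.deg U hU => m f) hcomp
  have e1 : emb p chart U hU ≫ j = Proj.map (gradedHomAt θ hθ U hU) (hirr U hU) ≫ emb pC chartC U hU := by
    unfold emb
    rw [Category.assoc, hj U hU, Iso.inv_hom_id_assoc]
  have e2 : Proj.awayι (𝒮.deg U hU) f hf hd ≫ Proj.map (gradedHomAt θ hθ U hU) (hirr U hU) =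
      Spec.map (CommRingCat.ofHom (AwayTo.mapTo (gradedHomAt θ hθ U hU) hb)) ≫
        Proj.awayι (𝒮h.deg U hU) (gradedHomAt ι h.graded U hU f) ((gradedHomAt ι h.graded U hU).2 hf) hd :=
    AwayTo.awayι_comp_map (gradedHomAt θ hθ U hU) (hirr U hU) hd ((gradedHomAt ι h.graded U hU).2 hf) hb hf
  have hWr := Idx.range_j_subset_domQ pC chartC (idx h U hU d hd f hf)
  have key : (Proj.awayι (𝒮.deg U hU) f hf hd ≫ emb p chart U hU) ≫ j' =
      Spec.map (CommRingCat.ofHom (AwayTo.mapTo (gradedHomAt θ hθ U hU) hb)) ≫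
        IsOpenImmersion.lift (domQ (QGrHom.ofHom ι h.graded) pC chartC).ι
          ((idx h U hU d hd f hf).j pC chartC) hWr := by
    rw [← cancel_mono (domQ (QGrHom.ofHom ι h.graded) pC chartC).ι]
    simp only [Category.assoc]
    rw [hj', IsOpenImmersion.lift_fac, e1, reassoc_of% e2]
    rfl
  have h3 := hr U hU d hd f hf (IsOpenImmersion.lift (domQ (QGrHom.ofHom ι h.graded) pC chartC).ι
          ((idx h U hU d hd f hf).j pC chartC) hWr) (IsOpenImmersion.lift_fac _ _ _)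
  rw [← Category.assoc, key, Category.assoc, h3, ← Spec.map_comp_assoc, ← CommRingCat.ofHom_comp,
    mapTo_retract hcomp f hb, CommRingCat.ofHom_id, Spec.map_id, Category.id_comp, Category.comp_id]

end Retr

end Groth.Agent.Lib.Helper3.Cone
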