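import Groth.Agent.Lib.Helper3.ConeExist
/-!
# The trivially graded quasi-coherent algebra, and `Proj 𝒜[T] = Spec 𝒜`
-/
universe u
open CategoryTheory CategoryTheory.Limits AlgebraicGeometry Opposite TopologicalSpace
open HomogeneousLocalization
open scoped HomogeneousIdeal

namespace Groth.Agent.Lib.Helper3.Cone
open RelProj RelSpec RelCone Groth.Agent.Lib.Helper3 Groth.Agent.Lib.Helper3.QProj

/-- the trivial grading of a ring: everything in degree zero -/
def trivDeg (R : Type u) [CommRing R] : ℕ → AddSubgroup R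
  | 0 => ⊤
  | _ + 1 => ⊥

theorem eq_zero_of_mem_trivDeg_succ {R : Type u} [CommRing R] {n : ℕ} {a : R} (h : a ∈ trivDeg R (n + 1)) :
    a = 0 := AddSubgroup.mem_bot.mp h

theorem mem_trivDeg_zero {R : Type u} [CommRing R] (a : R) : a ∈ trivDeg R 0 := AddSubgroup.mem_top a

instance (R : Type u) [CommRing R] : SetLike.GradedMonoid (trivDeg R) where
  one_mem := mem_trivDeg_zero 1
  mul_mem := fun i j a b ha hb => by
    cases i with
    | zero =>
      cases j with
      | zero => exact mem_trivDeg_zero _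
      | succ j =>
        rw [eq_zero_of_mem_trivDeg_succ hb, mul_zero]
        exact zero_mem _
    | succ i =>
      rw [eq_zero_of_mem_trivDeg_succ ha, zero_mul]
      exact zero_mem _

noncomputable instance (R : Type u) [CommRing R] : DirectSum.Decomposition (trivDeg R) where
  decompose' a := DirectSum.of (fun n => trivDeg R n) 0 ⟨a, mem_trivDeg_zero a⟩
  left_inv a := by
    classical
    simp [DirectSum.coeAddMonoidHom_of]
  right_inv x := by
    classical
    induction x using DirectSum.induction_on with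
    | zero =>
      rw [map_zero]
      exact map_zero (DirectSum.of (fun n => trivDeg R n) 0)
    | of n a =>
      cases n with
      | zero =>
        rw [DirectSum.coeAddMonoidHom_of]
      | succ n =>
        have ha : a = 0 := Subtype.ext (eq_zero_of_mem_trivDeg_succ a.2)
        rw [ha, map_zero, map_zero]
        exact map_zero (DirectSum.of (fun n => trivDeg R n) 0)
    | add x y hx hy =>
      have e : DirectSum.coeAddMonoidHom (trivDeg R) (x + y) =
          DirectSum.coeAddMonoidHom (trivDeg R) x + DirectSum.coeAddMonoidHom (trivDeg R) y := map_add _ _ _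
      refine Eq.trans ?_ (congrArg₂ (· + ·) hx hy)
      change DirectSum.of (fun n => trivDeg R n) 0 ⟨DirectSum.coeAddMonoidHom (trivDeg R) (x + y), _⟩ =
        DirectSum.of (fun n => trivDeg R n) 0 ⟨DirectSum.coeAddMonoidHom (trivDeg R) x, mem_trivDeg_zero _⟩ +
          DirectSum.of (fun n => trivDeg R n) 0 ⟨DirectSum.coeAddMonoidHom (trivDeg R) y, mem_trivDeg_zero _⟩
      rw [← map_add]
      congr 1
      exact Subtype.ext e

noncomputable instance (R : Type u) [CommRing R] : GradedRing (trivDeg R) where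

theorem decompose_trivDeg {R : Type u} [CommRing R] (a : R) :
    DirectSum.decompose (trivDeg R) a = DirectSum.of (fun n => trivDeg R n) 0 ⟨a, mem_trivDeg_zero a⟩ := rfl

theorem eq_zero_of_mem_irrelevant_trivDeg {R : Type u} [CommRing R] {a : R} (h : a ∈ (trivDeg R)₊) : a = 0 := by
  classical
  have := (HomogeneousIdeal.mem_irrelevant_iff (trivDeg R) a).mp h
  rw [GradedRing.proj_apply, decompose_trivDeg, DirectSum.of_eq_same] at this
  exact this

/-- a quasi-coherent algebra with the trivial grading -/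
noncomputable def trivQCGrAlg {Y : Scheme.{u}} (𝒜 : QCAlg Y) : QCGrAlg Y where
  toQCAlg := 𝒜
  deg U _ := trivDeg (𝒜.presheaf.obj (op U))
  graded U _ := inferInstance
  map_mem := fun {U V} hU hV i {d} {x} hx => by
    cases d with
    | zero => exact mem_trivDeg_zero _
    | succ d =>
      rw [eq_zero_of_mem_trivDeg_succ hx, map_zero]
      exact zero_mem _
  str_mem U hU r := mem_trivDeg_zero _

section Triv
variable {Y P : Scheme.{u}} (𝒜 : QCAlg Y) (Sh : QCGrAlg Y) (ι : 𝒜 ⟶ Sh.toQCAlg)
  (hι : ∀ (U : Y.Opens) (hU : IsAffineOpen U) (a : 𝒜.presheaf.obj (op U)), (ι.hom.app (op U)).hom a ∈ Sh.deg U hU 0)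
  (z : Sh.presheaf.obj (op ⊤))
  (hz : ∀ (U : Y.Opens) (hU : IsAffineOpen U), restrictTop Sh z U ∈ Sh.deg U hU 1)
  (hpoly : ∀ (U : Y.Opens) (hU : IsAffineOpen U),
    Function.Bijective (Polynomial.eval₂RingHom (ι.hom.app (op U)).hom (restrictTop Sh z U)))

include hι hz hpoly in
theorem isPolyOver_triv : IsPolyOver (trivQCGrAlg 𝒜) Sh ι z where
  graded := fun U hU d x hx => by
    cases d with
    | zero => exact hι U hU x
    | succ d =>
      have hx0 : x = 0 := eq_zero_of_mem_trivDeg_succ (R := 𝒜.presheaf.obj (op U)) (n := d) hx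
      have h0 : (ι.hom.app (op U)).hom x = 0 := by
        rw [hx0]
        exact map_zero (ι.hom.app (op U)).hom
      exact h0 ▸ zero_mem _
  deg_z := hz
  bij := hpoly

variable {p : P ⟶ Y}
  {chart : ∀ (U : Y.Opens) (hU : IsAffineOpen U), (((p ⁻¹ᵁ U : P.Opens) : Scheme.{u}) ≅ Proj (Sh.deg U hU))}
  (hP : IsRelProj Sh p chart)

include hP in
/-- for the trivial grading the cone immersion is an isomorphism -/
theorem isIso_coneImm_triv (h : IsPolyOver (trivQCGrAlg 𝒜) Sh ι z) (i : 𝒜.spec ⟶ P)
    (hi : IsConeImm (trivQCGrAlg 𝒜) h p chart i) : IsIso i := by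
  have : IsOpenImmersion i := isOpenImmersion_coneImm h hP i hi
  refine isIso_of_isOpenImmersion_of_opensRange_eq_top i ?_
  rw [eq_top_iff]
  intro x _
  obtain ⟨_, ⟨U, hU, rfl⟩, hxU, -⟩ := Y.isBasis_affineOpens.exists_subset_of_mem_open
    (Set.mem_univ (p.base x)) isOpen_univ
  have hx : x ∈ Set.range (emb p chart U hU).base := by
    rw [Idx.range_emb]; exact hxU
  obtain ⟨y, rfl⟩ := hx
  refine (mem_range_coneImm_iff h hP i hi U hU y).mpr fun hzy => ?_
  refine y.not_irrelevant_le ?_
  refine PolyCone.irrelevant_le_of (gradedHomAt (𝒜 := trivQCGrAlg 𝒜) (ℬ := Sh) ι h.graded U hU)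
    (h.deg_z U hU) (hsurj h U hU)
    y.asHomogeneousIdeal.toIdeal (fun f hf => ?_) hzy
  have hf0 : f = 0 := eq_zero_of_mem_irrelevant_trivDeg hf
  rw [hf0, map_zero]
  exact zero_mem _

end Triv

end Groth.Agent.Lib.Helper3.Cone
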