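import Groth.Agent.Lib.Helper3.NonunitSub
/-!
# Stalks of inverse images are generated by pulled-back sections; local generation from the counit
-/
universe u
open CategoryTheory CategoryTheory.Limits AlgebraicGeometry Opposite TopologicalSpace

namespace Groth.Agent.Lib.Helper3
open Groth.Agent.Lib.Helper29.QCoh

variable {X Y : Scheme.{u}} (f : X ⟶ Y)

/-- The germs at `x` of the pulled-back sections. -/
def pullGerms (G : Y.Modules) (x : X) :
    Set (((Scheme.Modules.pullback f).obj G).presheaf.stalk x) :=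
  {t | ∃ (V : Y.Opens) (hV : f x ∈ V) (τ : Γ(G, V)),
    ((Scheme.Modules.pullback f).obj G).presheaf.germ (f ⁻¹ᵁ V) x hV (pullSect f G V τ) = t}

/-- The stalk of `f^* G` at `x` is generated by the germs of the pulled-back sections of `G`
over the neighbourhoods of `f x`. -/
theorem span_pullGerms_eq_top (G : Y.Modules) (x : X) :
    Submodule.span (X.presheaf.stalk x) (pullGerms f G x) = ⊤ := by
  set N := Submodule.span (X.presheaf.stalk x) (pullGerms f G x) with hN
  let P := (Scheme.Modules.pullback f).obj G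
  let ψ : P ⟶ sky x (P.presheaf.stalk x ⧸ N) := toSky x P N.mkQ
  have hzero : (Scheme.Modules.pullbackPushforwardAdjunction f).homEquiv _ _ ψ = 0 := by
    rw [Adjunction.homEquiv_unit]
    apply Scheme.Modules.hom_ext
    intro V
    ext τ
    change ψ.app (f ⁻¹ᵁ V) (pullSect f G V τ) = 0
    change (show PLift (x ∈ f ⁻¹ᵁ V) → _ from ψ.app (f ⁻¹ᵁ V) (pullSect f G V τ)) = 0
    funext h
    change N.mkQ (P.presheaf.germ (f ⁻¹ᵁ V) x h.down (pullSect f G V τ)) = 0
    rw [Submodule.mkQ_apply, Submodule.Quotient.mk_eq_zero]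
    exact Submodule.subset_span ⟨V, h.down, τ, rfl⟩
  have hψ : ψ = 0 := by
    apply ((Scheme.Modules.pullbackPushforwardAdjunction f).homEquiv _ _).injective
    rw [hzero, Adjunction.homEquiv_unit, Functor.map_zero, comp_zero]
  rw [eq_top_iff]
  rintro t -
  obtain ⟨W, hxW, m, rfl⟩ := P.presheaf.exists_germ_eq t
  have h1 := toSky_app x P N.mkQ W m hxW
  change (show PLift (x ∈ W) → _ from ψ.app W m) ⟨hxW⟩ = _ at h1
  rw [hψ] at h1
  have h2 : N.mkQ (P.presheaf.germ W x hxW m) = 0 := h1.symm
  rwa [Submodule.mkQ_apply, Submodule.Quotient.mk_eq_zero] at h2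


/-- The germs at `x` of the sections of `F` over the preimages of the neighbourhoods of `f x`. -/
def preimageGerms (F : X.Modules) (x : X) : Set (F.presheaf.stalk x) :=
  {t | ∃ (V : Y.Opens) (hV : f x ∈ V) (σ : Γ(F, f ⁻¹ᵁ V)),
    F.presheaf.germ (f ⁻¹ᵁ V) x hV σ = t}

/-- If the counit `f^* f_* F ⟶ F` is an epimorphism, every stalk of `F` is generated by germs of
sections over preimages of opens of the base. -/
theorem span_preimageGerms_eq_top_of_epi_counit (F : X.Modules)
    [hepi : Epi ((Scheme.Modules.pullbackPushforwardAdjunction f).counit.app F)] (x : X) :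
    Submodule.span (X.presheaf.stalk x) (preimageGerms f F x) = ⊤ := by
  set c := (Scheme.Modules.pullbackPushforwardAdjunction f).counit.app F with hc
  have hsurj := (epi_iff_stalkMap_surjective c).mp hepi x
  rw [eq_top_iff]
  rintro t -
  obtain ⟨s, rfl⟩ := hsurj t
  have hs : s ∈ Submodule.span (X.presheaf.stalk x)
      (pullGerms f ((Scheme.Modules.pushforward f).obj F) x) := by
    rw [span_pullGerms_eq_top]; trivial
  have h2 : stalkMapₗ c x s ∈ Submodule.map (stalkMapₗ c x) (Submodule.span (X.presheaf.stalk x)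
      (pullGerms f ((Scheme.Modules.pushforward f).obj F) x)) := Submodule.mem_map_of_mem hs
  rw [Submodule.map_span] at h2
  refine Submodule.span_mono ?_ h2
  rintro _ ⟨_, ⟨V, hV, τ, rfl⟩, rfl⟩
  refine ⟨V, hV, τ, ?_⟩
  have e1 := stalkMap_germ c x (f ⁻¹ᵁ V) hV (pullSect f ((Scheme.Modules.pushforward f).obj F) V τ)
  have e2 : c.app (f ⁻¹ᵁ V) (pullSect f ((Scheme.Modules.pushforward f).obj F) V τ) = τ :=
    counit_app_pullSect f F V τ
  rw [e2] at e1
  exact e1.symm

end Groth.Agent.Lib.Helper3
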