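import Mathlib.Algebra.Homology.HomologySequence

/-! Naturality of the connecting homomorphism of the homology sequence. -/

set_option autoImplicit false

open CategoryTheory HomologicalComplex HomologySequence

namespace Groth.Agent.Lib.Helper3.DeltaNat

variable {C ι : Type*} [Category* C] [Abelian C] {c : ComplexShape ι}
  {S₁ S₂ : ShortComplex (HomologicalComplex C c)}

set_option backward.defeqAttrib.useBackward true in
/-- The morphism of snake inputs induced by a morphism of short exact sequences of complexes. -/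
noncomputable def mapSnakeInput (φ : S₁ ⟶ S₂) (hS₁ : S₁.ShortExact) (hS₂ : S₂.ShortExact)
    (i j : ι) (hij : c.Rel i j) :
    snakeInput hS₁ i j hij ⟶ snakeInput hS₂ i j hij where
  f₀ := (homologyFunctor C c i).mapShortComplex.map φ
  f₁ := (opcyclesFunctor C c i).mapShortComplex.map φ
  f₂ := (cyclesFunctor C c j).mapShortComplex.map φ
  f₃ := (homologyFunctor C c j).mapShortComplex.map φ
  comm₀₁ := by
    ext <;> simp
  comm₁₂ := by
    ext <;> simp [opcyclesToCycles_naturality]
  comm₂₃ := by
    ext <;> simp

theorem δ_naturality (φ : S₁ ⟶ S₂) (hS₁ : S₁.ShortExact) (hS₂ : S₂.ShortExact)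
    (i j : ι) (hij : c.Rel i j) :
    hS₁.δ i j hij ≫ homologyMap φ.τ₁ j = homologyMap φ.τ₃ i ≫ hS₂.δ i j hij :=
  ShortComplex.SnakeInput.naturality_δ (mapSnakeInput φ hS₁ hS₂ i j hij)

end Groth.Agent.Lib.Helper3.DeltaNat
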