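import Mathlib
import Groth.Prelude.Def_CAlg
import Groth.Agent.Lib.Helper16.Depth

/-!
# Spreading out weakly regular sequences

* `exists_lift`: a weakly regular sequence in `I A_p` can be replaced by the image of a sequence
  in `I` (unit multiples).
* `exists_spread`: if the image of `rs : List A` is weakly regular on `M_p`, then it is weakly regular
  on `M_q` for all `q` in a basic open neighbourhood of `p` (`A` Noetherian, `M` finite).
* `idealDepth_spread`: lower semicontinuity of the `I`-depth along `V(p)` near `p`.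
-/

set_option autoImplicit false
set_option linter.style.haveILetI false
set_option linter.unusedSectionVars false

namespace Groth.Agent.Lib.Helper3.DepthSpread

open RingTheory.Sequence TensorProduct Pointwise

universe u

theorem smul_top_eq_of_isUnit {R N : Type*} [CommRing R] [AddCommGroup N] [Module R N] (r u : R)
    (hu : IsUnit u) : (r • (⊤ : Submodule R N)) = (r * u) • (⊤ : Submodule R N) := by
  ext x
  simp only [Submodule.mem_smul_pointwise_iff_exists, Submodule.mem_top, true_and]
  constructor
  · rintro ⟨n, rfl⟩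
    obtain ⟨v, rfl⟩ := hu
    exact ⟨((v⁻¹ : Rˣ) : R) • n, by rw [mul_smul, smul_smul (v : R), Units.mul_inv, one_smul]⟩
  · rintro ⟨n, rfl⟩
    exact ⟨u • n, by rw [mul_smul]⟩

theorem exists_lift {A : Type u} [CommRing A] (I : Ideal A) (p : Ideal A) [p.IsPrime] :
    ∀ (rs' : List (Localization.AtPrime p)),
      (∀ r ∈ rs', r ∈ I.map (algebraMap A (Localization.AtPrime p))) →
      ∃ as : List A, as.length = rs'.length ∧ (∀ a ∈ as, a ∈ I) ∧
        ∀ (N : Type u) [AddCommGroup N] [Module (Localization.AtPrime p) N],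
          IsWeaklyRegular N rs' →
            IsWeaklyRegular N (as.map (algebraMap A (Localization.AtPrime p))) := by
  intro rs'
  induction rs' with
  | nil =>
    intro _
    exact ⟨[], rfl, by simp, fun N _ _ h => by simp⟩
  | cons r' rs' ih =>
    intro hmem
    obtain ⟨as, hlen, hI, hreg⟩ := ih (fun r hr => hmem r (List.mem_cons_of_mem _ hr))
    have hr' := hmem r' List.mem_cons_self
    rw [IsLocalization.mem_map_algebraMap_iff p.primeCompl] at hr'
    obtain ⟨⟨a, s⟩, hs⟩ := hr'
    have hu : IsUnit (algebraMap A (Localization.AtPrime p) s) :=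
      IsLocalization.map_units _ s
    refine ⟨a.1 :: as, by simp [hlen], ?_, ?_⟩
    · intro x hx
      rcases List.mem_cons.mp hx with rfl | hx
      · exact a.2
      · exact hI x hx
    · intro N _ _ h
      rw [isWeaklyRegular_cons_iff] at h
      rw [List.map_cons, isWeaklyRegular_cons_iff]
      change IsSMulRegular N (algebraMap A (Localization.AtPrime p) a.1) ∧ _
      have hs' : algebraMap A (Localization.AtPrime p) a.1 =
          r' * algebraMap A (Localization.AtPrime p) s := hs.symm
      rw [hs']
      refine ⟨h.1.mul (hu.isSMulRegular N), ?_⟩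
      have e : QuotSMulTop r' N ≃ₗ[Localization.AtPrime p]
          QuotSMulTop (r' * algebraMap A (Localization.AtPrime p) s) N :=
        Submodule.quotEquivOfEq _ _ (smul_top_eq_of_isUnit r' _ hu)
      exact (e.isWeaklyRegular_congr _).mp (hreg (QuotSMulTop r' N) h.2)

section Spread

variable {A : Type u} [CommRing A]

/-- localisation commutes with `QuotSMulTop` -/
noncomputable def quotEquiv (q : Ideal A) [q.IsPrime] (a : A) (M : Type u) [AddCommGroup M]
    [Module A M] :
    QuotSMulTop (algebraMap A (Localization.AtPrime q) a) (LocalizedModule q.primeCompl M)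
      ≃ₗ[Localization.AtPrime q] LocalizedModule q.primeCompl (QuotSMulTop a M) :=
  (QuotSMulTop.congr (algebraMap A (Localization.AtPrime q) a)
    (IsLocalizedModule.isBaseChange q.primeCompl (Localization.AtPrime q)
      (LocalizedModule.mkLinearMap q.primeCompl M)).equiv).symm ≪≫ₗ
  QuotSMulTop.algebraMapTensorEquivTensorQuotSMulTop a M (Localization.AtPrime q) ≪≫ₗ
  (IsLocalizedModule.isBaseChange q.primeCompl (Localization.AtPrime q)
      (LocalizedModule.mkLinearMap q.primeCompl (QuotSMulTop a M))).equiv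

variable [IsNoetherianRing A]

theorem exists_smul_ker_eq_zero (p : Ideal A) [p.IsPrime] (a : A) (M : Type u) [AddCommGroup M]
    [Module A M] [Module.Finite A M]
    (h : IsSMulRegular (LocalizedModule p.primeCompl M) (algebraMap A (Localization.AtPrime p) a)) :
    ∃ g : A, g ∉ p ∧ ∀ m : M, a • m = 0 → g • m = 0 := by
  classical
  let K : Submodule A M := LinearMap.ker (LinearMap.lsmul A M a)
  have hK : ∀ k ∈ K, ∃ s : A, s ∉ p ∧ s • k = 0 := by
    intro k hk
    have hk' : a • k = 0 := hk
    have h0 : algebraMap A (Localization.AtPrime p) a • LocalizedModule.mk k (1 : p.primeCompl) =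
        0 := by
      rw [algebraMap_smul, LocalizedModule.smul'_mk, hk', LocalizedModule.zero_mk]
    have h1 := (isSMulRegular_iff_right_eq_zero_of_smul.mp h) _ h0
    rw [← LocalizedModule.zero_mk (1 : p.primeCompl), LocalizedModule.mk_eq] at h1
    obtain ⟨c, hc⟩ := h1
    refine ⟨c.1, c.2, ?_⟩
    simpa [Submonoid.smul_def] using hc
  have hfg : K.FG := IsNoetherian.noetherian K
  obtain ⟨t, ht⟩ := hfg
  have hts : ∀ k ∈ t, k ∈ K := fun k hk => ht ▸ Submodule.subset_span hk
  choose! s hs1 hs2 using hK
  refine ⟨∏ k ∈ t, s k, ?_, ?_⟩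
  · intro hmem
    obtain ⟨k, hk, hkp⟩ := (Ideal.IsPrime.prod_mem_iff).mp hmem
    exact hs1 k (hts k hk) hkp
  · intro m hm
    have hmK : m ∈ K := hm
    rw [← ht] at hmK
    refine Submodule.span_induction (p := fun m _ => (∏ k ∈ t, s k) • m = 0) ?_ ?_ ?_ ?_ hmK
    · intro k hk
      rw [← Finset.prod_erase_mul t s hk, mul_smul, hs2 k (hts k hk), smul_zero]
    · exact smul_zero _
    · intro x y _ _ hx hy
      rw [smul_add, hx, hy, add_zero]
    · intro r x _ hx
      rw [smul_comm, hx, smul_zero]

theorem isSMulRegular_of_smul_ker (q : Ideal A) [q.IsPrime] (a g : A) (hg : g ∉ q) (M : Type u)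
    [AddCommGroup M] [Module A M] (h : ∀ m : M, a • m = 0 → g • m = 0) :
    IsSMulRegular (LocalizedModule q.primeCompl M) (algebraMap A (Localization.AtPrime q) a) := by
  rw [isSMulRegular_iff_right_eq_zero_of_smul]
  intro x hx
  induction x using LocalizedModule.induction_on with
  | h m s =>
    rw [algebraMap_smul, LocalizedModule.smul'_mk, ← LocalizedModule.zero_mk s,
      LocalizedModule.mk_eq] at hx
    obtain ⟨c, hc⟩ := hx
    have h1 : a • (c.1 • s.1 • m) = 0 := by
      have : c • s • (0 : M) = 0 := by simp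
      rw [this] at hc
      rw [smul_comm a c.1, smul_comm a s.1]
      simpa [Submonoid.smul_def] using hc
    have h2 := h _ h1
    rw [← LocalizedModule.zero_mk s, LocalizedModule.mk_eq]
    refine ⟨⟨g, hg⟩ * c, ?_⟩
    simp only [smul_zero]
    rw [mul_smul]
    simpa [Submonoid.smul_def] using h2

theorem exists_spread (p : Ideal A) [p.IsPrime] (rs : List A) :
    ∀ (M : Type u) [AddCommGroup M] [Module A M] [Module.Finite A M],
      IsWeaklyRegular (LocalizedModule p.primeCompl M)
        (rs.map (algebraMap A (Localization.AtPrime p))) →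
      ∃ g : A, g ∉ p ∧ ∀ (q : Ideal A) [q.IsPrime], g ∉ q →
        IsWeaklyRegular (LocalizedModule q.primeCompl M)
          (rs.map (algebraMap A (Localization.AtPrime q))) := by
  induction rs with
  | nil =>
    intro M _ _ _ _
    exact ⟨1, fun h => ‹p.IsPrime›.ne_top ((Ideal.eq_top_iff_one p).mpr h),
      fun q _ _ => by simp⟩
  | cons a rs ih =>
    intro M _ _ _ h
    rw [List.map_cons, isWeaklyRegular_cons_iff] at h
    obtain ⟨g2, hg2, hker⟩ := exists_smul_ker_eq_zero p a M h.1
    have h2 := ((quotEquiv p a M).isWeaklyRegular_congr _).mp h.2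
    obtain ⟨g1, hg1, hq⟩ := ih (QuotSMulTop a M) h2
    refine ⟨g1 * g2, fun hmem => (‹p.IsPrime›.mem_or_mem hmem).elim hg1 hg2, ?_⟩
    intro q _ hgq
    have hq1 : g1 ∉ q := fun hh => hgq (q.mul_mem_right _ hh)
    have hq2 : g2 ∉ q := fun hh => hgq (q.mul_mem_left _ hh)
    rw [List.map_cons, isWeaklyRegular_cons_iff]
    exact ⟨isSMulRegular_of_smul_ker q a g2 hq2 M hker,
      ((quotEquiv q a M).isWeaklyRegular_congr _).mpr (hq q hq1)⟩

open Groth.Agent.Lib.Helper16.Depth in
theorem idealDepth_spread (I : Ideal A) (M : Type u) [AddCommGroup M] [Module A M]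
    [Module.Finite A M] (p : PrimeSpectrum A) (e : ℕ)
    (he : LocCoh.idealDepth (I.map (algebraMap A (Localization.AtPrime p.asIdeal)))
      (LocalizedModule p.asIdeal.primeCompl M) = e) :
    ∃ U : Set (PrimeSpectrum A), IsOpen U ∧
      (U ∩ PrimeSpectrum.zeroLocus (p.asIdeal : Set A)).Nonempty ∧
      ∀ q : PrimeSpectrum A, q ∈ U → p ≤ q → (e : ℕ∞) ≤
        LocCoh.idealDepth (I.map (algebraMap A (Localization.AtPrime q.asIdeal)))
          (LocalizedModule q.asIdeal.primeCompl M) := by
  have h1 := (le_idealDepth_iff _ _ e).mp he.ge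
  rcases h1 with h1 | h1
  · rw [idealDepth_eq_top_of_smul_top_eq_top _ _ h1] at he
    exact absurd he (ENat.top_ne_natCast e)
  · obtain ⟨rs', hlen, hreg, hmem⟩ := h1
    obtain ⟨as, haslen, hasI, hasreg⟩ := exists_lift I p.asIdeal rs' hmem
    obtain ⟨g, hg, hq⟩ := exists_spread p.asIdeal as M (hasreg _ hreg)
    refine ⟨PrimeSpectrum.basicOpen g, (PrimeSpectrum.basicOpen g).2, ⟨p, hg, ?_⟩, ?_⟩
    · rw [PrimeSpectrum.mem_zeroLocus]
    · intro q hqU _
      rw [le_idealDepth_iff]
      right
      refine ⟨as.map (algebraMap A (Localization.AtPrime q.asIdeal)), by simp [haslen, hlen],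
        hq q.asIdeal hqU, ?_⟩
      intro r hr
      obtain ⟨a, ha, rfl⟩ := List.mem_map.mp hr
      exact Ideal.mem_map_of_mem _ (hasI a ha)

end Spread

end Groth.Agent.Lib.Helper3.DepthSpread
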