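import Mathlib

/-!
# Minimal primes of a direct limit of rings with faithfully flat transition maps

`flat_of`: the maps into a direct limit with flat transition maps are flat (equational criterion).
`main`: the number of minimal primes of the colimit is the supremum of the numbers of minimal
primes of the members.
-/

set_option autoImplicit false
set_option linter.style.haveILetI false
set_option linter.unusedSectionVars false
set_option linter.unusedTactic false
universe u

namespace Groth.Agent.Lib.Helper3.DirectLimitMinPrimes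

open Ring

section

variable {ι : Type u} [Preorder ι] [IsDirected ι (· ≤ ·)] [Nonempty ι] (G : ι → Type u)
  [∀ i, CommRing (G i)] (f : ∀ i j, i ≤ j → G i →+* G j)
  [DirectedSystem G fun i j h => f i j h]

/-- the canonical maps into the direct limit are flat if all transition maps are -/
theorem flat_of (hf : ∀ i j (h : i ≤ j), letI := (f i j h).toAlgebra
      Module.Flat (G i) (G j)) (i : ι) :
    letI := (DirectLimit.of G (fun i j h => ⇑(f i j h)) i).toAlgebra
    Module.Flat (G i) (DirectLimit G fun i j h => ⇑(f i j h)) := by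
  letI := (DirectLimit.of G (fun i j h => ⇑(f i j h)) i).toAlgebra
  rw [Module.Flat.iff_forall_isTrivialRelation]
  intro l a x hax
  have hx : ∀ k, ∃ j, ∃ s : G j, DirectLimit.of G (fun i j h => ⇑(f i j h)) j s = x k :=
    fun k => DirectLimit.exists_of (x k)
  choose jx sx hsx using hx
  obtain ⟨j0, hj0⟩ := Finite.exists_le jx
  obtain ⟨j1, hij1, hj01⟩ := exists_ge_ge i j0
  let s : Fin l → G j1 := fun k => f (jx k) j1 ((hj0 k).trans hj01) (sx k)
  have hs : ∀ k, DirectLimit.of G (fun i j h => ⇑(f i j h)) j1 (s k) = x k := by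
    intro k
    rw [← hsx k]
    exact DirectLimit.of_f (f := fun i j h => ⇑(f i j h)) ((hj0 k).trans hj01) (sx k)
  have h0 : DirectLimit.of G (fun i j h => ⇑(f i j h)) j1 (∑ k, f i j1 hij1 (a k) * s k) = 0 := by
    rw [map_sum, ← hax]
    refine Finset.sum_congr rfl fun k _ => ?_
    rw [map_mul, hs, Algebra.smul_def]
    congr 1
    exact DirectLimit.of_f (f := fun i j h => ⇑(f i j h)) hij1 (a k)
  obtain ⟨j2, hj12, h2⟩ := DirectLimit.of.zero_exact h0
  letI := (f i j2 (hij1.trans hj12)).toAlgebra
  haveI := hf i j2 (hij1.trans hj12)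
  have hrel : ∑ k, a k • (f j1 j2 hj12 (s k)) = 0 := by
    rw [← h2, map_sum]
    refine Finset.sum_congr rfl fun k _ => ?_
    rw [map_mul, Algebra.smul_def]
    congr 1
    exact (DirectedSystem.map_map (f := fun i j h => f i j h) hij1 hj12 (a k)).symm
  obtain ⟨m, b, y, hy1, hy2⟩ := (Module.Flat.iff_forall_isTrivialRelation (R := G i) (M := G j2)).mp
    (hf i j2 (hij1.trans hj12)) hrel
  refine ⟨m, b, fun t => DirectLimit.of G (fun i j h => ⇑(f i j h)) j2 (y t), ?_, hy2⟩
  intro k
  rw [← hs k, ← DirectLimit.of_f (f := fun i j h => ⇑(f i j h)) hj12 (s k)]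
  change DirectLimit.of G (fun i j h => ⇑(f i j h)) j2 (f j1 j2 hj12 (s k)) = _
  have hy1k : f j1 j2 hj12 (s k) = ∑ t, b k t • y t := hy1 k
  rw [hy1k, map_sum]
  refine Finset.sum_congr rfl fun t _ => ?_
  rw [Algebra.smul_def, Algebra.smul_def, map_mul]
  congr 1
  exact DirectLimit.of_f (f := fun i j h => ⇑(f i j h)) (hij1.trans hj12) (b k t)

/-- contraction of a minimal prime of the colimit is a minimal prime -/
theorem comap_mem_minimalPrimes (hf : ∀ i j (h : i ≤ j), letI := (f i j h).toAlgebra
      Module.Flat (G i) (G j)) (i : ι) (q : Ideal (DirectLimit G fun i j h => ⇑(f i j h)))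
    (hq : q ∈ minimalPrimes (DirectLimit G fun i j h => ⇑(f i j h))) :
    q.comap (DirectLimit.of G (fun i j h => ⇑(f i j h)) i) ∈ minimalPrimes (G i) := by
  letI := (DirectLimit.of G (fun i j h => ⇑(f i j h)) i).toAlgebra
  haveI : Module.Flat (G i) (DirectLimit G fun i j h => ⇑(f i j h)) := flat_of G f hf i
  haveI : q.IsPrime := hq.1.1
  refine ⟨⟨Ideal.comap_isPrime _ _, bot_le⟩, ?_⟩
  rintro p' ⟨hp', -⟩ hle
  haveI := hp'
  haveI : q.LiesOver (q.comap (DirectLimit.of G (fun i j h => ⇑(f i j h)) i)) := ⟨rfl⟩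
  obtain ⟨P, hPq, hP, hPo⟩ := Ideal.exists_ideal_le_liesOver_of_le (p := p')
    (q := q.comap (DirectLimit.of G (fun i j h => ⇑(f i j h)) i)) q hle
  have hPq' : P = q := le_antisymm hPq (hq.2 ⟨hP, bot_le⟩ hPq)
  subst hPq'
  rw [hPo.over]
  exact le_rfl

/-- every minimal prime of a member of the system is the contraction of a minimal prime of the
colimit, if the transition maps are injective -/
theorem minimalPrimes_subset_image (hinj : ∀ i j h, Function.Injective (f i j h)) (i : ι) :
    minimalPrimes (G i) ⊆ Ideal.comap (DirectLimit.of G (fun i j h => ⇑(f i j h)) i) ''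
      minimalPrimes (DirectLimit G fun i j h => ⇑(f i j h)) := by
  have h := Ideal.minimalPrimes_comap_subset (DirectLimit.of G (fun i j h => ⇑(f i j h)) i) ⊥
  rwa [Ideal.comap_bot_of_injective _ (DirectLimit.of_injective f hinj i)] at h

/-- finitely many minimal primes of the colimit are separated at a finite stage -/
theorem exists_injOn (t : Set (Ideal (DirectLimit G fun i j h => ⇑(f i j h)))) (ht : t.Finite)
    (htm : t ⊆ minimalPrimes (DirectLimit G fun i j h => ⇑(f i j h))) :
    ∃ i, Set.InjOn (Ideal.comap (DirectLimit.of G (fun i j h => ⇑(f i j h)) i)) t := by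
  haveI : Finite t := ht
  have key : ∀ p : t × t, ∃ j, p.1.1 ≠ p.2.1 → ∃ y : G j,
      DirectLimit.of G (fun i j h => ⇑(f i j h)) j y ∈ p.1.1 ∧
      DirectLimit.of G (fun i j h => ⇑(f i j h)) j y ∉ p.2.1 := by
    rintro ⟨⟨q, hq⟩, ⟨q', hq'⟩⟩
    by_cases hne : q = q'
    · exact ⟨Classical.arbitrary ι, fun h => absurd hne h⟩
    · have hnle : ¬ q ≤ q' := fun hle =>
        hne (le_antisymm hle ((htm hq').2 ⟨(htm hq).1.1, bot_le⟩ hle))
      obtain ⟨x, hxq, hxq'⟩ := Set.not_subset.mp hnle
      obtain ⟨j, y, rfl⟩ := DirectLimit.exists_of x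
      exact ⟨j, fun _ => ⟨y, hxq, hxq'⟩⟩
  choose J hJ using key
  obtain ⟨i, hi⟩ := Finite.exists_le J
  refine ⟨i, fun q hq q' hq' heq => ?_⟩
  by_contra hne
  obtain ⟨y, hy1, hy2⟩ := hJ ⟨⟨q, hq⟩, ⟨q', hq'⟩⟩ hne
  have h1 : f _ i (hi ⟨⟨q, hq⟩, ⟨q', hq'⟩⟩) y ∈
      q.comap (DirectLimit.of G (fun i j h => ⇑(f i j h)) i) := by
    rw [Ideal.mem_comap]
    have := DirectLimit.of_f (f := fun i j h => ⇑(f i j h)) (hi ⟨⟨q, hq⟩, ⟨q', hq'⟩⟩) y
    rw [this]
    exact hy1
  have heq' : q.comap (DirectLimit.of G (fun i j h => ⇑(f i j h)) i) =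
      q'.comap (DirectLimit.of G (fun i j h => ⇑(f i j h)) i) := heq
  rw [heq', Ideal.mem_comap] at h1
  have := DirectLimit.of_f (f := fun i j h => ⇑(f i j h)) (hi ⟨⟨q, hq⟩, ⟨q', hq'⟩⟩) y
  rw [this] at h1
  exact hy2 h1

theorem main (hf : ∀ i j (h : i ≤ j), letI := (f i j h).toAlgebra
      Module.FaithfullyFlat (G i) (G j)) :
    (minimalPrimes (Ring.DirectLimit G fun i j h => ⇑(f i j h))).encard =
      ⨆ i, (minimalPrimes (G i)).encard := by
  have hfl : ∀ i j (h : i ≤ j), letI := (f i j h).toAlgebra; Module.Flat (G i) (G j) := by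
    intro i j h
    letI := (f i j h).toAlgebra
    haveI := hf i j h
    infer_instance
  have hinj : ∀ i j h, Function.Injective (f i j h) := by
    intro i j h
    letI := (f i j h).toAlgebra
    haveI := hf i j h
    exact FaithfulSMul.algebraMap_injective (G i) (G j)
  apply le_antisymm
  · rw [← ENat.forall_natCast_le_iff_le]
    intro n hn
    obtain ⟨t, hts, htn⟩ := Set.exists_subset_encard_eq hn
    have htfin : t.Finite := Set.finite_of_encard_eq_coe htn
    obtain ⟨i, hi⟩ := exists_injOn G f t htfin hts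
    calc (n : ℕ∞) = t.encard := htn.symm
      _ = (Ideal.comap (DirectLimit.of G (fun i j h => ⇑(f i j h)) i) '' t).encard :=
          hi.encard_image.symm
      _ ≤ (minimalPrimes (G i)).encard := Set.encard_le_encard (by
          rintro _ ⟨q, hq, rfl⟩
          exact comap_mem_minimalPrimes G f hfl i q (hts hq))
      _ ≤ ⨆ i, (minimalPrimes (G i)).encard := le_iSup (fun i => (minimalPrimes (G i)).encard) i
  · apply iSup_le
    intro i
    calc (minimalPrimes (G i)).encard
        ≤ (Ideal.comap (DirectLimit.of G (fun i j h => ⇑(f i j h)) i) ''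
          minimalPrimes (DirectLimit G fun i j h => ⇑(f i j h))).encard :=
          Set.encard_le_encard (minimalPrimes_subset_image G f hinj i)
      _ ≤ _ := Set.encard_image_le _ _

end

end Groth.Agent.Lib.Helper3.DirectLimitMinPrimes
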