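import Groth.Agent.Lib.Helper3.RelStrFun
import Groth.Agent.S3596
import Groth.Agent.Lib.Helper29.Ample
import Groth.Agent.Lib.Helper29.Desc1
import Groth.Agent.Lib.Helper29.Twist2
import Groth.Agent.Lib.Helper3.TwistTriv
/-!
# Phi^* O(n) ≅ O(n)|_{G(phi)} for the morphism G(phi) -> Proj A induced by a graded homomorphism (A_+ generated in degree one)
-/
set_option autoImplicit false
set_option linter.unusedSectionVars false
universe u
open CategoryTheory CategoryTheory.Limits AlgebraicGeometry Opposite TopologicalSpace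
open HomogeneousLocalization
open scoped HomogeneousIdeal

namespace Groth.Agent.Lib.Helper3.DomTwist

section Sub
variable {A σ : Type u} [CommRing A] [SetLike σ A] [AddSubgroupClass σ A]
  (𝒜 : ℕ → σ) [GradedRing 𝒜] {d : ℕ} (hd : 0 < d) {f : A} (hf : f ∈ 𝒜 d)

theorem awayι_eq :
    Proj.awayι 𝒜 f hf hd = Spec.map (Proj.basicOpenIsoAway 𝒜 f hf hd).inv ≫
      (Proj.isAffineOpen_basicOpen 𝒜 f hf hd).fromSpec := by
  rw [Proj.awayι, IsAffineOpen.fromSpec, ← Category.assoc]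
  congr 1
  apply Iso.inv_ext
  rw [Proj.basicOpenIsoSpec_hom, Proj.basicOpenToSpec, Category.assoc, ← Category.assoc (Spec.map _),
    ← Spec.map_comp]
  have h1 : (Proj.basicOpenIsoAway 𝒜 f hf hd).inv ≫ Proj.awayToSection 𝒜 f = 𝟙 _ :=
    (Proj.basicOpenIsoAway 𝒜 f hf hd).inv_hom_id
  rw [h1, Spec.map_id, Category.id_comp]
  exact IsAffineOpen.toSpecΓ_isoSpec_inv _

/-- the standard chart of `Proj` on functions -/
theorem awayToSection_awayι_appLE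
    (e : (⊤ : (Spec (CommRingCat.of (Away 𝒜 f))).Opens) ≤ Proj.awayι 𝒜 f hf hd ⁻¹ᵁ Proj.basicOpen 𝒜 f) :
    Proj.awayToSection 𝒜 f ≫ (Proj.awayι 𝒜 f hf hd).appLE (Proj.basicOpen 𝒜 f) ⊤ e =
      (Scheme.ΓSpecIso (CommRingCat.of (Away 𝒜 f))).inv := by
  have key : ∀ (k : Spec (CommRingCat.of (Away 𝒜 f)) ⟶ Proj 𝒜)
      (hk : k = Spec.map (Proj.basicOpenIsoAway 𝒜 f hf hd).inv ≫
        (Proj.isAffineOpen_basicOpen 𝒜 f hf hd).fromSpec)
      (e : (⊤ : (Spec (CommRingCat.of (Away 𝒜 f))).Opens) ≤ k ⁻¹ᵁ Proj.basicOpen 𝒜 f),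
      Proj.awayToSection 𝒜 f ≫ k.appLE (Proj.basicOpen 𝒜 f) ⊤ e =
        (Scheme.ΓSpecIso (CommRingCat.of (Away 𝒜 f))).inv := by
    rintro k rfl e
    have e1 : (⊤ : (Spec Γ(Proj 𝒜, Proj.basicOpen 𝒜 f)).Opens) ≤
        (Proj.isAffineOpen_basicOpen 𝒜 f hf hd).fromSpec ⁻¹ᵁ Proj.basicOpen 𝒜 f := by
      intro x _
      have : (Proj.isAffineOpen_basicOpen 𝒜 f hf hd).fromSpec.base x ∈
          Set.range (Proj.isAffineOpen_basicOpen 𝒜 f hf hd).fromSpec.base := ⟨x, rfl⟩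
      rw [IsAffineOpen.range_fromSpec] at this
      exact this
    rw [← Scheme.Hom.appLE_comp_appLE _ _ (Proj.basicOpen 𝒜 f) ⊤ ⊤ e1 (fun _ _ => trivial),
      RelGlued.fromSpec_appLE_top]
    have h2 : (Spec.map (Proj.basicOpenIsoAway 𝒜 f hf hd).inv).appLE ⊤ ⊤ (fun _ _ => trivial) =
        (Spec.map (Proj.basicOpenIsoAway 𝒜 f hf hd).inv).appTop := by
      rw [Scheme.Hom.appTop, Scheme.Hom.app_eq_appLE]
      rfl
    rw [h2, ← Scheme.ΓSpecIso_inv_naturality, ← Category.assoc]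
    have h1 : Proj.awayToSection 𝒜 f ≫ (Proj.basicOpenIsoAway 𝒜 f hf hd).inv = 𝟙 _ :=
      (Proj.basicOpenIsoAway 𝒜 f hf hd).hom_inv_id
    rw [h1, Category.id_comp]
  exact key _ (awayι_eq 𝒜 hd hf) e

end Sub

end Groth.Agent.Lib.Helper3.DomTwist

open CategoryTheory CategoryTheory.Limits AlgebraicGeometry Opposite TopologicalSpace
open HomogeneousLocalization
open scoped HomogeneousIdeal
open Groth.Agent.Lib.Helper29

namespace Groth.Agent.Lib.Helper3.DomTwist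

theorem appLE_congr_hom {X Y : Scheme.{u}} {k₁ k₂ : X ⟶ Y} (hk : k₁ = k₂) (U : Y.Opens) (V : X.Opens)
    (e₁ : V ≤ k₁ ⁻¹ᵁ U) (e₂ : V ≤ k₂ ⁻¹ᵁ U) : k₁.appLE U V e₁ = k₂.appLE U V e₂ := by
  subst hk; rfl

theorem appLE_top_injective {X Y : Scheme.{u}} (k : X ⟶ Y) [IsOpenImmersion k] (T : Y.Opens)
    (hT : T ≤ k.opensRange) (e : (⊤ : X.Opens) ≤ k ⁻¹ᵁ T) : Function.Injective (k.appLE T ⊤ e) := by
  have h1 : IsIso (k.app T) := Scheme.Hom.isIso_app k T hT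
  have h2 : Function.Injective (k.app T) := (ConcreteCategory.bijective_of_isIso (k.app T)).1
  have h3 : Function.Injective (X.presheaf.map (homOfLE e).op) :=
    (QCoh.rres_eq_bijective X (le_antisymm e le_top)).1
  rw [Scheme.Hom.appLE]
  exact h3.comp h2

section Claim
variable {R A : Type u} [CommRing R] [CommRing A] [Algebra R A] (𝒜 : ℕ → Submodule R A) [GradedAlgebra 𝒜]
    {B : Type u} [CommRing B] [Algebra R B] (ℬ : ℕ → Submodule R B) [GradedAlgebra ℬ] (φ : 𝒜 →+*ᵍ ℬ)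
    (p : (PCone.dom φ : Scheme.{u}) ⟶ Proj 𝒜)
    (hp : ∀ (d : ℕ) (f : A) (hd : 0 < d) (hf : f ∈ 𝒜 d),
        PCone.chart φ hf hd ≫ p =
          Spec.map (CommRingCat.ofHom (HomogeneousLocalization.Away.map φ f)) ≫ Proj.awayι 𝒜 f hf hd)

include hp in
theorem image_preimage_le {d : ℕ} (hd : 0 < d) {h : A} (hh : h ∈ 𝒜 d) :
    (PCone.dom φ).ι ''ᵁ (p ⁻¹ᵁ Proj.basicOpen 𝒜 h) ≤ Proj.basicOpen ℬ (φ h) := by
  rw [Groth.Agent.S3596.preimage_basicOpen 𝒜 ℬ φ p hp hh hd]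
  rintro _ ⟨x, hx, rfl⟩
  exact hx

include hp in
/-- **The morphism `G(φ) ⟶ Proj 𝒜` on functions over a standard open.** -/
theorem p_app_awayToSection {d : ℕ} (hd : 0 < d) {h : A} (hh : h ∈ 𝒜 d) :
    Proj.awayToSection 𝒜 h ≫ p.app (Proj.basicOpen 𝒜 h) ≫
      ((PCone.dom φ).ι.appIso (p ⁻¹ᵁ Proj.basicOpen 𝒜 h)).inv =
    CommRingCat.ofHom (Away.map φ h) ≫ Proj.awayToSection ℬ (φ h) ≫
      (Proj ℬ).presheaf.map (homOfLE (image_preimage_le 𝒜 ℬ φ p hp hd hh)).op := by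
  have hφh : φ h ∈ ℬ d := φ.map_mem hh
  have hpre := Groth.Agent.S3596.preimage_basicOpen 𝒜 ℬ φ p hp hh hd
  -- the comparison map
  have hTle : (PCone.dom φ).ι ''ᵁ (p ⁻¹ᵁ Proj.basicOpen 𝒜 h) ≤ (Proj.awayι ℬ (φ h) hφh hd).opensRange := by
    rw [Proj.opensRange_awayι]
    exact image_preimage_le 𝒜 ℬ φ p hp hd hh
  have hrange : ∀ z, (Proj.awayι ℬ (φ h) hφh hd).base z ∈ Proj.basicOpen ℬ (φ h) := by
    intro z
    rw [← Proj.opensRange_awayι ℬ (φ h) hφh hd]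
    exact ⟨z, rfl⟩
  have eT : (⊤ : (Spec (CommRingCat.of (Away ℬ (φ h)))).Opens) ≤
      Proj.awayι ℬ (φ h) hφh hd ⁻¹ᵁ ((PCone.dom φ).ι ''ᵁ (p ⁻¹ᵁ Proj.basicOpen 𝒜 h)) := by
    intro z _
    have h1 : (Proj.awayι ℬ (φ h) hφh hd).base z ∈ Proj.basicOpen ℬ (φ h) := hrange z
    have h2 := congrArg (fun m => m.base z) (Groth.Agent.S3596.chart_ι 𝒜 ℬ φ hh hd)
    simp only [Scheme.Hom.comp_base, TopCat.hom_comp, ContinuousMap.comp_apply] at h2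
    refine ⟨(PCone.chart φ hh hd).base z, ?_, h2⟩
    rw [hpre]
    change (PCone.dom φ).ι.base ((PCone.chart φ hh hd).base z) ∈ Proj.basicOpen ℬ (φ h)
    rw [h2]
    exact h1
  have hmono : Mono ((Proj.awayι ℬ (φ h) hφh hd).appLE _ ⊤ eT) :=
    ConcreteCategory.mono_of_injective _ (appLE_top_injective _ _ hTle eT)
  rw [← cancel_mono ((Proj.awayι ℬ (φ h) hφh hd).appLE _ ⊤ eT)]
  have e₁ : p ⁻¹ᵁ Proj.basicOpen 𝒜 h ≤
      (PCone.dom φ).ι ⁻¹ᵁ ((PCone.dom φ).ι ''ᵁ (p ⁻¹ᵁ Proj.basicOpen 𝒜 h)) :=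
    ((PCone.dom φ).ι.preimage_image_eq _).ge
  have e₂ : (⊤ : (Spec (CommRingCat.of (Away ℬ (φ h)))).Opens) ≤
      PCone.chart φ hh hd ⁻¹ᵁ (p ⁻¹ᵁ Proj.basicOpen 𝒜 h) := by
    intro z _
    have h2 := congrArg (fun m => m.base z) (Groth.Agent.S3596.chart_ι 𝒜 ℬ φ hh hd)
    simp only [Scheme.Hom.comp_base, TopCat.hom_comp, ContinuousMap.comp_apply] at h2
    rw [hpre]
    change (PCone.dom φ).ι.base ((PCone.chart φ hh hd).base z) ∈ Proj.basicOpen ℬ (φ h)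
    rw [h2]
    exact hrange z
  have hΨ : (Proj.awayι ℬ (φ h) hφh hd).appLE _ ⊤ eT =
      (PCone.dom φ).ι.appLE _ (p ⁻¹ᵁ Proj.basicOpen 𝒜 h) e₁ ≫
        (PCone.chart φ hh hd).appLE (p ⁻¹ᵁ Proj.basicOpen 𝒜 h) ⊤ e₂ := by
    rw [Scheme.Hom.appLE_comp_appLE]
    exact appLE_congr_hom (Groth.Agent.S3596.chart_ι 𝒜 ℬ φ hh hd).symm _ _ _ _
  have e₃ : (⊤ : (Spec (CommRingCat.of (Away 𝒜 h))).Opens) ≤
      Proj.awayι 𝒜 h hh hd ⁻¹ᵁ Proj.basicOpen 𝒜 h := by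
    intro z _
    change (Proj.awayι 𝒜 h hh hd).base z ∈ Proj.basicOpen 𝒜 h
    rw [← Proj.opensRange_awayι 𝒜 h hh hd]
    exact ⟨z, rfl⟩
  -- left hand side
  have hL : (Proj.awayToSection 𝒜 h ≫ p.app (Proj.basicOpen 𝒜 h) ≫
      ((PCone.dom φ).ι.appIso (p ⁻¹ᵁ Proj.basicOpen 𝒜 h)).inv) ≫
      (Proj.awayι ℬ (φ h) hφh hd).appLE _ ⊤ eT =
      CommRingCat.ofHom (Away.map φ h) ≫ (Scheme.ΓSpecIso (CommRingCat.of (Away ℬ (φ h)))).inv := by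
    rw [hΨ]
    simp only [Category.assoc]
    rw [Scheme.Hom.appIso_inv_appLE_assoc, Scheme.Hom.map_appLE, Scheme.Hom.app_eq_appLE,
      Scheme.Hom.appLE_comp_appLE]
    rw [appLE_congr_hom (hp d h hd hh) (Proj.basicOpen 𝒜 h) ⊤ _
      (fun z _ => e₃ (show (Spec.map (CommRingCat.ofHom (Away.map φ h))).base z ∈ ⊤ from trivial))]
    rw [← Scheme.Hom.appLE_comp_appLE _ _ (Proj.basicOpen 𝒜 h) ⊤ ⊤ e₃ (fun _ _ => trivial),
      ← Category.assoc, awayToSection_awayι_appLE 𝒜 hd hh e₃]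
    have h2 : (Spec.map (CommRingCat.ofHom (Away.map φ h))).appLE ⊤ ⊤ (fun _ _ => trivial) =
        (Spec.map (CommRingCat.ofHom (Away.map φ h))).appTop := by
      rw [Scheme.Hom.appTop, Scheme.Hom.app_eq_appLE]
      rfl
    rw [h2, ← Scheme.ΓSpecIso_inv_naturality]
  have hR : (CommRingCat.ofHom (Away.map φ h) ≫ Proj.awayToSection ℬ (φ h) ≫
      (Proj ℬ).presheaf.map (homOfLE (image_preimage_le 𝒜 ℬ φ p hp hd hh)).op) ≫
      (Proj.awayι ℬ (φ h) hφh hd).appLE _ ⊤ eT =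
      CommRingCat.ofHom (Away.map φ h) ≫ (Scheme.ΓSpecIso (CommRingCat.of (Away ℬ (φ h)))).inv := by
    simp only [Category.assoc]
    rw [Scheme.Hom.map_appLE, awayToSection_awayι_appLE ℬ hd hφh]
  rw [hL, hR]

end Claim

end Groth.Agent.Lib.Helper3.DomTwist

open CategoryTheory CategoryTheory.Limits AlgebraicGeometry Opposite TopologicalSpace
open HomogeneousLocalization
open scoped HomogeneousIdeal
open Groth.Agent.Lib.Helper29
open Groth.Agent.Lib.Helper3.TildeQC Groth.Agent.Lib.Helper3.TwistTriv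

namespace Groth.Agent.Lib.Helper3.DomTwist

section Cover
variable {A σ : Type u} [CommRing A] [SetLike σ A] [AddSubgroupClass σ A] (𝒜 : ℕ → σ) [GradedRing 𝒜]

theorem exists_deg_one_notMem' (hgen : (𝒜₊).toIdeal = Ideal.span (𝒜 1 : Set A))
    (y : ProjectiveSpectrum 𝒜) : ∃ f : 𝒜 1, (f : A) ∉ y.asHomogeneousIdeal := by
  by_contra hcon
  push Not at hcon
  apply y.not_irrelevant_le
  intro x hx
  have hx' : x ∈ (𝒜₊).toIdeal := hx
  rw [hgen] at hx'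
  exact (Ideal.span_le.mpr (fun f hf => hcon ⟨f, hf⟩)) hx'

end Cover

section Claim
variable {R A : Type u} [CommRing R] [CommRing A] [Algebra R A] (𝒜 : ℕ → Submodule R A) [GradedAlgebra 𝒜]
    {B : Type u} [CommRing B] [Algebra R B] (ℬ : ℕ → Submodule R B) [GradedAlgebra ℬ] (φ : 𝒜 →+*ᵍ ℬ)
    (p : (PCone.dom φ : Scheme.{u}) ⟶ Proj 𝒜)
    (hp : ∀ (d : ℕ) (f : A) (hd : 0 < d) (hf : f ∈ 𝒜 d),
        PCone.chart φ hf hd ≫ p =
          Spec.map (CommRingCat.ofHom (HomogeneousLocalization.Away.map φ f)) ≫ Proj.awayι 𝒜 f hf hd)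

include hp in
theorem image_preimage_le_W {d : ℕ} (hd : 0 < d) {h : A} (hh : h ∈ 𝒜 d)
    (W : (Proj 𝒜).Opens) (hW : W = Proj.basicOpen 𝒜 h) :
    (PCone.dom φ).ι ''ᵁ (p ⁻¹ᵁ W) ≤ Proj.basicOpen ℬ (φ h) := by
  subst hW
  exact image_preimage_le 𝒜 ℬ φ p hp hd hh

include hp in
/-- the morphism on functions over an open equal to a standard open -/
theorem p_app_W {d : ℕ} (hd : 0 < d) {h : A} (hh : h ∈ 𝒜 d)
    (W : (Proj 𝒜).Opens) (hW : W = Proj.basicOpen 𝒜 h) (x : Away 𝒜 h) :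
    ((PCone.dom φ).ι.appIso (p ⁻¹ᵁ W)).inv
      (p.app W ((Proj 𝒜).presheaf.map (homOfLE (le_of_eq hW)).op (Proj.awayToSection 𝒜 h x))) =
    (Proj ℬ).presheaf.map (homOfLE (image_preimage_le_W 𝒜 ℬ φ p hp hd hh W hW)).op
      (Proj.awayToSection ℬ (φ h) (Away.map φ h x)) := by
  subst hW
  have h1 : (Proj 𝒜).presheaf.map (homOfLE (le_of_eq (rfl : Proj.basicOpen 𝒜 h = _))).op = 𝟙 _ :=
    (Proj 𝒜).presheaf.map_id _
  rw [h1]
  exact congr($(p_app_awayToSection 𝒜 ℬ φ p hp hd hh) x)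

include hp in
/-- **`Φ^* O(n) ≅ O(n)|_{G(φ)}`** when `𝒜₊` is generated in degree one. -/
theorem nonempty_iso_pullback_twist_dom
    (hgen : (HomogeneousIdeal.irrelevant 𝒜).toIdeal = Ideal.span (𝒜 1 : Set A)) (n : ℤ) :
    Nonempty ((Scheme.Modules.pullback p).obj (GrTwist.twist 𝒜 n) ≅
      (GrTwist.twist ℬ n).restrict (PCone.dom φ).ι) := by
  have hE : n = ((n.toNat : ℤ) - (-n).toNat) * (1 : ℕ) := by
    rw [Int.toNat_sub_toNat_neg]; simp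
  have hle : ∀ i : 𝒜 1, (PCone.dom φ).ι ''ᵁ (p ⁻¹ᵁ Proj.basicOpen 𝒜 i.1) ≤
      Proj.basicOpen ℬ (φ i.1) := fun i => image_preimage_le 𝒜 ℬ φ p hp Nat.one_pos i.2
  refine Desc.exists_pullback_iso p (GrTwist.twist 𝒜 n) ((GrTwist.twist ℬ n).restrict (PCone.dom φ).ι)
    (ι := 𝒜 1) (fun i => Proj.basicOpen 𝒜 i.1) ?_
    (fun i => eSec n i n.toNat (-n).toNat hE (Proj.basicOpen 𝒜 i.1) le_rfl)
    (fun i => isTriv_eSec n i n.toNat (-n).toNat hE _ le_rfl)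
    (fun i => (show Γ(GrTwist.twist ℬ n, (PCone.dom φ).ι ''ᵁ (p ⁻¹ᵁ Proj.basicOpen 𝒜 i.1)) from
      eSec n (⟨φ i.1, φ.map_mem i.2⟩ : ℬ 1) n.toNat (-n).toNat hE _ (hle i)))
    (fun i => QCoh.IsTriv.to_restrict (PCone.dom φ).ι
      (isTriv_eSec n (⟨φ i.1, φ.map_mem i.2⟩ : ℬ 1) n.toNat (-n).toNat hE _ (hle i))) ?_
  · intro y
    obtain ⟨f, hf⟩ := exists_deg_one_notMem' 𝒜 hgen y
    exact ⟨f, hf⟩
  · intro i j
    have hh : i.1 * j.1 ∈ 𝒜 (1 + 1) := SetLike.mul_mem_graded i.2 j.2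
    have hW : Proj.basicOpen 𝒜 i.1 ⊓ Proj.basicOpen 𝒜 j.1 = Proj.basicOpen 𝒜 (i.1 * j.1) :=
      (Proj.basicOpen_mul 𝒜 i.1 j.1).symm
    have hnum : i.1 ^ (2 * n.toNat) * j.1 ^ (2 * (-n).toNat) ∈ 𝒜 ((n.toNat + (-n).toNat) • (1 + 1)) := by
      have h1 : i.1 ^ (2 * n.toNat) ∈ 𝒜 ((2 * n.toNat) • 1) := SetLike.pow_mem_graded _ i.2
      have h2 : j.1 ^ (2 * (-n).toNat) ∈ 𝒜 ((2 * (-n).toNat) • 1) := SetLike.pow_mem_graded _ j.2
      have h3 := SetLike.mul_mem_graded h1 h2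
      have h4 : (2 * n.toNat) • 1 + (2 * (-n).toNat) • 1 = (n.toNat + (-n).toNat) • (1 + 1) := by
        simp only [smul_eq_mul]; ring
      exact h4 ▸ h3
    let x : Away 𝒜 (i.1 * j.1) := Away.mk 𝒜 hh (n.toNat + (-n).toNat)
      (i.1 ^ (2 * n.toNat) * j.1 ^ (2 * (-n).toNat)) hnum
    let g : Γ(Proj 𝒜, Proj.basicOpen 𝒜 i.1 ⊓ Proj.basicOpen 𝒜 j.1) :=
      (Proj 𝒜).presheaf.map (homOfLE (le_of_eq hW)).op (Proj.awayToSection 𝒜 (i.1 * j.1) x)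
    have hg : ∀ y : (Proj.basicOpen 𝒜 i.1 ⊓ Proj.basicOpen 𝒜 j.1 : (Proj 𝒜).Opens),
        ofun 𝒜 g y = Localization.mk (i.1 ^ (2 * n.toNat) * j.1 ^ (2 * (-n).toNat))
          ⟨(i.1 * j.1) ^ (n.toNat + (-n).toNat),
            pow_not_mem_of_not_mem (f := i.1 * j.1) (le_of_eq hW y.2) _⟩ := fun y => rfl
    refine ⟨g, ?_, ?_⟩
    · apply tfun_ext
      intro y
      rw [tfun_smul, hg y]
      change Localization.mk (i.1 ^ n.toNat) ⟨i.1 ^ (-n).toNat, _⟩ =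
        Localization.mk _ _ * Localization.mk (j.1 ^ n.toNat) ⟨j.1 ^ (-n).toNat, _⟩
      rw [Localization.mk_mul]
      apply mk_eq_mk_of_mul_eq
      simp only [Submonoid.coe_mul]
      ring
    · have hc := p_app_W 𝒜 ℬ φ p hp (Nat.succ_pos 1) hh _ hW x
      refine Eq.trans ?_ (QCoh.restrict_smul (PCone.dom φ).ι (M := GrTwist.twist ℬ n)
        (p ⁻¹ᵁ (Proj.basicOpen 𝒜 i.1 ⊓ Proj.basicOpen 𝒜 j.1))
        (p.app (Proj.basicOpen 𝒜 i.1 ⊓ Proj.basicOpen 𝒜 j.1) g) _).symm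
      rw [hc]
      apply tfun_ext
      intro y
      rw [tfun_smul]
      have hmap : Away.map φ (i.1 * j.1) x = Away.mk ℬ (φ.map_mem hh) (n.toNat + (-n).toNat)
          (φ (i.1 ^ (2 * n.toNat) * j.1 ^ (2 * (-n).toNat))) (φ.map_mem hnum) := Away.map_mk ..
      rw [hmap]
      change Localization.mk ((φ i.1) ^ n.toNat) ⟨(φ i.1) ^ (-n).toNat, _⟩ =
        Localization.mk (φ (i.1 ^ (2 * n.toNat) * j.1 ^ (2 * (-n).toNat)))
          ⟨(φ (i.1 * j.1)) ^ (n.toNat + (-n).toNat), _⟩ *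
          Localization.mk ((φ j.1) ^ n.toNat) ⟨(φ j.1) ^ (-n).toNat, _⟩
      rw [Localization.mk_mul]
      apply mk_eq_mk_of_mul_eq
      simp only [Submonoid.coe_mul, map_mul, map_pow]
      ring

end Claim

end Groth.Agent.Lib.Helper3.DomTwist
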