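import Groth.Agent.Lib.Helper3.TorRel
import Mathlib.LinearAlgebra.TensorProduct.Pi

/-!
# A map out of a finitely presented module killing `Tor₁` factors through a free module
-/

set_option autoImplicit false
universe u

open CategoryTheory TensorProduct

namespace Groth.Agent.Lib.Helper3.TorFactor

variable {R : Type u} [CommRing R]

/-- Module-level version of `TorRel.rTensor_eq_zero_of_tor_map_eq_zero`. -/
theorem rTensor_eq_zero_of_tor_map_eq_zero {K F M K' F' M' : Type u}
    [AddCommGroup K] [Module R K] [AddCommGroup F] [Module R F] [AddCommGroup M] [Module R M]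
    [AddCommGroup K'] [Module R K'] [AddCommGroup F'] [Module R F'] [AddCommGroup M'] [Module R M']
    (i : K →ₗ[R] F) (p : F →ₗ[R] M) (hi : Function.Injective i) (hp : Function.Surjective p)
    (hex : Function.Exact i p)
    (i' : K' →ₗ[R] F') (p' : F' →ₗ[R] M') (hi' : Function.Injective i')
    (hp' : Function.Surjective p') (hex' : Function.Exact i' p')
    (κ : K →ₗ[R] K') (a : F →ₗ[R] F') (α : M →ₗ[R] M')
    (h1 : i' ∘ₗ κ = a ∘ₗ i) (h2 : p' ∘ₗ a = α ∘ₗ p)
    (N : Type u) [AddCommGroup N] [Module R N]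
    (h : ((Tor (ModuleCat.{u} R) 1).map (ModuleCat.ofHom α)).app (ModuleCat.of R N) = 0)
    (z : K ⊗[R] N) (hz : i.rTensor N z = 0) : κ.rTensor N z = 0 := by
  have w₁ : ModuleCat.ofHom i ≫ ModuleCat.ofHom p = 0 := by
    ext x
    exact hex.apply_apply_eq_zero x
  have w₂ : ModuleCat.ofHom i' ≫ ModuleCat.ofHom p' = 0 := by
    ext x
    exact hex'.apply_apply_eq_zero x
  have hT₁ : (ShortComplex.mk _ _ w₁).ShortExact :=
    ModuleCat.shortComplex_shortExact _ hex hi hp
  have hT₂ : (ShortComplex.mk _ _ w₂).ShortExact :=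
    ModuleCat.shortComplex_shortExact _ hex' hi' hp'
  let φ : ShortComplex.mk _ _ w₁ ⟶ ShortComplex.mk _ _ w₂ :=
    { τ₁ := ModuleCat.ofHom κ
      τ₂ := ModuleCat.ofHom a
      τ₃ := ModuleCat.ofHom α
      comm₁₂ := by
        ext x
        exact congrArg (fun t => t x) h1
      comm₂₃ := by
        ext x
        exact congrArg (fun t => t x) h2 }
  exact TorRel.rTensor_eq_zero_of_tor_map_eq_zero _ _ hT₁ hT₂ φ (ModuleCat.of R N) h z hz

section Algebra

variable {n m : ℕ}

/-- The transpose of a linear map between finite free modules (in coordinates). -/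
noncomputable def transp (g : (Fin m → R) →ₗ[R] (Fin n → R)) : (Fin n → R) →ₗ[R] (Fin m → R) :=
  LinearMap.pi (fun j => Fintype.linearCombination R (fun i => g (Pi.single j 1) i))

theorem transp_single (g : (Fin m → R) →ₗ[R] (Fin n → R)) (i : Fin n) (j : Fin m) :
    transp g (Pi.single i 1) j = g (Pi.single j 1) i := by
  simp [transp]

theorem vec_expand {k : ℕ} (v : Fin k → R) : v = ∑ j, v j • (Pi.single j 1 : Fin k → R) := by
  ext l
  simp [Finset.sum_apply, Pi.single_apply]

theorem exists_factor {M M' : Type u} [AddCommGroup M] [Module R M] [AddCommGroup M']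
    [Module R M'] (α : M →ₗ[R] M') (p : (Fin n → R) →ₗ[R] M)
    (g : (Fin m → R) →ₗ[R] (Fin n → R))
    (hp : Function.Surjective p) (hex : Function.Exact g p)
    {F' : Type u} [AddCommGroup F'] [Module R F'] (p' : F' →ₗ[R] M')
    (a : (Fin n → R) →ₗ[R] F') (ha : p' ∘ₗ a = α ∘ₗ p)
    (κ : LinearMap.ker p →ₗ[R] LinearMap.ker p') (hκ : ∀ x, (κ x : F') = a x)
    (H : ∀ z : (LinearMap.ker p) ⊗[R] ((Fin m → R) ⧸ LinearMap.range (transp g)),
       (LinearMap.ker p).subtype.rTensor _ z = 0 → κ.rTensor _ z = 0) :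
    ∃ β : M →ₗ[R] F', α = p' ∘ₗ β := by
  classical
  set τ := transp g with hτ
  have hτs : ∀ i j, τ (Pi.single i 1) j = g (Pi.single j 1) i := transp_single g
  set π := (LinearMap.range τ).mkQ with hπ
  have hπτ : ∀ l, π (τ l) = 0 := fun l =>
    (Submodule.Quotient.mk_eq_zero _).2 (LinearMap.mem_range_self τ l)
  let kk : Fin m → LinearMap.ker p := fun j => ⟨g (Pi.single j 1), hex.apply_apply_eq_zero _⟩
  set z : (LinearMap.ker p) ⊗[R] ((Fin m → R) ⧸ LinearMap.range τ) :=
    ∑ j, kk j ⊗ₜ[R] π (Pi.single j 1) with hz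
  have hz0 : (LinearMap.ker p).subtype.rTensor _ z = 0 := by
    rw [hz, map_sum]
    simp only [LinearMap.rTensor_tmul, Submodule.subtype_apply, kk]
    calc ∑ j, g (Pi.single j 1) ⊗ₜ[R] π (Pi.single j 1)
        = ∑ j, ∑ i, (Pi.single i 1 : Fin n → R) ⊗ₜ[R] (g (Pi.single j 1) i • π (Pi.single j 1)) := by
          refine Finset.sum_congr rfl fun j _ => ?_
          conv_lhs => rw [vec_expand (g (Pi.single j 1))]
          rw [TensorProduct.sum_tmul]
          refine Finset.sum_congr rfl fun i _ => ?_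
          rw [TensorProduct.smul_tmul]
      _ = ∑ i, (Pi.single i 1 : Fin n → R) ⊗ₜ[R] π (τ (Pi.single i 1)) := by
          rw [Finset.sum_comm]
          refine Finset.sum_congr rfl fun i _ => ?_
          rw [← TensorProduct.tmul_sum]
          congr 1
          conv_rhs => rw [vec_expand (τ (Pi.single i 1))]
          rw [map_sum]
          refine Finset.sum_congr rfl fun j _ => ?_
          rw [map_smul, hτs]
      _ = 0 := by
          refine Finset.sum_eq_zero fun i _ => ?_
          rw [hπτ, TensorProduct.tmul_zero]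
  have hz1 := H z hz0
  -- the element y
  set y : (LinearMap.ker p') ⊗[R] (Fin m → R) := ∑ j, κ (kk j) ⊗ₜ[R] (Pi.single j 1) with hy
  have hy0 : (π.lTensor (LinearMap.ker p')) y = 0 := by
    rw [← hz1, hz, hy, map_sum, map_sum]
    simp only [LinearMap.lTensor_tmul, LinearMap.rTensor_tmul]
  have hexact : Function.Exact (τ.lTensor (LinearMap.ker p')) (π.lTensor (LinearMap.ker p')) :=
    lTensor_exact _ (LinearMap.exact_map_mkQ_range τ) (Submodule.mkQ_surjective _)
  obtain ⟨w, hw⟩ := (hexact y).1 hy0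
  set s : Fin n → LinearMap.ker p' := TensorProduct.piScalarRight R R _ (Fin n) w with hs
  have hw' : w = ∑ i, s i ⊗ₜ[R] (Pi.single i 1 : Fin n → R) := by
    have h1 : w = (TensorProduct.piScalarRight R R _ (Fin n)).symm s := by
      rw [hs, LinearEquiv.symm_apply_apply]
    rw [h1, ← Finset.univ_sum_single s, map_sum]
    refine Finset.sum_congr rfl fun i _ => ?_
    rw [TensorProduct.piScalarRight_symm_single, Finset.univ_sum_single s]
  have hkey : ∀ j, κ (kk j) = ∑ i, g (Pi.single j 1) i • s i := by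
    intro j
    have h2 := congrArg (fun t => TensorProduct.piScalarRight R R _ (Fin m) t j) hw
    rw [hw', map_sum, hy, map_sum, map_sum] at h2
    simp only [LinearMap.lTensor_tmul, TensorProduct.piScalarRight_apply,
      TensorProduct.piScalarRightHom_tmul, Finset.sum_apply, hτs] at h2
    rw [h2]
    simp [Pi.single_apply]
  -- the map s as a linear map
  let sL : (Fin n → R) →ₗ[R] LinearMap.ker p' := Fintype.linearCombination R s
  let β' : (Fin n → R) →ₗ[R] F' := a - (LinearMap.ker p').subtype ∘ₗ sL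
  have hker : LinearMap.ker p ≤ LinearMap.ker β' := by
    intro x hx
    obtain ⟨v, rfl⟩ := (hex x).1 hx
    rw [LinearMap.mem_ker]
    have hv : ∀ j, β' (g (Pi.single j 1)) = 0 := by
      intro j
      have h3 : sL (g (Pi.single j 1)) = κ (kk j) := by
        rw [hkey j]
        rfl
      show a (g (Pi.single j 1)) - ((sL (g (Pi.single j 1)) : LinearMap.ker p') : F') = 0
      rw [h3, hκ]
      exact sub_self _
    conv_lhs => rw [vec_expand v]
    rw [map_sum, map_sum]
    refine Finset.sum_eq_zero fun j _ => ?_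
    rw [map_smul, map_smul, hv, smul_zero]
  let β : M →ₗ[R] F' :=
    (LinearMap.ker p).liftQ β' hker ∘ₗ (p.quotKerEquivOfSurjective hp).symm.toLinearMap
  have hβ : ∀ x, β (p x) = β' x := by
    intro x
    have h4 : (p.quotKerEquivOfSurjective hp).symm (p x) = Submodule.Quotient.mk x := by
      rw [LinearEquiv.symm_apply_eq, LinearMap.quotKerEquivOfSurjective_apply_mk]
    show (LinearMap.ker p).liftQ β' hker ((p.quotKerEquivOfSurjective hp).symm (p x)) = _
    rw [h4, Submodule.liftQ_apply]
  refine ⟨β, ?_⟩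
  ext x'
  obtain ⟨x, rfl⟩ := hp x'
  rw [LinearMap.comp_apply, hβ]
  show α (p x) = p' (a x - ((sL x : LinearMap.ker p') : F'))
  rw [map_sub, (sL x).2, sub_zero]
  exact (congrArg (fun t => t x) ha).symm

end Algebra

end Groth.Agent.Lib.Helper3.TorFactor
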