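import Groth.Agent.Lib.Helper3.ExtTorShift
import Groth.Agent.S1740

/-!
# `Ext^{e+1}(α, -) = 0` iff `Tor_{e+1}(α, -) = 0` : main induction
-/

set_option autoImplicit false
universe u

open CategoryTheory Abelian

namespace Groth.Agent.Lib.Helper3.ExtTorMain

open Groth.Agent.Lib.Helper3.ExtTorShift

variable {R : Type u} [CommRing R] [IsNoetherianRing R]

theorem extKills_iff_torKills : ∀ (e : ℕ) (M M' : Type u) [AddCommGroup M] [Module R M]
    [Module.Finite R M] [AddCommGroup M'] [Module R M'] (α : M →ₗ[R] M'),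
    ExtKills (ModuleCat.ofHom α) (e + 1) ↔ TorKills (ModuleCat.ofHom α) (e + 1) := by
  intro e
  induction e with
  | zero =>
    intro M M' _ _ _ _ _ α
    obtain ⟨p', hp'⟩ : ∃ p' : (M' →₀ R) →ₗ[R] M', Function.Surjective p' :=
      ⟨_, Finsupp.linearCombination_id_surjective R M'⟩
    have w₂ : ModuleCat.ofHom (X := LinearMap.ker p') (Y := M' →₀ R) (LinearMap.ker p').subtype ≫
        ModuleCat.ofHom p' = 0 := by
      ext x
      exact x.2
    have h₂ : (ShortComplex.mk _ _ w₂).ShortExact :=
      ModuleCat.shortComplex_shortExact _ (LinearMap.exact_subtype_ker_map p')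
        (Submodule.injective_subtype _) hp'
    haveI : Projective (ShortComplex.mk _ _ w₂).X₂ :=
      (inferInstance : Projective (ModuleCat.of R (M' →₀ R)))
    constructor
    · intro h
      obtain ⟨β, hβ⟩ := (extKills_one_iff_factors h₂ (ModuleCat.ofHom α)).1 h
      rw [← hβ]
      haveI : Module.Flat R (ModuleCat.of R (M' →₀ R)) :=
        inferInstanceAs (Module.Flat R (M' →₀ R))
      exact torKills_of_factors β _ 0
    · intro h
      haveI : Module.FinitePresentation R M := Module.finitePresentation_of_finite R M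
      obtain ⟨ι, g, hh, hfac⟩ :=
        Groth.Agent.S1740.result R M M' α (fun N _ _ => h (ModuleCat.of R N))
      intro N ψ
      have hfac' : ModuleCat.ofHom α = ModuleCat.ofHom g ≫ ModuleCat.ofHom hh := by
        rw [hfac]
        rfl
      haveI : Projective (ModuleCat.of R (ι →₀ R)) := inferInstance
      rw [hfac', ← Ext.mk₀_comp_mk₀,
        Ext.comp_assoc (a₂₃ := 1) _ _ _ (by omega) (by omega) (by omega),
        Ext.eq_zero_of_projective ((Ext.mk₀ (ModuleCat.ofHom hh)).comp ψ (zero_add 1)),
        Ext.comp_zero]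
  | succ e ih =>
    intro M M' _ _ _ _ _ α
    classical
    obtain ⟨n, p, hp⟩ := Module.Finite.exists_fin' R M
    obtain ⟨p', hp'⟩ : ∃ p' : (M' →₀ R) →ₗ[R] M', Function.Surjective p' :=
      ⟨_, Finsupp.linearCombination_id_surjective R M'⟩
    obtain ⟨a, ha⟩ : ∃ a : (Fin n → R) →ₗ[R] (M' →₀ R), p' ∘ₗ a = α ∘ₗ p := by
      choose c hc using fun i : Fin n => hp' (α (p (Pi.single i 1)))
      refine ⟨(Pi.basisFun R (Fin n)).constr R c, ?_⟩
      apply (Pi.basisFun R (Fin n)).ext
      intro i
      simp [hc]
    obtain ⟨κ, hκ⟩ : ∃ κ : LinearMap.ker p →ₗ[R] LinearMap.ker p',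
        ∀ x, (κ x : M' →₀ R) = a x := by
      have hmap : ∀ x : LinearMap.ker p,
          (a ∘ₗ (LinearMap.ker p).subtype) x ∈ LinearMap.ker p' := by
        intro x
        rw [LinearMap.mem_ker]
        have h1 := congrArg (fun t => t (x : Fin n → R)) ha
        simp only [LinearMap.comp_apply] at h1
        have h2 : p (x : Fin n → R) = 0 := x.2
        rw [LinearMap.comp_apply, Submodule.subtype_apply, h1, h2, map_zero]
      exact ⟨(a ∘ₗ (LinearMap.ker p).subtype).codRestrict _ hmap, fun x => rfl⟩
    have h1 : (LinearMap.ker p').subtype ∘ₗ κ = a ∘ₗ (LinearMap.ker p).subtype := by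
      ext x : 1
      exact hκ x
    have hK : Module.Finite R (LinearMap.ker p) := inferInstance
    have key := shift_of_linearMaps (K := LinearMap.ker p) (K' := LinearMap.ker p')
      (F' := M' →₀ R) (LinearMap.ker p).subtype p
      (Submodule.injective_subtype _) hp (LinearMap.exact_subtype_ker_map p)
      (LinearMap.ker p').subtype p' (Submodule.injective_subtype _) hp'
      (LinearMap.exact_subtype_ker_map p') κ a α h1 ha e
    have hih := ih (LinearMap.ker p) (LinearMap.ker p') κ
    have k1 := key.1
    have k2 := key.2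
    exact k1.trans (hih.trans k2.symm)

end Groth.Agent.Lib.Helper3.ExtTorMain
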