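import Groth.Agent.Lib.Helper3.TorFactor
import Mathlib.Algebra.Category.ModuleCat.Ext.DimensionShifting
import Mathlib.Algebra.Homology.DerivedCategory.Ext.EnoughProjectives
import Mathlib.Algebra.Homology.DerivedCategory.Ext.ExactSequences

/-!
# `Ext^{e+1}(α, -) = 0` iff `Tor_{e+1}(α, -) = 0` (α : M → M', M finite over a Noetherian ring)
-/

set_option autoImplicit false
universe u

open CategoryTheory Abelian

namespace Groth.Agent.Lib.Helper3.ExtTorShift

variable {R : Type u} [CommRing R]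

/-- Precomposition with `α` kills `Ext^n(Y, N)` for every `N`. -/
def ExtKills {X Y : ModuleCat.{u} R} (α : X ⟶ Y) (n : ℕ) : Prop :=
  ∀ (N : ModuleCat.{u} R) (ψ : Ext.{u} Y N n), (Ext.mk₀ α).comp ψ (zero_add n) = 0

/-- `Tor_n(α, N) = 0` for every `N`. -/
def TorKills {X Y : ModuleCat.{u} R} (α : X ⟶ Y) (n : ℕ) : Prop :=
  ∀ N : ModuleCat.{u} R, ((Tor (ModuleCat.{u} R) n).map α).app N = 0

section ExtSide

variable {S₁ S₂ : ShortComplex (ModuleCat.{u} R)} (h₁ : S₁.ShortExact) (h₂ : S₂.ShortExact)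
  (φ : S₁ ⟶ S₂)

include h₁ h₂ in
theorem extKills_shift [Projective S₁.X₂] [Projective S₂.X₂] (n : ℕ) :
    ExtKills φ.τ₃ (n + 2) ↔ ExtKills φ.τ₁ (n + 1) := by
  have hnat := ShortComplex.ShortExact.extClass_naturality h₁ h₂ φ
  constructor
  · intro h N ψ
    have h3 := h N (h₂.extClass.comp ψ (by omega))
    rw [← Ext.comp_assoc (a₁₂ := 1) _ _ _ (by omega) (by omega) (by omega), ← hnat,
      Ext.comp_assoc (a₂₃ := n + 1) _ _ _ (by omega) (by omega) (by omega)] at h3
    obtain ⟨x₂, hx₂⟩ := Ext.contravariant_sequence_exact₁ h₁ N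
      ((Ext.mk₀ φ.τ₁).comp ψ (zero_add (n + 1))) (by omega) h3
    rw [← hx₂, Ext.eq_zero_of_projective x₂, Ext.comp_zero]
  · intro h N ψ
    obtain ⟨x₁, hx₁⟩ := Ext.contravariant_sequence_exact₃ h₂ N ψ
      (by rw [Ext.eq_zero_of_projective ((Ext.mk₀ S₂.g).comp ψ (zero_add (n + 2)))])
      (show 1 + (n + 1) = n + 2 by omega)
    rw [← hx₁, ← Ext.comp_assoc (a₁₂ := 1) _ _ _ (by omega) (by omega) (by omega), ← hnat,
      Ext.comp_assoc (a₂₃ := n + 1) _ _ _ (by omega) (by omega) (by omega), h N x₁, Ext.comp_zero]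

include h₂ in
theorem extKills_one_iff_factors [Projective S₂.X₂] {X : ModuleCat.{u} R} (α : X ⟶ S₂.X₃) :
    ExtKills α 1 ↔ ∃ β : X ⟶ S₂.X₂, β ≫ S₂.g = α := by
  constructor
  · intro h
    have h3 := h S₂.X₁ h₂.extClass
    obtain ⟨x₂, hx₂⟩ := Ext.covariant_sequence_exact₃ X h₂ (Ext.mk₀ α) (zero_add 1) h3
    obtain ⟨β, rfl⟩ := Ext.mk₀_bijective.{u} X S₂.X₂ |>.2 x₂
    refine ⟨β, ?_⟩
    rw [Ext.mk₀_comp_mk₀] at hx₂
    exact (Ext.mk₀_bijective.{u} X S₂.X₃).1 hx₂
  · rintro ⟨β, rfl⟩ N ψ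
    rw [← Ext.mk₀_comp_mk₀, Ext.comp_assoc (a₂₃ := 1) _ _ _ (by omega) (by omega) (by omega),
      Ext.eq_zero_of_projective ((Ext.mk₀ S₂.g).comp ψ (zero_add 1)), Ext.comp_zero]

end ExtSide

section TorSide

open Groth.Agent.Lib.Helper4 Groth.Agent.Lib.Helper21 TorRel DeltaNat MonoidalCategory Limits

theorem tor_map_eq_zero_iff {X Y : ModuleCat.{u} R} (f : X ⟶ Y) (S : ModuleCat.{u} R) (n : ℕ) :
    ((Tor (ModuleCat.{u} R) n).map f).app S = 0 ↔
    HomologicalComplex.homologyMap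
      ((NatTrans.mapHomologicalComplex ((tensoringLeft (ModuleCat.{u} R)).map f)
        (ComplexShape.down ℕ)).app (projectiveResolution S).complex) n = 0 := by
  refine ⟨homologyMap_eq_zero_of_tor_map_eq_zero f S n, fun h => ?_⟩
  have h1 := ProjectiveResolution.leftDerived_app_eq ((tensoringLeft (ModuleCat.{u} R)).map f)
    (projectiveResolution S) n
  show (NatTrans.leftDerived ((tensoringLeft (ModuleCat.{u} R)).map f) n).app S = 0
  rw [h1]
  have h2 : (HomologicalComplex.homologyFunctor (ModuleCat.{u} R) (ComplexShape.down ℕ) n).map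
      ((NatTrans.mapHomologicalComplex ((tensoringLeft (ModuleCat.{u} R)).map f)
        (ComplexShape.down ℕ)).app (projectiveResolution S).complex) = 0 := h
  rw [h2, zero_comp, comp_zero]

variable {S₁ S₂ : ShortComplex (ModuleCat.{u} R)} (h₁ : S₁.ShortExact) (h₂ : S₂.ShortExact)
  (φ : S₁ ⟶ S₂)

include h₁ h₂ in
theorem torKills_shift [Module.Flat R S₁.X₂] [Module.Flat R S₂.X₂] (n : ℕ) :
    TorKills φ.τ₃ (n + 2) ↔ TorKills φ.τ₁ (n + 1) := by
  have key : ∀ N : ModuleCat.{u} R,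
      ((Tor (ModuleCat.{u} R) (n + 2)).map φ.τ₃).app N = 0 ↔
      ((Tor (ModuleCat.{u} R) (n + 1)).map φ.τ₁).app N = 0 := by
    intro N
    rw [tor_map_eq_zero_iff, tor_map_eq_zero_iff]
    set Q := projectiveResolution N with hQ
    have hS₁ := tensorSC_shortExact S₁ h₁ Q.complex (fun n => Q.projective n)
    have hS₂ := tensorSC_shortExact S₂ h₂ Q.complex (fun n => Q.projective n)
    have hrel : (ComplexShape.down ℕ).Rel (n + 2) (n + 1) := by simp
    have hnat := δ_naturality (tensorSCMap φ Q.complex) hS₁ hS₂ (n + 2) (n + 1) hrel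
    have hz₁ : ∀ j, IsZero ((tensorSC S₁ Q.complex).X₂.homology (j + 1)) := fun j =>
      (isZero_tor_of_flat S₁.X₂ N (j + 1) (Nat.succ_pos j)).of_iso
        (torIsoHomology S₁.X₂ N (j + 1)).symm
    have hz₂ : ∀ j, IsZero ((tensorSC S₂ Q.complex).X₂.homology (j + 1)) := fun j =>
      (isZero_tor_of_flat S₂.X₂ N (j + 1) (Nat.succ_pos j)).of_iso
        (torIsoHomology S₂.X₂ N (j + 1)).symm
    have hepi : Epi (hS₁.δ (n + 2) (n + 1) hrel) := hS₁.epi_δ _ _ hrel (hz₁ n)
    have hmono : Mono (hS₂.δ (n + 2) (n + 1) hrel) := hS₂.mono_δ _ _ hrel (hz₂ (n + 1))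
    constructor
    · intro h
      have h3 : HomologicalComplex.homologyMap (tensorSCMap φ Q.complex).τ₃ (n + 2) = 0 := h
      rw [h3, zero_comp] at hnat
      have h4 : hS₁.δ (n + 2) (n + 1) hrel ≫
          HomologicalComplex.homologyMap (tensorSCMap φ Q.complex).τ₁ (n + 1) =
          hS₁.δ (n + 2) (n + 1) hrel ≫ 0 := by rw [hnat, comp_zero]
      exact hepi.left_cancellation _ _ h4
    · intro h
      have h3 : HomologicalComplex.homologyMap (tensorSCMap φ Q.complex).τ₁ (n + 1) = 0 := h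
      rw [h3, comp_zero] at hnat
      have h4 : HomologicalComplex.homologyMap (tensorSCMap φ Q.complex).τ₃ (n + 2) ≫
          hS₂.δ (n + 2) (n + 1) hrel = 0 ≫ hS₂.δ (n + 2) (n + 1) hrel := by
        rw [← hnat, zero_comp]
      exact hmono.right_cancellation _ _ h4
  exact ⟨fun h N => (key N).1 (h N), fun h N => (key N).2 (h N)⟩

theorem torKills_of_factors {X P Y : ModuleCat.{u} R} [Module.Flat R P] (g : X ⟶ P) (h : P ⟶ Y)
    (n : ℕ) : TorKills (g ≫ h) (n + 1) := by
  intro N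
  rw [Functor.map_comp, NatTrans.comp_app]
  have hz := isZero_tor_of_flat P N (n + 1) (Nat.succ_pos n)
  rw [hz.eq_of_tgt (((Tor (ModuleCat.{u} R) (n + 1)).map g).app N) 0, zero_comp]

end TorSide

section Modules

/-- Module-level dimension shifting for both `ExtKills` and `TorKills`. -/
theorem shift_of_linearMaps {K F M K' F' M' : Type u}
    [AddCommGroup K] [Module R K] [AddCommGroup F] [Module R F] [AddCommGroup M] [Module R M]
    [AddCommGroup K'] [Module R K'] [AddCommGroup F'] [Module R F'] [AddCommGroup M'] [Module R M']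
    (i : K →ₗ[R] F) (p : F →ₗ[R] M) (hi : Function.Injective i) (hp : Function.Surjective p)
    (hex : Function.Exact i p)
    (i' : K' →ₗ[R] F') (p' : F' →ₗ[R] M') (hi' : Function.Injective i')
    (hp' : Function.Surjective p') (hex' : Function.Exact i' p')
    (κ : K →ₗ[R] K') (a : F →ₗ[R] F') (α : M →ₗ[R] M')
    (h1 : i' ∘ₗ κ = a ∘ₗ i) (h2 : p' ∘ₗ a = α ∘ₗ p)
    [Module.Projective R F] [Module.Projective R F'] (e : ℕ) :
    (ExtKills (ModuleCat.ofHom α) (e + 2) ↔ ExtKills (ModuleCat.ofHom κ) (e + 1)) ∧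
    (TorKills (ModuleCat.ofHom α) (e + 2) ↔ TorKills (ModuleCat.ofHom κ) (e + 1)) := by
  have w₁ : ModuleCat.ofHom i ≫ ModuleCat.ofHom p = 0 := by
    ext x
    exact hex.apply_apply_eq_zero x
  have w₂ : ModuleCat.ofHom i' ≫ ModuleCat.ofHom p' = 0 := by
    ext x
    exact hex'.apply_apply_eq_zero x
  have hT₁ : (ShortComplex.mk _ _ w₁).ShortExact :=
    ModuleCat.shortComplex_shortExact _ hex hi hp
  have hT₂ : (ShortComplex.mk _ _ w₂).ShortExact :=
    ModuleCat.shortComplex_shortExact _ hex' hi' hp'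
  let φ : ShortComplex.mk _ _ w₁ ⟶ ShortComplex.mk _ _ w₂ :=
    { τ₁ := ModuleCat.ofHom κ
      τ₂ := ModuleCat.ofHom a
      τ₃ := ModuleCat.ofHom α
      comm₁₂ := by
        apply ModuleCat.hom_ext
        apply LinearMap.ext
        intro x
        exact congrArg (fun t => t x) h1
      comm₂₃ := by
        apply ModuleCat.hom_ext
        apply LinearMap.ext
        intro x
        exact congrArg (fun t => t x) h2 }
  have i1 : Projective (ShortComplex.mk _ _ w₁).X₂ :=
    (inferInstance : Projective (ModuleCat.of R F))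
  have i2 : Projective (ShortComplex.mk _ _ w₂).X₂ :=
    (inferInstance : Projective (ModuleCat.of R F'))
  have i3 : Module.Flat R (ShortComplex.mk _ _ w₁).X₂ := inferInstanceAs (Module.Flat R F)
  have i4 : Module.Flat R (ShortComplex.mk _ _ w₂).X₂ := inferInstanceAs (Module.Flat R F')
  exact ⟨extKills_shift hT₁ hT₂ φ e, torKills_shift hT₁ hT₂ φ e⟩

end Modules

end Groth.Agent.Lib.Helper3.ExtTorShift
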