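import Groth.Agent.Lib.Helper3.SymLine8
import Mathlib.AlgebraicGeometry.Morphisms.FiniteType
/-!
# The morphism `r_{L,ψ}`: condition (iii) for morphisms of finite type
-/
universe u
open CategoryTheory CategoryTheory.Limits AlgebraicGeometry Opposite TopologicalSpace
open HomogeneousLocalization
open scoped HomogeneousIdeal
open Groth.Agent.Lib.Helper29.QCoh

namespace Groth.Agent.Lib.Helper3.SymLine
open RelProj RelSpec RelCone Groth.Agent.Lib.Helper3 Groth.Agent.Lib.Helper3.Cone Groth.Agent.Lib.Helper3.QProj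

/-- finitely many elements decide whether a subring containing the image of a ring homomorphism of finite type
is everything -/
theorem exists_finset_of_finiteType {R B : Type u} [CommRing R] [CommRing B] (f : R →+* B) (hf : f.FiniteType) :
    ∃ G : Finset B, ∀ T : Subring B, Set.range f ⊆ (T : Set B) → (G : Set B) ⊆ (T : Set B) → T = ⊤ := by
  let _inst := f.toAlgebra
  have hft : Algebra.FiniteType R B := hf
  obtain ⟨G, hG⟩ := hft.out
  refine ⟨G, fun T hfT hGT => ?_⟩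
  have h1 := Algebra.adjoin_eq_ring_closure (R := R) (G : Set B)
  rw [hG] at h1
  rw [eq_top_iff]
  intro b _
  have hb : b ∈ (⊤ : Subalgebra R B).toSubring := trivial
  rw [h1] at hb
  refine (Subring.closure_le (t := T)).mpr ?_ hb
  exact Set.union_subset hfT hGT

section Sub
variable {Y X : Scheme.{u}} {q : X ⟶ Y} {𝒮 : QCGrAlg Y} {𝒮L : QCGrAlg X} (u : QGrHom q 𝒮 𝒮L)

/-- the functions satisfying condition (iii) form a subring -/
def condIIISubring (U : Y.Opens) (hU : IsAffineOpen U) (d : ℕ) (f : 𝒮.presheaf.obj (op U)) (hf : f ∈ 𝒮.deg U hU d)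
    (W : X.Opens) (hW : W ≤ q ⁻¹ᵁ U) : Subring Γ(X, W) where
  carrier := {t | ∃ (m : ℕ) (_ : 0 < m) (s' : 𝒮.presheaf.obj (op U)) (_ : s' ∈ 𝒮.deg U hU (m * d)),
    (𝒮L.str.app (op W)).hom t * ((u.appLE U W hW).hom f) ^ m = (u.appLE U W hW).hom s'}
  one_mem' := ⟨1, Nat.one_pos, f, by rw [one_mul]; exact hf, by rw [map_one, one_mul, pow_one]⟩
  zero_mem' := ⟨1, Nat.one_pos, 0, AddSubgroup.zero_mem _, by rw [map_zero, zero_mul, map_zero]⟩
  mul_mem' := by
    rintro a b ⟨m₁, hm₁, s₁, hs₁, h₁⟩ ⟨m₂, hm₂, s₂, hs₂, h₂⟩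
    refine ⟨m₁ + m₂, by omega, s₁ * s₂, ?_, ?_⟩
    · have := SetLike.mul_mem_graded hs₁ hs₂
      rw [← add_mul] at this
      exact this
    · rw [map_mul, map_mul, ← h₁, ← h₂, pow_add]
      ring
  add_mem' := by
    rintro a b ⟨m₁, hm₁, s₁, hs₁, h₁⟩ ⟨m₂, hm₂, s₂, hs₂, h₂⟩
    refine ⟨m₁ + m₂, by omega, s₁ * f ^ m₂ + s₂ * f ^ m₁, ?_, ?_⟩
    · refine AddSubgroup.add_mem _ ?_ ?_
      · have := SetLike.mul_mem_graded hs₁ (SetLike.pow_mem_graded m₂ hf)
        rw [smul_eq_mul, ← add_mul] at this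
        exact this
      · have := SetLike.mul_mem_graded hs₂ (SetLike.pow_mem_graded m₁ hf)
        rw [smul_eq_mul, ← add_mul, add_comm] at this
        exact this
    · rw [map_add, map_add, map_mul, map_mul, map_pow, map_pow, ← h₁, ← h₂, pow_add]
      ring
  neg_mem' := by
    rintro a ⟨m, hm, s', hs', h⟩
    exact ⟨m, hm, -s', AddSubgroup.neg_mem _ hs', by rw [map_neg, map_neg, neg_mul, h]⟩

theorem condIIIOn_iff_subring (U : Y.Opens) (hU : IsAffineOpen U) (d : ℕ) (f : 𝒮.presheaf.obj (op U))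
    (hf : f ∈ 𝒮.deg U hU d) (W : X.Opens) (hW : W ≤ q ⁻¹ᵁ U) :
    CondIIIOn u U hU d f W hW ↔ condIIISubring u U hU d f hf W hW = ⊤ := by
  rw [eq_top_iff]
  constructor
  · intro h t _
    exact h t
  · intro h t
    exact h (Subring.mem_top t)

theorem range_appLE_subset_condIIISubring (U : Y.Opens) (hU : IsAffineOpen U) (d : ℕ) (f : 𝒮.presheaf.obj (op U))
    (hf : f ∈ 𝒮.deg U hU d) (W : X.Opens) (hW : W ≤ q ⁻¹ᵁ U) :
    Set.range (q.appLE U W hW).hom ⊆ (condIIISubring u U hU d f hf W hW : Set Γ(X, W)) := by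
  rintro _ ⟨c, rfl⟩
  refine ⟨1, Nat.one_pos, (𝒮.str.app (op U)).hom c * f, ?_, ?_⟩
  · have := SetLike.mul_mem_graded (𝒮.str_mem U hU c) hf
    rw [zero_add] at this
    rw [one_mul]
    exact this
  · have h := congrArg (fun m => m.hom c) (u.toQHom.str_appLE U W hW)
    simp only [CommRingCat.hom_comp, RingHom.comp_apply] at h
    rw [pow_one, map_mul]
    exact congrArg (· * (u.appLE U W hW).hom f) h.symm

end Sub

section Desc
variable {Y X : Scheme.{u}} {q : X ⟶ Y} {𝒮 : QCGrAlg Y} {𝒮L : QCGrAlg X} (u : QGrHom q 𝒮 𝒮L)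

/-- for `q` locally of finite type, condition (iii) descends to any graded algebra mapping to `𝒮` through which
finitely many given homogeneous elements factor -/
theorem exists_finset_condIII [LocallyOfFiniteType q] (U : Y.Opens) (hU : IsAffineOpen U) (n : ℕ)
    (s : 𝒮.presheaf.obj (op U)) (haff : IsAffineOpen (Xf u U n s)) (h3 : CondIII u U hU n s) :
    ∃ E : Finset (ℕ × 𝒮.presheaf.obj (op U)), (∀ e ∈ E, e.2 ∈ 𝒮.deg U hU (e.1 * n)) ∧
      ∀ (𝒯 : QCGrAlg Y) (v : 𝒯.toQCAlg ⟶ 𝒮.toQCAlg) (u' : QGrHom q 𝒯 𝒮L)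
        (_ : ∀ U : Y.Opens, u'.app U = v.hom.app (op U) ≫ u.app U)
        (t : 𝒯.presheaf.obj (op U)) (_ : t ∈ 𝒯.deg U hU n) (_ : (v.hom.app (op U)).hom t = s),
        (∀ e ∈ E, ∃ t' ∈ 𝒯.deg U hU (e.1 * n), (v.hom.app (op U)).hom t' = e.2) → CondIII u' U hU n t := by
  classical
  have hft : RingHom.FiniteType (q.appLE U (Xf u U n s) (Xf_le u U n s)).hom :=
    HasRingHomProperty.appLE (P := @LocallyOfFiniteType) q inferInstance ⟨U, hU⟩ ⟨_, haff⟩ (Xf_le u U n s)
  obtain ⟨G, hG⟩ := exists_finset_of_finiteType _ hft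
  choose m hm s' hs' heq using h3
  refine ⟨G.image (fun g => (m g, s' g)), ?_, ?_⟩
  · intro e he
    obtain ⟨g, -, rfl⟩ := Finset.mem_image.mp he
    exact hs' g
  · intro 𝒯 v u' hu' t ht hvt hE
    have hXf : Xf u' U n t = Xf u U n s := (Xf_comp u u' v hu' U n t).trans (by rw [hvt])
    rw [condIII_iff, condIIIOn_congr u' U hU n t hXf _ (Xf_le u U n s),
      condIIIOn_iff_subring u' U hU n t ht _ (Xf_le u U n s)]
    refine hG _ (range_appLE_subset_condIIISubring u' U hU n t ht _ (Xf_le u U n s)) ?_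
    intro g hg
    obtain ⟨t', ht', hvt'⟩ := hE (m g, s' g) (Finset.mem_image_of_mem _ hg)
    refine ⟨m g, hm g, t', ht', ?_⟩
    rw [appLE_comp u u' v hu', appLE_comp u u' v hu', hvt, hvt']
    exact heq g

end Desc

end Groth.Agent.Lib.Helper3.SymLine
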