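import Groth.Agent.Lib.Helper3.GrSymAlg
import Groth.Agent.Lib.Helper3.SymLine9
/-!
# Finite-type reduction, part 1: finite support in the symmetric algebra; the map `Sym(E) → Sym(F)`
-/
set_option autoImplicit false
set_option linter.unusedSectionVars false
universe u
open CategoryTheory CategoryTheory.Limits AlgebraicGeometry Opposite TopologicalSpace
open scoped HomogeneousIdeal
open Groth.Agent.Lib.Helper29.QCoh

namespace Groth.Agent.Lib.Helper3.FTRed
open RelProj RelSpec Groth.Agent.Lib.Helper3 Groth.Agent.Lib.Helper3.SymAlg Groth.Agent.Lib.Helper3.SymGr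
  Groth.Agent.Lib.Helper3.SymQC

section Alg
variable {R M : Type u} [CommRing R] [AddCommGroup M] [Module R M]

/-- every homogeneous element of the symmetric algebra involves only finitely many elements of the module -/
theorem exists_finset_lift {d : ℕ} {y : SymmetricAlgebra R M} (hy : y ∈ symDeg R M d) :
    ∃ T : Finset M, ∀ {N : Type u} [AddCommGroup N] [Module R N] (g : N →+ M)
      (hg : ∀ (r : R) (n : N), g (r • n) = (RingHom.id R) r • g n), (T : Set M) ⊆ Set.range g →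
        ∃ x ∈ symDeg R N d, symMap (RingHom.id R) g hg x = y := by
  classical
  unfold symDeg at hy
  induction hy using Submodule.pow_induction_on_left' with
  | algebraMap r =>
    refine ⟨∅, fun {N} _ _ g hg _ => ⟨algebraMap R _ r, algebraMap_mem_symDeg r, ?_⟩⟩
    rw [symMap_algebraMap]; rfl
  | add x y i hx hy ihx ihy =>
    obtain ⟨T₁, h₁⟩ := ihx
    obtain ⟨T₂, h₂⟩ := ihy
    refine ⟨T₁ ∪ T₂, fun {N} _ _ g hg hT => ?_⟩
    obtain ⟨x₁, hx₁, e₁⟩ := h₁ g hg (fun m hm => hT (by simp [Finset.mem_coe.mp hm]))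
    obtain ⟨x₂, hx₂, e₂⟩ := h₂ g hg (fun m hm => hT (by simp [Finset.mem_coe.mp hm]))
    exact ⟨x₁ + x₂, Submodule.add_mem _ hx₁ hx₂, by rw [map_add, e₁, e₂]⟩
  | mem_mul m hm i x hx ih =>
    obtain ⟨m, rfl⟩ := hm
    obtain ⟨T, hT⟩ := ih
    refine ⟨insert m T, fun {N} _ _ g hg hT' => ?_⟩
    obtain ⟨x₁, hx₁, e₁⟩ := hT g hg (fun m' hm' => hT' (by simp [Finset.mem_coe.mp hm']))
    obtain ⟨n, hn⟩ : m ∈ Set.range g := hT' (by simp)
    refine ⟨SymmetricAlgebra.ι R N n * x₁, ?_, by rw [map_mul, symMap_ι, hn, e₁]⟩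
    have := SetLike.mul_mem_graded (ι_mem_symDeg (R := R) n) hx₁
    rwa [add_comm] at this

end Alg

section Sch
variable {S : Scheme.{u}} {E F : S.Modules} [E.IsQuasicoherent] [F.IsQuasicoherent] (ι : E ⟶ F)

/-- the algebra map `Sym(E) → Sym(F)` induced by `ι : E → F` -/
noncomputable def symHom : symAlg E ⟶ symAlg F := liftHom (symAlg F) (ι ≫ SymQC.j F)

theorem j_symHom : SymQC.j E ≫ QCAlg.Hom.toModuleMap (symHom ι) = ι ≫ SymQC.j F :=
  j_liftHom (symAlg F) (ι ≫ SymQC.j F)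

theorem ι_smul (U : S.Opens) (r : Γ(S, U)) (m : Γ(E, U)) :
    ((ι.app U).hom : Γ(E, U) →+ Γ(F, U)) (r • m) = (RingHom.id _) r • ((ι.app U).hom : Γ(E, U) →+ Γ(F, U)) m :=
  ι.app_smul r m

theorem γh_symHom (U : S.Opens) (hU : IsAffineOpen U) (a : (symAlg E).presheaf.obj (op U)) :
    γh F U hU (((symHom ι).hom.app (op U)).hom a) =
      symMap (RingHom.id _) ((ι.app U).hom : Γ(E, U) →+ Γ(F, U)) (ι_smul ι U) (γh E U hU a) := by
  unfold symHom
  rw [liftHom_app (symAlg F) (ι ≫ SymQC.j F) U hU]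
  have key : (γh F U hU).comp (liftSec (symAlg F) (ι ≫ SymQC.j F) U) =
      symMap (RingHom.id _) ((ι.app U).hom : Γ(E, U) →+ Γ(F, U)) (ι_smul ι U) :=
    ringHom_ext
      (fun r => by
        rw [RingHom.comp_apply, liftSec_algebraMap, γh_str, symMap_algebraMap]; rfl)
      (fun m => by
        rw [RingHom.comp_apply, liftSec_ι, symMap_ι, φSec_apply]
        change γh F U hU (show (symAlg F).presheaf.obj (op U) from (SymQC.j F).app U (ι.app U m)) = _
        rw [j_app F U hU, γh_γi])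
  exact congrArg (fun k => k (γh E U hU a)) key

theorem isGradedHom_symHom :
    IsGradedHom (𝒜 := grSymAlg E) (ℬ := grSymAlg F) (symHom ι) := by
  intro U hU d x hx
  change ((symHom ι).hom.app (op U)).hom x ∈ sdeg F U hU d
  rw [mem_sdeg_iff, γh_symHom]
  exact symMap_mem _ _ _ ((mem_sdeg_iff E U hU d x).mp hx)

/-- homogeneous elements of `Sym(F)(U)` lift to `Sym(E)(U)` once finitely many sections of `F` over `U` come from
`E` -/
theorem exists_finset_lift_symHom (U : S.Opens) (hU : IsAffineOpen U) {d : ℕ}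
    {y : (symAlg F).presheaf.obj (op U)} (hy : y ∈ (grSymAlg F).deg U hU d) :
    ∃ T : Finset Γ(F, U), ∀ {E : S.Modules} [E.IsQuasicoherent] (ι : E ⟶ F),
      (∀ m ∈ T, ∃ e : Γ(E, U), ι.app U e = m) →
        ∃ t ∈ (grSymAlg E).deg U hU d, ((symHom ι).hom.app (op U)).hom t = y := by
  have hy' : γh F U hU y ∈ symDeg _ _ d := (mem_sdeg_iff F U hU d y).mp hy
  obtain ⟨T, hT⟩ := exists_finset_lift hy'
  refine ⟨T, fun {E} _ ι hι => ?_⟩
  obtain ⟨x, hx, e⟩ := hT ((ι.app U).hom : Γ(E, U) →+ Γ(F, U)) (ι_smul ι U)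
    (fun m hm => hι m (Finset.mem_coe.mp hm))
  refine ⟨γi E U hU x, ?_, ?_⟩
  · change γi E U hU x ∈ sdeg E U hU d
    rw [mem_sdeg_iff, γh_γi]; exact hx
  · have h1 := γh_symHom ι U hU (γi E U hU x)
    rw [γh_γi, e] at h1
    have := congrArg (γi F U hU) h1
    rwa [γi_γh, γi_γh] at this

end Sch

end Groth.Agent.Lib.Helper3.FTRed
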