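import Groth.Agent.Lib.Helper3.FTRed3
import Groth.Agent.Lib.Helper3.SymLine9
import Groth.Agent.Lib.Helper3.ProjCI
/-!
# Finite-type reduction, general form: a graded `q`-morphism from a quotient of `Sym(F)` with local immersion data
factors through `Sym(K)` for a submodule `K ⊆ F` of finite type, keeping the data
-/
set_option autoImplicit false
set_option linter.unusedSectionVars false
universe u
open CategoryTheory CategoryTheory.Limits AlgebraicGeometry Opposite TopologicalSpace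
open scoped HomogeneousIdeal
open Groth.Agent.Lib.Helper29.QCoh

namespace Groth.Agent.Lib.Helper3.FTRed
open RelProj RelSpec Groth.Agent.Lib.Helper3 Groth.Agent.Lib.Helper3.SymAlg Groth.Agent.Lib.Helper3.SymGr
  Groth.Agent.Lib.Helper3.SymQC Groth.Agent.Lib.Helper3.SymLine

theorem exists_finiteType_reduction_gen {X Y : Scheme.{u}} (hFT : HasFTThrough Y) [CompactSpace X]
    (q : X ⟶ Y) [LocallyOfFiniteType q] (𝒮L : QCGrAlg X) (F : Y.Modules) [F.IsQuasicoherent]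
    (𝒯 : QCGrAlg Y) (v₀ : (grSymAlg F).toQCAlg ⟶ 𝒯.toQCAlg)
    (hv₀ : IsGradedHom (𝒜 := grSymAlg F) (ℬ := 𝒯) v₀)
    (hv₀s : ∀ (U : Y.Opens) (hU : IsAffineOpen U) (d : ℕ) (y : 𝒯.presheaf.obj (op U)), y ∈ 𝒯.deg U hU d →
      ∃ x ∈ (grSymAlg F).deg U hU d, (v₀.hom.app (op U)).hom x = y)
    (u : QGrHom q 𝒯 𝒮L)
    (K1 : ∀ x : X, ∃ (V : Y.affineOpens) (n : ℕ) (_ : 0 < n) (s : 𝒯.presheaf.obj (op V.1))
        (_ : s ∈ 𝒯.deg V.1 V.2 n),
        x ∈ Xf u V.1 n s ∧ IsAffineOpen (Xf u V.1 n s) ∧ CondIII u V.1 V.2 n s)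
    (K2 : ∀ x : X, ∃ (V : Y.affineOpens) (s : 𝒯.presheaf.obj (op V.1)) (_ : s ∈ 𝒯.deg V.1 V.2 1),
        x ∈ Xf u V.1 1 s) :
    ∃ (K : SubSh F) (hq : K.toModules.IsQuasicoherent) (_ : K.toModules.IsFiniteType)
      (u' : QGrHom q (@grSymAlg _ K.toModules hq) 𝒮L),
      (∀ U : Y.Opens, u'.app U = ((@symHom _ K.toModules F hq _ K.ι) ≫ v₀).hom.app (op U) ≫ u.app U) ∧
      (∀ x : X, ∃ (U : Y.Opens) (hU : IsAffineOpen U) (e : Γ(K.toModules, U)) (V : X.Opens) (hV : IsAffineOpen V)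
          (hVU : V ≤ q ⁻¹ᵁ U), x ∈ V ∧
            ((𝒮L.deg V hV 1 : AddSubgroup (𝒮L.presheaf.obj (op V))) : Set (𝒮L.presheaf.obj (op V))) ⊆
              (Ideal.span {(u'.appLE U V hVU).hom ((@SymQC.j _ K.toModules hq).app U e)} :
                Set (𝒮L.presheaf.obj (op V)))) ∧
      (∀ x : X, ∃ (U : Y.Opens) (hU : IsAffineOpen U) (n : ℕ) (_ : 0 < n)
        (s : (@grSymAlg _ K.toModules hq).presheaf.obj (op U)) (_ : s ∈ (@grSymAlg _ K.toModules hq).deg U hU n),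
        x ∈ Xf u' U n s ∧ IsAffineOpen (Xf u' U n s) ∧ CondIII u' U hU n s) := by
  classical
  choose V n hn s hs hx haff h3 using K1
  choose V₁ s₁ hs₁ hx₁ using K2
  obtain ⟨t, ht⟩ := isCompact_univ.elim_finite_subcover
    (fun y : X => ((Xf u (V y).1 (n y) (s y) : X.Opens) : Set X)) (fun y => (Xf u (V y).1 (n y) (s y)).isOpen)
    (fun x _ => Set.mem_iUnion.mpr ⟨x, hx x⟩)
  obtain ⟨t₁, ht₁⟩ := isCompact_univ.elim_finite_subcover
    (fun y : X => ((Xf u (V₁ y).1 1 (s₁ y) : X.Opens) : Set X)) (fun y => (Xf u (V₁ y).1 1 (s₁ y)).isOpen)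
    (fun x _ => Set.mem_iUnion.mpr ⟨x, hx₁ x⟩)
  have hEc := fun y => SymLine.exists_finset_condIII u (V y).1 (V y).2 (n y) (s y) (haff y) (h3 y)
  choose Ec hEc1 hEc2 using hEc
  have hl0 := fun y => hv₀s (V y).1 (V y).2 (n y) (s y) (hs y)
  choose sl hsl hsl' using hl0
  have hl1 := fun y => hv₀s (V₁ y).1 (V₁ y).2 1 (s₁ y) (hs₁ y)
  choose sl₁ hsl₁ hsl₁' using hl1
  have hlE := fun y (e : ↥(Ec y)) => hv₀s (V y).1 (V y).2 (e.1.1 * n y) e.1.2 (hEc1 y e.1 e.2)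
  choose el hel hel' using hlE
  let 𝔜 : Finset (HElt F) :=
    t.image (fun y => ⟨V y, n y, ⟨sl y, hsl y⟩⟩) ∪
    t.biUnion (fun y => (Ec y).attach.image (fun e => ⟨V y, e.1.1 * n y, ⟨el y e, hel y e⟩⟩)) ∪
    t₁.image (fun y => ⟨V₁ y, 1, ⟨sl₁ y, hsl₁ y⟩⟩)
  obtain ⟨𝔖, h𝔖⟩ := exists_finset_sections F 𝔜
  obtain ⟨K, hKq, hKft, hKmem⟩ := exists_finiteType_subSh_through hFT F
    (κ := ↥𝔖) (fun σ => σ.1.1.1) (fun σ => σ.1.1.2) (fun σ => σ.1.2)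
  haveI := hKq
  have hlift := h𝔖 K.ι (fun σ hσ => ⟨K.mkSec _ σ.2 (hKmem ⟨σ, hσ⟩), K.ι_app_mkSec _ _ _⟩)
  have hv := isGradedHom_symHom K.ι
  have hvv : IsGradedHom (𝒜 := grSymAlg K.toModules) (ℬ := 𝒯) (symHom K.ι ≫ v₀) :=
    fun U hU d x hx => hv₀ U hU d _ (hv U hU d x hx)
  obtain ⟨u', hu'⟩ : ∃ u' : QGrHom q (grSymAlg K.toModules) 𝒮L,
      ∀ U : Y.Opens, u'.app U = (symHom K.ι ≫ v₀).hom.app (op U) ≫ u.app U :=
    ⟨precomp (𝒯 := grSymAlg K.toModules) (𝒮 := 𝒯) u (symHom K.ι ≫ v₀) hvv, fun U => rfl⟩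
  refine ⟨K, hKq, hKft, u', hu', ?_, ?_⟩
  · intro x
    obtain ⟨y, hy⟩ := Set.mem_iUnion.mp (ht₁ (Set.mem_univ x))
    obtain ⟨hyt, hxy⟩ := Set.mem_iUnion.mp hy
    obtain ⟨t', ht', hvt'⟩ : ∃ t' ∈ (grSymAlg K.toModules).deg (V₁ y).1 (V₁ y).2 1,
        ((symHom K.ι).hom.app (op (V₁ y).1)).hom t' = sl₁ y := hlift ⟨V₁ y, 1, ⟨sl₁ y, hsl₁ y⟩⟩
      (Finset.mem_union_right _ (Finset.mem_image_of_mem _ hyt))
    have hvt'' : ((symHom K.ι ≫ v₀).hom.app (op (V₁ y).1)).hom t' = s₁ y := by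
      change (v₀.hom.app _).hom (((symHom K.ι).hom.app _).hom t') = _
      rw [hvt', hsl₁']
    obtain ⟨e, he⟩ := ProjCI.exists_j_eq_of_mem_deg_one K.toModules (grSymAlg K.toModules)
      (SymQC.j K.toModules) (SymQC.isGrSymAlg _) (V₁ y).1 (V₁ y).2 t' ht'
    obtain ⟨V', hV', hle, hxV', hg⟩ := (mem_Xf_iff u (V₁ y).1 1 (s₁ y) x).mp hxy
    refine ⟨(V₁ y).1, (V₁ y).2, e, V', hV', hle, hxV', ?_⟩
    have hg' : Good u' (V₁ y).1 V' hV' hle 1 t' :=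
      (good_comp_iff u u' (symHom K.ι ≫ v₀) hu' (V₁ y).1 V' hV' hle 1 t').mpr
        (by have h := hg; rw [← hvt''] at h; exact h)
    rw [← he] at hg'
    exact hg'
  · intro x
    obtain ⟨y, hy⟩ := Set.mem_iUnion.mp (ht (Set.mem_univ x))
    obtain ⟨hyt, hxy⟩ := Set.mem_iUnion.mp hy
    obtain ⟨t', ht', hvt'⟩ : ∃ t' ∈ (grSymAlg K.toModules).deg (V y).1 (V y).2 (n y),
        ((symHom K.ι).hom.app (op (V y).1)).hom t' = sl y := hlift ⟨V y, n y, ⟨sl y, hsl y⟩⟩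
      (Finset.mem_union_left _ (Finset.mem_union_left _ (Finset.mem_image_of_mem _ hyt)))
    have hvt'' : ((symHom K.ι ≫ v₀).hom.app (op (V y).1)).hom t' = s y := by
      change (v₀.hom.app _).hom (((symHom K.ι).hom.app _).hom t') = _
      rw [hvt', hsl']
    have hXf : Xf u' (V y).1 (n y) t' = Xf u (V y).1 (n y) (s y) :=
      (Xf_comp u u' (symHom K.ι ≫ v₀) hu' (V y).1 (n y) t').trans (congrArg (Xf u (V y).1 (n y)) hvt'')
    refine ⟨(V y).1, (V y).2, n y, hn y, t', ht', ?_, ?_, ?_⟩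
    · rw [hXf]; exact hxy
    · rw [hXf]; exact haff y
    · refine hEc2 y (grSymAlg K.toModules) (symHom K.ι ≫ v₀) u' hu' t' ht' hvt'' fun e he => ?_
      obtain ⟨t'', ht'', h''⟩ := hlift ⟨V y, e.1 * n y, ⟨el y ⟨e, he⟩, hel y ⟨e, he⟩⟩⟩
        (Finset.mem_union_left _ (Finset.mem_union_right _ (Finset.mem_biUnion.mpr
          ⟨y, hyt, Finset.mem_image.mpr ⟨⟨e, he⟩, Finset.mem_attach _ _, rfl⟩⟩)))
      refine ⟨t'', ht'', ?_⟩
      change (v₀.hom.app _).hom (((symHom K.ι).hom.app _).hom t'') = _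
      rw [h'', hel']

end Groth.Agent.Lib.Helper3.FTRed
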