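import Groth.Agent.Lib.Helper3.SymQGrHom
/-!
# Homogeneous induction in a graded symmetric algebra over an affine open
-/
set_option autoImplicit false
set_option linter.unusedSectionVars false
universe u
open CategoryTheory CategoryTheory.Limits AlgebraicGeometry Opposite TopologicalSpace
open RelSpec AlgebraicGeometry.Scheme.AffineZariskiSite
open scoped HomogeneousIdeal
open Groth.Agent.Lib.Helper29.QCoh Groth.Agent.Lib.Helper3.SymAlg

namespace Groth.Agent.Lib.Helper3.SymQC
open Groth.Agent.Lib.Helper3.SymGr Groth.Agent.Lib.Helper3.GrTransport Groth.Agent.Lib.Helper3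
open RelProj

variable {S : Scheme.{u}} {E : S.Modules} [E.IsQuasicoherent] {𝒮 : QCGrAlg S} {j : E ⟶ 𝒮.toModule}

/-- induction over the homogeneous elements of a graded symmetric algebra over an affine open -/
theorem homog_induction (hj : IsGrSymAlg E 𝒮 j) (U : S.Opens) (hU : IsAffineOpen U)
    (C : ℕ → 𝒮.presheaf.obj (op U) → Prop)
    (h0 : ∀ r : Γ(S, U), C 0 ((𝒮.str.app (op U)).hom r))
    (hadd : ∀ n a b, C n a → C n b → C n (a + b))
    (hmul : ∀ n (m : Γ(E, U)) a, C n a → C (n + 1) ((show 𝒮.presheaf.obj (op U) from j.app U m) * a)) :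
    ∀ n a, a ∈ 𝒮.deg U hU n → C n a := by
  obtain ⟨ε, hε1, hε2⟩ := exists_ringEquiv_of_isSymAlg hj.1 U hU
  have hmem : ∀ n x, x ∈ symDeg Γ(S, U) Γ(E, U) n → ε x ∈ 𝒮.deg U hU n ∧ C n (ε x) := by
    intro n x hx
    unfold symDeg at hx
    induction hx using Submodule.pow_induction_on_left' with
    | algebraMap r => rw [hε1]; exact ⟨𝒮.str_mem U hU r, h0 r⟩
    | add x y i hx hy ihx ihy => rw [map_add]; exact ⟨add_mem ihx.1 ihy.1, hadd _ _ _ ihx.2 ihy.2⟩
    | mem_mul m hm i x hx ih =>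
      obtain ⟨m, rfl⟩ := hm
      rw [map_mul]
      have h2 : ε (SymmetricAlgebra.ι _ _ m) = (show 𝒮.presheaf.obj (op U) from j.app U m) := hε2 m
      refine ⟨?_, h2 ▸ hmul _ m _ ih.2⟩
      have := SetLike.mul_mem_graded (h2 ▸ hj.2 U hU m : ε (SymmetricAlgebra.ι _ _ m) ∈ 𝒮.deg U hU 1) ih.1
      rwa [add_comm] at this
  intro n a ha
  let φ : symDeg Γ(S, U) Γ(E, U) →+*ᵍ 𝒮.deg U hU :=
    { ε.toRingHom with map_mem := fun {_ _} hx => (hmem _ _ hx).1 }
  have hx : ε.symm a ∈ symDeg Γ(S, U) Γ(E, U) n := by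
    refine mem_of_map_mem_of_injective φ ε.injective ?_
    change ε (ε.symm a) ∈ _
    rw [ε.apply_symm_apply]; exact ha
  have := (hmem n _ hx).2
  rwa [ε.apply_symm_apply] at this

end Groth.Agent.Lib.Helper3.SymQC
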