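import Groth.Agent.Lib.Helper3.FTRed10
import Groth.Agent.Lib.Helper3.VAF3
/-!
# Comparison of an abstract graded symmetric algebra with the concrete one; uniqueness of `q`-morphisms out of a
graded symmetric algebra
-/
set_option autoImplicit false
set_option linter.unusedSectionVars false
universe u
open CategoryTheory CategoryTheory.Limits AlgebraicGeometry Opposite TopologicalSpace
open scoped HomogeneousIdeal
open Groth.Agent.Lib.Helper29.QCoh

namespace Groth.Agent.Lib.Helper3.FTRed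
open RelProj RelSpec Groth.Agent.Lib.Helper3 Groth.Agent.Lib.Helper3.SymAlg Groth.Agent.Lib.Helper3.SymGr
  Groth.Agent.Lib.Helper3.SymQC Groth.Agent.Lib.Helper3.SymLine

section Iso
variable {Y : Scheme.{u}} (F : Y.Modules) [F.IsQuasicoherent] (𝒯 : QCGrAlg Y) (jF : F ⟶ 𝒯.toModule)

/-- the graded isomorphism from the concrete `Sym(F)` to an abstract graded symmetric algebra of `F` -/
theorem exists_graded_iso (h𝒯 : IsGrSymAlg F 𝒯 jF) :
    ∃ e : symAlg F ≅ 𝒯.toQCAlg, IsGradedHom (𝒜 := grSymAlg F) (ℬ := 𝒯) e.hom ∧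
      IsGradedHom (𝒜 := 𝒯) (ℬ := grSymAlg F) e.inv ∧
      (∀ (U : Y.Opens) (x : Γ(F, U)),
        (e.hom.hom.app (op U)).hom (show (symAlg F).presheaf.obj (op U) from (SymQC.j F).app U x) =
          (show 𝒯.presheaf.obj (op U) from jF.app U x)) ∧
      (∀ (U : Y.Opens) (a : (symAlg F).presheaf.obj (op U)),
        (e.inv.hom.app (op U)).hom ((e.hom.hom.app (op U)).hom a) = a) ∧
      (∀ (U : Y.Opens) (b : 𝒯.presheaf.obj (op U)),
        (e.hom.hom.app (op U)).hom ((e.inv.hom.app (op U)).hom b) = b) := by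
  obtain ⟨e, he⟩ := exists_iso_of_isSymAlg (isSymAlg (E := F)) h𝒯.1
  have he' : e.hom = liftHom 𝒯.toQCAlg jF := liftHom_unique 𝒯.toQCAlg jF e.hom he
  have hgr : IsGradedHom (𝒜 := grSymAlg F) (ℬ := 𝒯) e.hom := by
    rw [he']; exact isGradedHom_liftHom 𝒯 jF h𝒯.2
  have hinv : ∀ (U : Y.Opens) (a : (symAlg F).presheaf.obj (op U)),
      (e.inv.hom.app (op U)).hom ((e.hom.hom.app (op U)).hom a) = a := fun U a =>
    congrArg (fun k : symAlg F ⟶ symAlg F => (k.hom.app (op U)).hom a) e.hom_inv_id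
  have hinv' : ∀ (U : Y.Opens) (b : 𝒯.presheaf.obj (op U)),
      (e.hom.hom.app (op U)).hom ((e.inv.hom.app (op U)).hom b) = b := fun U b =>
    congrArg (fun k : 𝒯.toQCAlg ⟶ 𝒯.toQCAlg => (k.hom.app (op U)).hom b) e.inv_hom_id
  refine ⟨e, hgr, ?_, ?_, hinv, hinv'⟩
  · intro U hU d x hx
    refine mem_of_map_mem_of_injective (gradedHomAt (𝒜 := grSymAlg F) (ℬ := 𝒯) e.hom hgr U hU) ?_ ?_
    · intro a b hab
      have := congrArg (e.inv.hom.app (op U)).hom hab
      change (e.inv.hom.app (op U)).hom ((e.hom.hom.app (op U)).hom a) =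
        (e.inv.hom.app (op U)).hom ((e.hom.hom.app (op U)).hom b) at this
      rwa [hinv, hinv] at this
    · change (e.hom.hom.app (op U)).hom ((e.inv.hom.app (op U)).hom x) ∈ 𝒯.deg U hU d
      rw [hinv']; exact hx
  · intro U x
    exact congrArg (fun k : F ⟶ 𝒯.toModule => (show 𝒯.presheaf.obj (op U) from k.app U x)) he

end Iso

section Uniq
variable {X Y : Scheme.{u}} {q : X ⟶ Y} {E : Y.Modules} [E.IsQuasicoherent] {𝒯 : QCGrAlg Y}
  {jE : E ⟶ 𝒯.toModule} {𝒮L : QCGrAlg X}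

/-- two graded `q`-morphisms out of a graded symmetric algebra which agree on the generators agree -/
theorem qgrHom_app_eq (h𝒯 : IsGrSymAlg E 𝒯 jE) (u₁ u₂ : QGrHom q 𝒯 𝒮L)
    (h : ∀ (U : Y.Opens) (x : Γ(E, U)), (u₁.app U).hom ((jE.app U) x) = (u₂.app U).hom ((jE.app U) x))
    (U : Y.Opens) : u₁.app U = u₂.app U := by
  classical
  -- affine case
  have haff : ∀ (W : Y.Opens) (hW : IsAffineOpen W) (a : 𝒯.presheaf.obj (op W)),
      (u₁.app W).hom a = (u₂.app W).hom a := by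
    intro W hW a
    have hh : ∀ n a, a ∈ 𝒯.deg W hW n → (u₁.app W).hom a = (u₂.app W).hom a := by
      refine homog_induction h𝒯 W hW (fun _ a => (u₁.app W).hom a = (u₂.app W).hom a) ?_ ?_ ?_
      · intro r
        have h1 := congrArg (fun k => k.hom r) (u₁.str_app W)
        have h2 := congrArg (fun k => k.hom r) (u₂.str_app W)
        exact h1.trans h2.symm
      · intro n a b ha hb
        rw [map_add, map_add, ha, hb]
      · intro n m a ha
        rw [map_mul, map_mul, ha]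
        congr 1
        exact h W m
    rw [← DirectSum.sum_support_decompose (𝒯.deg W hW) a, map_sum, map_sum]
    exact Finset.sum_congr rfl fun i _ => hh i _ (SetLike.coe_mem _)
  ext a
  refine TopCat.Sheaf.eq_of_locally_eq' (⟨𝒮L.presheaf, 𝒮L.isSheaf⟩ : TopCat.Sheaf CommRingCat.{u} X.carrier)
    (fun W : {W : Y.affineOpens // W.1 ≤ U} => q ⁻¹ᵁ W.1.1) (q ⁻¹ᵁ U)
    (fun W => homOfLE (q.preimage_mono W.2)) ?_ _ _ ?_
  · intro x hx
    obtain ⟨W, hW, hxW, hWU⟩ := exists_isAffineOpen_mem_and_subset (x := q.base x) (U := U) hx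
    exact Opens.mem_iSup.mpr ⟨⟨⟨W, hW⟩, hWU⟩, hxW⟩
  · intro W
    have h1 := congrArg (fun k => k.hom a) (u₁.naturality W.2)
    have h2 := congrArg (fun k => k.hom a) (u₂.naturality W.2)
    exact h1.trans ((haff W.1.1 W.1.2 _).trans h2.symm)

end Uniq

end Groth.Agent.Lib.Helper3.FTRed
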