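import Groth.Agent.Lib.Helper3.FTRed1
import Groth.Agent.Lib.Helper3.QCAlgGen
/-!
# Finite-type reduction, part 2: precomposition of graded `q`-morphisms; finite-type submodules through finitely
many sections
-/
set_option autoImplicit false
set_option linter.unusedSectionVars false
universe u
open CategoryTheory CategoryTheory.Limits AlgebraicGeometry Opposite TopologicalSpace
open scoped HomogeneousIdeal
open Groth.Agent.Lib.Helper29.QCoh

namespace Groth.Agent.Lib.Helper3.FTRed
open RelProj RelSpec Groth.Agent.Lib.Helper3 Groth.Agent.Lib.Helper3.SymAlg Groth.Agent.Lib.Helper3.SymGr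
  Groth.Agent.Lib.Helper3.SymQC

section Comp
variable {X Y : Scheme.{u}} {q : X ⟶ Y} {𝒯 𝒮 : QCGrAlg Y} {𝒮L : QCGrAlg X}

/-- precomposition of a graded `q`-morphism with a graded homomorphism -/
noncomputable def precomp (u : QGrHom q 𝒮 𝒮L) (v : 𝒯.toQCAlg ⟶ 𝒮.toQCAlg) (hv : IsGradedHom v) : QGrHom q 𝒯 𝒮L where
  app U := v.hom.app (op U) ≫ u.app U
  naturality {U V} i := by
    rw [Category.assoc, u.naturality i, ← Category.assoc, ← Category.assoc]
    congr 1
    exact (v.hom.naturality (homOfLE i).op).symm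
  str_app U := by
    rw [← Category.assoc]
    have h1 := NatTrans.congr_app v.comm (op U)
    rw [NatTrans.comp_app] at h1
    rw [h1, u.str_app]
  map_mem U hU U' hU' hle d x hx := u.map_mem U hU U' hU' hle (hv U hU d x hx)

theorem precomp_app (u : QGrHom q 𝒮 𝒮L) (v : 𝒯.toQCAlg ⟶ 𝒮.toQCAlg) (hv : IsGradedHom v) (U : Y.Opens) :
    (precomp u v hv).app U = v.hom.app (op U) ≫ u.app U := rfl

end Comp

section FT
variable {X : Scheme.{u}}

/-- finitely many sections over affine opens of a quasi-coherent module lie in a quasi-coherent submodule of finite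
type -/
theorem exists_finiteType_subSh_through (h : HasFTThrough X) (F : X.Modules) [F.IsQuasicoherent]
    {κ : Type*} [Finite κ] (V : κ → X.Opens) (hV : ∀ i, IsAffineOpen (V i)) (b : ∀ i, Γ(F, V i)) :
    ∃ E : SubSh F, E.toModules.IsQuasicoherent ∧ E.toModules.IsFiniteType ∧ ∀ i, b i ∈ E.carrier (V i) := by
  have h2 : ∀ i : κ, ∃ K : SubSh F, K.toModules.IsQuasicoherent ∧ K.toModules.IsFiniteType ∧
      b i ∈ K.carrier (V i) := fun i => h F (V i) (hV i) (b i)
  choose K hK1 hK2 hK3 using h2
  have hKqc : ∀ i (T : X.Opens), IsAffineOpen T → (K i).IsQCOn T := fun i T hT => by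
    have := hK1 i
    exact (K i).isQCOn_of_isQuasicoherent hT
  have hKfg : ∀ i (T : X.Opens), IsAffineOpen T → ((K i).carrier T).FG := fun i T hT => by
    have := hK1 i
    have := hK2 i
    exact (K i).fg_of_isFiniteType hT
  have hEqc : ∀ T : X.Opens, IsAffineOpen T → (SubSh.iSup K).IsQCOn T :=
    fun T hT => SubSh.isQCOn_iSup K hT (fun i T' hT' _ => hKqc i T' hT')
  have hq : (SubSh.iSup K).toModules.IsQuasicoherent :=
    SubSh.isQuasicoherent_toModules (SubSh.iSup K) (fun W : X.affineOpens => (W : X.Opens))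
      (isOpenCover_affineOpens X) (fun W => W.2) (fun W => hEqc W.1 W.2)
  have hft : (SubSh.iSup K).toModules.IsFiniteType :=
    SubSh.isFiniteType_toModules (SubSh.iSup K) (fun W : X.affineOpens => (W : X.Opens))
      (isOpenCover_affineOpens X) (fun W => W.2)
      (fun W => SubSh.iSup_fg K W.2 (fun i => hKqc i W.1 W.2) (fun i => hKfg i W.1 W.2))
  exact ⟨SubSh.iSup K, hq, hft, fun i => SubSh.le_iSup K i (V i) (hK3 i)⟩

end FT

end Groth.Agent.Lib.Helper3.FTRed
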