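import Groth.Agent.Lib.Helper3.FTRed2
import Groth.Agent.Lib.Helper3.VAAffTriv
/-!
# Finite-type reduction, part 3: collecting finitely many lifting conditions; the reduced `q`-morphism
-/
set_option autoImplicit false
set_option linter.unusedSectionVars false
universe u
open CategoryTheory CategoryTheory.Limits AlgebraicGeometry Opposite TopologicalSpace
open scoped HomogeneousIdeal
open Groth.Agent.Lib.Helper29.QCoh

namespace Groth.Agent.Lib.Helper3.FTRed
open RelProj RelSpec Groth.Agent.Lib.Helper3 Groth.Agent.Lib.Helper3.SymAlg Groth.Agent.Lib.Helper3.SymGr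
  Groth.Agent.Lib.Helper3.SymQC

section Collect
variable {S : Scheme.{u}} (F : S.Modules) [F.IsQuasicoherent]

/-- homogeneous elements of `Sym(F)` over affine opens -/
abbrev HElt : Type u :=
  Σ V : S.affineOpens, Σ d : ℕ, {y : (symAlg F).presheaf.obj (op V.1) // y ∈ (grSymAlg F).deg V.1 V.2 d}

/-- sections of `F` over affine opens -/
abbrev ASec : Type u := Σ V : S.affineOpens, Γ(F, V.1)

/-- finitely many homogeneous elements of `Sym(F)` over affine opens lift to `Sym(E)` once finitely many sections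
of `F` over affine opens come from `E` -/
theorem exists_finset_sections (𝔜 : Finset (HElt F)) :
    ∃ 𝔖 : Finset (ASec F), ∀ {E : S.Modules} [E.IsQuasicoherent] (ι : E ⟶ F),
      (∀ σ ∈ 𝔖, ∃ e : Γ(E, σ.1.1), ι.app σ.1.1 e = σ.2) →
        ∀ η ∈ 𝔜, ∃ t ∈ (grSymAlg E).deg η.1.1 η.1.2 η.2.1, ((symHom ι).hom.app (op η.1.1)).hom t = η.2.2.1 := by
  classical
  have h1 : ∀ η : HElt F, ∃ T : Finset Γ(F, η.1.1), ∀ {E : S.Modules} [E.IsQuasicoherent] (ι : E ⟶ F),
      (∀ m ∈ T, ∃ e : Γ(E, η.1.1), ι.app η.1.1 e = m) →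
        ∃ t ∈ (grSymAlg E).deg η.1.1 η.1.2 η.2.1, ((symHom ι).hom.app (op η.1.1)).hom t = η.2.2.1 :=
    fun η => exists_finset_lift_symHom η.1.1 η.1.2 η.2.2.2
  choose T hT using h1
  refine ⟨𝔜.biUnion (fun η => (T η).image (fun m => (⟨η.1, m⟩ : ASec F))), fun {E} _ ι hι η hη => ?_⟩
  refine hT η ι fun m hm => ?_
  exact hι ⟨η.1, m⟩ (Finset.mem_biUnion.mpr ⟨η, hη, Finset.mem_image_of_mem _ hm⟩)

end Collect

section AllOpens
variable {X Y : Scheme.{u}} (q : X ⟶ Y) {L : X.Modules} {𝒜 : QCGrAlg Y} {𝒮L : QCGrAlg X}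
  (jA : (Scheme.Modules.pushforward q).obj L ⟶ 𝒜.toModule) (jL : L ⟶ 𝒮L.toModule) (u₀ : QGrHom q 𝒜 𝒮L)

/-- the compatibility of the canonical `q`-morphism with `jL`, over all opens -/
theorem hu_all
    (hu₀ : ∀ (U : Y.Opens) (_ : IsAffineOpen U) (x : Γ((Scheme.Modules.pushforward q).obj L, U)),
      (u₀.app U).hom ((jA.app U) x) = (jL.app (q ⁻¹ᵁ U)) x)
    (U : Y.Opens) (m : Γ((Scheme.Modules.pushforward q).obj L, U)) :
    (u₀.app U).hom ((jA.app U) m) = (jL.app (q ⁻¹ᵁ U)) m := by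
  suffices hs : (show Γ(𝒮L.toModule, q ⁻¹ᵁ U) from (u₀.app U).hom ((jA.app U) m)) - (jL.app (q ⁻¹ᵁ U)) m = 0 from
    sub_eq_zero.mp hs
  refine eq_zero_of_res_cover_eq_zero 𝒮L.toModule
    (fun V : {V : Y.affineOpens // V.1.1 ≤ U} => q ⁻¹ᵁ V.1.1) (fun V => q.preimage_mono V.2) ?_ _ ?_
  · intro x hx
    obtain ⟨_, ⟨V, hV : IsAffineOpen V, rfl⟩, hxV, hVU⟩ :=
      Y.isBasis_affineOpens.exists_subset_of_mem_open (show q.base x ∈ U from hx) U.isOpen
    exact Opens.mem_iSup.mpr ⟨⟨⟨V, hV⟩, hVU⟩, hxV⟩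
  · intro V
    rw [map_sub, sub_eq_zero]
    have h1 : res 𝒮L.toModule (q.preimage_mono V.2)
        (show Γ(𝒮L.toModule, q ⁻¹ᵁ U) from (u₀.app U).hom ((jA.app U) m)) =
        (u₀.app V.1.1).hom ((𝒜.presheaf.map (homOfLE V.2).op).hom (show 𝒜.presheaf.obj (op U) from jA.app U m)) :=
      congrArg (fun k => k.hom (show 𝒜.presheaf.obj (op U) from jA.app U m)) (u₀.naturality V.2)
    have h2 : (𝒜.presheaf.map (homOfLE V.2).op).hom (show 𝒜.presheaf.obj (op U) from jA.app U m) =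
        (show 𝒜.presheaf.obj (op V.1.1) from
          jA.app V.1.1 (res ((Scheme.Modules.pushforward q).obj L) V.2 m)) :=
      (app_res jA V.2 m).symm
    have h3 : res 𝒮L.toModule (q.preimage_mono V.2) ((jL.app (q ⁻¹ᵁ U)) m) =
        jL.app (q ⁻¹ᵁ V.1.1) (res L (q.preimage_mono V.2) m) := (app_res jL (q.preimage_mono V.2) m).symm
    rw [h1, h2, h3]
    exact hu₀ V.1.1 V.1.2 _

end AllOpens

end Groth.Agent.Lib.Helper3.FTRed
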