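import Groth.Agent.Lib.Helper3.VAF16
/-!
# Degree-one version of the local data; versions for a morphism equal to `i ≫ p`
-/
set_option autoImplicit false
set_option linter.unusedSectionVars false
universe u
open CategoryTheory CategoryTheory.Limits AlgebraicGeometry Opposite TopologicalSpace
open AlgebraicGeometry.Scheme.AffineZariskiSite
open scoped HomogeneousIdeal
open Groth.Agent.Lib.Helper29

namespace Groth.Agent.Lib.Helper3.VAF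
open RelProj RelSpec Groth.Agent.Lib.Helper3 Groth.Agent.Lib.Helper3.RelGlued Groth.Agent.Lib.Helper3.VASec
open Groth.Agent.Lib.Helper3.RelTilde (e)
open Groth.Agent.Lib.Helper29.QCoh (res IsTriv rres)
open Groth.Agent.Lib.Helper3.TildeQC Groth.Agent.Lib.Helper3.SymLine

variable {X Y P : Scheme.{u}} {𝒮 : QCGrAlg Y} (p : P ⟶ Y)
  (chart : ∀ (U : Y.Opens) (hU : IsAffineOpen U), (((p ⁻¹ᵁ U : P.Opens) : Scheme.{u}) ≅ Proj (𝒮.deg U hU)))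
  {O1 : P.Modules}
  {lam : ∀ (U : Y.Opens) (hU : IsAffineOpen U),
      O1 ⟶ (Scheme.Modules.pushforward (emb p chart U hU)).obj (GrTwist.twist (𝒮.deg U hU) 1)}
  (hO1 : IsRelTwist 𝒮 p chart 1 O1 lam) (hP : IsRelProj 𝒮 p chart) (i : X ⟶ P) {A : X.Modules}
  (eA : A ≅ (Scheme.Modules.pullback i).obj O1)
  {E' : Y.Modules} [E'.IsQuasicoherent] {j' : E' ⟶ 𝒮.toModule} (hj' : IsGrSymAlg E' 𝒮 j')
  {𝒮L : QCGrAlg X} (jL : A ⟶ 𝒮L.toModule) [A.IsQuasicoherent] (hjL : IsGrSymAlg A 𝒮L jL)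
  {𝒜 : QCGrAlg Y} (jE : (Scheme.Modules.pushforward (i ≫ p)).obj A ⟶ 𝒜.toModule)
  (hjE1 : ∀ (U : Y.Opens) (hU : IsAffineOpen U) (x : Γ((Scheme.Modules.pushforward (i ≫ p)).obj A, U)),
    (jE.app U) x ∈ 𝒜.deg U hU 1)
  (u : QGrHom (i ≫ p) 𝒜 𝒮L)
  (hu : ∀ (U : Y.Opens) (_ : IsAffineOpen U) (x : Γ((Scheme.Modules.pushforward (i ≫ p)).obj A, U)),
    (u.app U).hom ((jE.app U) x) = (jL.app ((i ≫ p) ⁻¹ᵁ U)) x)

include hO1 hP eA hj' hjL hjE1 hu in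
/-- every point lies in some `X_s` with `s` of degree one -/
theorem exists_deg_one (x : X) (V : Y.AffineZariskiSite) (hxV : p.base (i.base x) ∈ V.1) :
    ∃ (s : 𝒜.presheaf.obj (op V.1)) (_ : s ∈ 𝒜.deg V.1 V.2 1), x ∈ Xf u V.1 1 s := by
  have hgen : 𝒮.IsGenDegOne := RelGlued.isGenDegOne_of_isGrSymAlg E' 𝒮 j' hj'
  obtain ⟨t, ht⟩ := exists_deg_one_stdOpen p chart hgen V (i.base x) hxV
  obtain ⟨ha, s, hs, hrel⟩ := rel_of_mem p chart hO1 hP i eA hj' jL jE hjE1 u hu V 1 t.1 t.2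
  have hXf := Xf_eq_preimage p chart hO1 i eA hgen jL hjL u V 1 t s hrel
  exact ⟨s, hs, by rw [hXf]; exact ht⟩

/-- the local data for a morphism `q'` equal to `i ≫ p` -/
theorem exists_data_of_eq {X Y P : Scheme.{u}} {𝒮 : QCGrAlg Y} (p : P ⟶ Y)
    (chart : ∀ (U : Y.Opens) (hU : IsAffineOpen U), (((p ⁻¹ᵁ U : P.Opens) : Scheme.{u}) ≅ Proj (𝒮.deg U hU)))
    {O1 : P.Modules}
    {lam : ∀ (U : Y.Opens) (hU : IsAffineOpen U),
      O1 ⟶ (Scheme.Modules.pushforward (emb p chart U hU)).obj (GrTwist.twist (𝒮.deg U hU) 1)}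
    (hO1 : IsRelTwist 𝒮 p chart 1 O1 lam) (hP : IsRelProj 𝒮 p chart) (i : X ⟶ P) [IsImmersion i]
    (q' : X ⟶ Y) (hq : i ≫ p = q') {A : X.Modules}
    (eA : A ≅ (Scheme.Modules.pullback i).obj O1)
    {E' : Y.Modules} [E'.IsQuasicoherent] {j' : E' ⟶ 𝒮.toModule} (hj' : IsGrSymAlg E' 𝒮 j')
    {𝒮L : QCGrAlg X} (jL : A ⟶ 𝒮L.toModule) [A.IsQuasicoherent] (hjL : IsGrSymAlg A 𝒮L jL)
    {𝒜 : QCGrAlg Y} (jE : (Scheme.Modules.pushforward q').obj A ⟶ 𝒜.toModule)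
    (hjE1 : ∀ (U : Y.Opens) (hU : IsAffineOpen U) (x : Γ((Scheme.Modules.pushforward q').obj A, U)),
      (jE.app U) x ∈ 𝒜.deg U hU 1)
    (u : QGrHom q' 𝒜 𝒮L)
    (hu : ∀ (U : Y.Opens) (_ : IsAffineOpen U) (x : Γ((Scheme.Modules.pushforward q').obj A, U)),
      (u.app U).hom ((jE.app U) x) = (jL.app (q' ⁻¹ᵁ U)) x)
    (x : X) (V : Y.Opens) (hV : IsAffineOpen V) (hxV : q'.base x ∈ V) :
    (∃ (n : ℕ) (_ : 0 < n) (s : 𝒜.presheaf.obj (op V)) (_ : s ∈ 𝒜.deg V hV n),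
      x ∈ Xf u V n s ∧ IsAffineOpen (Xf u V n s) ∧ CondIII u V hV n s) ∧
    (∃ (s : 𝒜.presheaf.obj (op V)) (_ : s ∈ 𝒜.deg V hV 1), x ∈ Xf u V 1 s) := by
  subst hq
  exact ⟨exists_data p chart hO1 hP i eA hj' jL hjL jE hjE1 u hu x ⟨V, hV⟩ hxV,
    exists_deg_one p chart hO1 hP i eA hj' jL hjL jE hjE1 u hu x ⟨V, hV⟩ hxV⟩

end Groth.Agent.Lib.Helper3.VAF
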