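import Groth.Agent.Lib.Helper3.RestrQHom3
import Groth.Agent.Lib.Helper3.VAF17
import Groth.Agent.Lib.Helper3.VAAffTriv
import Groth.Agent.Lib.Helper3.VAProper
/-!
# Relative very ampleness is local on the base (the "if" direction)
-/
set_option autoImplicit false
set_option linter.unusedSectionVars false
universe u
open CategoryTheory CategoryTheory.Limits AlgebraicGeometry Opposite TopologicalSpace
open scoped HomogeneousIdeal
open Groth.Agent.Lib.Helper29.QCoh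

namespace Groth.Agent.Lib.Helper3.VALocal
open RelProj RelSpec Groth.Agent.Lib.Helper3 Groth.Agent.Lib.Helper3.SymLine Groth.Agent.Lib.Helper3.Restr

/-- a morphism carrying a relatively very ample module is separated -/
theorem isSeparated_of_isRelVeryAmple {X Y : Scheme.{u}} (q : X ⟶ Y) (L : X.Modules)
    (H : IsRelVeryAmple q L) : IsSeparated q := by
  obtain ⟨E', hE', 𝒮', j', hj', P', p', chart', hP', O1, lam, hO1, i', himm, hip, -⟩ := H
  haveI : IsSeparated p' := VAF.isSeparated_of_isRelProj chart'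
  haveI : IsImmersion i' := himm
  rw [← hip]
  infer_instance

/-- the local data for the canonical `u`, from very ampleness over an open of the base -/
theorem exists_data_of_restrict {X Y : Scheme.{u}} (q : X ⟶ Y) (L : X.Modules) [L.IsQuasicoherent]
    (W : Y.Opens) (H : IsRelVeryAmple (q ∣_ W) (L.restrict (q ⁻¹ᵁ W).ι))
    {𝒮L : QCGrAlg X} (jL : L ⟶ 𝒮L.toModule) (hjL : IsGrSymAlg L 𝒮L jL)
    {𝒜 : QCGrAlg Y} (jE : (Scheme.Modules.pushforward q).obj L ⟶ 𝒜.toModule)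
    (hjE1 : ∀ (U : Y.Opens) (hU : IsAffineOpen U) (x : Γ((Scheme.Modules.pushforward q).obj L, U)),
      (jE.app U) x ∈ 𝒜.deg U hU 1)
    (u : QGrHom q 𝒜 𝒮L)
    (hu : ∀ (U : Y.Opens) (_ : IsAffineOpen U) (x : Γ((Scheme.Modules.pushforward q).obj L, U)),
      (u.app U).hom ((jE.app U) x) = (jL.app (q ⁻¹ᵁ U)) x)
    (x : X) (hx : q.base x ∈ W) :
    ∃ (V : Y.Opens) (hV : IsAffineOpen V),
      (∃ (n : ℕ) (_ : 0 < n) (s : 𝒜.presheaf.obj (op V)) (_ : s ∈ 𝒜.deg V hV n),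
        x ∈ Xf u V n s ∧ IsAffineOpen (Xf u V n s) ∧ CondIII u V hV n s) ∧
      (∃ (s : 𝒜.presheaf.obj (op V)) (_ : s ∈ 𝒜.deg V hV 1), x ∈ Xf u V 1 s) := by
  obtain ⟨E', hE', 𝒮', j', hj', P', p', chart', hP', O1, lam, hO1, i', himm, hip, ⟨eL⟩⟩ := H
  haveI : E'.IsQuasicoherent := hE'
  haveI : IsImmersion i' := himm
  let x' : ((q ⁻¹ᵁ W : X.Opens) : Scheme.{u}) := ⟨x, hx⟩
  have hx'x : (q ⁻¹ᵁ W).ι.base x' = x := rfl
  obtain ⟨V₀, hV₀, hxV₀, -⟩ := exists_isAffineOpen_mem_and_subset (x := (q ∣_ W).base x') (U := ⊤) trivial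
  obtain ⟨⟨n, hn, s, hs, h1, h2, h3⟩, ⟨s₁, hs₁, h4⟩⟩ :=
    VAF.exists_data_of_eq p' chart' hO1 hP' i' (q ∣_ W) hip eL hj' (𝒮L := grAlg 𝒮L (q ⁻¹ᵁ W))
      (restrJ (A := 𝒮L.toQCAlg) jL (q ⁻¹ᵁ W))
      (isGrSymAlg_restr hjL (q ⁻¹ᵁ W)) (𝒜 := grAlg 𝒜 W) (restrJE q W (𝒜 := 𝒜.toQCAlg) jE)
      (fun V hV m => hjE1 (W.ι ''ᵁ V) (hV.image_of_isOpenImmersion W.ι) _)
      (qgrHom q W u) (hu_restr q W jE jL u hu) x' V₀ hV₀ hxV₀
  refine ⟨W.ι ''ᵁ V₀, hV₀.image_of_isOpenImmersion W.ι, ⟨n, hn, s, hs, ?_, ?_, ?_⟩, ⟨s₁, hs₁, ?_⟩⟩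
  · rw [Xf_restr]; exact ⟨x', h1, hx'x⟩
  · rw [Xf_restr]; exact h2.image_of_isOpenImmersion _
  · exact condIII_restr q W u V₀ hV₀ n s h3
  · rw [Xf_restr]; exact ⟨x', h4, hx'x⟩

/-- **relative very ampleness is local on the base** -/
theorem isRelVeryAmple_of_openCover {X Y : Scheme.{u}} (q : X ⟶ Y) [QuasiCompact q] (L : X.Modules)
    (hL : PicF.IsInvertible L) {ι : Type u} (U : ι → Y.Opens) (hU : ⨆ i, U i = ⊤)
    (H : ∀ i, IsRelVeryAmple (q ∣_ (U i)) (L.restrict (q ⁻¹ᵁ (U i)).ι)) : IsRelVeryAmple q L := by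
  haveI : QuasiSeparated q := by
    refine IsZariskiLocalAtTarget.of_iSup_eq_top (P := @QuasiSeparated) U hU fun i => ?_
    haveI := isSeparated_of_isRelVeryAmple _ _ (H i)
    infer_instance
  haveI : L.IsQuasicoherent := isQuasicoherent_of_isInvertible hL
  haveI : ((Scheme.Modules.pushforward q).obj L).IsQuasicoherent := isQuasicoherent_pushforward_of_qcqs q L
  have h𝒜 := SymQC.isGrSymAlg (E := (Scheme.Modules.pushforward q).obj L)
  have hjL := SymQC.isGrSymAlg (E := L)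
  obtain ⟨u, hu⟩ := exists_canonical_qgrHom q L _ _ h𝒜 (SymQC.grSymAlg L) (SymQC.j L) hjL.2
  have hP := RelProjExist.isRelProj (SymQC.grSymAlg ((Scheme.Modules.pushforward q).obj L))
  have hPL := RelProjExist.isRelProj (SymQC.grSymAlg L)
  obtain ⟨r, hr, -⟩ := QProj.existsUnique_isProjQMapOn_domQ (u := u) hP hPL
  have h1 := RelGlued.isGenDegOne_of_isGrSymAlg _ _ _ h𝒜
  have K : ∀ x : X, ∃ (V : Y.Opens) (hV : IsAffineOpen V),
      (∃ (n : ℕ) (_ : 0 < n) (s : (SymQC.grSymAlg ((Scheme.Modules.pushforward q).obj L)).presheaf.obj (op V))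
        (_ : s ∈ (SymQC.grSymAlg ((Scheme.Modules.pushforward q).obj L)).deg V hV n),
        x ∈ Xf u V n s ∧ IsAffineOpen (Xf u V n s) ∧ CondIII u V hV n s) ∧
      (∃ (s : (SymQC.grSymAlg ((Scheme.Modules.pushforward q).obj L)).presheaf.obj (op V))
        (_ : s ∈ (SymQC.grSymAlg ((Scheme.Modules.pushforward q).obj L)).deg V hV 1), x ∈ Xf u V 1 s) := by
    intro x
    have hx : q.base x ∈ ⨆ i, U i := by rw [hU]; trivial
    obtain ⟨i, hi⟩ := Opens.mem_iSup.mp hx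
    exact exists_data_of_restrict q L (U i) (H i) (𝒮L := SymQC.grSymAlg L) (SymQC.j L) hjL
      (𝒜 := SymQC.grSymAlg ((Scheme.Modules.pushforward q).obj L))
      (SymQC.j ((Scheme.Modules.pushforward q).obj L)) h𝒜.2 u hu x hi
  refine ProjBundle.isRelVeryAmple_of_rLpsi_isImmersion q L hL _ _ hjL _ _ hPL _ h1 u ?_ _ _ hP r hr ?_
  · intro x
    obtain ⟨V, hV, -, ⟨s, hs, hxs⟩⟩ := K x
    obtain ⟨V', hV', hle, hxV', hg⟩ := (mem_Xf_iff u V 1 s x).mp hxs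
    exact ⟨V, hV, s, hs, V', hV', hle, hxV', hg⟩
  · refine isImmersion_of_forall hL hjL u hPL hP r hr fun w => ?_
    obtain ⟨V, hV, ⟨n, hn, s, hs, h1, h2, h3⟩, -⟩ := K ((RelProjExist.relProjπ (SymQC.grSymAlg L)).base
      ((domQ u (RelProjExist.relProjπ (SymQC.grSymAlg L)) (RelProjExist.chart (SymQC.grSymAlg L))).ι.base w))
    exact ⟨V, hV, n, hn, s, hs, h1, h2, h3⟩

end Groth.Agent.Lib.Helper3.VALocal
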