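import Groth.Agent.Lib.Helper3.FTRed4
import Groth.Agent.Lib.Helper3.VALocal
import Groth.Agent.Lib.Helper3.ProjCI
/-!
# Finite-type reduction, part 4b: the same over a base with `HasFTThrough`
-/
set_option autoImplicit false
set_option linter.unusedSectionVars false
universe u
open CategoryTheory CategoryTheory.Limits AlgebraicGeometry Opposite TopologicalSpace
open scoped HomogeneousIdeal
open Groth.Agent.Lib.Helper29.QCoh

namespace Groth.Agent.Lib.Helper3.FTRed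
open RelProj RelSpec Groth.Agent.Lib.Helper3 Groth.Agent.Lib.Helper3.SymAlg Groth.Agent.Lib.Helper3.SymGr
  Groth.Agent.Lib.Helper3.SymQC Groth.Agent.Lib.Helper3.SymLine

/-- **finite-type reduction** of the data of a relatively very ample module -/
theorem exists_finiteType_reduction' {X Y : Scheme.{u}}
    (hFT : HasFTThrough Y) [CompactSpace Y] (q : X ⟶ Y) [QuasiCompact q]
    [LocallyOfFiniteType q] (L : X.Modules) (hL : PicF.IsInvertible L) [L.IsQuasicoherent]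
    (𝒮L : QCGrAlg X) (jL : L ⟶ 𝒮L.toModule) (hjL : IsGrSymAlg L 𝒮L jL)
    (h : IsRelVeryAmple q L) :
    ∃ (K : SubSh ((Scheme.Modules.pushforward q).obj L)) (hq : K.toModules.IsQuasicoherent)
      (_ : K.toModules.IsFiniteType) (u : QGrHom q (@grSymAlg _ K.toModules hq) 𝒮L),
      (∀ (U : Y.Opens) (x : Γ(K.toModules, U)),
        (u.app U).hom ((@SymQC.j _ K.toModules hq).app U x) = (jL.app (q ⁻¹ᵁ U)) ((K.ι.app U) x)) ∧
      (∀ x : X, ∃ (U : Y.Opens) (hU : IsAffineOpen U) (e : Γ(K.toModules, U)) (V : X.Opens) (hV : IsAffineOpen V)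
          (hVU : V ≤ q ⁻¹ᵁ U), x ∈ V ∧
            ((𝒮L.deg V hV 1 : AddSubgroup (𝒮L.presheaf.obj (op V))) : Set (𝒮L.presheaf.obj (op V))) ⊆
              (Ideal.span {(u.appLE U V hVU).hom ((@SymQC.j _ K.toModules hq).app U e)} :
                Set (𝒮L.presheaf.obj (op V)))) ∧
      (∀ x : X, ∃ (U : Y.Opens) (hU : IsAffineOpen U) (n : ℕ) (_ : 0 < n)
        (s : (@grSymAlg _ K.toModules hq).presheaf.obj (op U)) (_ : s ∈ (@grSymAlg _ K.toModules hq).deg U hU n),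
        x ∈ Xf u U n s ∧ IsAffineOpen (Xf u U n s) ∧ CondIII u U hU n s) := by
  classical
  haveI : IsSeparated q := VALocal.isSeparated_of_isRelVeryAmple q L h
  haveI hF : ((Scheme.Modules.pushforward q).obj L).IsQuasicoherent := isQuasicoherent_pushforward_of_qcqs q L
  haveI : CompactSpace X := QuasiCompact.compactSpace_of_compactSpace q
  have h𝒜 := SymQC.isGrSymAlg ((Scheme.Modules.pushforward q).obj L)
  obtain ⟨u₀, hu₀⟩ := SymLine.exists_canonical_qgrHom q L _ _ h𝒜 𝒮L jL hjL.2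
  obtain ⟨E', hE', 𝒮', j', hj', P', p', chart', hP', O1, lam, hO1, i', himm, hip, ⟨eL⟩⟩ := h
  haveI : E'.IsQuasicoherent := hE'
  haveI : IsImmersion i' := himm
  have K0 : ∀ x : X, ∃ (V : Y.affineOpens),
      (∃ (n : ℕ) (_ : 0 < n) (s : (grSymAlg ((Scheme.Modules.pushforward q).obj L)).presheaf.obj (op V.1))
        (_ : s ∈ (grSymAlg ((Scheme.Modules.pushforward q).obj L)).deg V.1 V.2 n),
        x ∈ Xf u₀ V.1 n s ∧ IsAffineOpen (Xf u₀ V.1 n s) ∧ CondIII u₀ V.1 V.2 n s) ∧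
      (∃ (s : (grSymAlg ((Scheme.Modules.pushforward q).obj L)).presheaf.obj (op V.1))
        (_ : s ∈ (grSymAlg ((Scheme.Modules.pushforward q).obj L)).deg V.1 V.2 1), x ∈ Xf u₀ V.1 1 s) := by
    intro x
    obtain ⟨V, hV, hxV, -⟩ := exists_isAffineOpen_mem_and_subset (x := q.base x) (U := ⊤) trivial
    exact ⟨⟨V, hV⟩, VAF.exists_data_of_eq p' chart' hO1 hP' i' q hip eL hj' jL hjL
      (𝒜 := grSymAlg ((Scheme.Modules.pushforward q).obj L))
      (SymQC.j ((Scheme.Modules.pushforward q).obj L)) h𝒜.2 u₀ hu₀ x V hV hxV⟩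
  choose V hK using K0
  have K1 := fun x => (hK x).1
  have K2 := fun x => (hK x).2
  choose n hn s hs hx haff h3 using K1
  choose s₁ hs₁ hx₁ using K2
  obtain ⟨t, ht⟩ := isCompact_univ.elim_finite_subcover
    (fun y : X => ((Xf u₀ (V y).1 (n y) (s y) : X.Opens) : Set X)) (fun y => (Xf u₀ (V y).1 (n y) (s y)).isOpen)
    (fun x _ => Set.mem_iUnion.mpr ⟨x, hx x⟩)
  obtain ⟨t₁, ht₁⟩ := isCompact_univ.elim_finite_subcover
    (fun y : X => ((Xf u₀ (V y).1 1 (s₁ y) : X.Opens) : Set X)) (fun y => (Xf u₀ (V y).1 1 (s₁ y)).isOpen)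
    (fun x _ => Set.mem_iUnion.mpr ⟨x, hx₁ x⟩)
  have hEc := fun y => SymLine.exists_finset_condIII u₀ (V y).1 (V y).2 (n y) (s y) (haff y) (h3 y)
  choose Ec hEc1 hEc2 using hEc
  let 𝔜 : Finset (HElt ((Scheme.Modules.pushforward q).obj L)) :=
    t.image (fun y => ⟨V y, n y, ⟨s y, hs y⟩⟩) ∪
    t.biUnion (fun y => (Ec y).attach.image (fun e => ⟨V y, e.1.1 * n y, ⟨e.1.2, hEc1 y e.1 e.2⟩⟩)) ∪
    t₁.image (fun y => ⟨V y, 1, ⟨s₁ y, hs₁ y⟩⟩)
  obtain ⟨𝔖, h𝔖⟩ := exists_finset_sections ((Scheme.Modules.pushforward q).obj L) 𝔜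
  obtain ⟨K, hKq, hKft, hKmem⟩ := exists_finiteType_subSh_through hFT ((Scheme.Modules.pushforward q).obj L)
    (κ := ↥𝔖) (fun σ => σ.1.1.1) (fun σ => σ.1.1.2) (fun σ => σ.1.2)
  haveI := hKq
  have hlift := h𝔖 K.ι (fun σ hσ => ⟨K.mkSec _ σ.2 (hKmem ⟨σ, hσ⟩), K.ι_app_mkSec _ _ _⟩)
  have hv := isGradedHom_symHom K.ι
  obtain ⟨u, hu'⟩ : ∃ u : QGrHom q (grSymAlg K.toModules) 𝒮L,
      ∀ U : Y.Opens, u.app U = (symHom K.ι).hom.app (op U) ≫ u₀.app U :=
    ⟨precomp (𝒯 := grSymAlg K.toModules) (𝒮 := grSymAlg ((Scheme.Modules.pushforward q).obj L)) u₀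
      (symHom K.ι) hv, fun U => rfl⟩
  refine ⟨K, hKq, hKft, u, ?_, ?_, ?_⟩
  · intro U x
    have h1 : ((symHom K.ι).hom.app (op U)).hom (show (symAlg K.toModules).presheaf.obj (op U) from
        (SymQC.j K.toModules).app U x) =
        (show (symAlg ((Scheme.Modules.pushforward q).obj L)).presheaf.obj (op U) from
          (SymQC.j ((Scheme.Modules.pushforward q).obj L)).app U (K.ι.app U x)) :=
      congrArg (fun k => (show (symAlg ((Scheme.Modules.pushforward q).obj L)).presheaf.obj (op U) from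
        k.app U x)) (j_symHom K.ι)
    rw [hu' U]
    change (u₀.app U).hom (((symHom K.ι).hom.app (op U)).hom _) = _
    rw [h1]
    exact hu_all q (SymQC.j _) jL u₀ hu₀ U _
  · intro x
    obtain ⟨y, hy⟩ := Set.mem_iUnion.mp (ht₁ (Set.mem_univ x))
    obtain ⟨hyt, hxy⟩ := Set.mem_iUnion.mp hy
    obtain ⟨t', ht', hvt'⟩ : ∃ t' ∈ (grSymAlg K.toModules).deg (V y).1 (V y).2 1,
        ((symHom K.ι).hom.app (op (V y).1)).hom t' = s₁ y := hlift ⟨V y, 1, ⟨s₁ y, hs₁ y⟩⟩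
      (Finset.mem_union_right _ (Finset.mem_image_of_mem _ hyt))
    obtain ⟨e, he⟩ := ProjCI.exists_j_eq_of_mem_deg_one K.toModules (grSymAlg K.toModules)
      (SymQC.j K.toModules) (SymQC.isGrSymAlg _) (V y).1 (V y).2 t' ht'
    obtain ⟨V', hV', hle, hxV', hg⟩ := (mem_Xf_iff u₀ (V y).1 1 (s₁ y) x).mp hxy
    refine ⟨(V y).1, (V y).2, e, V', hV', hle, hxV', ?_⟩
    have hg' : Good u (V y).1 V' hV' hle 1 t' :=
      (good_comp_iff u₀ u (symHom K.ι) hu' (V y).1 V' hV' hle 1 t').mpr (by have h := hg; rw [← hvt'] at h; exact h)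
    rw [← he] at hg'
    exact hg'
  · intro x
    obtain ⟨y, hy⟩ := Set.mem_iUnion.mp (ht (Set.mem_univ x))
    obtain ⟨hyt, hxy⟩ := Set.mem_iUnion.mp hy
    obtain ⟨t', ht', hvt'⟩ : ∃ t' ∈ (grSymAlg K.toModules).deg (V y).1 (V y).2 (n y),
        ((symHom K.ι).hom.app (op (V y).1)).hom t' = s y := hlift ⟨V y, n y, ⟨s y, hs y⟩⟩
      (Finset.mem_union_left _ (Finset.mem_union_left _ (Finset.mem_image_of_mem _ hyt)))
    have hXf : Xf u (V y).1 (n y) t' = Xf u₀ (V y).1 (n y) (s y) :=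
      (Xf_comp u₀ u (symHom K.ι) hu' (V y).1 (n y) t').trans (congrArg (Xf u₀ (V y).1 (n y)) hvt')
    refine ⟨(V y).1, (V y).2, n y, hn y, t', ht', ?_, ?_, ?_⟩
    · rw [hXf]; exact hxy
    · rw [hXf]; exact haff y
    · refine hEc2 y (grSymAlg K.toModules) (symHom K.ι) u hu' t' ht' hvt' fun e he => ?_
      exact hlift ⟨V y, e.1 * n y, ⟨e.2, hEc1 y e he⟩⟩
        (Finset.mem_union_left _ (Finset.mem_union_right _ (Finset.mem_biUnion.mpr
          ⟨y, hyt, Finset.mem_image.mpr ⟨⟨e, he⟩, Finset.mem_attach _ _, rfl⟩⟩)))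

end Groth.Agent.Lib.Helper3.FTRed
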