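import Groth.Agent.Lib.Helper3.FTRed4
import Groth.Agent.Lib.Helper3.RLpsiVA
/-!
# Finite-type reduction, part 5: the explicit immersion attached to `r_{L,ψ}`
-/
set_option autoImplicit false
set_option linter.unusedSectionVars false
universe u
open CategoryTheory CategoryTheory.Limits AlgebraicGeometry Opposite TopologicalSpace
open scoped HomogeneousIdeal
open Groth.Agent.Lib.Helper29

namespace Groth.Agent.Lib.Helper3.FTRed
open RelProj RelSpec Groth.Agent.Lib.Helper3 Groth.Agent.Lib.Helper3.SymLine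

/-- `r_{L,ψ}` an immersion with `𝒜` generated in degree one and `ψ` surjective in degree one: the explicit immersion
`X ⟶ Proj 𝒜` and the identification of `L` with the inverse image of `O(1)`. -/
theorem exists_immersion_of_rLpsi_isImmersion {X Y P PL : Scheme.{u}} (f : X ⟶ Y)
    (L : X.Modules) (hL : PicF.IsInvertible L) [L.IsQuasicoherent]
    (𝒮L : QCGrAlg X) (jL : L ⟶ 𝒮L.toModule) (hjL : IsGrSymAlg L 𝒮L jL)
    (pL : PL ⟶ X) (chartL : ∀ (U : X.Opens) (hU : IsAffineOpen U), (((pL ⁻¹ᵁ U : PL.Opens) : Scheme.{u}) ≅ Proj (𝒮L.deg U hU)))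
    (hPL : IsRelProj 𝒮L pL chartL)
    (𝒜 : QCGrAlg Y) (h1 : 𝒜.IsGenDegOne)
    (u : QGrHom f 𝒜 𝒮L)
    (hsurj : ∀ x : X, ∃ (U : Y.Opens) (hU : IsAffineOpen U) (e : 𝒜.presheaf.obj (op U)) (_ : e ∈ 𝒜.deg U hU 1)
        (V : X.Opens) (hV : IsAffineOpen V) (hVU : V ≤ f ⁻¹ᵁ U), x ∈ V ∧
          ((𝒮L.deg V hV 1 : AddSubgroup (𝒮L.presheaf.obj (op V))) : Set (𝒮L.presheaf.obj (op V))) ⊆
            (Ideal.span {(u.appLE U V hVU).hom e} : Set (𝒮L.presheaf.obj (op V))))
    (p : P ⟶ Y) (chart : ∀ (U : Y.Opens) (hU : IsAffineOpen U), (((p ⁻¹ᵁ U : P.Opens) : Scheme.{u}) ≅ Proj (𝒜.deg U hU)))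
    (hP : IsRelProj 𝒜 p chart)
    (r : ((domQ u pL chartL : PL.Opens) : Scheme.{u}) ⟶ P)
    (hr : IsProjQMapOn u p chart pL chartL (domQ u pL chartL) r)
    (himm : IsImmersion r) :
    ∃ i : X ⟶ P, IsImmersion i ∧ i ≫ p = f ∧
      Nonempty (L ≅ (Scheme.Modules.pullback i).obj (RelTwist.relTwist p chart hP 1)) := by
  have hisoL : IsIso pL := isIso_pL hL hjL hPL
  -- `r` is everywhere defined
  have htop : domQ u pL chartL = ⊤ := by
    refine (domQ_eq_top_iff_gen hL hjL u hPL).mpr fun x => ?_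
    obtain ⟨U, hU, e, he, V, hV, hVU, hxV, hgood⟩ := hsurj x
    exact ⟨U, hU, 1, one_pos, e, he, V, hV, hVU, hxV, hgood⟩
  have hisoι : IsIso (domQ u pL chartL).ι := by
    rw [htop]; exact PL.topIso.isIso_hom
  -- the total morphism
  let h : PL ⟶ P := inv (domQ u pL chartL).ι ≫ r
  have hh : IsProjQMap u p chart pL chartL h := by
    refine ⟨htop, fun U hU U' hU' hle d hd a ha => ?_⟩
    have hW := range_awayEmb_subset_domQ u pL chartL U hU U' hU' hle hd a ha
    rw [← hr U hU U' hU' hle d hd a ha hW]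
    change _ ≫ inv (domQ u pL chartL).ι ≫ r = _
    rw [← Category.assoc]
    congr 1
    rw [IsIso.comp_inv_eq, IsOpenImmersion.lift_fac]
  have hgenL : 𝒮L.IsGenDegOne := RelGlued.isGenDegOne_of_isGrSymAlg L 𝒮L jL hjL
  have hirr := QLocal.irrelevant_le_map_of_local u hgenL hsurj
  have hO1 := RelTwist.isRelTwist _ _ hP 1
  have hO1L := RelTwist.isRelTwist _ _ hPL 1
  obtain ⟨eO⟩ := RelTwistQ.nonempty_iso_pullback_of_isProjQMap u hP hPL h 1 hO1 hO1L hirr hh h1
  have hcan := RelGlued.isIso_adjunct_canMap pL chartL hO1L hPL L hL jL hjL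
  have himm' : IsImmersion (inv pL ≫ h) := by
    change IsImmersion (inv pL ≫ inv (domQ u pL chartL).ι ≫ r)
    infer_instance
  have hcomp : (inv pL ≫ h) ≫ p = f := by
    rw [Category.assoc, QProj.comp_eq_of_isProjQMap hP hPL hh, IsIso.inv_hom_id_assoc]
  refine ⟨inv pL ≫ h, himm', hcomp, ⟨?_⟩⟩
  exact ((Scheme.Modules.pullbackId X).app L).symm ≪≫
    ((Scheme.Modules.pullbackCongr (IsIso.inv_hom_id pL)).app L).symm ≪≫
    ((Scheme.Modules.pullbackComp (inv pL) pL).app L).symm ≪≫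
    (Scheme.Modules.pullback (inv pL)).mapIso (@asIso _ _ _ _ _ hcan) ≪≫
    (Scheme.Modules.pullback (inv pL)).mapIso eO.symm ≪≫
    (Scheme.Modules.pullbackComp (inv pL) h).app _

end Groth.Agent.Lib.Helper3.FTRed
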