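import Groth.Agent.Lib.Helper3.FTRed4b
import Groth.Agent.Lib.Helper3.FTRed5
import Groth.Agent.Lib.Helper3.ProjCI
import Groth.Agent.Lib.Helper3.VAProper
/-!
# Finite-type reduction, part 6: quasi-compact quasi-separated bases; open immersions into projective schemes
-/
set_option autoImplicit false
set_option linter.unusedSectionVars false
universe u
open CategoryTheory CategoryTheory.Limits AlgebraicGeometry Opposite TopologicalSpace
open scoped HomogeneousIdeal
open Groth.Agent.Lib.Helper29.QCoh

namespace Groth.Agent.Lib.Helper3.FTRed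
open RelProj RelSpec Groth.Agent.Lib.Helper3 Groth.Agent.Lib.Helper3.SymAlg Groth.Agent.Lib.Helper3.SymGr
  Groth.Agent.Lib.Helper3.SymQC

/-- the concrete form of the finite-type reduction over a base with `HasFTThrough` -/
theorem exists_immersion_relProj_finiteType' {X Y : Scheme.{u}}
    (hFT : HasFTThrough Y) [CompactSpace Y] (q : X ⟶ Y) [QuasiCompact q]
    [LocallyOfFiniteType q] (L : X.Modules) (hL : PicF.IsInvertible L) (h : RelProj.IsRelVeryAmple q L) :
    ∃ (E : Y.Modules) (hq : E.IsQuasicoherent) (_ : E.IsFiniteType)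
      (i : X ⟶ RelProjExist.relProj (@grSymAlg _ E hq)), IsImmersion i ∧
        i ≫ RelProjExist.relProjπ (@grSymAlg _ E hq) = q ∧
        Nonempty (L ≅ (Scheme.Modules.pullback i).obj
          (RelTwist.relTwist _ _ (RelProjExist.isRelProj (@grSymAlg _ E hq)) 1)) := by
  classical
  haveI : L.IsQuasicoherent := isQuasicoherent_of_isInvertible hL
  have hjL := SymQC.isGrSymAlg (E := L)
  have hPL := RelProjExist.isRelProj (SymQC.grSymAlg L)
  obtain ⟨K, hKq, hKft, u, hu, hsurj, hdata⟩ :=
    FTRed.exists_finiteType_reduction' hFT q L hL (SymQC.grSymAlg L) (SymQC.j L) hjL h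
  haveI : K.toModules.IsQuasicoherent := hKq
  have hjE := SymQC.isGrSymAlg (E := K.toModules)
  have hP := RelProjExist.isRelProj (SymQC.grSymAlg K.toModules)
  obtain ⟨r, hr, -⟩ := QProj.existsUnique_isProjQMapOn_domQ (u := u) hP hPL
  have h1 := RelGlued.isGenDegOne_of_isGrSymAlg _ _ _ hjE
  have himm : IsImmersion r :=
    SymLine.isImmersion_of_forall hL hjL u hPL hP r hr fun w => hdata _
  obtain ⟨i, hi, hip, hiso⟩ := FTRed.exists_immersion_of_rLpsi_isImmersion q L hL _ _ hjL _ _ hPL _ h1 u
    (fun x => by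
      obtain ⟨U, hU, e, V, hV, hVU, hxV, hg⟩ := hsurj x
      exact ⟨U, hU, _, hjE.2 U hU e, V, hV, hVU, hxV, hg⟩) _ _ hP r hr himm
  exact ⟨K.toModules, hKq, hKft, i, hi, hip, hiso⟩

/-- a quasi-compact immersion into a projective bundle of a module of finite type factors as an open immersion
followed by a projective morphism -/
theorem exists_openImmersion_projective {X Y : Scheme.{u}} (q : X ⟶ Y) [QuasiCompact q]
    (E : Y.Modules) [E.IsQuasicoherent] [E.IsFiniteType]
    (i : X ⟶ RelProjExist.relProj (grSymAlg E)) [IsImmersion i]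
    (hi : i ≫ RelProjExist.relProjπ (grSymAlg E) = q) :
    ∃ (X' : Scheme.{u}) (j : X ⟶ X') (g : X' ⟶ Y), IsOpenImmersion j ∧ RelProj.IsProjective g ∧ j ≫ g = q := by
  haveI : IsSeparated (RelProjExist.relProjπ (grSymAlg E)) :=
    VAF.isSeparated_of_isRelProj (RelProjExist.chart (grSymAlg E))
  haveI : QuasiCompact (i ≫ RelProjExist.relProjπ (grSymAlg E)) := by rw [hi]; infer_instance
  haveI : QuasiCompact i := QuasiCompact.of_comp i (RelProjExist.relProjπ (grSymAlg E))
  obtain ⟨Z, g₁, g₂, h1, h2, h3⟩ := IsImmersion.isImmersion_iff_exists_of_quasiCompact.mp (inferInstance : IsImmersion i)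
  haveI := h2
  refine ⟨Z, g₁, g₂ ≫ RelProjExist.relProjπ (grSymAlg E), h1, ?_, by rw [← Category.assoc, h3, hi]⟩
  exact ProjCI.isProjective_of_closedImmersion_projBundle (g₂ ≫ RelProjExist.relProjπ (grSymAlg E)) E
    (grSymAlg E) (SymQC.j E) _ _ g₂ inferInstance inferInstance (SymQC.isGrSymAlg E)
    (RelProjExist.isRelProj (grSymAlg E)) rfl

end Groth.Agent.Lib.Helper3.FTRed
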