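import Groth.Agent.Lib.Helper3.FTRed6
/-!
# Finite-type reduction, part 7: proper with a very ample module over a qcqs base is projective
-/
set_option autoImplicit false
set_option linter.unusedSectionVars false
universe u
open CategoryTheory CategoryTheory.Limits AlgebraicGeometry Opposite TopologicalSpace
open scoped HomogeneousIdeal
open Groth.Agent.Lib.Helper29.QCoh

namespace Groth.Agent.Lib.Helper3.FTRed
open RelProj RelSpec Groth.Agent.Lib.Helper3 Groth.Agent.Lib.Helper3.SymAlg Groth.Agent.Lib.Helper3.SymGr
  Groth.Agent.Lib.Helper3.SymQC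

theorem isProjective_of_isProper_of_isRelVeryAmple {X Y : Scheme.{u}} [CompactSpace Y] [QuasiSeparatedSpace Y]
    (q : X ⟶ Y) [IsProper q] (L : X.Modules) (hL : PicF.IsInvertible L) (h : RelProj.IsRelVeryAmple q L) :
    RelProj.IsProjective q := by
  obtain ⟨E, hq, hfE, i, hi, hip, -⟩ := exists_immersion_relProj_finiteType' hasFTThrough_of_qcqs q L hL h
  haveI := hq
  haveI := hfE
  haveI := hi
  haveI : IsSeparated (RelProjExist.relProjπ (grSymAlg E)) :=
    VAF.isSeparated_of_isRelProj (RelProjExist.chart (grSymAlg E))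
  haveI : IsProper (i ≫ RelProjExist.relProjπ (grSymAlg E)) := by rw [hip]; infer_instance
  haveI : IsProper i := IsProper.of_comp i (RelProjExist.relProjπ (grSymAlg E))
  haveI : IsClosedImmersion i := IsClosedImmersion.of_isPreimmersion i i.isClosedMap.isClosed_range
  exact ProjCI.isProjective_of_closedImmersion_projBundle q E
    (grSymAlg E) (SymQC.j E) _ _ i hq hfE (SymQC.isGrSymAlg E)
    (RelProjExist.isRelProj (grSymAlg E)) hip

end Groth.Agent.Lib.Helper3.FTRed
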