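import Groth.Agent.Lib.Helper3.FTRed7
/-!
# Finite-type reduction, part 8: variants over a base with `HasFTThrough`; dense open immersions into projective schemes
-/
set_option autoImplicit false
set_option linter.unusedSectionVars false
universe u
open CategoryTheory CategoryTheory.Limits AlgebraicGeometry Opposite TopologicalSpace
open scoped HomogeneousIdeal
open Groth.Agent.Lib.Helper29.QCoh

namespace Groth.Agent.Lib.Helper3.FTRed
open RelProj RelSpec Groth.Agent.Lib.Helper3 Groth.Agent.Lib.Helper3.SymAlg Groth.Agent.Lib.Helper3.SymGr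
  Groth.Agent.Lib.Helper3.SymQC

theorem isProjective_of_isProper_of_isRelVeryAmple' {X Y : Scheme.{u}} (hFT : HasFTThrough Y) [CompactSpace Y]
    (q : X ⟶ Y) [IsProper q] (L : X.Modules) (hL : PicF.IsInvertible L) (h : RelProj.IsRelVeryAmple q L) :
    RelProj.IsProjective q := by
  obtain ⟨E, hq, hfE, i, hi, hip, -⟩ := exists_immersion_relProj_finiteType' hFT q L hL h
  haveI := hq
  haveI := hfE
  haveI := hi
  haveI : IsSeparated (RelProjExist.relProjπ (grSymAlg E)) :=
    VAF.isSeparated_of_isRelProj (RelProjExist.chart (grSymAlg E))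
  haveI : IsProper (i ≫ RelProjExist.relProjπ (grSymAlg E)) := by rw [hip]; infer_instance
  haveI : IsProper i := IsProper.of_comp i (RelProjExist.relProjπ (grSymAlg E))
  haveI : IsClosedImmersion i := IsClosedImmersion.of_isPreimmersion i i.isClosedMap.isClosed_range
  exact ProjCI.isProjective_of_closedImmersion_projBundle q E
    (grSymAlg E) (SymQC.j E) _ _ i hq hfE (SymQC.isGrSymAlg E)
    (RelProjExist.isRelProj (grSymAlg E)) hip

/-- a morphism of finite type with a relatively very ample module is a dense open subscheme of a projective one -/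
theorem exists_openImmersion_dense_relProj {X Y : Scheme.{u}} (hFT : HasFTThrough Y) [CompactSpace Y]
    (q : X ⟶ Y) [QuasiCompact q] [LocallyOfFiniteType q] (L : X.Modules) (hL : PicF.IsInvertible L)
    (h : RelProj.IsRelVeryAmple q L) :
    ∃ (𝒮 : RelProj.QCGrAlg Y) (P : Scheme.{u}) (p : P ⟶ Y)
      (chart : ∀ (U : Y.Opens) (hU : IsAffineOpen U), ((p ⁻¹ᵁ U : P.Opens) : Scheme.{u}) ≅ Proj (𝒮.deg U hU))
      (j : X ⟶ P), 𝒮.IsGenDegOne ∧ 𝒮.IsFTDeg 1 ∧ RelProj.IsRelProj 𝒮 p chart ∧
        IsOpenImmersion j ∧ Dense (Set.range j.base) ∧ j ≫ p = q := by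
  obtain ⟨E, hq, hfE, i, hi, hip, -⟩ := exists_immersion_relProj_finiteType' hFT q L hL h
  haveI := hq
  haveI := hfE
  haveI := hi
  haveI : IsSeparated (RelProjExist.relProjπ (grSymAlg E)) :=
    VAF.isSeparated_of_isRelProj (RelProjExist.chart (grSymAlg E))
  haveI : QuasiCompact (i ≫ RelProjExist.relProjπ (grSymAlg E)) := by rw [hip]; infer_instance
  haveI : QuasiCompact i := QuasiCompact.of_comp i (RelProjExist.relProjπ (grSymAlg E))
  have hproj : RelProj.IsProjective (i.imageι ≫ RelProjExist.relProjπ (grSymAlg E)) :=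
    ProjCI.isProjective_of_closedImmersion_projBundle (i.imageι ≫ RelProjExist.relProjπ (grSymAlg E)) E
      (grSymAlg E) (SymQC.j E) _ _ i.imageι inferInstance inferInstance (SymQC.isGrSymAlg E)
      (RelProjExist.isRelProj (grSymAlg E)) rfl
  obtain ⟨𝒮, P, p, chart, e, hgen, hft, hP, he⟩ := hproj
  refine ⟨𝒮, P, p, chart, i.toImage ≫ e.hom, hgen, hft, hP, inferInstance, ?_, ?_⟩
  · have h1 : DenseRange i.toImage.base := i.toImage.denseRange
    have h2 : DenseRange e.hom.base := e.hom.surjective.denseRange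
    have h3 := h2.comp h1 e.hom.base.hom.continuous
    exact h3
  · rw [Category.assoc, he, ← Category.assoc, Scheme.Hom.toImage_imageι, hip]

end Groth.Agent.Lib.Helper3.FTRed
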