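import Groth.Agent.Lib.Helper3.FTRed8
import Groth.Agent.Lib.Helper25.RelProjClosed
import Groth.Agent.Lib.Helper3.RelTwistQIso
import Groth.Agent.Lib.Helper25.HProjective
/-!
# Finite-type reduction, part 9: sections over affine opens, irrelevant ideals over all affine pairs
-/
set_option autoImplicit false
set_option linter.unusedSectionVars false
universe u
open CategoryTheory CategoryTheory.Limits AlgebraicGeometry Opposite TopologicalSpace
open scoped HomogeneousIdeal
open Groth.Agent.Lib.Helper29.QCoh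

namespace Groth.Agent.Lib.Helper3.FTRed
open RelProj RelSpec Groth.Agent.Lib.Helper3 Groth.Agent.Lib.Helper3.SymAlg Groth.Agent.Lib.Helper3.SymGr
  Groth.Agent.Lib.Helper3.SymQC

/-- sections of a quasi-coherent module over an affine open contained in an affine open are combinations of
restrictions -/
theorem mem_spanRes_univ {X : Scheme.{u}} (F : X.Modules) [F.IsQuasicoherent] {V T : X.Opens}
    (hV : IsAffineOpen V) (hT : IsAffineOpen T) (h : T ≤ V) (t : Γ(F, T)) :
    t ∈ spanRes F (Set.univ : Set Γ(F, V)) T h := by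
  rw [← SubSh.genSub_carrier_eq V Set.univ hT h]
  intro x hx
  obtain ⟨s, hs, hxs⟩ := hV.exists_basicOpen_le ⟨x, hx.1⟩ hx.2
  refine ⟨X.basicOpen s, hs, X.basicOpen_le s, hxs, ?_⟩
  obtain ⟨n, m, e⟩ := exists_pow_smul_eq_res F hV s (res F hs t)
  have hu : IsUnit (X.presheaf.map (homOfLE (X.basicOpen_le s)).op s) :=
    RingedSpace.isUnit_res_basicOpen _ s
  obtain ⟨w, hw⟩ := hu.pow n
  have h1 : res F hs t = (↑w⁻¹ : Γ(X, X.basicOpen s)) • res F (X.basicOpen_le s) m := by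
    rw [← e, ← hw, smul_smul, Units.inv_mul, one_smul]
  rw [h1]
  exact Submodule.smul_mem _ _ (Submodule.subset_span ⟨m, trivial, rfl⟩)

theorem irrelevant_le_map_ofHom {Y : Scheme.{u}} (E : Y.Modules) [E.IsQuasicoherent] {ℬ : QCGrAlg Y}
    (φ : (grSymAlg E).toQCAlg ⟶ ℬ.toQCAlg) (hφ : IsGradedHom φ)
    (hs : ∀ (U : Y.Opens) (hU : IsAffineOpen U) (d : ℕ) (b : ℬ.presheaf.obj (op U)),
      b ∈ ℬ.deg U hU d → ∃ a ∈ (grSymAlg E).deg U hU d, (φ.hom.app (op U)).hom a = b)
    (U : Y.Opens) (hU : IsAffineOpen U) (U' : Y.Opens) (hU' : IsAffineOpen U') (hle : U' ≤ (𝟙 Y) ⁻¹ᵁ U) :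
    (ℬ.deg U' hU')₊ ≤ (((grSymAlg E).deg U hU)₊).map ((QGrHom.ofHom φ hφ).gradedAt U hU U' hU' hle) := by
  classical
  rw [HomogeneousIdeal.irrelevant_le]
  intro k hk b hb
  obtain ⟨a', ha', rfl⟩ := hs U' hU' k b hb
  have hgen := RelGlued.isGenDegOne_of_isGrSymAlg E _ _ (SymQC.isGrSymAlg E)
  have h1 := TNAlg.mem_span_of_mem_pos ((grSymAlg E).deg U' hU') (hgen U' hU') hk ha'
  have hle' : U' ≤ U := hle
  let I : Ideal (ℬ.presheaf.obj (op U')) :=
    Ideal.map ((QGrHom.ofHom φ hφ).gradedAt U hU U' hU' hle) (((grSymAlg E).deg U hU)₊).toIdeal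
  change (φ.hom.app (op U')).hom a' ∈ I
  have key : ∀ m : Γ(E, U), ((QGrHom.ofHom φ hφ).gradedAt U hU U' hU' hle)
      (show (grSymAlg E).presheaf.obj (op U) from (SymQC.j E).app U m) ∈ I := by
    intro m
    apply Ideal.mem_map_of_mem
    exact HomogeneousIdeal.mem_irrelevant_of_mem _ one_pos ((SymQC.isGrSymAlg E).2 U hU m)
  have main : ∀ m' : Γ(E, U'), m' ∈ spanRes E (Set.univ : Set Γ(E, U)) U' hle' →
      (φ.hom.app (op U')).hom (show (grSymAlg E).presheaf.obj (op U') from (SymQC.j E).app U' m') ∈ I := by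
    intro m' hm'
    induction hm' using Submodule.span_induction with
    | mem t ht =>
      obtain ⟨m, -, rfl⟩ := ht
      have e1 : (SymQC.j E).app U' (res E hle' m) =
          res (grSymAlg E).toModule hle' ((SymQC.j E).app U m) := (app_res (SymQC.j E) hle' m)
      have e2 := congrArg (fun k => k.hom (show (grSymAlg E).presheaf.obj (op U) from (SymQC.j E).app U m))
        (φ.hom.naturality (homOfLE hle').op)
      rw [e1]
      exact e2 ▸ key m
    | zero =>
      have h0 : (SymQC.j E).app U' (0 : Γ(E, U')) = 0 := map_zero _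
      rw [h0]
      exact (map_zero (φ.hom.app (op U')).hom) ▸ I.zero_mem
    | add a b _ _ ha hb =>
      have h0 : (SymQC.j E).app U' (a + b) = (SymQC.j E).app U' a + (SymQC.j E).app U' b := map_add _ _ _
      rw [h0]
      exact (map_add (φ.hom.app (op U')).hom _ _) ▸ I.add_mem ha hb
    | smul r t _ ht =>
      have h0 : (SymQC.j E).app U' (r • t) = r • (SymQC.j E).app U' t :=
        Scheme.Modules.Hom.app_smul (SymQC.j E) r t
      rw [h0]
      change (φ.hom.app (op U')).hom (((grSymAlg E).str.app (op U')).hom r *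
        (show (grSymAlg E).presheaf.obj (op U') from (SymQC.j E).app U' t)) ∈ I
      rw [map_mul]
      exact I.mul_mem_left _ ht
  refine (Ideal.span_le.mpr ?_ : Ideal.span _ ≤ Ideal.comap (φ.hom.app (op U')).hom I) h1
  intro c hc
  obtain ⟨m', rfl⟩ := ProjCI.exists_j_eq_of_mem_deg_one E _ (SymQC.j E) (SymQC.isGrSymAlg E) U' hU' c hc
  exact main m' (mem_spanRes_univ E hU hU' hle' m')


/-- a morphism of finite type with a relatively very ample module: dense open immersion into a `Proj` compatible with `O(1)` -/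
theorem exists_openImmersion_dense_relProj_twist {X Y : Scheme.{u}} (hFT : HasFTThrough Y) [CompactSpace Y]
    (q : X ⟶ Y) [QuasiCompact q] [LocallyOfFiniteType q] (L : X.Modules) (hL : PicF.IsInvertible L)
    (h : RelProj.IsRelVeryAmple q L) :
    ∃ (𝒮 : RelProj.QCGrAlg Y) (P : Scheme.{u}) (p : P ⟶ Y)
      (chart : ∀ (U : Y.Opens) (hU : IsAffineOpen U), ((p ⁻¹ᵁ U : P.Opens) : Scheme.{u}) ≅ Proj (𝒮.deg U hU))
      (O1 : P.Modules)
      (lam : ∀ (U : Y.Opens) (hU : IsAffineOpen U),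
        O1 ⟶ (Scheme.Modules.pushforward (RelProj.emb p chart U hU)).obj (GrTwist.twist (𝒮.deg U hU) 1))
      (i : X ⟶ P),
      𝒮.IsGenDegOne ∧ 𝒮.IsFTDeg 1 ∧ RelProj.IsRelProj 𝒮 p chart ∧ RelProj.IsRelTwist 𝒮 p chart 1 O1 lam ∧
        IsOpenImmersion i ∧ Dense (Set.range i.base) ∧ i ≫ p = q ∧
        Nonempty (L ≅ (Scheme.Modules.pullback i).obj O1) := by
  obtain ⟨E, hq, hfE, i₀, hi, hip, ⟨eL⟩⟩ := exists_immersion_relProj_finiteType' hFT q L hL h
  haveI := hq
  haveI := hfE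
  haveI := hi
  haveI : IsSeparated (RelProjExist.relProjπ (grSymAlg E)) :=
    VAF.isSeparated_of_isRelProj (RelProjExist.chart (grSymAlg E))
  haveI : QuasiCompact (i₀ ≫ RelProjExist.relProjπ (grSymAlg E)) := by rw [hip]; infer_instance
  haveI : QuasiCompact i₀ := QuasiCompact.of_comp i₀ (RelProjExist.relProjπ (grSymAlg E))
  have hPE := RelProjExist.isRelProj (grSymAlg E)
  have h1 : (grSymAlg E).IsGenDegOne := RelGlued.isGenDegOne_of_isGrSymAlg E _ _ (SymQC.isGrSymAlg E)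
  have h2 : (grSymAlg E).IsFTDeg 1 := ProjCI.isFTDeg_one_of_isGrSymAlg E _ (SymQC.j E) (SymQC.isGrSymAlg E)
  haveI : QuasiCompact (RelProjExist.relProjπ (grSymAlg E)) := RelGlued.quasiCompact_of_genDegOne (RelProjExist.relProjπ (grSymAlg E)) (RelProjExist.chart (grSymAlg E)) h1 h2
  obtain ⟨ℬ, φ, hφ, PB, pB, chartB, hh, e, hs, hs', hB, hhh, he⟩ :=
    Groth.Agent.Lib.Helper25.RelProjClosed.exists_gradedQuotient (grSymAlg E) _ _ hPE i₀.imageι
  have hgenB : ℬ.IsGenDegOne := Groth.Agent.Lib.Helper25.PolyRelProj.isGenDegOne_of_surj φ hφ hs' h1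
  have hftB : ℬ.IsFTDeg 1 :=
    Groth.Agent.Lib.Helper25.PolyRelProj.isFTDeg_of_surj φ hφ 1 (fun U hU b hb => hs U hU 1 b hb) h2
  have hirr := irrelevant_le_map_ofHom E φ hφ hs
  have hO1 := RelTwist.isRelTwist _ _ hPE 1
  have hO1B := RelTwist.isRelTwist _ _ hB 1
  obtain ⟨eO⟩ := RelTwistQ.nonempty_iso_pullback_of_isProjQMap (QGrHom.ofHom φ hφ) hPE hB hh 1 hO1 hO1B hirr hhh h1
  have hc := QProj.comp_eq_of_isProjQMap hPE hB hhh
  rw [Category.comp_id] at hc
  have hi₀ : i₀ = (i₀.toImage ≫ e.inv) ≫ hh := by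
    rw [Category.assoc, ← he, Iso.inv_hom_id_assoc, Scheme.Hom.toImage_imageι]
  refine ⟨ℬ, PB, pB, chartB, _, _, i₀.toImage ≫ e.inv, hgenB, hftB, hB, hO1B, inferInstance, ?_, ?_, ⟨?_⟩⟩
  · have h1 : DenseRange i₀.toImage.base := i₀.toImage.denseRange
    have h2 : DenseRange e.inv.base := e.inv.surjective.denseRange
    exact h2.comp h1 e.inv.base.hom.continuous
  · rw [← hc, ← Category.assoc, ← hi₀, hip]
  · exact eL ≪≫ (Scheme.Modules.pullbackCongr hi₀).app _ ≪≫
      ((Scheme.Modules.pullbackComp (i₀.toImage ≫ e.inv) hh).app _).symm ≪≫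
      (Scheme.Modules.pullback (i₀.toImage ≫ e.inv)).mapIso eO

end Groth.Agent.Lib.Helper3.FTRed
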