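import Mathlib

/-!
# Non-vanishing of `S ⊗[R] Ω` when a prime of `S` lies over the kernel of `R → Ω`
-/

set_option autoImplicit false
set_option linter.style.haveILetI false

namespace Groth.Agent.Lib.Helper3.FibreNontrivial

open TensorProduct

universe u

/-- If a prime `P` of `S` contracts to the kernel of `φ : R → Ω` (`Ω` a field), then
`S ⊗[R] Ω ≠ 0`. -/
theorem nontrivial_tensor_of_comap_eq_ker {R S Ω : Type u} [CommRing R] [CommRing S] [Field Ω]
    (g : R →+* S) (φ : R →+* Ω) (P : Ideal S) [P.IsPrime] (h : P.comap g = RingHom.ker φ) :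
    letI : Algebra R S := g.toAlgebra
    letI : Module R Ω := Module.compHom Ω φ
    Nontrivial (S ⊗[R] Ω) := by
  letI : Algebra R S := g.toAlgebra
  letI : Module R Ω := Module.compHom Ω φ
  letI : Algebra (P.comap g).ResidueField P.ResidueField :=
    (Ideal.ResidueField.map (P.comap g) P g rfl).toAlgebra
  have hunits : (P.comap g).primeCompl ≤ (IsUnit.submonoid Ω).comap φ := by
    intro r hr
    change IsUnit (φ r)
    rw [isUnit_iff_ne_zero]
    intro h0
    apply hr
    change r ∈ P.comap g
    rw [h]
    exact h0
  letI : Algebra (P.comap g).ResidueField Ω :=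
    (Ideal.ResidueField.lift (P.comap g) φ (by rw [h]) hunits).toAlgebra
  have hT : Nontrivial (P.ResidueField ⊗[(P.comap g).ResidueField] Ω) := inferInstance
  -- the balanced biadditive map
  let F : S ⊗[R] Ω →+ P.ResidueField ⊗[(P.comap g).ResidueField] Ω :=
    TensorProduct.liftAddHom
      { toFun := fun s =>
          { toFun := fun ω => (algebraMap S P.ResidueField s) ⊗ₜ[(P.comap g).ResidueField] ω
            map_zero' := by simp
            map_add' := fun a b => by simp [tmul_add] }
        map_zero' := by ext ω; simp
        map_add' := fun a b => by ext ω; simp [add_tmul] }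
      (by
        intro r s ω
        change (algebraMap S P.ResidueField (r • s)) ⊗ₜ[(P.comap g).ResidueField] ω =
          (algebraMap S P.ResidueField s) ⊗ₜ[(P.comap g).ResidueField] (r • ω)
        have h1 : algebraMap S P.ResidueField (r • s) =
            (algebraMap R (P.comap g).ResidueField r) • algebraMap S P.ResidueField s := by
          rw [Algebra.smul_def, Algebra.smul_def, map_mul]
          congr 1
          rw [RingHom.algebraMap_toAlgebra, RingHom.algebraMap_toAlgebra]
          exact (Ideal.ResidueField.map_algebraMap (P.comap g) P g rfl r).symm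
        have h2 : r • ω = (algebraMap R (P.comap g).ResidueField r) • ω := by
          rw [Algebra.smul_def, RingHom.algebraMap_toAlgebra, Ideal.ResidueField.lift_algebraMap]
          rfl
        rw [h1, h2, TensorProduct.smul_tmul])
  refine ⟨⟨(1 : S) ⊗ₜ[R] (1 : Ω), 0, ?_⟩⟩
  intro h0
  have h3 := congrArg F h0
  rw [map_zero] at h3
  change (algebraMap S P.ResidueField 1) ⊗ₜ[(P.comap g).ResidueField] (1 : Ω) = 0 at h3
  rw [map_one] at h3
  exact one_ne_zero h3

end Groth.Agent.Lib.Helper3.FibreNontrivial
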