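import Mathlib

/-!
# Subalgebras of `I → T` cut out by idempotent-weighted equalities are finite étale

For a commutative ring `T`, finite types `I`, `Λ`, idempotents `a : Λ → T` and maps `s t : Λ → I`, the
subalgebra `eqSub a s t = {x : I → T | ∀ l, a l * (x (s l) - x (t l)) = 0}` of `I → T` is finite étale
over `T`: it is isomorphic to a finite product of localisations of `T` at idempotents.

Application: for a finite family of `T`-algebra endomorphisms of `I → T`, the subalgebra of common fixed
points is of this form (`fixedSub_eq_eqSub`), hence finite étale.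
-/

set_option autoImplicit false
set_option linter.style.haveILetI false
set_option linter.unusedSectionVars false

namespace Groth.Agent.Lib.Helper3.IdemEq

universe u

open Finset

section Idem

variable {T : Type u} [CommRing T] {Λ : Type*} [Fintype Λ] [DecidableEq Λ]
  (a : Λ → T)

/-- the idempotent attached to a subset of the index set -/
def fU (U : Finset Λ) : T := (∏ l ∈ U, a l) * ∏ l ∈ Uᶜ, (1 - a l)

theorem sum_fU : ∑ U : Finset Λ, fU a U = 1 := by
  have h := Fintype.prod_add a (fun l => 1 - a l)
  simp only [add_sub_cancel, Finset.prod_const_one] at h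
  exact h.symm

variable (ha : ∀ l, IsIdempotentElem (a l))
include ha

theorem mul_fU (l : Λ) (U : Finset Λ) : a l * fU a U = if l ∈ U then fU a U else 0 := by
  unfold fU
  split_ifs with hl
  · rw [← Finset.mul_prod_erase U a hl]
    generalize (∏ x ∈ U.erase l, a x) = P
    generalize (∏ l ∈ Uᶜ, (1 - a l)) = Q
    calc a l * (a l * P * Q) = (a l * a l) * P * Q := by ring
      _ = a l * P * Q := by rw [(ha l).eq]
  · have hl' : l ∈ Uᶜ := Finset.mem_compl.2 hl
    rw [← Finset.mul_prod_erase Uᶜ (fun l => 1 - a l) hl']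
    generalize (∏ x ∈ Uᶜ.erase l, (1 - a x)) = P
    generalize (∏ l ∈ U, a l) = Q
    calc a l * (Q * ((1 - a l) * P)) = (a l - a l * a l) * Q * P := by ring
      _ = 0 := by rw [(ha l).eq, sub_self, zero_mul, zero_mul]

theorem fU_mul_fU_of_ne {U V : Finset Λ} (hUV : U ≠ V) : fU a U * fU a V = 0 := by
  have key : ∀ {U V : Finset Λ} (l : Λ), l ∈ U → l ∉ V → fU a U * fU a V = 0 := by
    intro U V l hU hV
    have h1 : a l * fU a U = fU a U := by rw [mul_fU a ha, if_pos hU]
    have h2 : a l * fU a V = 0 := by rw [mul_fU a ha, if_neg hV]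
    calc fU a U * fU a V = (a l * fU a U) * fU a V := by rw [h1]
      _ = fU a U * (a l * fU a V) := by ring
      _ = 0 := by rw [h2, mul_zero]
  by_cases h : ∃ l, l ∈ U ∧ l ∉ V
  · obtain ⟨l, hU, hV⟩ := h
    exact key l hU hV
  · push Not at h
    have : ∃ l, l ∈ V ∧ l ∉ U := by
      by_contra h'
      push Not at h'
      exact hUV (Finset.Subset.antisymm h h')
    obtain ⟨l, hV, hU⟩ := this
    rw [mul_comm]
    exact key l hV hU

theorem fU_mul_self (U : Finset Λ) : fU a U * fU a U = fU a U := by
  have h := congrArg (fun x => fU a U * x) (sum_fU a)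
  simp only [mul_one, Finset.mul_sum] at h
  rw [Finset.sum_eq_single U] at h
  · exact h
  · intro V _ hV
    exact fU_mul_fU_of_ne a ha (Ne.symm hV)
  · intro hU
    exact absurd (Finset.mem_univ U) hU

theorem fU_mul_fU (U V : Finset Λ) : fU a U * fU a V = if U = V then fU a U else 0 := by
  split_ifs with h
  · rw [← h, fU_mul_self a ha]
  · exact fU_mul_fU_of_ne a ha h

end Idem

section EqSub

variable {T : Type u} [CommRing T] {Λ : Type*} [Fintype Λ] [DecidableEq Λ] {I : Type*} [Finite I]
  (a : Λ → T) (s t : Λ → I)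

/-- the subalgebra of `I → T` cut out by the equations `a l * (x (s l) - x (t l)) = 0` -/
def eqSub : Subalgebra T (I → T) where
  carrier := {x | ∀ l, a l * (x (s l) - x (t l)) = 0}
  mul_mem' {x y} hx hy l := by
    have h1 := hx l
    have h2 := hy l
    calc a l * ((x * y) (s l) - (x * y) (t l))
        = (a l * (x (s l) - x (t l))) * y (s l) + x (t l) * (a l * (y (s l) - y (t l))) := by
          simp only [Pi.mul_apply]; ring
      _ = 0 := by rw [h1, h2, zero_mul, mul_zero, add_zero]
  add_mem' {x y} hx hy l := by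
    have h1 := hx l
    have h2 := hy l
    calc a l * ((x + y) (s l) - (x + y) (t l))
        = (a l * (x (s l) - x (t l))) + (a l * (y (s l) - y (t l))) := by
          simp only [Pi.add_apply]; ring
      _ = 0 := by rw [h1, h2, add_zero]
  algebraMap_mem' r l := by
    simp [Algebra.algebraMap_eq_smul_one]

theorem mem_eqSub (x : I → T) : x ∈ eqSub a s t ↔ ∀ l, a l * (x (s l) - x (t l)) = 0 := Iff.rfl

/-- the relation on `I` generated by the constraints indexed by `U` -/
def rel (U : Finset Λ) (i j : I) : Prop := ∃ l ∈ U, s l = i ∧ t l = j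

variable (ha : ∀ l, IsIdempotentElem (a l))
include ha

theorem sub_mem_span (x : eqSub a s t) (U : Finset Λ) (i j : I) (hij : rel s t U i j) :
    x.1 i - x.1 j ∈ Ideal.span {1 - fU a U} := by
  obtain ⟨l, hl, rfl, rfl⟩ := hij
  have h0 : fU a U * (x.1 (s l) - x.1 (t l)) = 0 := by
    have h1 : a l * fU a U = fU a U := by rw [mul_fU a ha, if_pos hl]
    calc fU a U * (x.1 (s l) - x.1 (t l)) = (a l * fU a U) * (x.1 (s l) - x.1 (t l)) := by rw [h1]
      _ = fU a U * (a l * (x.1 (s l) - x.1 (t l))) := by ring
      _ = 0 := by rw [x.2 l, mul_zero]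
  refine Ideal.mem_span_singleton'.2 ⟨x.1 (s l) - x.1 (t l), ?_⟩
  calc (x.1 (s l) - x.1 (t l)) * (1 - fU a U)
      = (x.1 (s l) - x.1 (t l)) - fU a U * (x.1 (s l) - x.1 (t l)) := by ring
    _ = x.1 (s l) - x.1 (t l) := by rw [h0, sub_zero]

/-- the comparison map to a product of localisations at idempotents -/
noncomputable def Φ : eqSub a s t →ₐ[T]
    (∀ U : Finset Λ, Quot (rel s t U) → T ⧸ Ideal.span {1 - fU a U}) where
  toFun x U q := Quot.lift (fun i => Ideal.Quotient.mk (Ideal.span {1 - fU a U}) (x.1 i))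
    (fun i j hij => Ideal.Quotient.eq.2 (sub_mem_span a s t ha x U i j hij)) q
  map_one' := by
    funext U q
    induction q using Quot.ind
    rfl
  map_mul' x y := by
    funext U q
    induction q using Quot.ind
    exact map_mul _ _ _
  map_zero' := by
    funext U q
    induction q using Quot.ind
    rfl
  map_add' x y := by
    funext U q
    induction q using Quot.ind
    exact map_add _ _ _
  commutes' r := by
    funext U q
    induction q using Quot.ind
    rfl

theorem Φ_apply (x : eqSub a s t) (U : Finset Λ) (i : I) :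
    Φ a s t ha x U (Quot.mk _ i) = Ideal.Quotient.mk (Ideal.span {1 - fU a U}) (x.1 i) := rfl

theorem Φ_injective : Function.Injective (Φ a s t ha) := by
  rw [injective_iff_map_eq_zero]
  intro x hx
  apply Subtype.ext
  funext i
  have h0 : ∀ U : Finset Λ, fU a U * x.1 i = 0 := by
    intro U
    have h1 : Ideal.Quotient.mk (Ideal.span {1 - fU a U}) (x.1 i) = 0 := by
      rw [← Φ_apply a s t ha, hx]
      rfl
    obtain ⟨c, hc⟩ := Ideal.mem_span_singleton'.1 (Ideal.Quotient.eq_zero_iff_mem.1 h1)
    rw [← hc]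
    calc fU a U * (c * (1 - fU a U)) = c * (fU a U - fU a U * fU a U) := by ring
      _ = 0 := by rw [fU_mul_self a ha, sub_self, mul_zero]
  calc x.1 i = (∑ U : Finset Λ, fU a U) * x.1 i := by rw [sum_fU, one_mul]
    _ = ∑ U : Finset Λ, fU a U * x.1 i := Finset.sum_mul _ _ _
    _ = 0 := Finset.sum_eq_zero fun U _ => h0 U

theorem mk_fU (U V : Finset Λ) :
    Ideal.Quotient.mk (Ideal.span {1 - fU a U}) (fU a V) = if U = V then 1 else 0 := by
  split_ifs with h
  · rw [← h, ← map_one (Ideal.Quotient.mk (Ideal.span {1 - fU a U}))]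
    refine (Ideal.Quotient.eq.2 ?_).symm
    exact Ideal.subset_span rfl
  · rw [Ideal.Quotient.eq_zero_iff_mem]
    refine Ideal.mem_span_singleton'.2 ⟨fU a V, ?_⟩
    calc fU a V * (1 - fU a U) = fU a V - fU a V * fU a U := by ring
      _ = fU a V := by rw [fU_mul_fU_of_ne a ha (Ne.symm h), sub_zero]

theorem Φ_surjective : Function.Surjective (Φ a s t ha) := by
  intro y
  choose y' hy' using fun (U : Finset Λ) (q : Quot (rel s t U)) =>
    Ideal.Quotient.mk_surjective (y U q)
  let x : I → T := fun i => ∑ U : Finset Λ, fU a U * y' U (Quot.mk _ i)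
  have hx : x ∈ eqSub a s t := by
    intro l
    change a l * ((∑ U : Finset Λ, fU a U * y' U (Quot.mk _ (s l))) -
      ∑ U : Finset Λ, fU a U * y' U (Quot.mk _ (t l))) = 0
    rw [← Finset.sum_sub_distrib, Finset.mul_sum]
    refine Finset.sum_eq_zero fun U _ => ?_
    by_cases hl : l ∈ U
    · have : (Quot.mk (rel s t U) (s l)) = Quot.mk (rel s t U) (t l) :=
        Quot.sound ⟨l, hl, rfl, rfl⟩
      rw [this, sub_self, mul_zero]
    · have h2 : a l * fU a U = 0 := by rw [mul_fU a ha, if_neg hl]
      calc a l * (fU a U * y' U (Quot.mk _ (s l)) - fU a U * y' U (Quot.mk _ (t l)))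
          = (a l * fU a U) * (y' U (Quot.mk _ (s l)) - y' U (Quot.mk _ (t l))) := by ring
        _ = 0 := by rw [h2, zero_mul]
  refine ⟨⟨x, hx⟩, ?_⟩
  funext U q
  induction q using Quot.ind with
  | mk i =>
    rw [Φ_apply]
    change Ideal.Quotient.mk _ (∑ V : Finset Λ, fU a V * y' V (Quot.mk _ i)) = _
    rw [map_sum, Finset.sum_eq_single U]
    · rw [map_mul, mk_fU a ha, if_pos rfl, one_mul, hy']
    · intro V _ hV
      rw [map_mul, mk_fU a ha, if_neg (Ne.symm hV), zero_mul]
    · intro hU
      exact absurd (Finset.mem_univ U) hU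

/-- `eqSub` is a finite product of localisations of `T` at idempotents -/
noncomputable def eqSubEquiv : eqSub a s t ≃ₐ[T]
    (∀ U : Finset Λ, Quot (rel s t U) → T ⧸ Ideal.span {1 - fU a U}) :=
  AlgEquiv.ofBijective (Φ a s t ha) ⟨Φ_injective a s t ha, Φ_surjective a s t ha⟩

theorem etale_quot (U : Finset Λ) : Algebra.Etale T (T ⧸ Ideal.span {1 - fU a U}) := by
  haveI : IsLocalization.Away (fU a U) (T ⧸ Ideal.span {1 - fU a U}) :=
    IsLocalization.away_of_isIdempotentElem (fU_mul_self a ha U)
      (by rw [Ideal.Quotient.algebraMap_eq, Ideal.mk_ker]) Ideal.Quotient.mk_surjective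
  exact Algebra.Etale.of_isLocalizationAway (fU a U)

theorem finite_eqSub : Module.Finite T (eqSub a s t) := by
  haveI : ∀ U : Finset Λ, Finite (Quot (rel s t U)) := fun U =>
    Finite.of_surjective (Quot.mk _) Quot.mk_surjective
  exact Module.Finite.equiv (eqSubEquiv a s t ha).symm.toLinearEquiv

theorem etale_eqSub : Algebra.Etale T (eqSub a s t) := by
  haveI : ∀ U : Finset Λ, Finite (Quot (rel s t U)) := fun U =>
    Finite.of_surjective (Quot.mk _) Quot.mk_surjective
  haveI : ∀ U : Finset Λ, Algebra.Etale T (T ⧸ Ideal.span {1 - fU a U}) := etale_quot a ha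
  exact Algebra.Etale.of_equiv (eqSubEquiv a s t ha).symm

end EqSub

section Fixed

/-- the subalgebra of common fixed points of a family of algebra endomorphisms -/
def fixedSub {R A : Type*} [CommRing R] [CommRing A] [Algebra R A] {G : Type*}
    (ρ : G → (A →ₐ[R] A)) : Subalgebra R A where
  carrier := {x | ∀ g, ρ g x = x}
  mul_mem' {x y} hx hy g := by rw [map_mul, hx g, hy g]
  add_mem' {x y} hx hy g := by rw [map_add, hx g, hy g]
  algebraMap_mem' r g := (ρ g).commutes r

theorem mem_fixedSub {R A : Type*} [CommRing R] [CommRing A] [Algebra R A] {G : Type*}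
    (ρ : G → (A →ₐ[R] A)) (x : A) : x ∈ fixedSub ρ ↔ ∀ g, ρ g x = x := Iff.rfl

variable {T : Type u} [CommRing T] {I : Type*} [Fintype I] [DecidableEq I] {G : Type*}
  (σ : G → ((I → T) →ₐ[T] (I → T)))

/-- the matrix of an endomorphism of a split algebra -/
def mat (g : G) (i j : I) : T := σ g (Pi.single i 1) j

theorem mat_idem (g : G) (i j : I) : IsIdempotentElem (mat σ g i j) := by
  have h : (Pi.single i (1 : T) : I → T) * Pi.single i 1 = Pi.single i 1 := by
    rw [← Pi.single_mul, mul_one]
  have h2 := congrFun (congrArg (σ g) h) j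
  rw [map_mul] at h2
  exact h2

theorem mat_mul_of_ne (g : G) {i i' : I} (h : i ≠ i') (j : I) :
    mat σ g i j * mat σ g i' j = 0 := by
  have h1 : (Pi.single i (1 : T) : I → T) * Pi.single i' 1 = 0 := by
    funext k
    by_cases hk : k = i
    · subst hk
      simp [Pi.single_eq_of_ne h]
    · simp [Pi.single_eq_of_ne hk]
  have h2 := congrFun (congrArg (σ g) h1) j
  rw [map_mul, map_zero] at h2
  exact h2

theorem sum_mat (g : G) (j : I) : ∑ i, mat σ g i j = 1 := by
  have h1 : (∑ i, Pi.single i (1 : T) : I → T) = 1 := by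
    funext k
    simp [Finset.sum_apply, Pi.single_apply]
  have h2 := congrFun (congrArg (σ g) h1) j
  rw [map_sum, map_one, Finset.sum_apply] at h2
  exact h2

theorem apply_eq_sum (g : G) (x : I → T) (j : I) : σ g x j = ∑ i, x i * mat σ g i j := by
  have h1 : x = ∑ i, x i • (Pi.single i (1 : T) : I → T) := by
    funext k
    simp [Finset.sum_apply, Pi.single_apply]
  conv_lhs => rw [h1]
  rw [map_sum, Finset.sum_apply]
  refine Finset.sum_congr rfl fun i _ => ?_
  rw [map_smul]
  rfl

variable [Fintype G] [DecidableEq G]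

theorem fixedSub_eq_eqSub :
    fixedSub σ = eqSub (fun l : G × I × I => mat σ l.1 l.2.1 l.2.2) (fun l => l.2.1)
      (fun l => l.2.2) := by
  apply le_antisymm
  · intro x hx l
    obtain ⟨g, i', j⟩ := l
    change mat σ g i' j * (x i' - x j) = 0
    have h1 : x j = ∑ i, x i * mat σ g i j := by
      rw [← apply_eq_sum, hx g]
    have h2 : mat σ g i' j * x j = mat σ g i' j * x i' := by
      rw [h1, Finset.mul_sum, Finset.sum_eq_single i']
      · calc mat σ g i' j * (x i' * mat σ g i' j) = x i' * (mat σ g i' j * mat σ g i' j) := by ring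
          _ = mat σ g i' j * x i' := by rw [(mat_idem σ g i' j).eq, mul_comm]
      · intro i _ hi
        calc mat σ g i' j * (x i * mat σ g i j) = x i * (mat σ g i j * mat σ g i' j) := by ring
          _ = 0 := by rw [mat_mul_of_ne σ g hi, mul_zero]
      · intro h
        exact absurd (Finset.mem_univ i') h
    rw [mul_sub, h2, sub_self]
  · intro x hx g
    funext j
    rw [apply_eq_sum]
    have h1 : ∀ i, x i * mat σ g i j = x j * mat σ g i j := by
      intro i
      have := hx (g, i, j)
      change mat σ g i j * (x i - x j) = 0 at this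
      rw [mul_sub, sub_eq_zero] at this
      rw [mul_comm, this, mul_comm]
    rw [Finset.sum_congr rfl fun i _ => h1 i, ← Finset.mul_sum, sum_mat, mul_one]

theorem finite_fixedSub : Module.Finite T (fixedSub σ) := by
  rw [fixedSub_eq_eqSub]
  exact finite_eqSub _ _ _ (fun l => mat_idem σ l.1 l.2.1 l.2.2)

theorem etale_fixedSub : Algebra.Etale T (fixedSub σ) := by
  rw [fixedSub_eq_eqSub]
  exact etale_eqSub _ _ _ (fun l => mat_idem σ l.1 l.2.1 l.2.2)

end Fixed

end Groth.Agent.Lib.Helper3.IdemEq
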