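import Mathlib
import Groth.Agent.Lib.Helper3.IdemEq

/-!
# Fixed points of a finite family of endomorphisms of a locally split algebra are finite étale

* `fixedEquivOfEquiv`: transport of fixed-point subalgebras along an algebra isomorphism;
* `tensorFixedEquiv`: fixed points commute with flat base change (finite family);
* `finite_etale_fixedSub_of_split`: if `T` is a faithfully flat `R`-algebra with `T ⊗ A ≅ T^I`, the
  fixed points of a finite family of `R`-algebra endomorphisms of `A` are finite étale over `R`.
-/

set_option autoImplicit false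
set_option linter.style.haveILetI false
set_option linter.unusedSectionVars false

namespace Groth.Agent.Lib.Helper3.FixedDescent

open Groth.Agent.Lib.Helper3.IdemEq TensorProduct

universe u

section Transport

variable {R A₁ A₂ : Type*} [CommRing R] [CommRing A₁] [CommRing A₂] [Algebra R A₁] [Algebra R A₂]
  {G : Type*} (e : A₁ ≃ₐ[R] A₂) (ρ₁ : G → (A₁ →ₐ[R] A₁)) (ρ₂ : G → (A₂ →ₐ[R] A₂))
  (h : ∀ g x, e (ρ₁ g x) = ρ₂ g (e x))

/-- transport of fixed points along an equivariant isomorphism -/
def fixedEquivOfEquiv : fixedSub ρ₁ ≃ₐ[R] fixedSub ρ₂ where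
  toFun x := ⟨e x.1, fun g => by rw [← h, x.2 g]⟩
  invFun y := ⟨e.symm y.1, fun g => by
    apply e.injective
    rw [h, e.apply_symm_apply, y.2 g]⟩
  left_inv x := Subtype.ext (e.symm_apply_apply x.1)
  right_inv y := Subtype.ext (e.apply_symm_apply y.1)
  map_mul' x y := Subtype.ext (map_mul e x.1 y.1)
  map_add' x y := Subtype.ext (map_add e x.1 y.1)
  commutes' r := Subtype.ext (e.commutes r)

end Transport

section BaseChange

variable {R : Type*} [CommRing R] (T : Type*) [CommRing T] [Algebra R T] {A : Type*} [CommRing A]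
  [Algebra R A] {G : Type*} [Finite G] (ρ : G → (A →ₐ[R] A))

theorem fixedSub_eq_equalizer :
    fixedSub ρ = AlgHom.equalizer (AlgHom.pi ρ)
      (AlgHom.pi fun _ : G => AlgHom.id R A) := by
  ext x
  rw [mem_fixedSub, AlgHom.mem_equalizer]
  constructor
  · intro hx
    funext g
    exact hx g
  · intro hx g
    exact congrFun hx g

theorem piRight_apply (u : T ⊗[R] (G → A)) (g : G) [Fintype G] [DecidableEq G] :
    Algebra.TensorProduct.piRight R T T (fun _ : G => A) u g =
      Algebra.TensorProduct.map (AlgHom.id T T) (Pi.evalAlgHom R (fun _ : G => A) g) u := by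
  induction u using TensorProduct.induction_on with
  | zero => simp
  | add x y hx hy => rw [map_add, Pi.add_apply, hx, hy, map_add]
  | tmul t f => simp

theorem equalizer_map_eq_fixedSub :
    AlgHom.equalizer
      (Algebra.TensorProduct.map (AlgHom.id T T) (AlgHom.pi ρ))
      (Algebra.TensorProduct.map (AlgHom.id T T)
        (AlgHom.pi fun _ : G => AlgHom.id R A)) =
    fixedSub (fun g => Algebra.TensorProduct.map (AlgHom.id T T) (ρ g)) := by
  classical
  cases nonempty_fintype G
  have hcomp : ∀ (φ : G → (A →ₐ[R] A)) (g : G) (x : T ⊗[R] A),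
      Algebra.TensorProduct.map (AlgHom.id T T) (Pi.evalAlgHom R (fun _ : G => A) g)
        (Algebra.TensorProduct.map (AlgHom.id T T) (AlgHom.pi φ) x) =
      Algebra.TensorProduct.map (AlgHom.id T T) (φ g) x := by
    intro φ g x
    induction x using TensorProduct.induction_on with
    | zero => simp
    | add x y hx hy => simp only [map_add, hx, hy]
    | tmul t a => simp
  ext x
  rw [mem_fixedSub, AlgHom.mem_equalizer]
  constructor
  · intro hx g
    have := congrArg (Algebra.TensorProduct.map (AlgHom.id T T)
      (Pi.evalAlgHom R (fun _ : G => A) g)) hx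
    rw [hcomp, hcomp] at this
    rw [this, Algebra.TensorProduct.map_id, AlgHom.id_apply]
  · intro hx
    apply (Algebra.TensorProduct.piRight R T T (fun _ : G => A)).injective
    funext g
    rw [piRight_apply, piRight_apply, hcomp, hcomp, hx g, Algebra.TensorProduct.map_id,
      AlgHom.id_apply]

/-- fixed points of a finite family of endomorphisms commute with flat base change -/
noncomputable def tensorFixedEquiv [Module.Flat R T] :
    T ⊗[R] fixedSub ρ ≃ₐ[T] fixedSub (fun g => Algebra.TensorProduct.map (AlgHom.id T T) (ρ g)) :=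
  ((Algebra.TensorProduct.congr (AlgEquiv.refl (R := T) (A₁ := T))
      (Subalgebra.equivOfEq _ _ (fixedSub_eq_equalizer ρ))).trans
    (AlgHom.tensorEqualizerEquiv T T _ _)).trans
    (Subalgebra.equivOfEq _ _ (equalizer_map_eq_fixedSub T ρ))

end BaseChange

section Main

/-- If `A` becomes split after a faithfully flat base change, the fixed points of a finite family of
algebra endomorphisms of `A` are finite étale. -/
theorem finite_etale_fixedSub_of_split {R : Type*} [CommRing R] {A : Type*} [CommRing A]
    [Algebra R A] {G : Type*} [Finite G] (ρ : G → (A →ₐ[R] A))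
    (T : Type*) [CommRing T] [Algebra R T] [Module.FaithfullyFlat R T] {I : Type*} [Finite I]
    (e : T ⊗[R] A ≃ₐ[T] (I → T)) :
    Module.Finite R (fixedSub ρ) ∧ Algebra.Etale R (fixedSub ρ) := by
  classical
  cases nonempty_fintype I
  cases nonempty_fintype G
  let ρT : G → (T ⊗[R] A →ₐ[T] T ⊗[R] A) := fun g =>
    Algebra.TensorProduct.map (AlgHom.id T T) (ρ g)
  let σ : G → ((I → T) →ₐ[T] (I → T)) := fun g =>
    (e.toAlgHom.comp (ρT g)).comp e.symm.toAlgHom
  have h : ∀ g x, e (ρT g x) = σ g (e x) := by
    intro g x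
    change e (ρT g x) = e (ρT g (e.symm (e x)))
    rw [e.symm_apply_apply]
  let E1 : T ⊗[R] fixedSub ρ ≃ₐ[T] fixedSub ρT := tensorFixedEquiv T ρ
  let E2 : fixedSub ρT ≃ₐ[T] fixedSub σ := fixedEquivOfEquiv e ρT σ h
  haveI : Module.Finite T (fixedSub σ) := finite_fixedSub σ
  haveI : Algebra.Etale T (fixedSub σ) := etale_fixedSub σ
  haveI : Module.Finite T (T ⊗[R] fixedSub ρ) :=
    Module.Finite.equiv (E1.trans E2).symm.toLinearEquiv
  haveI : Algebra.Etale T (T ⊗[R] fixedSub ρ) := Algebra.Etale.of_equiv (E1.trans E2).symm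
  exact ⟨Module.Finite.of_finite_tensorProduct_of_faithfullyFlat T,
    Algebra.Etale.of_etale_tensorProduct_of_faithfullyFlat T⟩

end Main

end Groth.Agent.Lib.Helper3.FixedDescent
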