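import Mathlib

/-!
# Flat epimorphisms of rings: faithfully flat epi is iso; flat epi induces iso on localisations
-/

set_option autoImplicit false

namespace Groth.Agent.Lib.Helper3.FlatEpi

open TensorProduct CategoryTheory

universe u

/-- A faithfully flat epimorphism of commutative rings is bijective. -/
theorem bijective_of_faithfullyFlat_of_isEpi {R S : Type*} [CommRing R] [CommRing S] [Algebra R S]
    [Module.FaithfullyFlat R S] [Algebra.IsEpi R S] : Function.Bijective (algebraMap R S) := by
  refine ⟨FaithfulSMul.algebraMap_injective R S, ?_⟩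
  have h1 : Function.Surjective ((Algebra.linearMap R S).lTensor S) := by
    have h' : ∀ x : S ⊗[R] S, ∃ a : S, x = a ⊗ₜ[R] 1 := by
      intro x
      induction x using TensorProduct.induction_on with
      | zero => exact ⟨0, by simp⟩
      | tmul u v =>
        refine ⟨u * v, ?_⟩
        have h := (Algebra.isEpi_iff_forall_one_tmul_eq R S).1 inferInstance v
        calc u ⊗ₜ[R] v = u ⊗ₜ[R] 1 * 1 ⊗ₜ[R] v := by simp
          _ = u ⊗ₜ[R] 1 * v ⊗ₜ[R] 1 := by rw [h]
          _ = (u * v) ⊗ₜ[R] 1 := by simp
      | add u v hu hv =>
        obtain ⟨u, rfl⟩ := hu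
        obtain ⟨v, rfl⟩ := hv
        exact ⟨u + v, by simp [add_tmul]⟩
    intro x
    obtain ⟨a, rfl⟩ := h' x
    exact ⟨a ⊗ₜ[R] 1, by simp⟩
  have h2 := (Module.FaithfullyFlat.lTensor_surjective_iff_surjective R S
    (Algebra.linearMap R S)).1 h1
  exact h2

/-- A flat epimorphism of commutative rings induces isomorphisms of the local rings. -/
theorem localRingHom_bijective {A B : Type u} [CommRing A] [CommRing B] (f : A →+* B)
    (hflat : f.Flat)
    (hepi : ∀ {T : Type u} [CommRing T] (g₁ g₂ : B →+* T), g₁.comp f = g₂.comp f → g₁ = g₂)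
    (P : Ideal B) [P.IsPrime] :
    Function.Bijective (Localization.localRingHom (P.comap f) P f rfl) := by
  set f' := Localization.localRingHom (P.comap f) P f rfl with hf'
  have hflat' : f'.Flat := hflat.localRingHom P (P.comap f) rfl
  have hloc : IsLocalHom f' := Localization.isLocalHom_localRingHom (P.comap f) P f rfl
  letI : Algebra (Localization.AtPrime (P.comap f)) (Localization.AtPrime P) := f'.toAlgebra
  have hfl : Module.Flat (Localization.AtPrime (P.comap f)) (Localization.AtPrime P) := hflat'
  haveI : IsLocalHom (algebraMap (Localization.AtPrime (P.comap f)) (Localization.AtPrime P)) :=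
    hloc
  have hff : Module.FaithfullyFlat (Localization.AtPrime (P.comap f)) (Localization.AtPrime P) :=
    Module.FaithfullyFlat.of_flat_of_isLocalHom
  have hepi' : Algebra.IsEpi (Localization.AtPrime (P.comap f)) (Localization.AtPrime P) := by
    rw [← CommRingCat.epi_iff_epi]
    constructor
    intro T g₁ g₂ hg
    have hg' : g₁.hom.comp f' = g₂.hom.comp f' := by
      have := congrArg CommRingCat.Hom.hom hg
      exact this
    have h3 : (g₁.hom.comp (algebraMap B (Localization.AtPrime P))).comp f =
        (g₂.hom.comp (algebraMap B (Localization.AtPrime P))).comp f := by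
      ext a
      have := RingHom.congr_fun hg' (algebraMap A _ a)
      simp only [RingHom.comp_apply] at this ⊢
      rw [hf', Localization.localRingHom_to_map] at this
      exact this
    have h4 := hepi _ _ h3
    ext : 1
    exact IsLocalization.ringHom_ext P.primeCompl h4
  exact bijective_of_faithfullyFlat_of_isEpi

end Groth.Agent.Lib.Helper3.FlatEpi
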