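import Mathlib

set_option autoImplicit false
universe u
open HomogeneousLocalization

namespace Groth.Agent.Lib.Helper3.GenDegOne

section Mono

variable {R B : Type u} [CommRing R] [CommRing B] [Algebra R B] (ℬ : ℕ → Submodule R B) [GradedAlgebra ℬ]

/-- monomials in homogeneous elements are homogeneous -/
theorem closure_homogeneous {s : Set B} (hs : ∀ g ∈ s, ∃ n, g ∈ ℬ n) {m : B}
    (hm : m ∈ Submonoid.closure s) : ∃ e, m ∈ ℬ e := by
  induction hm using Submonoid.closure_induction with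
  | mem x h => exact hs x h
  | one => exact ⟨0, SetLike.GradedOne.one_mem⟩
  | mul x y _ _ hx hy =>
    obtain ⟨a, ha⟩ := hx
    obtain ⟨b, hb⟩ := hy
    exact ⟨a + b, SetLike.mul_mem_graded ha hb⟩

/-- A `ℬ₀`-submodule containing all monomials of degree `n` contains `ℬ n`. -/
theorem mem_of_forall_monomial {s : Set B} (hs : ∀ g ∈ s, ∃ n, g ∈ ℬ n)
    (hadj : Algebra.adjoin (ℬ 0) s = ⊤)
    (W : Submodule (ℬ 0) B) (n : ℕ) (hW : ∀ m ∈ Submonoid.closure s, m ∈ ℬ n → m ∈ W) {x : B}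
    (hx : x ∈ ℬ n) : x ∈ W := by
  have key : ∀ y ∈ Submodule.span (ℬ 0) (Submonoid.closure s : Set B),
      ((DirectSum.decompose ℬ y n : ℬ n) : B) ∈ W := by
    intro y hy
    induction hy using Submodule.span_induction with
    | mem m hm =>
      obtain ⟨e, he⟩ := closure_homogeneous ℬ hs hm
      by_cases hen : e = n
      · subst hen
        rw [DirectSum.decompose_of_mem_same ℬ he]
        exact hW m hm he
      · rw [DirectSum.decompose_of_mem_ne ℬ he hen]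
        exact zero_mem _
    | zero => simp
    | add y z _ _ hy hz =>
      rw [DirectSum.decompose_add, DirectSum.add_apply, Submodule.coe_add]
      exact add_mem hy hz
    | smul c y _ hy =>
      have : ((DirectSum.decompose ℬ (c • y) n : ℬ n) : B) =
          c • ((DirectSum.decompose ℬ y n : ℬ n) : B) := by
        change ((DirectSum.decompose ℬ ((c : B) * y) n : ℬ n) : B) = (c : B) * _
        exact DirectSum.coe_decompose_mul_of_left_mem_zero ℬ c.2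
      rw [this]
      exact W.smul_mem c hy
  have hx' : x ∈ Submodule.span (ℬ 0) (Submonoid.closure s : Set B) := by
    rw [← Algebra.adjoin_eq_span, hadj]
    trivial
  have := key x hx'
  rwa [DirectSum.decompose_of_mem_same ℬ hx] at this

/-- degree-one monomials are generators -/
theorem monomial_deg_one {s : Set B} (hs : ∀ g ∈ s, ∃ n, n ≠ 0 ∧ g ∈ ℬ n) {m : B}
    (hm : m ∈ Submonoid.closure s) :
    ∃ e, m ∈ ℬ e ∧ (e = 0 → m = 1) ∧ (e = 1 → m ∈ s) := by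
  induction hm using Submonoid.closure_induction with
  | mem x h =>
    obtain ⟨n, hn, hx⟩ := hs x h
    exact ⟨n, hx, fun h0 => absurd h0 hn, fun _ => h⟩
  | one => exact ⟨0, SetLike.GradedOne.one_mem, fun _ => rfl, fun h => by omega⟩
  | mul x y _ _ hx hy =>
    obtain ⟨a, ha, ha0, ha1⟩ := hx
    obtain ⟨b, hb, hb0, hb1⟩ := hy
    refine ⟨a + b, SetLike.mul_mem_graded ha hb, ?_, ?_⟩
    · intro h
      rw [ha0 (by omega), hb0 (by omega), one_mul]
    · intro h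
      rcases Nat.eq_zero_or_pos a with h0 | h0
      · rw [ha0 h0, one_mul]
        exact hb1 (by omega)
      · rw [hb0 (by omega), mul_one]
        exact ha1 (by omega)

theorem deg_one_le_span {s : Set B} (hs : ∀ g ∈ s, ∃ n, n ≠ 0 ∧ g ∈ ℬ n)
    (hadj : Algebra.adjoin (ℬ 0) s = ⊤) {x : B} (hx : x ∈ ℬ 1) :
    x ∈ Submodule.span (ℬ 0) (s ∩ (ℬ 1 : Set B)) := by
  refine mem_of_forall_monomial ℬ (fun g hg => ?_) hadj _ 1 ?_ hx
  · obtain ⟨n, _, h⟩ := hs g hg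
    exact ⟨n, h⟩
  intro m hm hm1
  obtain ⟨e, he, h0, h1⟩ := monomial_deg_one ℬ hs hm
  by_cases hz : m = 0
  · rw [hz]
    exact zero_mem _
  · have : e = 1 := DirectSum.degree_eq_of_mem_mem ℬ he hm1 hz
    exact Submodule.subset_span ⟨h1 this, hm1⟩

/-- monomials in `j` generators of degree `≤ D` -/
theorem monomial_pow {s : Set B} (D : ℕ) (hs : ∀ g ∈ s, ∃ d, d ≤ D ∧ g ∈ ℬ d) {m : B}
    (hm : m ∈ Submonoid.closure s) :
    ∃ e j, m ∈ ℬ e ∧ e ≤ j * D ∧ m ∈ (Ideal.span s) ^ j := by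
  induction hm using Submonoid.closure_induction with
  | mem x h =>
    obtain ⟨d, hd, hx⟩ := hs x h
    exact ⟨d, 1, hx, by omega, by rw [pow_one]; exact Ideal.subset_span h⟩
  | one => exact ⟨0, 0, SetLike.GradedOne.one_mem, by omega, by rw [pow_zero, Ideal.one_eq_top]; trivial⟩
  | mul x y _ _ hx hy =>
    obtain ⟨a, j, ha, haj, hxj⟩ := hx
    obtain ⟨b, k, hb, hbk, hyk⟩ := hy
    refine ⟨a + b, j + k, SetLike.mul_mem_graded ha hb, by rw [add_mul]; omega, ?_⟩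
    rw [pow_add]
    exact Ideal.mul_mem_mul hxj hyk

theorem exists_forall_mem_ideal (s : Finset B) (hs : ∀ g ∈ s, ∃ n, n ≠ 0 ∧ g ∈ ℬ n)
    (hadj : Algebra.adjoin (ℬ 0) (s : Set B) = ⊤) (I : Ideal B) (hI : ∀ g ∈ s, g ∈ I.radical) :
    ∃ n₁, ∀ n, n₁ ≤ n → ∀ x ∈ ℬ n, x ∈ I := by
  classical
  have hJ : Ideal.span (s : Set B) ≤ I.radical := by
    rw [Ideal.span_le]
    exact fun g hg => hI g hg
  have hFG : (Ideal.span (s : Set B)).FG := ⟨s, rfl⟩
  obtain ⟨n', hn'⟩ := Ideal.exists_pow_le_of_le_radical_of_fg hJ hFG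
  choose! deg hdeg0 hdeg using hs
  let D := s.sup deg + 1
  refine ⟨n' * D, fun n hn x hx => ?_⟩
  refine mem_of_forall_monomial ℬ (fun g hg => ⟨deg g, hdeg g hg⟩) hadj
    (I.restrictScalars (ℬ 0)) n ?_ hx
  intro m hm hmn
  change m ∈ I
  by_cases hz : m = 0
  · rw [hz]
    exact zero_mem _
  obtain ⟨e, j, he, hej, hmj⟩ := monomial_pow ℬ (s := (s : Set B)) D
    (fun g hg => ⟨deg g, by
      have := Finset.le_sup (f := deg) hg
      omega, hdeg g hg⟩) hm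
  have hen : e = n := DirectSum.degree_eq_of_mem_mem ℬ he hmn hz
  have hj : n' ≤ j := by
    have : n' * D ≤ j * D := by omega
    exact Nat.le_of_mul_le_mul_right this (by omega)
  exact hn' (Ideal.pow_le_pow_right hj hmj)

theorem mem_mul_of_mem_span {n : ℕ} {x : B} (hx : x ∈ Ideal.span (ℬ 1 : Set B))
    (hxn : x ∈ ℬ (n + 1)) : x ∈ ℬ n * ℬ 1 := by
  rw [Ideal.span, Submodule.mem_span_set'] at hx
  obtain ⟨k, b, f, rfl⟩ := hx
  rw [← DirectSum.decompose_of_mem_same ℬ hxn]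
  rw [DirectSum.decompose_sum, DFinsupp.finsetSum_apply, AddSubmonoidClass.coe_finsetSum]
  refine Submodule.sum_mem _ fun i _ => ?_
  rw [smul_eq_mul, DirectSum.coe_decompose_mul_add_of_right_mem ℬ (f i).2]
  exact Submodule.mul_mem_mul (Subtype.property _) (f i).2

omit [GradedAlgebra ℬ] in
theorem mem_span_pow_of_mem_pow (M : Submodule R B) {n : ℕ} {x : B} (hx : x ∈ M ^ n) :
    x ∈ (Ideal.span (M : Set B)) ^ n := by
  induction hx using Submodule.pow_induction_on_left' with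
  | algebraMap r => rw [pow_zero, Ideal.one_eq_top]; trivial
  | add x y i hx hy ihx ihy => exact add_mem ihx ihy
  | mem_mul m hm i x hx ih =>
    rw [pow_succ']
    exact Ideal.mul_mem_mul (Ideal.subset_span hm) ih

theorem pow_le (n : ℕ) : ℬ 1 ^ n ≤ ℬ n := by
  induction n with
  | zero =>
    rw [pow_zero, Submodule.one_le]
    exact SetLike.GradedOne.one_mem
  | succ n ih =>
    rw [pow_succ]
    refine Submodule.mul_le.mpr fun a ha b hb => ?_
    exact SetLike.mul_mem_graded (ih ha) hb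

end Mono

section Main

variable {R A B : Type u} [CommRing R] [CommRing A] [Algebra R A] [CommRing B] [Algebra R B]
  (𝒜 : ℕ → Submodule R A) [GradedAlgebra 𝒜] (ℬ : ℕ → Submodule R B) [GradedAlgebra ℬ] (φ : 𝒜 →+*ᵍ ℬ)

/-- the conductor of `g` in `A`: the `a` with `φ a * g ∈ range φ` -/
def cond (g : B) : Ideal A where
  carrier := {a | ∃ a', φ a * g = φ a'}
  add_mem' := by
    rintro a b ⟨a', ha⟩ ⟨b', hb⟩
    exact ⟨a' + b', by rw [map_add, add_mul, ha, hb, map_add]⟩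
  zero_mem' := ⟨0, by simp⟩
  smul_mem' := by
    rintro c a ⟨a', ha⟩
    exact ⟨c * a', by rw [smul_eq_mul, map_mul, mul_assoc, ha, map_mul]⟩

theorem exists_mem_of_mem {n : ℕ} {a : A} (h : φ a ∈ ℬ n) : ∃ a' ∈ 𝒜 n, φ a' = φ a := by
  refine ⟨(DirectSum.decompose 𝒜 a n : 𝒜 n), Subtype.property _, ?_⟩
  rw [GradedRingHom.map_directSumDecompose 𝒜 ℬ φ, DirectSum.decompose_of_mem_same ℬ h]

theorem exists_pow_mem_cond {f : A} (hf : f ∈ 𝒜 1) (hsurj : Function.Surjective (Away.map φ f))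
    {d : ℕ} {g : B} (hg : g ∈ ℬ d) : ∃ N, f ^ N ∈ cond 𝒜 ℬ φ g := by
  have hg' : g ∈ ℬ (d • 1) := by simpa using hg
  obtain ⟨q, hq⟩ := hsurj (Away.mk ℬ (φ.map_mem hf) d g hg')
  obtain ⟨m, a, ha, rfl⟩ := Away.mk_surjective 𝒜 hf q
  rw [Away.map_mk] at hq
  have hv := congrArg HomogeneousLocalization.val hq
  rw [Away.val_mk, Away.val_mk, Localization.mk_eq_mk_iff, Localization.r_iff_exists] at hv
  obtain ⟨⟨c, k, rfl⟩, hc⟩ := hv
  refine ⟨k + m, f ^ (k + d) * a, ?_⟩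
  simp only at hc
  rw [map_pow, pow_add, mul_assoc, ← hc, map_mul, map_pow, pow_add, mul_assoc]

theorem exists_forall_mem_cond (hgen : ∀ n : ℕ, 1 ≤ n → 𝒜 n = 𝒜 1 ^ n)
    (hFG : (Ideal.span (𝒜 1 : Set A)).FG)
    (hsurj : ∀ f ∈ 𝒜 1, Function.Surjective (Away.map φ f)) {d : ℕ} {g : B} (hg : g ∈ ℬ d) :
    ∃ N, ∀ k, N ≤ k → ∀ a ∈ 𝒜 k, ∃ a' ∈ 𝒜 (k + d), φ a * g = φ a' := by
  have hrad : Ideal.span (𝒜 1 : Set A) ≤ (cond 𝒜 ℬ φ g).radical := by
    rw [Ideal.span_le]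
    intro f hf
    obtain ⟨N, hN⟩ := exists_pow_mem_cond 𝒜 ℬ φ hf (hsurj f hf) hg
    exact ⟨N, hN⟩
  obtain ⟨N, hN⟩ := Ideal.exists_pow_le_of_le_radical_of_fg hrad hFG
  refine ⟨N + 1, fun k hk a ha => ?_⟩
  have hk1 : 1 ≤ k := by omega
  have ha' : a ∈ (Ideal.span (𝒜 1 : Set A)) ^ k := by
    rw [hgen k hk1] at ha
    exact mem_span_pow_of_mem_pow (𝒜 1) ha
  obtain ⟨a', h⟩ : a ∈ cond 𝒜 ℬ φ g := hN (Ideal.pow_le_pow_right (by omega) ha')
  have hmem : φ a' ∈ ℬ (k + d) := by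
    rw [← h]
    exact SetLike.mul_mem_graded (φ.map_mem ha) hg
  obtain ⟨a'', ha'', e⟩ := exists_mem_of_mem 𝒜 ℬ φ hmem
  exact ⟨a'', ha'', by rw [h, e]⟩

omit [GradedAlgebra 𝒜] in
theorem monomial_cond {s : Set B} (N : ℕ)
    (hs : ∀ g ∈ s, ∃ d, g ∈ ℬ d ∧ ∀ k, N ≤ k → ∀ a ∈ 𝒜 k, ∃ a' ∈ 𝒜 (k + d), φ a * g = φ a')
    {m : B} (hm : m ∈ Submonoid.closure s) :
    ∃ e, m ∈ ℬ e ∧ ∀ k, N ≤ k → ∀ a ∈ 𝒜 k, ∃ a' ∈ 𝒜 (k + e), φ a * m = φ a' := by
  induction hm using Submonoid.closure_induction with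
  | mem x h => exact hs x h
  | one => exact ⟨0, SetLike.GradedOne.one_mem, fun k _ a ha => ⟨a, ha, mul_one _⟩⟩
  | mul x y _ _ hx hy =>
    obtain ⟨ex, hxe, hx⟩ := hx
    obtain ⟨ey, hye, hy⟩ := hy
    refine ⟨ex + ey, SetLike.mul_mem_graded hxe hye, fun k hk a ha => ?_⟩
    obtain ⟨a₁, ha₁, e₁⟩ := hx k hk a ha
    obtain ⟨a₂, ha₂, e₂⟩ := hy (k + ex) (by omega) a₁ ha₁
    refine ⟨a₂, ?_, ?_⟩
    · rw [← add_assoc]; exact ha₂
    · rw [← mul_assoc, e₁, e₂]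

theorem forall_cond {s : Set B} (hadj : Algebra.adjoin (ℬ 0) s = ⊤)
    (h0 : ∀ b ∈ ℬ 0, ∃ a ∈ 𝒜 0, φ a = b) (N : ℕ)
    (hs : ∀ g ∈ s, ∃ d, g ∈ ℬ d ∧ ∀ k, N ≤ k → ∀ a ∈ 𝒜 k, ∃ a' ∈ 𝒜 (k + d), φ a * g = φ a')
    (n : ℕ) {x : B} (hx : x ∈ ℬ n) :
    ∀ k, N ≤ k → ∀ a ∈ 𝒜 k, ∃ a' ∈ 𝒜 (k + n), φ a * x = φ a' := by
  let W : Submodule (ℬ 0) B :=
    { carrier := {x | ∀ k, N ≤ k → ∀ a ∈ 𝒜 k, ∃ a' ∈ 𝒜 (k + n), φ a * x = φ a'}
      add_mem' := by
        intro x y hx hy k hk a ha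
        obtain ⟨a₁, ha₁, e₁⟩ := hx k hk a ha
        obtain ⟨a₂, ha₂, e₂⟩ := hy k hk a ha
        exact ⟨a₁ + a₂, add_mem ha₁ ha₂, by rw [mul_add, e₁, e₂, map_add]⟩
      zero_mem' := fun k _ a _ => ⟨0, zero_mem _, by simp⟩
      smul_mem' := by
        intro c x hx k hk a ha
        obtain ⟨a₁, ha₁, e₁⟩ := hx k hk a ha
        obtain ⟨c', hc', ec⟩ := h0 c c.2
        refine ⟨c' * a₁, ?_, ?_⟩
        · have := SetLike.mul_mem_graded hc' ha₁
          rwa [zero_add] at this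
        · change φ a * ((c : B) * x) = _
          rw [map_mul, ec, ← e₁]
          ring }
  refine mem_of_forall_monomial ℬ (W := W) (fun g hg => ?_) hadj n ?_ hx
  · obtain ⟨d, hd, _⟩ := hs g hg
    exact ⟨d, hd⟩
  intro m hm hmn k hk a ha
  obtain ⟨e, he, hm'⟩ := monomial_cond 𝒜 ℬ φ N hs hm
  by_cases hz : m = 0
  · exact ⟨0, zero_mem _, by rw [hz]; simp⟩
  · have hen : e = n := DirectSum.degree_eq_of_mem_mem ℬ he hmn hz
    subst hen
    exact hm' k hk a ha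

set_option maxHeartbeats 1000000 in
theorem main (hφ : Function.Injective φ)
    (h0 : Set.BijOn φ (𝒜 0) (ℬ 0)) (h1 : Set.BijOn φ (𝒜 1) (ℬ 1))
    (hgen : ∀ n : ℕ, 1 ≤ n → 𝒜 n = 𝒜 1 ^ n) [Algebra.FiniteType (ℬ 0) B]
    (hsurj : ∀ f ∈ 𝒜 1, Function.Surjective (Away.map φ f))
    (hrad : ∀ d : ℕ, 0 < d → ∀ g ∈ ℬ d, g ∈ (Ideal.span (φ '' (𝒜 1 : Set A))).radical) :
    ∃ n₀ : ℕ, ∀ n : ℕ, n₀ ≤ n → ℬ n = ℬ 1 ^ n := by
  classical
  obtain ⟨s, hadj, hs⟩ := GradedAlgebra.exists_finset_adjoin_eq_top_and_homogeneous_ne_zero ℬ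
  have h0' : ∀ b ∈ ℬ 0, ∃ a ∈ 𝒜 0, φ a = b := fun b hb => h0.surjOn hb
  have h1' : ∀ b ∈ ℬ 1, ∃ a ∈ 𝒜 1, φ a = b := fun b hb => h1.surjOn hb
  -- the ideal generated by `𝒜 1` is finitely generated
  have hFG : (Ideal.span (𝒜 1 : Set A)).FG := by
    let F' : Set A := {a | a ∈ 𝒜 1 ∧ φ a ∈ s}
    have hF'fin : F'.Finite := by
      refine Set.Finite.subset (Set.Finite.preimage (hφ.injOn) s.finite_toSet) ?_
      intro a ha
      exact ha.2
    have heq : Ideal.span (𝒜 1 : Set A) = Ideal.span F' := by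
      apply le_antisymm
      · rw [Ideal.span_le]
        intro a ha
        have hb : φ a ∈ Submodule.span (ℬ 0) ((s : Set B) ∩ (ℬ 1 : Set B)) :=
          deg_one_le_span ℬ hs hadj (φ.map_mem ha)
        have key : ∀ y ∈ Submodule.span (ℬ 0) ((s : Set B) ∩ (ℬ 1 : Set B)),
            ∃ a' ∈ Ideal.span F', φ a' = y := by
          intro y hy
          induction hy using Submodule.span_induction with
          | mem g hg =>
            obtain ⟨f, hf, rfl⟩ := h1' g hg.2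
            exact ⟨f, Ideal.subset_span ⟨hf, hg.1⟩, rfl⟩
          | zero => exact ⟨0, zero_mem _, map_zero _⟩
          | add y z _ _ hy hz =>
            obtain ⟨a₁, ha₁, e₁⟩ := hy
            obtain ⟨a₂, ha₂, e₂⟩ := hz
            exact ⟨a₁ + a₂, add_mem ha₁ ha₂, by rw [map_add, e₁, e₂]⟩
          | smul c y _ hy =>
            obtain ⟨a₁, ha₁, e₁⟩ := hy
            obtain ⟨c', _, ec⟩ := h0' c c.2
            exact ⟨c' * a₁, Ideal.mul_mem_left _ _ ha₁, by rw [map_mul, ec, e₁]; rfl⟩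
        obtain ⟨a', ha', e⟩ := key _ hb
        rw [← hφ e]
        exact ha'
      · apply Ideal.span_mono
        intro a ha
        exact ha.1
    rw [heq]
    exact Submodule.fg_span hF'fin
  -- conductor bound for every generator
  have hsN : ∀ g ∈ s, ∃ d, g ∈ ℬ d ∧ ∃ N, ∀ k, N ≤ k → ∀ a ∈ 𝒜 k,
      ∃ a' ∈ 𝒜 (k + d), φ a * g = φ a' := by
    intro g hg
    obtain ⟨d, _, hd⟩ := hs g hg
    exact ⟨d, hd, exists_forall_mem_cond 𝒜 ℬ φ hgen hFG hsurj hd⟩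
  choose! deg hdeg Ng hNg using hsN
  let N := s.sup Ng
  have hsN' : ∀ g ∈ (s : Set B), ∃ d, g ∈ ℬ d ∧ ∀ k, N ≤ k → ∀ a ∈ 𝒜 k,
      ∃ a' ∈ 𝒜 (k + d), φ a * g = φ a' := by
    intro g hg
    refine ⟨deg g, hdeg g hg, fun k hk a ha => hNg g hg k ?_ a ha⟩
    have := Finset.le_sup (f := Ng) hg
    omega
  have hstar := fun (n : ℕ) (x : B) (hx : x ∈ ℬ n) => forall_cond 𝒜 ℬ φ hadj h0' N hsN' n hx
  -- large degrees are generated by degree one
  have himg : φ '' (𝒜 1 : Set A) = (ℬ 1 : Set B) := h1.image_eq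
  obtain ⟨n₁, hn₁⟩ := exists_forall_mem_ideal ℬ s hs hadj (Ideal.span (ℬ 1 : Set B)) (by
    intro g hg
    obtain ⟨d, hd0, hd⟩ := hs g hg
    rw [← himg]
    exact hrad d (Nat.pos_of_ne_zero hd0) g hd)
  have hB : ∀ n, n₁ ≤ n → ∀ x ∈ ℬ (n + 1), x ∈ ℬ n * ℬ 1 := fun n hn x hx =>
    mem_mul_of_mem_span ℬ (hn₁ (n + 1) (by omega) x hx) hx
  -- every element of degree `n₁ + k` is a sum of `φ a * y`, `a ∈ 𝒜 k`, `y ∈ ℬ n₁`
  have hC : ∀ k, ∀ x ∈ ℬ (n₁ + k),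
      x ∈ AddSubmonoid.closure {b : B | ∃ a ∈ 𝒜 k, ∃ y ∈ ℬ n₁, b = φ a * y} := by
    intro k
    induction k with
    | zero =>
      intro x hx
      exact AddSubmonoid.subset_closure ⟨1, SetLike.GradedOne.one_mem, x, hx, by simp⟩
    | succ k ih =>
      intro x hx
      have hx' : x ∈ ℬ (n₁ + k) * ℬ 1 := hB (n₁ + k) (by omega) x hx
      refine Submodule.mul_induction_on hx' ?_ (fun x y hx hy => add_mem hx hy)
      intro y hy f hf
      obtain ⟨f', hf', rfl⟩ := h1' f hf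
      have hy' := ih y hy
      clear hy
      induction hy' using AddSubmonoid.closure_induction with
      | mem z hz =>
        obtain ⟨a, ha, w, hw, rfl⟩ := hz
        refine AddSubmonoid.subset_closure ⟨a * f', SetLike.mul_mem_graded ha hf', w, hw, ?_⟩
        rw [map_mul]; ring
      | zero => rw [zero_mul]; exact zero_mem _
      | add z w _ _ hz hw => rw [add_mul]; exact add_mem hz hw
  refine ⟨n₁ + N + 1, fun n hn => le_antisymm ?_ (pow_le ℬ n)⟩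
  intro x hx
  obtain ⟨k, rfl⟩ : ∃ k, n = n₁ + k := ⟨n - n₁, by omega⟩
  have hk : N ≤ k := by omega
  have hxC := hC k x hx
  -- `x ∈ φ '' 𝒜 (n₁ + k)`
  have hximg : ∃ a ∈ 𝒜 (n₁ + k), φ a = x := by
    clear hx
    induction hxC using AddSubmonoid.closure_induction with
    | mem z hz =>
      obtain ⟨a, ha, w, hw, rfl⟩ := hz
      obtain ⟨a', ha', e⟩ := hstar n₁ w hw k hk a ha
      exact ⟨a', by rwa [add_comm] at ha', e.symm⟩
    | zero => exact ⟨0, zero_mem _, map_zero _⟩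
    | add z w _ _ hz hw =>
      obtain ⟨a₁, ha₁, e₁⟩ := hz
      obtain ⟨a₂, ha₂, e₂⟩ := hw
      exact ⟨a₁ + a₂, add_mem ha₁ ha₂, by rw [map_add, e₁, e₂]⟩
  obtain ⟨a, ha, rfl⟩ := hximg
  -- `φ (𝒜 n) ⊆ ℬ 1 ^ n` for `n ≥ 1`
  have hn1 : 1 ≤ n₁ + k := by omega
  rw [hgen _ hn1] at ha
  clear hx hxC hn
  generalize n₁ + k = j at ha hn1 ⊢
  revert hn1
  induction ha using Submodule.pow_induction_on_left' with
  | algebraMap r => intro h; omega
  | add x y i hx hy ihx ihy =>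
    intro h
    rw [map_add]
    exact add_mem (ihx h) (ihy h)
  | mem_mul m hm i x hx ih =>
    intro _
    rcases Nat.eq_zero_or_pos i with hi | hi
    · subst hi
      rw [pow_zero, Submodule.mem_one] at hx
      obtain ⟨r, rfl⟩ := hx
      have : m * algebraMap R A r = r • m := by rw [Algebra.smul_def, mul_comm]
      rw [this]
      change _ ∈ ℬ 1 ^ 1
      rw [pow_one]
      exact φ.map_mem ((𝒜 1).smul_mem r hm)
    · rw [map_mul, pow_succ']
      exact Submodule.mul_mem_mul (φ.map_mem hm) (ih hi)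

end Main

end Groth.Agent.Lib.Helper3.GenDegOne
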