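import Mathlib
import Groth.Prelude.Def_PCone
import Groth.Agent.S3596

set_option autoImplicit false
universe u
open CategoryTheory CategoryTheory.Limits AlgebraicGeometry Opposite TopologicalSpace
open scoped HomogeneousIdeal
open HomogeneousLocalization

namespace Groth.Agent.Lib.Helper3.GenDegOne

variable {R A : Type u} [CommRing R] [CommRing A] [Algebra R A] (𝒜 : ℕ → Submodule R A) [GradedAlgebra 𝒜]
    {B : Type u} [CommRing B] [Algebra R B] (ℬ : ℕ → Submodule R B) [GradedAlgebra ℬ] (φ : 𝒜 →+*ᵍ ℬ)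

omit [GradedAlgebra 𝒜] in
theorem mem_span_of_mem_pow (M : Submodule R A) {n : ℕ} (hn : 1 ≤ n) {x : A} (hx : x ∈ M ^ n) :
    x ∈ Ideal.span (M : Set A) := by
  revert hn
  induction hx using Submodule.pow_induction_on_left' with
  | algebraMap r => intro h; omega
  | add x y i hx hy ihx ihy => intro h; exact add_mem (ihx h) (ihy h)
  | mem_mul m hm i x hx ih =>
    intro _
    exact Ideal.mul_mem_right _ _ (Ideal.subset_span hm)

omit [GradedAlgebra 𝒜] in
/-- `G(φ) = Proj ℬ` and `𝒜` generated in degree one: every homogeneous element of positive degree of `ℬ` lies in the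
radical of the ideal generated by `φ(𝒜₁)`. -/
theorem mem_radical_of_dom_eq_top (hgen : ∀ n : ℕ, 1 ≤ n → 𝒜 n = 𝒜 1 ^ n) (hdom : PCone.dom φ = ⊤)
    {d : ℕ} (hd : 0 < d) {g : B} (hg : g ∈ ℬ d) :
    g ∈ (Ideal.span (φ '' (𝒜 1 : Set A))).radical := by
  have hhom : (Ideal.span (φ '' (𝒜 1 : Set A))).IsHomogeneous ℬ := by
    apply Ideal.homogeneous_span
    rintro _ ⟨a, ha, rfl⟩
    exact ⟨1, φ.map_mem ha⟩
  rw [hhom.radical_eq]
  rw [Ideal.mem_sInf]
  rintro J ⟨hJh, hIJ, hJp⟩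
  by_contra hgJ
  have hirr : ¬ (HomogeneousIdeal.irrelevant ℬ ≤ ⟨J, hJh⟩) := by
    intro hle
    exact hgJ (hle (HomogeneousIdeal.mem_irrelevant_of_mem ℬ hd hg))
  let x : ProjectiveSpectrum ℬ := ⟨⟨J, hJh⟩, hJp, hirr⟩
  have hx : (show (Proj ℬ : Scheme.{u}) from x) ∈ PCone.dom φ := by rw [hdom]; trivial
  obtain ⟨⟨f, e, he, hf⟩, hxf⟩ := Opens.mem_iSup.mp hx
  have hxf := (Proj.mem_basicOpen ℬ (φ f) _).mp hxf
  apply hxf
  change φ f ∈ J
  apply hIJ
  have hf' : f ∈ Ideal.span (𝒜 1 : Set A) := by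
    rw [hgen e he] at hf
    exact mem_span_of_mem_pow (𝒜 1) he hf
  have : φ f ∈ Ideal.map φ (Ideal.span (𝒜 1 : Set A)) := Ideal.mem_map_of_mem _ hf'
  rw [Ideal.map_span] at this
  exact this

variable (p : (PCone.dom φ : Scheme.{u}) ⟶ Proj 𝒜)
    (hp : ∀ (d : ℕ) (f : A) (hd : 0 < d) (hf : f ∈ 𝒜 d),
      PCone.chart φ hf hd ≫ p =
        Spec.map (CommRingCat.ofHom (HomogeneousLocalization.Away.map φ f)) ≫ Proj.awayι 𝒜 f hf hd)

include hp in
/-- If the induced morphism `G(φ) ⟶ Proj 𝒜` is an isomorphism, all the `𝒜_(f) → ℬ_(φ f)` are bijective. -/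
theorem awayMap_bijective_of_isIso [IsIso p] {d : ℕ} (hd : 0 < d) {f : A} (hf : f ∈ 𝒜 d) :
    Function.Bijective (Away.map φ f) := by
  have hch := Groth.Agent.S3596.isOpenImmersion_chart 𝒜 ℬ φ hf hd
  have h1 : IsOpenImmersion (Spec.map (CommRingCat.ofHom (Away.map φ f)) ≫ Proj.awayι 𝒜 f hf hd) := by
    rw [← hp d f hd hf]; infer_instance
  have h2 : IsOpenImmersion (Spec.map (CommRingCat.ofHom (Away.map φ f))) :=
    IsOpenImmersion.of_comp _ (Proj.awayι 𝒜 f hf hd)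
  have hsurj : Function.Surjective (Spec.map (CommRingCat.ofHom (Away.map φ f))).base := by
    intro y
    have hy : (Proj.awayι 𝒜 f hf hd).base y ∈ Proj.basicOpen 𝒜 f := by
      rw [← Proj.opensRange_awayι 𝒜 f hf hd]; exact ⟨y, rfl⟩
    have hy' : (inv p).base ((Proj.awayι 𝒜 f hf hd).base y) ∈ p ⁻¹ᵁ Proj.basicOpen 𝒜 f := by
      change p.base ((inv p).base ((Proj.awayι 𝒜 f hf hd).base y)) ∈ Proj.basicOpen 𝒜 f
      have : p.base ((inv p).base ((Proj.awayι 𝒜 f hf hd).base y)) = (Proj.awayι 𝒜 f hf hd).base y := by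
        rw [← Scheme.Hom.comp_apply, IsIso.inv_hom_id]; rfl
      rw [this]; exact hy
    rw [Groth.Agent.S3596.preimage_basicOpen 𝒜 ℬ φ p hp hf hd,
      ← Groth.Agent.S3596.opensRange_chart 𝒜 ℬ φ hf hd] at hy'
    obtain ⟨w, hw⟩ := hy'
    refine ⟨w, ?_⟩
    apply (Proj.awayι 𝒜 f hf hd).isOpenEmbedding.injective
    have e1 := congrArg (fun m => m.base w) (hp d f hd hf)
    simp only [Scheme.Hom.comp_base, TopCat.hom_comp, ContinuousMap.comp_apply] at e1
    rw [← e1, hw]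
    rw [← Scheme.Hom.comp_apply, IsIso.inv_hom_id]; rfl
  have hiso : IsIso (Spec.map (CommRingCat.ofHom (Away.map φ f))) := by
    apply isIso_of_isOpenImmersion_of_opensRange_eq_top
    ext y
    simp only [Opens.coe_top, Set.mem_univ, iff_true]
    exact hsurj y
  exact (isIso_SpecMap_iff).mp hiso

end Groth.Agent.Lib.Helper3.GenDegOne
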