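import Mathlib.AlgebraicGeometry.Gluing
import Mathlib.AlgebraicGeometry.Cover.MorphismProperty
import Mathlib.AlgebraicGeometry.Restrict
/-!
# Gluing morphisms along a family of open charts closed under local refinement
-/
universe u
open CategoryTheory CategoryTheory.Limits AlgebraicGeometry Opposite TopologicalSpace

namespace Groth.Agent.Lib.Helper3.GlueCharts

/-- two morphisms agreeing locally on the source are equal (version with open immersions). -/
theorem hom_ext_of_forall_immersion {Q Z : Scheme.{u}} (a b : Q ⟶ Z)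
    (H : ∀ q : Q, ∃ (E : Scheme.{u}) (e : E ⟶ Q), IsOpenImmersion e ∧ q ∈ Set.range e.base ∧ e ≫ a = e ≫ b) :
    a = b := by
  refine Scheme.hom_ext_of_forall a b fun q => ?_
  obtain ⟨E, e, he, hq, hab⟩ := H q
  refine ⟨e.opensRange, hq, ?_⟩
  have : IsOpenImmersion e := he
  rw [← cancel_epi (e.isoOpensRange).hom]
  simpa using hab

/-- Gluing along an open cover whose overlaps are locally refined by members of the cover on which the target
morphisms agree. -/
theorem existsUnique_glue_cover {Y Z : Scheme.{u}} (𝒰 : Y.OpenCover) (t : ∀ c, 𝒰.X c ⟶ Z)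
    (href : ∀ (c c' : 𝒰.I₀) (y : 𝒰.X c) (y' : 𝒰.X c'), (𝒰.f c).base y = (𝒰.f c').base y' →
      ∃ (c'' : 𝒰.I₀) (k : 𝒰.X c'' ⟶ 𝒰.X c) (k' : 𝒰.X c'' ⟶ 𝒰.X c'), y ∈ Set.range k.base ∧
        k ≫ 𝒰.f c = 𝒰.f c'' ∧ k' ≫ 𝒰.f c' = 𝒰.f c'' ∧ k ≫ t c = t c'' ∧ k' ≫ t c' = t c'') :
    ∃! v : Y ⟶ Z, ∀ c, 𝒰.f c ≫ v = t c := by
  have hcompat : ∀ c c' : 𝒰.I₀, pullback.fst (𝒰.f c) (𝒰.f c') ≫ t c = pullback.snd _ _ ≫ t c' := by
    intro c c'
    refine hom_ext_of_forall_immersion _ _ fun q => ?_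
    have hq : (𝒰.f c).base ((pullback.fst (𝒰.f c) (𝒰.f c')).base q) =
        (𝒰.f c').base ((pullback.snd (𝒰.f c) (𝒰.f c')).base q) := by
      rw [← Scheme.Hom.comp_apply, ← Scheme.Hom.comp_apply, pullback.condition]
    obtain ⟨c'', k, k', ⟨z, hz⟩, hk, hk', hkt, hkt'⟩ := href c c' _ _ hq
    have hkk : k ≫ 𝒰.f c = k' ≫ 𝒰.f c' := by rw [hk, hk']
    refine ⟨𝒰.X c'', pullback.lift k k' hkk, ?_, ?_, ?_⟩
    · have h1 : pullback.lift k k' hkk ≫ (pullback.fst (𝒰.f c) (𝒰.f c') ≫ 𝒰.f c) = 𝒰.f c'' := by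
        rw [← Category.assoc, pullback.lift_fst, hk]
      have : IsOpenImmersion (pullback.lift k k' hkk ≫ (pullback.fst (𝒰.f c) (𝒰.f c') ≫ 𝒰.f c)) := by
        rw [h1]; infer_instance
      exact IsOpenImmersion.of_comp _ (pullback.fst (𝒰.f c) (𝒰.f c') ≫ 𝒰.f c)
    · refine ⟨z, ?_⟩
      have hinj : Function.Injective (pullback.fst (𝒰.f c) (𝒰.f c')).base :=
        (Scheme.Hom.isOpenEmbedding _).injective
      apply hinj
      rw [← Scheme.Hom.comp_apply, pullback.lift_fst, hz]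
    · rw [← Category.assoc, ← Category.assoc, pullback.lift_fst, pullback.lift_snd, hkt, hkt']
  refine ⟨𝒰.glueMorphisms t hcompat, fun c => 𝒰.ι_glueMorphisms t hcompat c, fun v hv => ?_⟩
  refine 𝒰.hom_ext _ _ fun c => ?_
  rw [𝒰.ι_glueMorphisms t hcompat c, hv c]

variable {X Z : Scheme.{u}} {ι : Type u} (D : ι → Scheme.{u}) (j : ∀ c, D c ⟶ X)
  [∀ c, IsOpenImmersion (j c)] (t : ∀ c, D c ⟶ Z)

/-- The refinement condition: two charts are, near every common point, refined by a third chart on which the target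
morphisms agree. -/
def Refines : Prop :=
  ∀ (c c' : ι) (y : D c) (y' : D c'), (j c).base y = (j c').base y' →
    ∃ (c'' : ι) (k : D c'' ⟶ D c) (k' : D c'' ⟶ D c'), y ∈ Set.range k.base ∧
      k ≫ j c = j c'' ∧ k' ≫ j c' = j c'' ∧ k ≫ t c = t c'' ∧ k' ≫ t c' = t c''

variable (W : X.Opens) (hW : ∀ c, Set.range (j c).base ⊆ Set.range W.ι.base)
  (hcov : ∀ x ∈ W, ∃ c, x ∈ Set.range (j c).base)

/-- the open cover of `W` by the lifted charts -/
noncomputable def cover : (W : Scheme.{u}).OpenCover :=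
  Scheme.Cover.mkOfCovers ι D (fun c => IsOpenImmersion.lift W.ι (j c) (hW c))
    (fun x => by
      obtain ⟨c, y, hy⟩ := hcov x.1 x.2
      refine ⟨c, y, ?_⟩
      apply W.ι.isOpenEmbedding.injective
      rw [← Scheme.Hom.comp_apply, IsOpenImmersion.lift_fac]
      exact hy)
    (fun c => IsOpenImmersion.of_comp _ W.ι)

include hcov in
theorem existsUnique_glue (href : Refines D j t) :
    ∃! v : (W : Scheme.{u}) ⟶ Z, ∀ c, IsOpenImmersion.lift W.ι (j c) (hW c) ≫ v = t c := by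
  refine existsUnique_glue_cover (cover D j W hW hcov) t ?_
  intro c c' y y' hyy
  have hyy' : (j c).base y = (j c').base y' := by
    have e1 : j c = IsOpenImmersion.lift W.ι (j c) (hW c) ≫ W.ι := (IsOpenImmersion.lift_fac _ _ _).symm
    have e2 : j c' = IsOpenImmersion.lift W.ι (j c') (hW c') ≫ W.ι := (IsOpenImmersion.lift_fac _ _ _).symm
    rw [e1, e2, Scheme.Hom.comp_apply, Scheme.Hom.comp_apply]
    exact congrArg W.ι.base hyy
  obtain ⟨c'', k, k', hy, hk, hk', hkt, hkt'⟩ := href c c' y y' hyy'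
  refine ⟨c'', k, k', hy, ?_, ?_, hkt, hkt'⟩
  · change k ≫ IsOpenImmersion.lift W.ι (j c) (hW c) = IsOpenImmersion.lift W.ι (j c'') (hW c'')
    rw [← cancel_mono W.ι, Category.assoc, IsOpenImmersion.lift_fac, IsOpenImmersion.lift_fac, hk]
  · change k' ≫ IsOpenImmersion.lift W.ι (j c') (hW c') = IsOpenImmersion.lift W.ι (j c'') (hW c'')
    rw [← cancel_mono W.ι, Category.assoc, IsOpenImmersion.lift_fac, IsOpenImmersion.lift_fac, hk']

end Groth.Agent.Lib.Helper3.GlueCharts
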