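import Groth.Agent.Lib.Helper29.TensorDesc
/-!
# Pairings between modules glued from charts

A module `F` on `P` is *glued* from modules `G i` along transition maps `κ` if its sections are the
compatible families of sections of the `G i`. A family of chartwise pairings compatible with the
transition maps then glues to a pairing of the glued modules.
-/
set_option autoImplicit false
universe u
open CategoryTheory CategoryTheory.Limits AlgebraicGeometry Opposite TopologicalSpace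
open Groth.Agent.Lib.Helper29 Groth.Agent.Lib.Helper29.QCoh

namespace Groth.Agent.Lib.Helper3.GluedPairing

variable {P : Scheme.{u}} {I : Type*} [Preorder I]

/-- `F`, with `lam i : F ⟶ G i`, is glued from the `G i` along `κ`. -/
structure Glued (F : P.Modules) (G : I → P.Modules) (κ : ∀ {i j : I}, j ≤ i → (G i ⟶ G j))
    (lam : ∀ i, F ⟶ G i) : Prop where
  compat : ∀ {i j : I} (h : j ≤ i) (W : P.Opens) (s : Γ(F, W)),
    (κ h).app W ((lam i).app W s) = (lam j).app W s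
  ext : ∀ (W : P.Opens) (s t : Γ(F, W)), (∀ i, (lam i).app W s = (lam i).app W t) → s = t
  glue : ∀ (W : P.Opens) (τ : ∀ i, Γ(G i, W)),
    (∀ (i j : I) (h : j ≤ i), (κ h).app W (τ i) = τ j) → ∃ s : Γ(F, W), ∀ i, (lam i).app W s = τ i

/-- A family of chartwise pairings compatible with the transition maps. -/
structure ChartPairing (G₁ G₂ G₃ : I → P.Modules)
    (κ₁ : ∀ {i j : I}, j ≤ i → (G₁ i ⟶ G₁ j)) (κ₂ : ∀ {i j : I}, j ≤ i → (G₂ i ⟶ G₂ j))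
    (κ₃ : ∀ {i j : I}, j ≤ i → (G₃ i ⟶ G₃ j)) where
  b : ∀ (i : I) (W : P.Opens), Γ(G₁ i, W) → Γ(G₂ i, W) → Γ(G₃ i, W)
  add_left : ∀ i W (m m' : Γ(G₁ i, W)) (n : Γ(G₂ i, W)), b i W (m + m') n = b i W m n + b i W m' n
  add_right : ∀ i W (m : Γ(G₁ i, W)) (n n' : Γ(G₂ i, W)), b i W m (n + n') = b i W m n + b i W m n'
  smul_left : ∀ i W (r : Γ(P, W)) (m : Γ(G₁ i, W)) (n : Γ(G₂ i, W)), b i W (r • m) n = r • b i W m n
  smul_right : ∀ i W (r : Γ(P, W)) (m : Γ(G₁ i, W)) (n : Γ(G₂ i, W)), b i W m (r • n) = r • b i W m n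
  res : ∀ i {W W' : P.Opens} (h : W' ≤ W) (m : Γ(G₁ i, W)) (n : Γ(G₂ i, W)),
    QCoh.res (G₃ i) h (b i W m n) = b i W' (QCoh.res (G₁ i) h m) (QCoh.res (G₂ i) h n)
  κ_compat : ∀ {i j : I} (h : j ≤ i) (W : P.Opens) (m : Γ(G₁ i, W)) (n : Γ(G₂ i, W)),
    (κ₃ h).app W (b i W m n) = b j W ((κ₁ h).app W m) ((κ₂ h).app W n)

variable {F₁ F₂ F₃ : P.Modules} {G₁ G₂ G₃ : I → P.Modules}
  {κ₁ : ∀ {i j : I}, j ≤ i → (G₁ i ⟶ G₁ j)} {κ₂ : ∀ {i j : I}, j ≤ i → (G₂ i ⟶ G₂ j)}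
  {κ₃ : ∀ {i j : I}, j ≤ i → (G₃ i ⟶ G₃ j)}
  {lam₁ : ∀ i, F₁ ⟶ G₁ i} {lam₂ : ∀ i, F₂ ⟶ G₂ i} {lam₃ : ∀ i, F₃ ⟶ G₃ i}

theorem exists_glued (h₁ : Glued F₁ G₁ κ₁ lam₁) (h₂ : Glued F₂ G₂ κ₂ lam₂) (h₃ : Glued F₃ G₃ κ₃ lam₃)
    (c : ChartPairing G₁ G₂ G₃ κ₁ κ₂ κ₃) (W : P.Opens) (σ : Γ(F₁, W)) (a : Γ(F₂, W)) :
    ∃ t : Γ(F₃, W), ∀ i, (lam₃ i).app W t = c.b i W ((lam₁ i).app W σ) ((lam₂ i).app W a) :=
  h₃.glue W _ fun i j h => by
    rw [c.κ_compat h W, h₁.compat h W σ, h₂.compat h W a]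

/-- The glued pairing. -/
theorem exists_pairing (h₁ : Glued F₁ G₁ κ₁ lam₁) (h₂ : Glued F₂ G₂ κ₂ lam₂)
    (h₃ : Glued F₃ G₃ κ₃ lam₃) (c : ChartPairing G₁ G₂ G₃ κ₁ κ₂ κ₃) :
    ∃ β : Pairing F₁ F₂ F₃, ∀ i W (σ : Γ(F₁, W)) (a : Γ(F₂, W)),
      (lam₃ i).app W (β.b W σ a) = c.b i W ((lam₁ i).app W σ) ((lam₂ i).app W a) := by
  classical
  let b : ∀ W : P.Opens, Γ(F₁, W) → Γ(F₂, W) → Γ(F₃, W) := fun W σ a =>
    Classical.choose (exists_glued h₁ h₂ h₃ c W σ a)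
  have hb : ∀ i W (σ : Γ(F₁, W)) (a : Γ(F₂, W)),
      (lam₃ i).app W (b W σ a) = c.b i W ((lam₁ i).app W σ) ((lam₂ i).app W a) :=
    fun i W σ a => Classical.choose_spec (exists_glued h₁ h₂ h₃ c W σ a) i
  refine ⟨⟨b, ?_, ?_, ?_, ?_, ?_⟩, hb⟩
  · intro W m m' n
    apply h₃.ext W
    intro i
    rw [map_add, hb, hb, hb, map_add, c.add_left]
  · intro W m n n'
    apply h₃.ext W
    intro i
    rw [map_add, hb, hb, hb, map_add, c.add_right]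
  · intro W r m n
    apply h₃.ext W
    intro i
    rw [Scheme.Modules.Hom.app_smul, hb, hb, Scheme.Modules.Hom.app_smul, c.smul_left]
  · intro W r m n
    apply h₃.ext W
    intro i
    rw [Scheme.Modules.Hom.app_smul, hb, hb, Scheme.Modules.Hom.app_smul, c.smul_right]
  · intro U V h m n
    apply h₃.ext V
    intro i
    rw [QCoh.app_res, hb, hb, QCoh.app_res, QCoh.app_res, c.res]

end Groth.Agent.Lib.Helper3.GluedPairing
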