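import Groth.Agent.Lib.Helper3.GrSymAlg
import Groth.Agent.Lib.Helper3.ProjAux3
import Groth.Agent.Lib.Helper3.RelProjMap
/-!
# Graded lifts out of the graded symmetric algebra; the projection of a graded algebra to its degree one part
-/
set_option autoImplicit false
set_option linter.unusedSectionVars false
universe u
open CategoryTheory CategoryTheory.Limits AlgebraicGeometry Opposite TopologicalSpace
open RelSpec AlgebraicGeometry.Scheme.AffineZariskiSite
open scoped HomogeneousIdeal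
open Groth.Agent.Lib.Helper29.QCoh Groth.Agent.Lib.Helper3.SymAlg

namespace Groth.Agent.Lib.Helper3.SymQC
open Groth.Agent.Lib.Helper3.SymGr Groth.Agent.Lib.Helper3.GrTransport Groth.Agent.Lib.Helper3
open RelProj

variable {S : Scheme.{u}} {E : S.Modules} [E.IsQuasicoherent] (𝒮 : QCGrAlg S)
  (φ : E ⟶ 𝒮.toModule)
  (hφ1 : ∀ (U : S.Opens) (hU : IsAffineOpen U) (m : Γ(E, U)),
    (show 𝒮.presheaf.obj (op U) from φ.app U m) ∈ 𝒮.deg U hU 1)

include hφ1 in
theorem liftSec_mem (U : S.Opens) (hU : IsAffineOpen U) {n : ℕ}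
    {x : SymmetricAlgebra Γ(S, U) Γ(E, U)} (hx : x ∈ symDeg Γ(S, U) Γ(E, U) n) :
    liftSec 𝒮.toQCAlg φ U x ∈ 𝒮.deg U hU n := by
  unfold symDeg at hx
  induction hx using Submodule.pow_induction_on_left' with
  | algebraMap r =>
    rw [liftSec_algebraMap]; exact 𝒮.str_mem U hU r
  | add x y i hx hy ihx ihy =>
    rw [map_add]; exact add_mem ihx ihy
  | mem_mul m hm i x hx ih =>
    obtain ⟨m, rfl⟩ := hm
    rw [map_mul, liftSec_ι]
    have := SetLike.mul_mem_graded (hφ1 U hU m) ih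
    rwa [add_comm] at this

include hφ1 in
/-- the algebra homomorphism `Sym E ⟶ 𝒮` extending a map `E ⟶ 𝒮_1` is graded -/
theorem isGradedHom_liftHom :
    IsGradedHom (𝒜 := grSymAlg E) (ℬ := 𝒮) (liftHom 𝒮.toQCAlg φ) := by
  intro U hU d x hx
  have h1 := liftHom_app 𝒮.toQCAlg φ U hU x
  have h2 := liftSec_mem 𝒮 φ hφ1 U hU ((mem_sdeg_iff E U hU d x).mp hx)
  exact h1 ▸ h2

end Groth.Agent.Lib.Helper3.SymQC

namespace Groth.Agent.Lib.Helper3.SymQC
open Groth.Agent.Lib.Helper3.SymGr Groth.Agent.Lib.Helper3.GrTransport Groth.Agent.Lib.Helper3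
open RelProj

variable {S : Scheme.{u}} (𝒮 : QCGrAlg S)

/-- the projection of a graded algebra onto its degree one part, affine-locally -/
noncomputable def projOneData : AffHomData 𝒮.toModule 𝒮.toModule where
  t U hU := (GradedRing.proj (𝒮.deg U hU) 1 : 𝒮.presheaf.obj (op U) →+ 𝒮.presheaf.obj (op U))
  res_t U hU f m := by
    classical
    refine (res_toModule 𝒮.toQCAlg _ _).trans ?_
    exact GradedRingHom.map_directSumDecompose (𝒜 := 𝒮.deg U hU)
      (ℬ := 𝒮.deg (S.basicOpen f) (hU.basicOpen f))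
      (𝒮.res hU (hU.basicOpen f) (S.basicOpen_le f)) (x := m) (i := 1)
  t_smul U hU r m := by
    classical
    refine Eq.trans ?_ (smul_toModule 𝒮.toQCAlg r _).symm
    exact DirectSum.coe_decompose_mul_of_left_mem_zero (𝒮.deg U hU) (j := 1)
      (b := (show 𝒮.presheaf.obj (op U) from m)) (𝒮.str_mem U hU r)

/-- the projection of a graded algebra onto its degree one part -/
noncomputable def projOne : 𝒮.toModule ⟶ 𝒮.toModule := (projOneData 𝒮).hom

theorem projOne_app (U : S.Opens) (hU : IsAffineOpen U) (m : 𝒮.presheaf.obj (op U)) :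
    (show 𝒮.presheaf.obj (op U) from (projOne 𝒮).app U m) =
      GradedRing.proj (𝒮.deg U hU) 1 m :=
  (projOneData 𝒮).hom_app U hU m

theorem projOne_mem (U : S.Opens) (hU : IsAffineOpen U) (m : Γ(𝒮.toModule, U)) :
    (show 𝒮.presheaf.obj (op U) from (projOne 𝒮).app U m) ∈ 𝒮.deg U hU 1 := by
  classical
  rw [projOne_app 𝒮 U hU]
  exact SetLike.coe_mem _

theorem projOne_of_mem (U : S.Opens) (hU : IsAffineOpen U) (m : 𝒮.presheaf.obj (op U))
    (hm : m ∈ 𝒮.deg U hU 1) :
    (show 𝒮.presheaf.obj (op U) from (projOne 𝒮).app U m) = m := by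
  classical
  rw [projOne_app 𝒮 U hU, GradedRing.proj_apply, DirectSum.decompose_of_mem_same _ hm]

end Groth.Agent.Lib.Helper3.SymQC
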