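import Mathlib.CategoryTheory.Triangulated.TStructure.Heart
import Mathlib.CategoryTheory.Triangulated.TStructure.TruncLEGT
import Mathlib.CategoryTheory.Triangulated.TStructure.AbelianSubcategory
import Mathlib.CategoryTheory.Triangulated.Triangulated
import Mathlib.CategoryTheory.Abelian.Basic

set_option autoImplicit false
universe v u v' u'
open CategoryTheory CategoryTheory.Limits CategoryTheory.Pretriangulated CategoryTheory.Triangulated

namespace Groth.Agent.Lib.Helper3

open ZeroObject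

variable {C : Type u} [Category.{v} C] [Preadditive C] [HasZeroObject C] [HasShift C ℤ]
  [∀ n : ℤ, (shiftFunctor C n).Additive] [Pretriangulated C] (t : TStructure C)
  {H : Type u'} [Category.{v'} H] [Preadditive H] [t.Heart H]

theorem heart_hι ⦃X Y : H⦄ ⦃n : ℤ⦄
    (f : t.ιHeart.obj X ⟶ (shiftFunctor C n).obj (t.ιHeart.obj Y)) (hn : n < 0) : f = 0 := by
  have := t.isGE_shift (t.ιHeart.obj Y) 0 n (-n) (by omega)
  exact t.zero f 0 (-n) (by omega)

theorem heart_exists_obj (X : C) [t.IsLE X 0] [t.IsGE X 0] :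
    ∃ (Y : H), Nonempty (t.ιHeart.obj Y ≅ X) := by
  have h : t.heart X := (t.mem_heart_iff X).2 ⟨inferInstance, inferInstance⟩
  rw [← t.essImage_ιHeart H] at h
  exact ⟨h.witness, ⟨h.getIso⟩⟩

set_option backward.defeqAttrib.useBackward true in
set_option backward.isDefEq.respectTransparency false in
theorem heart_admissible [IsTriangulated C] :
    AbelianSubcategory.admissibleMorphism (t.ιHeart (H := H)) = ⊤ := by
  ext X₁ X₂ f₁
  simp only [MorphismProperty.top_apply, iff_true]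
  intro X₃ f₂ f₃ hT
  have hT' := rot_of_distTriang _ hT
  have h1 : t.IsLE ((shiftFunctor C (1 : ℤ)).obj (t.ιHeart.obj X₁)) 0 := by
    have := t.isLE_shift (t.ιHeart.obj X₁) 0 1 (-1) (by omega)
    exact t.isLE_of_le _ (-1) 0
  have h2 : t.IsGE ((shiftFunctor C (1 : ℤ)).obj (t.ιHeart.obj X₁)) (-1) :=
    t.isGE_shift (t.ιHeart.obj X₁) 0 1 (-1) (by omega)
  have h3 : t.IsGE (t.ιHeart.obj X₂) (-1) := t.isGE_of_ge _ (-1) 0
  have hLE : t.IsLE X₃ 0 := t.isLE₂ _ hT' 0 (by dsimp; infer_instance) h1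
  have hGE : t.IsGE X₃ (-1) := t.isGE₂ _ hT' (-1) h3 h2
  have hD := t.triangleLTGE_distinguished 0 X₃
  obtain ⟨Q, ⟨eQ⟩⟩ := heart_exists_obj t (H := H) ((t.truncGE 0).obj X₃)
  have k0 : t.IsLE ((t.truncLT 0).obj X₃) (-1) :=
    (inferInstance : t.IsLE ((t.truncLT 0).obj X₃) (0 - 1))
  have k1 : t.IsLE ((shiftFunctor C (-1 : ℤ)).obj ((t.truncLT 0).obj X₃)) 0 :=
    t.isLE_shift _ (-1) (-1) 0 (by omega)
  have k2 : t.IsGE ((shiftFunctor C (-1 : ℤ)).obj ((t.truncLT 0).obj X₃)) 0 :=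
    t.isGE_shift _ (-1) (-1) 0 (by omega)
  obtain ⟨K, ⟨eK⟩⟩ := heart_exists_obj t (H := H)
    ((shiftFunctor C (-1 : ℤ)).obj ((t.truncLT 0).obj X₃))
  let e : (shiftFunctor C (1 : ℤ)).obj (t.ιHeart.obj K) ≅ (t.truncLT 0).obj X₃ :=
    (shiftFunctor C (1 : ℤ)).mapIso eK ≪≫ (shiftEquiv C (1 : ℤ)).counitIso.app _
  refine ⟨K, Q, e.hom ≫ (t.truncLTι 0).app X₃, (t.truncGEπ 0).app X₃ ≫ eQ.inv,
    eQ.hom ≫ (t.truncGEδLT 0).app X₃ ≫ (shiftFunctor C (1 : ℤ)).map e.inv, ?_⟩
  refine isomorphic_distinguished _ hD _ (Triangle.isoMk _ _ e (Iso.refl _) eQ ?_ ?_ ?_)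
  · simp
  · simp
  · simp

include t in
theorem heart_hasZeroObject : HasZeroObject H := by
  have h1 : t.IsLE (0 : C) 0 := inferInstance
  have h2 : t.IsGE (0 : C) 0 := inferInstance
  obtain ⟨Z, ⟨e⟩⟩ := heart_exists_obj t (H := H) (0 : C)
  refine ⟨⟨Z, ?_⟩⟩
  rw [IsZero.iff_id_eq_zero]
  apply t.ιHeart.map_injective
  exact (IsZero.of_iso (isZero_zero C) e).eq_of_src _ _

include t in
set_option backward.defeqAttrib.useBackward true in
set_option backward.isDefEq.respectTransparency false in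
theorem heart_hasBinaryBiproducts : HasBinaryBiproducts H := by
  refine ⟨fun X Y => ?_⟩
  have hT := binaryBiproductTriangle_distinguished (t.ιHeart.obj X) (t.ιHeart.obj Y)
  have h1 : t.IsLE (t.ιHeart.obj X ⊞ t.ιHeart.obj Y) 0 :=
    t.isLE₂ _ hT 0 (by dsimp; infer_instance) (by dsimp; infer_instance)
  have h2 : t.IsGE (t.ιHeart.obj X ⊞ t.ιHeart.obj Y) 0 :=
    t.isGE₂ _ hT 0 (by dsimp; infer_instance) (by dsimp; infer_instance)
  obtain ⟨Z, ⟨e⟩⟩ := heart_exists_obj t (H := H) (t.ιHeart.obj X ⊞ t.ιHeart.obj Y)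
  refine HasBinaryBiproduct.mk ⟨
    { pt := Z
      fst := t.ιHeart.preimage (e.hom ≫ biprod.fst)
      snd := t.ιHeart.preimage (e.hom ≫ biprod.snd)
      inl := t.ιHeart.preimage (biprod.inl ≫ e.inv)
      inr := t.ιHeart.preimage (biprod.inr ≫ e.inv)
      inl_fst := t.ιHeart.map_injective (by simp)
      inl_snd := t.ιHeart.map_injective (by simp)
      inr_fst := t.ιHeart.map_injective (by simp)
      inr_snd := t.ιHeart.map_injective (by simp) }, isBinaryBilimitOfTotal _ ?_⟩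
  apply t.ιHeart.map_injective
  simp only [Functor.map_add, Functor.map_comp, Functor.map_preimage, Functor.map_id,
    Category.assoc]
  rw [← cancel_epi e.inv, ← cancel_mono e.hom]
  simp only [Preadditive.comp_add, Preadditive.add_comp, Category.assoc, Iso.inv_hom_id,
    Iso.inv_hom_id_assoc, Category.comp_id, Functor.map_id, Category.id_comp]
  rw [t.ιHeart.map_id, Category.id_comp, Iso.inv_hom_id]
  exact biprod.total

include t in
theorem heart_hasFiniteProducts : HasFiniteProducts H := by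
  have := heart_hasZeroObject t (H := H)
  have := heart_hasBinaryBiproducts t (H := H)
  exact hasFiniteProducts_of_has_binary_and_terminal

end Groth.Agent.Lib.Helper3
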