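import Groth.Agent.Lib.Helper3.Heart
import Mathlib.CategoryTheory.Triangulated.HomologicalFunctor
/-!
# The degree-zero cohomology functor of a t-structure is homological (BBD 1.3.6)
-/
set_option autoImplicit false
set_option linter.unusedSectionVars false
set_option linter.style.haveILetI false
universe v u v' u'
open CategoryTheory CategoryTheory.Limits CategoryTheory.Pretriangulated CategoryTheory.Triangulated

namespace Groth.Agent.Lib.Helper3.HeartHom

open ZeroObject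

variable {C : Type u} [Category.{v} C] [Preadditive C] [HasZeroObject C] [HasShift C ℤ]
  [∀ n : ℤ, (shiftFunctor C n).Additive] [Pretriangulated C] [IsTriangulated C] (t : TStructure C)
  {H : Type u'} [Category.{v'} H] [Abelian H] [t.Heart H] (H0 : C ⥤ H)
  (e : H0 ⋙ t.ιHeart ≅ t.truncGE 0 ⋙ t.truncLE 0)

/-- the comparison isomorphism, with explicit types -/
noncomputable def eh (X : C) : t.ιHeart.obj (H0.obj X) ⟶ (t.truncLT 1).obj ((t.truncGE 0).obj X) :=
  e.hom.app X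

/-- the inverse comparison isomorphism, with explicit types -/
noncomputable def ei (X : C) : (t.truncLT 1).obj ((t.truncGE 0).obj X) ⟶ t.ιHeart.obj (H0.obj X) :=
  e.inv.app X

@[reassoc (attr := simp)]
theorem eh_ei (X : C) : eh t H0 e X ≫ ei t H0 e X = 𝟙 _ := e.hom_inv_id_app X

@[reassoc (attr := simp)]
theorem ei_eh (X : C) : ei t H0 e X ≫ eh t H0 e X = 𝟙 _ := e.inv_hom_id_app X

@[reassoc]
theorem eh_naturality {X Y : C} (f : X ⟶ Y) :
    t.ιHeart.map (H0.map f) ≫ eh t H0 e Y = eh t H0 e X ≫ (t.truncLT 1).map ((t.truncGE 0).map f) :=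
  e.hom.naturality f

@[reassoc]
theorem ei_naturality {X Y : C} (f : X ⟶ Y) :
    ei t H0 e X ≫ t.ιHeart.map (H0.map f) = (t.truncLT 1).map ((t.truncGE 0).map f) ≫ ei t H0 e Y :=
  (e.inv.naturality f).symm

instance isIso_truncLTι_of_isLE (X : C) [t.IsLE X 0] :
    IsIso ((t.truncLTι 1).app ((t.truncGE 0).obj X)) := by
  have : t.IsLE ((t.truncGE 0).obj X) 0 := inferInstance
  exact (t.isLE_iff_isIso_truncLTι_app 0 1 (by lia) _).mp this

/-- for `X ≥ 0`, the canonical map `H⁰X → X` -/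
noncomputable def cc (X : C) [t.IsGE X 0] : t.ιHeart.obj (H0.obj X) ⟶ X :=
  eh t H0 e X ≫ (t.truncLTι 1).app ((t.truncGE 0).obj X) ≫ inv ((t.truncGEπ 0).app X)

/-- for `X ≤ 0`, the canonical map `X → H⁰X` -/
noncomputable def dd (X : C) [t.IsLE X 0] : X ⟶ t.ιHeart.obj (H0.obj X) :=
  (t.truncGEπ 0).app X ≫ inv ((t.truncLTι 1).app ((t.truncGE 0).obj X)) ≫ ei t H0 e X

@[reassoc]
theorem cc_naturality {X Y : C} [t.IsGE X 0] [t.IsGE Y 0] (f : X ⟶ Y) :
    t.ιHeart.map (H0.map f) ≫ cc t H0 e Y = cc t H0 e X ≫ f := by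
  have h2 : (t.truncLT 1).map ((t.truncGE 0).map f) ≫ (t.truncLTι 1).app ((t.truncGE 0).obj Y) =
      (t.truncLTι 1).app ((t.truncGE 0).obj X) ≫ (t.truncGE 0).map f :=
    (t.truncLTι 1).naturality ((t.truncGE 0).map f)
  have h3 : (t.truncGE 0).map f ≫ inv ((t.truncGEπ 0).app Y) = inv ((t.truncGEπ 0).app X) ≫ f := by
    rw [IsIso.comp_inv_eq, Category.assoc, IsIso.eq_inv_comp]
    exact ((t.truncGEπ 0).naturality f).symm
  unfold cc
  rw [eh_naturality_assoc, reassoc_of% h2, h3]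
  simp only [Category.assoc]

@[reassoc]
theorem dd_naturality {X Y : C} [t.IsLE X 0] [t.IsLE Y 0] (f : X ⟶ Y) :
    dd t H0 e X ≫ t.ιHeart.map (H0.map f) = f ≫ dd t H0 e Y := by
  have h2 : inv ((t.truncLTι 1).app ((t.truncGE 0).obj X)) ≫ (t.truncLT 1).map ((t.truncGE 0).map f) =
      (t.truncGE 0).map f ≫ inv ((t.truncLTι 1).app ((t.truncGE 0).obj Y)) := by
    rw [IsIso.inv_comp_eq, ← Category.assoc, IsIso.eq_comp_inv]
    exact (t.truncLTι 1).naturality ((t.truncGE 0).map f)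
  have h3 : (t.truncGEπ 0).app X ≫ (t.truncGE 0).map f = f ≫ (t.truncGEπ 0).app Y :=
    ((t.truncGEπ 0).naturality f).symm
  unfold dd
  simp only [Category.assoc]
  rw [ei_naturality, reassoc_of% h2, reassoc_of% h3]

theorem cc_inj (X : C) [t.IsGE X 0] {W : H} (φ : W ⟶ H0.obj X)
    (h : t.ιHeart.map φ ≫ cc t H0 e X = 0) : φ = 0 := by
  unfold cc at h
  rw [← Category.assoc, ← Category.assoc, IsIso.comp_inv_eq, zero_comp] at h
  haveI : t.IsLE (t.ιHeart.obj W) (1 - 1) := by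
    have : t.IsLE (t.ιHeart.obj W) 0 := inferInstance
    simpa using this
  have h2 : t.ιHeart.map φ ≫ eh t H0 e X = 0 := by
    apply t.to_truncLT_obj_ext (n := 1)
    exact h.trans zero_comp.symm
  have h3 : t.ιHeart.map φ = 0 := by
    have := congrArg (· ≫ ei t H0 e X) h2
    simpa using this
  exact t.ιHeart.map_injective (by rw [h3, Functor.map_zero])

theorem cc_surj (X : C) [t.IsGE X 0] {W : H} (ψ' : t.ιHeart.obj W ⟶ X) :
    ∃ ψ : W ⟶ H0.obj X, t.ιHeart.map ψ ≫ cc t H0 e X = ψ' := by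
  let l := t.liftTruncLT (ψ' ≫ (t.truncGEπ 0).app X) 0 1 rfl
  have hl : l ≫ (t.truncLTι 1).app ((t.truncGE 0).obj X) = ψ' ≫ (t.truncGEπ 0).app X :=
    t.liftTruncLT_ι _ 0 1 rfl
  refine ⟨t.ιHeart.preimage (l ≫ ei t H0 e X), ?_⟩
  rw [Functor.map_preimage]
  unfold cc
  rw [Category.assoc, ei_eh_assoc, reassoc_of% hl, IsIso.hom_inv_id, Category.comp_id]

theorem dd_inj (X : C) [t.IsLE X 0] {W : H} (φ : H0.obj X ⟶ W)
    (h : dd t H0 e X ≫ t.ιHeart.map φ = 0) : φ = 0 := by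
  unfold dd at h
  have h2 : ei t H0 e X ≫ t.ιHeart.map φ = 0 := by
    have h1 : (t.truncGEπ 0).app X ≫ (inv ((t.truncLTι 1).app ((t.truncGE 0).obj X)) ≫
        ei t H0 e X ≫ t.ιHeart.map φ) = (t.truncGEπ 0).app X ≫ 0 := by
      rw [comp_zero, ← h]; simp only [Category.assoc]
    have h1' := t.from_truncGE_obj_ext h1
    rw [IsIso.inv_comp_eq, comp_zero] at h1'
    exact h1'
  have h3 : t.ιHeart.map φ = 0 := by
    have := congrArg (eh t H0 e X ≫ ·) h2
    simpa using this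
  exact t.ιHeart.map_injective (by rw [h3, Functor.map_zero])

theorem dd_surj (X : C) [t.IsLE X 0] {W : H} (ψ' : X ⟶ t.ιHeart.obj W) :
    ∃ ψ : H0.obj X ⟶ W, dd t H0 e X ≫ t.ιHeart.map ψ = ψ' := by
  let l := t.descTruncGE ψ' 0
  have hl : (t.truncGEπ 0).app X ≫ l = ψ' := t.π_descTruncGE ψ' 0
  refine ⟨t.ιHeart.preimage (eh t H0 e X ≫ (t.truncLTι 1).app ((t.truncGE 0).obj X) ≫ l), ?_⟩
  rw [Functor.map_preimage]
  unfold dd
  simp only [Category.assoc]
  rw [ei_eh_assoc, IsIso.inv_hom_id_assoc, hl]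

include e in
/-- **(a)**: for a distinguished triangle of objects `≥ 0`, `H⁰` of the first map is a monomorphism. -/
theorem mono_of_isGE (T : Triangle C) (hT : T ∈ distTriang C) [t.IsGE T.obj₁ 0] [t.IsGE T.obj₂ 0]
    [t.IsGE T.obj₃ 0] : Mono (H0.map T.mor₁) := by
  apply Preadditive.mono_of_cancel_zero
  intro W φ hφ
  apply cc_inj t H0 e T.obj₁ φ
  have h1 : (t.ιHeart.map φ ≫ cc t H0 e T.obj₁) ≫ T.mor₁ = 0 := by
    rw [Category.assoc, ← cc_naturality, ← Category.assoc, ← Functor.map_comp, hφ, Functor.map_zero,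
      zero_comp]
  obtain ⟨g, hg⟩ := Triangle.coyoneda_exact₂ _ (inv_rot_of_distTriang _ hT)
    (t.ιHeart.map φ ≫ cc t H0 e T.obj₁) h1
  have : t.IsGE T.invRotate.obj₁ 1 := t.isGE_shift T.obj₃ 0 (-1) 1
  have hg0 : g = 0 := t.zero g 0 1
  exact hg.trans (by rw [hg0]; exact zero_comp)

include e in
/-- existence part of the cokernel property in **(a')** -/
theorem exists_desc_of_isLE (T : Triangle C) (hT : T ∈ distTriang C) [t.IsLE T.obj₁ 0] [t.IsLE T.obj₂ 0]
    [t.IsLE T.obj₃ 0] {W : H} (φ : H0.obj T.obj₂ ⟶ W) (hφ : H0.map T.mor₁ ≫ φ = 0) :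
    ∃ ψ : H0.obj T.obj₃ ⟶ W, H0.map T.mor₂ ≫ ψ = φ := by
  have h1 : T.mor₁ ≫ dd t H0 e T.obj₂ ≫ t.ιHeart.map φ = 0 := by
    rw [← dd_naturality_assoc, ← Functor.map_comp, hφ, Functor.map_zero, comp_zero]
  obtain ⟨g', hg'⟩ := Triangle.yoneda_exact₂ _ hT (dd t H0 e T.obj₂ ≫ t.ιHeart.map φ) h1
  obtain ⟨ψ, hψ⟩ := dd_surj t H0 e T.obj₃ g'
  refine ⟨ψ, ?_⟩
  rw [← sub_eq_zero]
  apply dd_inj t H0 e T.obj₂
  rw [Functor.map_sub, Preadditive.comp_sub, Functor.map_comp, dd_naturality_assoc, hψ, hg', sub_self]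

include e in
/-- uniqueness part of the cokernel property in **(a')** -/
theorem eq_zero_of_isLE (T : Triangle C) (hT : T ∈ distTriang C) [t.IsLE T.obj₁ 0] [t.IsLE T.obj₂ 0]
    [t.IsLE T.obj₃ 0] {W : H} (ψ : H0.obj T.obj₃ ⟶ W) (hψ : H0.map T.mor₂ ≫ ψ = 0) : ψ = 0 := by
  apply dd_inj t H0 e T.obj₃
  have h1 : T.mor₂ ≫ dd t H0 e T.obj₃ ≫ t.ιHeart.map ψ = 0 := by
    rw [← dd_naturality_assoc, ← Functor.map_comp, hψ, Functor.map_zero, comp_zero]
  obtain ⟨k, hk⟩ := Triangle.yoneda_exact₃ _ hT (dd t H0 e T.obj₃ ≫ t.ιHeart.map ψ) h1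
  have : t.IsLE ((shiftFunctor C (1 : ℤ)).obj T.obj₁) (-1) := t.isLE_shift T.obj₁ 0 1 (-1)
  have hk0 : k = 0 := t.zero k (-1) 0
  exact hk.trans (by rw [hk0]; exact comp_zero)

include e in
/-- **(a')**: for a distinguished triangle of objects `≤ 0`, `H⁰` gives an exact sequence. -/
theorem exact_of_isLE (T : Triangle C) (hT : T ∈ distTriang C) [t.IsLE T.obj₁ 0] [t.IsLE T.obj₂ 0]
    [t.IsLE T.obj₃ 0] (hz : H0.map T.mor₁ ≫ H0.map T.mor₂ = 0) :
    (ShortComplex.mk (H0.map T.mor₁) (H0.map T.mor₂) hz).Exact := by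
  apply ShortComplex.exact_of_g_is_cokernel
  exact CokernelCofork.IsColimit.ofπ _ _
    (fun φ hφ => (exists_desc_of_isLE t H0 e T hT φ hφ).choose)
    (fun φ hφ => (exists_desc_of_isLE t H0 e T hT φ hφ).choose_spec)
    (fun φ hφ m hm => by
      rw [← sub_eq_zero]
      apply eq_zero_of_isLE t H0 e T hT
      rw [Preadditive.comp_sub, hm, (exists_desc_of_isLE t H0 e T hT φ hφ).choose_spec, sub_self])

include e in
theorem mono_of_isGE' (T : Triangle C) (hT : T ∈ distTriang C) (_ : t.IsGE T.obj₁ 0) (_ : t.IsGE T.obj₂ 0)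
    (_ : t.IsGE T.obj₃ 0) : Mono (H0.map T.mor₁) := mono_of_isGE t H0 e T hT

include e in
theorem exact_of_isLE' (T : Triangle C) (hT : T ∈ distTriang C) (_ : t.IsLE T.obj₁ 0) (_ : t.IsLE T.obj₂ 0)
    (_ : t.IsLE T.obj₃ 0) (hz : H0.map T.mor₁ ≫ H0.map T.mor₂ = 0) :
    (ShortComplex.mk (H0.map T.mor₁) (H0.map T.mor₂) hz).Exact := exact_of_isLE t H0 e T hT hz

include e in
theorem isIso_map_of_isIso {X Y : C} (f : X ⟶ Y) (hf : IsIso ((t.truncLT 1).map ((t.truncGE 0).map f))) :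
    IsIso (H0.map f) := by
  have h1 : IsIso ((H0 ⋙ t.ιHeart).map f) := (NatIso.isIso_map_iff e f).mpr hf
  have h2 : IsIso (t.ιHeart.map (H0.map f)) := h1
  exact isIso_of_fully_faithful t.ιHeart _

include e in
theorem map_zero' (X Y : C) : H0.map (0 : X ⟶ Y) = 0 := by
  apply t.ιHeart.map_injective
  rw [t.ιHeart.map_zero]
  have h1 := eh_naturality t H0 e (0 : X ⟶ Y)
  have hz : (t.truncLT 1).map ((t.truncGE 0).map (0 : X ⟶ Y)) = 0 := by
    rw [(t.truncGE 0).map_zero, (t.truncLT 1).map_zero]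
  rw [hz, comp_zero] at h1
  have := congrArg (· ≫ ei t H0 e Y) h1
  simpa using this

set_option backward.defeqAttrib.useBackward true in
set_option backward.isDefEq.respectTransparency false in
include e in
/-- **(b)**: for a distinguished triangle with third object `≥ 0`, `H⁰` of the first map is a monomorphism. -/
theorem mono_of_isGE₃ (T : Triangle C) (hT : T ∈ distTriang C) [t.IsGE T.obj₃ 0] :
    Mono (H0.map T.mor₁) := by
  have hiso : IsIso ((t.truncLT 0).map T.mor₁) := t.isIso₁_truncLT_map_of_isGE T hT 0 inferInstance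
  have h₁₃ : Triangle.mk ((t.truncLTι 0).app T.obj₁ ≫ T.mor₁) ((t.truncGEπ 0).app T.obj₂)
      ((t.truncGEδLT 0).app T.obj₂ ≫ (shiftFunctor C (1 : ℤ)).map (inv ((t.truncLT 0).map T.mor₁))) ∈
        distTriang C := by
    let i₁ : (t.truncLT 0).obj T.obj₁ ≅ (t.truncLT 0).obj T.obj₂ := @asIso _ _ _ _ _ hiso
    refine isomorphic_distinguished _ (t.triangleLTGE_distinguished 0 T.obj₂) _
      (Triangle.isoMk _ _ i₁ (Iso.refl _) (Iso.refl _) ?_ ?_ ?_)
    · dsimp [i₁]
      rw [Category.comp_id]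
      exact ((t.truncLTι 0).naturality T.mor₁).symm
    · dsimp
      rw [Category.comp_id, Category.id_comp]
    · dsimp [i₁]
      rw [Category.id_comp, Category.assoc, ← Functor.map_comp, IsIso.inv_hom_id,
        CategoryTheory.Functor.map_id, Category.comp_id]
  have Oct := someOctahedron rfl (t.triangleLTGE_distinguished 0 T.obj₁) hT h₁₃
  have hmono : Mono (H0.map Oct.m₁) := by
    have := mono_of_isGE' t H0 e _ Oct.mem (by dsimp; infer_instance) (by dsimp; infer_instance)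
      (by dsimp; infer_instance)
    exact this
  have hπ : IsIso (H0.map ((t.truncGEπ 0).app T.obj₁)) :=
    isIso_map_of_isIso t H0 e _ inferInstance
  have hcomm : H0.map T.mor₁ ≫ H0.map ((t.truncGEπ 0).app T.obj₂) =
      H0.map ((t.truncGEπ 0).app T.obj₁) ≫ H0.map Oct.m₁ := by
    rw [← Functor.map_comp, ← Functor.map_comp]
    congr 1
    exact Oct.comm₁.symm
  have : Mono (H0.map T.mor₁ ≫ H0.map ((t.truncGEπ 0).app T.obj₂)) := by
    rw [hcomm]; infer_instance
  exact mono_of_mono _ (H0.map ((t.truncGEπ 0).app T.obj₂))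

include e in
theorem mono_of_isGE₃' (T : Triangle C) (hT : T ∈ distTriang C) (_ : t.IsGE T.obj₃ 0) :
    Mono (H0.map T.mor₁) := mono_of_isGE₃ t H0 e T hT

set_option backward.defeqAttrib.useBackward true in
set_option backward.isDefEq.respectTransparency false in
include e in
/-- **(b')**: for a distinguished triangle with first object `≤ 0`, `H⁰` gives an exact sequence. -/
theorem exact_of_isLE₁ (T : Triangle C) (hT : T ∈ distTriang C) (h₁ : t.IsLE T.obj₁ 0)
    (hz : H0.map T.mor₁ ≫ H0.map T.mor₂ = 0) :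
    (ShortComplex.mk (H0.map T.mor₁) (H0.map T.mor₂) hz).Exact := by
  let f' := t.liftTruncLT T.mor₁ 0 1 rfl
  have hf' : f' ≫ (t.truncLTι 1).app T.obj₂ = T.mor₁ := t.liftTruncLT_ι _ 0 1 rfl
  obtain ⟨Q, v, w, h₁₂⟩ := distinguished_cocone_triangle f'
  have Oct := someOctahedron hf' h₁₂ (t.triangleLTGE_distinguished 1 T.obj₂) hT
  have hQ : t.IsLE Q 0 := by
    have h1 : t.IsLE ((shiftFunctor C (1 : ℤ)).obj T.obj₁) 0 := by
      have := t.isLE_shift T.obj₁ 0 1 (-1)
      exact t.isLE_of_le _ (-1) 0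
    have h2 : t.IsLE ((t.truncLT 1).obj T.obj₂) 0 := t.isLE_truncLT_obj _ _ _
    exact t.isLE₂ _ (rot_of_distTriang _ h₁₂) 0 h2 h1
  have hz1 : H0.map f' ≫ H0.map v = 0 := by
    rw [← Functor.map_comp]
    have := comp_distTriang_mor_zero₁₂ _ h₁₂
    dsimp at this
    rw [this, map_zero' t H0 e]
  have hex := exact_of_isLE' t H0 e _ h₁₂ h₁ (t.isLE_truncLT_obj _ _ _) hQ hz1
  have hmono : Mono (H0.map Oct.m₁) :=
    mono_of_isGE₃' t H0 e _ Oct.mem (t.isGE_of_ge ((t.truncGE 1).obj T.obj₂) 0 1)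
  have hι : IsIso (H0.map ((t.truncLTι 1).app T.obj₂)) := isIso_map_of_isIso t H0 e _ inferInstance
  let φ : ShortComplex.mk (H0.map f') (H0.map v) hz1 ⟶ ShortComplex.mk (H0.map T.mor₁) (H0.map T.mor₂) hz :=
    { τ₁ := 𝟙 _
      τ₂ := H0.map ((t.truncLTι 1).app T.obj₂)
      τ₃ := H0.map Oct.m₁
      comm₁₂ := by
        dsimp
        rw [Category.id_comp, ← Functor.map_comp, hf']
      comm₂₃ := by
        dsimp
        rw [← Functor.map_comp, ← Functor.map_comp]
        congr 1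
        exact Oct.comm₁.symm }
  haveI : Epi φ.τ₁ := by dsimp [φ]; infer_instance
  haveI : IsIso φ.τ₂ := hι
  haveI : Mono φ.τ₃ := hmono
  exact (ShortComplex.exact_iff_of_epi_of_isIso_of_mono φ).mp hex

set_option backward.defeqAttrib.useBackward true in
set_option backward.isDefEq.respectTransparency false in
include e in
/-- **BBD 1.3.6**: `H⁰` sends distinguished triangles to exact sequences. -/
theorem exact_of_distTriang (T : Triangle C) (hT : T ∈ distTriang C)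
    (hz : H0.map T.mor₁ ≫ H0.map T.mor₂ = 0) :
    (ShortComplex.mk (H0.map T.mor₁) (H0.map T.mor₂) hz).Exact := by
  obtain ⟨W, v, w, h₁₃⟩ := distinguished_cocone_triangle ((t.truncLTι 1).app T.obj₁ ≫ T.mor₁)
  have Oct := someOctahedron rfl (t.triangleLTGE_distinguished 1 T.obj₁) hT h₁₃
  have hz1 : H0.map ((t.truncLTι 1).app T.obj₁ ≫ T.mor₁) ≫ H0.map v = 0 := by
    rw [← Functor.map_comp]
    have := comp_distTriang_mor_zero₁₂ _ h₁₃
    dsimp at this
    rw [this, map_zero' t H0 e]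
  have hex := exact_of_isLE₁ t H0 e _ h₁₃ (t.isLE_truncLT_obj _ _ _) hz1
  have hmono : Mono (H0.map Oct.m₃) := by
    have hGE : t.IsGE ((shiftFunctor C (1 : ℤ)).obj ((t.truncGE 1).obj T.obj₁)) 0 :=
      t.isGE_shift ((t.truncGE 1).obj T.obj₁) 1 1 0
    exact mono_of_isGE₃' t H0 e _ (rot_of_distTriang _ Oct.mem) hGE
  have hι : IsIso (H0.map ((t.truncLTι 1).app T.obj₁)) := isIso_map_of_isIso t H0 e _ inferInstance
  let φ : ShortComplex.mk (H0.map ((t.truncLTι 1).app T.obj₁ ≫ T.mor₁)) (H0.map v) hz1 ⟶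
      ShortComplex.mk (H0.map T.mor₁) (H0.map T.mor₂) hz :=
    { τ₁ := H0.map ((t.truncLTι 1).app T.obj₁)
      τ₂ := 𝟙 _
      τ₃ := H0.map Oct.m₃
      comm₁₂ := by
        dsimp
        rw [Category.comp_id, ← Functor.map_comp]
      comm₂₃ := by
        dsimp
        rw [Category.id_comp, ← Functor.map_comp]
        congr 1
        exact Oct.comm₃.symm }
  haveI : Epi φ.τ₁ := by dsimp [φ]; infer_instance
  haveI : IsIso φ.τ₂ := by dsimp [φ]; infer_instance
  haveI : Mono φ.τ₃ := hmono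
  exact (ShortComplex.exact_iff_of_epi_of_isIso_of_mono φ).mp hex

include e in
theorem isHomological : H0.IsHomological := by
  haveI : H0.PreservesZeroMorphisms := ⟨fun X Y => map_zero' t H0 e X Y⟩
  exact ⟨fun T hT => exact_of_distTriang t H0 e T hT _⟩

end Groth.Agent.Lib.Helper3.HeartHom
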