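import Mathlib
import Groth.Agent.Lib.Helper3.IdemEq

/-!
# Geometric points of the ring of invariants under a finite group

For a finite group `G` acting on a commutative ring `B` with invariants `A`, two ring maps from `B` to a
field which agree on `A` differ by an element of `G` (SGA 1 V 1.1).

* `exists_smul_of_ker_eq`, `exists_smul_of_agree`: for a `MulSemiringAction`;
* `exists_comp_eq_of_agree`: for a family of algebra endomorphisms `ρ : G → (A →ₐ[R] A)` with
  `ρ 1 = id`, `ρ (g * h) = (ρ h).comp (ρ g)`, in terms of `IdemEq.fixedSub ρ`.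
-/

set_option autoImplicit false
set_option linter.style.haveILetI false
set_option linter.unusedSectionVars false

namespace Groth.Agent.Lib.Helper3.InvOrbit

open scoped Pointwise
open Groth.Agent.Lib.Helper3.IdemEq

section
variable {A B : Type*} [CommRing A] [CommRing B] [Algebra A B]
  (G : Type*) [Group G] [Finite G] [MulSemiringAction G B] [SMulCommClass G A B]
  [Algebra.IsInvariant A B G]

/-- two ring maps to a field with the same kernel agreeing on the invariants differ by an element of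
the group -/
theorem exists_smul_of_ker_eq {Ω : Type*} [Field Ω] (φ φ' : B →+* Ω)
    (hker : RingHom.ker φ = RingHom.ker φ')
    (hA : ∀ a : A, φ (algebraMap A B a) = φ' (algebraMap A B a)) :
    ∃ g : G, ∀ b, φ' b = φ (g • b) := by
  let Q : Ideal B := RingHom.ker φ
  haveI hQ : Q.IsPrime := RingHom.ker_isPrime φ
  let P : Ideal A := Q.under A
  haveI hP : P.IsPrime := Ideal.IsPrime.under A Q
  haveI hPQ : Q.LiesOver P := Ideal.over_under Q
  -- the induced injections of `B ⧸ Q`
  let φb : B ⧸ Q →+* Ω := RingHom.kerLift φ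
  have hφb : Function.Injective φb := RingHom.kerLift_injective φ
  let φb' : B ⧸ Q →+* Ω := Ideal.Quotient.lift Q φ' (fun b hb => by
    have : b ∈ RingHom.ker φ' := hker ▸ hb
    exact this)
  have hφb' : Function.Injective φb' := by
    rw [injective_iff_map_eq_zero]
    intro x hx
    obtain ⟨b, rfl⟩ := Ideal.Quotient.mk_surjective x
    have h1 : φ' b = 0 := hx
    have h2 : b ∈ Q := by
      change b ∈ RingHom.ker φ
      rw [hker]
      exact h1
    exact Ideal.Quotient.eq_zero_iff_mem.2 h2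
  let K := FractionRing (A ⧸ P)
  let L := FractionRing (B ⧸ Q)
  let _ := FractionRing.liftAlgebra (A ⧸ P) L
  haveI hnormal : Normal K L := Ideal.IsFractionRing.normal G P Q K L
  let ι : L →+* Ω := IsFractionRing.lift hφb
  let ι' : L →+* Ω := IsFractionRing.lift hφb'
  letI a1 : Algebra L Ω := ι.toAlgebra
  letI a2 : Algebra K Ω := (ι.comp (algebraMap K L)).toAlgebra
  haveI a3 : IsScalarTower K L Ω := IsScalarTower.of_algebraMap_eq fun _ => rfl
  have hcomp : ι'.comp (algebraMap K L) = ι.comp (algebraMap K L) := by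
    apply IsLocalization.ringHom_ext (nonZeroDivisors (A ⧸ P))
    apply RingHom.ext
    intro x
    obtain ⟨a, rfl⟩ := Ideal.Quotient.mk_surjective x
    change ι' (algebraMap K L (algebraMap (A ⧸ P) K (Ideal.Quotient.mk P a))) =
      ι (algebraMap K L (algebraMap (A ⧸ P) K (Ideal.Quotient.mk P a)))
    rw [← IsScalarTower.algebraMap_apply (A ⧸ P) K L,
      IsScalarTower.algebraMap_apply (A ⧸ P) (B ⧸ Q) L]
    change IsFractionRing.lift hφb' (algebraMap (B ⧸ Q) L _) =
      IsFractionRing.lift hφb (algebraMap (B ⧸ Q) L _)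
    rw [IsFractionRing.lift_algebraMap, IsFractionRing.lift_algebraMap]
    exact (hA a).symm
  let ψ : L →ₐ[K] Ω := { toRingHom := ι', commutes' := fun k => congrArg (fun f => f k) hcomp }
  let σ : Gal(L/K) := Normal.algHomEquivAut K Ω L ψ
  have hσ : ∀ x : L, ι' x = ι (σ x) := by
    intro x
    have := congrArg (fun f => f x) ((Normal.algHomEquivAut K Ω L).symm_apply_apply ψ)
    exact this.symm
  obtain ⟨g, hg⟩ := IsFractionRing.stabilizerHom_surjective G P Q K L σ
  refine ⟨g.1, fun b => ?_⟩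
  have h1 : φ' b = ι' (algebraMap (B ⧸ Q) L (Ideal.Quotient.mk Q b)) := by
    change _ = IsFractionRing.lift hφb' (algebraMap (B ⧸ Q) L _)
    rw [IsFractionRing.lift_algebraMap]
    rfl
  have h2 : φ (g.1 • b) = ι (algebraMap (B ⧸ Q) L (Ideal.Quotient.mk Q (g.1 • b))) := by
    change _ = IsFractionRing.lift hφb (algebraMap (B ⧸ Q) L _)
    rw [IsFractionRing.lift_algebraMap]
    rfl
  rw [h1, h2, hσ, ← hg, IsFractionRing.stabilizerHom_apply_apply_mk]

/-- two ring maps to a field agreeing on the invariants differ by an element of the group -/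
theorem exists_smul_of_agree {Ω : Type*} [Field Ω] (φ φ' : B →+* Ω)
    (hA : ∀ a : A, φ (algebraMap A B a) = φ' (algebraMap A B a)) :
    ∃ g : G, ∀ b, φ' b = φ (g • b) := by
  let Q : Ideal B := RingHom.ker φ
  let Q' : Ideal B := RingHom.ker φ'
  haveI hQ : Q.IsPrime := RingHom.ker_isPrime φ
  haveI hQ' : Q'.IsPrime := RingHom.ker_isPrime φ'
  have hunder : Q.under A = Q'.under A := by
    ext a
    change φ (algebraMap A B a) = 0 ↔ φ' (algebraMap A B a) = 0
    rw [hA a]
  obtain ⟨g₀, hg₀⟩ := Algebra.IsInvariant.exists_smul_of_under_eq A B G Q Q' hunder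
  let φ'' : B →+* Ω := φ'.comp (MulSemiringAction.toRingHom G B g₀)
  have hφ'' : ∀ b, φ'' b = φ' (g₀ • b) := fun b => rfl
  have hker : RingHom.ker φ = RingHom.ker φ'' := by
    ext b
    change b ∈ Q ↔ φ' (g₀ • b) = 0
    rw [← Ideal.smul_mem_pointwise_smul_iff (a := g₀), ← hg₀]
    rfl
  have hA'' : ∀ a : A, φ (algebraMap A B a) = φ'' (algebraMap A B a) := by
    intro a
    rw [hφ'', smul_algebraMap, hA a]
  obtain ⟨g, hg⟩ := exists_smul_of_ker_eq G φ φ'' hker hA''
  refine ⟨g * g₀⁻¹, fun b => ?_⟩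
  have := hg (g₀⁻¹ • b)
  rw [hφ'', smul_inv_smul] at this
  rw [this, mul_smul]

end

section Family

variable {R A : Type*} [CommRing R] [CommRing A] [Algebra R A] {G : Type*} [Group G] [Finite G]
  (ρ : G → (A →ₐ[R] A)) (h1 : ρ 1 = AlgHom.id R A) (hmul : ∀ g h, ρ (g * h) = (ρ h).comp (ρ g))

include h1 hmul in
theorem exists_comp_eq_of_agree {Ω : Type*} [Field Ω] [Algebra R Ω] (φ φ' : A →ₐ[R] Ω)
    (hfix : ∀ a ∈ fixedSub ρ, φ a = φ' a) : ∃ g, φ' = φ.comp (ρ g) := by
  have hinv1 : ∀ g, (ρ g⁻¹).comp (ρ g) = AlgHom.id R A := fun g => by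
    rw [← hmul, mul_inv_cancel, h1]
  have hinv2 : ∀ g, (ρ g).comp (ρ g⁻¹) = AlgHom.id R A := fun g => by
    rw [← hmul, inv_mul_cancel, h1]
  let e : G →* (A ≃ₐ[R] A) :=
    { toFun := fun g => AlgEquiv.ofAlgHom (ρ g⁻¹) (ρ g) (hinv1 g) (hinv2 g)
      map_one' := by
        apply AlgEquiv.ext
        intro a
        change ρ (1 : G)⁻¹ a = a
        rw [inv_one, h1]
        rfl
      map_mul' := fun g h => by
        apply AlgEquiv.ext
        intro a
        change ρ (g * h)⁻¹ a = ρ g⁻¹ (ρ h⁻¹ a)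
        rw [mul_inv_rev, hmul]
        rfl }
  letI act : MulSemiringAction G A := MulSemiringAction.compHom A e
  have hsmul : ∀ (g : G) (a : A), g • a = ρ g⁻¹ a := fun g a => rfl
  haveI c1 : SMulCommClass G (fixedSub ρ) A := ⟨fun g s a => by
    rw [hsmul, hsmul]
    change ρ g⁻¹ (s.1 * a) = s.1 * ρ g⁻¹ a
    rw [map_mul, s.2 g⁻¹]⟩
  haveI c2 : Algebra.IsInvariant (fixedSub ρ) A G := ⟨fun b hb => by
    refine ⟨⟨b, fun g => ?_⟩, rfl⟩
    have := hb g⁻¹
    rw [hsmul, inv_inv] at this
    exact this⟩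
  obtain ⟨g, hg⟩ := exists_smul_of_agree (A := fixedSub ρ) G (φ : A →+* Ω) (φ' : A →+* Ω)
    (fun a => hfix a.1 a.2)
  refine ⟨g⁻¹, ?_⟩
  apply AlgHom.ext
  intro b
  exact hg b

end Family

end Groth.Agent.Lib.Helper3.InvOrbit
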