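import Mathlib
import Groth.Prelude.Def_DualLC

/-!
# Lech's independence lemmas

`Dual2.Independent f` : every relation `∑ a i * f i = 0` has coefficients in the ideal `(f)`.
If `f i₀ = g * h` and `f` is independent then so are `f[i₀ ↦ g]`, `f[i₀ ↦ h]` and
`length A/(f) = length A/(f[i₀ ↦ h]) + length A/(f[i₀ ↦ g])`.
-/

set_option autoImplicit false
universe u

namespace Groth.Agent.Lib.Helper3.LechIndep

open LocCoh

variable {A : Type u} [CommRing A] {r : ℕ}

theorem sum_update_mul (a f : Fin r → A) (i₀ : Fin r) (g : A) :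
    ∑ i, a i * Function.update f i₀ g i = a i₀ * g + ∑ i ∈ Finset.univ.erase i₀, a i * f i := by
  rw [← Finset.add_sum_erase _ _ (Finset.mem_univ i₀), Function.update_self]
  congr 1
  refine Finset.sum_congr rfl fun i hi => ?_
  rw [Function.update_of_ne (Finset.ne_of_mem_erase hi)]

theorem sum_split (a f : Fin r → A) (i₀ : Fin r) :
    ∑ i, a i * f i = a i₀ * f i₀ + ∑ i ∈ Finset.univ.erase i₀, a i * f i := by
  exact (Finset.add_sum_erase _ (fun i => a i * f i) (Finset.mem_univ i₀)).symm

theorem span_le_span_update (f : Fin r → A) (i₀ : Fin r) (g h : A) (hgh : f i₀ = g * h) :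
    Ideal.span (Set.range f) ≤ Ideal.span (Set.range (Function.update f i₀ g)) := by
  rw [Ideal.span_le]
  rintro _ ⟨i, rfl⟩
  by_cases hi : i = i₀
  · subst hi
    rw [hgh, mul_comm]
    refine Ideal.mul_mem_left _ _ (Ideal.subset_span ⟨i, ?_⟩)
    rw [Function.update_self]
  · refine Ideal.subset_span ⟨i, ?_⟩
    rw [Function.update_of_ne hi]

theorem mem_span_update_self (f : Fin r → A) (i₀ : Fin r) (g : A) :
    g ∈ Ideal.span (Set.range (Function.update f i₀ g)) :=
  Ideal.subset_span ⟨i₀, Function.update_self ..⟩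

theorem span_update_eq (f : Fin r → A) (i₀ : Fin r) (g h : A) (hgh : f i₀ = g * h) :
    Ideal.span (Set.range (Function.update f i₀ g)) = Ideal.span (Set.range f) ⊔ Ideal.span {g} := by
  apply le_antisymm
  · rw [Ideal.span_le]
    rintro _ ⟨i, rfl⟩
    by_cases hi : i = i₀
    · subst hi
      rw [Function.update_self]
      exact Ideal.mem_sup_right (Ideal.subset_span rfl)
    · rw [Function.update_of_ne hi]
      exact Ideal.mem_sup_left (Ideal.subset_span ⟨i, rfl⟩)
  · refine sup_le (span_le_span_update f i₀ g h hgh) ?_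
    rw [Ideal.span_le, Set.singleton_subset_iff]
    exact mem_span_update_self f i₀ g

/-- Key computation: if `g * a ∈ (f)` and `f` is independent with `f i₀ = g * h`, then
`a ∈ (f) + (h)`. -/
theorem mem_of_mul_mem (f : Fin r → A) (i₀ : Fin r) (g h : A) (hgh : f i₀ = g * h)
    (hf : Dual2.Independent f) (a : A) (ha : g * a ∈ Ideal.span (Set.range f)) :
    a ∈ Ideal.span (Set.range f) ⊔ Ideal.span {h} := by
  obtain ⟨c, hc⟩ := (Ideal.mem_span_range_iff_exists_fun).1 ha
  -- relation: (h c i₀ - a) f i₀ + ∑_{i ≠ i₀} h c i f i = 0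
  have hrel : ∑ i, (Function.update (fun i => h * c i) i₀ (h * c i₀ - a)) i * f i = 0 := by
    rw [sum_split _ f i₀, Function.update_self]
    have h1 : ∑ i ∈ Finset.univ.erase i₀, Function.update (fun i => h * c i) i₀ (h * c i₀ - a) i * f i
        = ∑ i ∈ Finset.univ.erase i₀, h * (c i * f i) := by
      refine Finset.sum_congr rfl fun i hi => ?_
      rw [Function.update_of_ne (Finset.ne_of_mem_erase hi)]
      ring
    rw [h1, ← Finset.mul_sum]
    have h2 : ∑ i ∈ Finset.univ.erase i₀, c i * f i = g * a - c i₀ * f i₀ := by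
      rw [← hc, sum_split c f i₀]; ring
    rw [h2, hgh]; ring
  have := hf _ hrel i₀
  rw [Function.update_self] at this
  have h3 : a = h * c i₀ - (h * c i₀ - a) := by ring
  rw [h3]
  refine Ideal.sub_mem _ ?_ (Ideal.mem_sup_left this)
  exact Ideal.mem_sup_right (Ideal.mul_mem_right _ _ (Ideal.subset_span rfl))

theorem independent_update_of_mul (f : Fin r → A) (i₀ : Fin r) (g h : A) (hgh : f i₀ = g * h)
    (hf : Dual2.Independent f) : Dual2.Independent (Function.update f i₀ g) := by
  intro a ha
  rw [sum_update_mul] at ha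
  have hJ := span_le_span_update f i₀ g h hgh
  -- multiply by h
  have hrel : ∑ i, (Function.update (fun i => h * a i) i₀ (a i₀)) i * f i = 0 := by
    rw [sum_split _ f i₀, Function.update_self]
    have h1 : ∑ i ∈ Finset.univ.erase i₀, Function.update (fun i => h * a i) i₀ (a i₀) i * f i
        = ∑ i ∈ Finset.univ.erase i₀, h * (a i * f i) := by
      refine Finset.sum_congr rfl fun i hi => ?_
      rw [Function.update_of_ne (Finset.ne_of_mem_erase hi)]
      ring
    rw [h1, ← Finset.mul_sum, hgh]
    linear_combination h * ha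
  have ha0 := hf _ hrel i₀
  rw [Function.update_self] at ha0
  obtain ⟨b, hb⟩ := (Ideal.mem_span_range_iff_exists_fun).1 ha0
  have hrel2 : ∑ i, (Function.update (fun i => a i + b i * g) i₀ (b i₀ * g)) i * f i = 0 := by
    rw [sum_split _ f i₀, Function.update_self]
    have h1 : ∑ i ∈ Finset.univ.erase i₀,
        Function.update (fun i => a i + b i * g) i₀ (b i₀ * g) i * f i
        = ∑ i ∈ Finset.univ.erase i₀, a i * f i + g * ∑ i ∈ Finset.univ.erase i₀, b i * f i := by
      rw [Finset.mul_sum, ← Finset.sum_add_distrib]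
      refine Finset.sum_congr rfl fun i hi => ?_
      rw [Function.update_of_ne (Finset.ne_of_mem_erase hi)]
      ring
    have h2 : ∑ i ∈ Finset.univ.erase i₀, b i * f i = a i₀ - b i₀ * f i₀ := by
      rw [← hb, sum_split b f i₀]; ring
    rw [h1, h2]
    linear_combination ha
  intro i
  by_cases hi : i = i₀
  · subst hi; exact hJ ha0
  · have := hf _ hrel2 i
    rw [Function.update_of_ne hi] at this
    have h3 : a i = (a i + b i * g) - b i * g := by ring
    rw [h3]
    exact Ideal.sub_mem _ (hJ this) (Ideal.mul_mem_left _ _ (mem_span_update_self f i₀ g))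

theorem length_eq_add_of_mul (f : Fin r → A) (i₀ : Fin r) (g h : A) (hgh : f i₀ = g * h)
    (hf : Dual2.Independent f) :
    Module.length A (A ⧸ Ideal.span (Set.range f)) =
      Module.length A (A ⧸ Ideal.span (Set.range (Function.update f i₀ h))) +
      Module.length A (A ⧸ Ideal.span (Set.range (Function.update f i₀ g))) := by
  set J := Ideal.span (Set.range f) with hJ
  set J' := Ideal.span (Set.range (Function.update f i₀ g)) with hJ'
  set J'' := Ideal.span (Set.range (Function.update f i₀ h)) with hJ''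
  have hJ'eq : J' = J ⊔ Ideal.span {g} := span_update_eq f i₀ g h hgh
  have hJ''eq : J'' = J ⊔ Ideal.span {h} := span_update_eq f i₀ h g (by rw [hgh, mul_comm])
  have hle : J ≤ J' := span_le_span_update f i₀ g h hgh
  have hmul : J'' ≤ Submodule.comap (g • (LinearMap.id : A →ₗ[A] A)) J := by
    intro a ha
    rw [hJ''eq] at ha
    obtain ⟨j, hj, k, hk, rfl⟩ := Submodule.mem_sup.1 ha
    obtain ⟨k', rfl⟩ := Ideal.mem_span_singleton'.1 hk
    show g • (j + k' * h) ∈ J
    rw [smul_eq_mul, mul_add]
    refine Ideal.add_mem _ (Ideal.mul_mem_left _ _ hj) ?_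
    have : g * (k' * h) = k' * f i₀ := by rw [hgh]; ring
    rw [this]
    exact Ideal.mul_mem_left _ _ (Ideal.subset_span ⟨i₀, rfl⟩)
  let φ : (A ⧸ J'') →ₗ[A] (A ⧸ J) := Submodule.mapQ J'' J (g • LinearMap.id) hmul
  let ψ : (A ⧸ J) →ₗ[A] (A ⧸ J') := Submodule.mapQ J J' LinearMap.id (by simpa using hle)
  refine Module.length_eq_add_of_exact φ ψ ?_ ?_ ?_
  · rw [← LinearMap.ker_eq_bot, LinearMap.ker_eq_bot']
    intro x hx
    obtain ⟨a, rfl⟩ := Submodule.Quotient.mk_surjective _ x
    have h1 : φ (Submodule.Quotient.mk a) = Submodule.Quotient.mk (g * a) := rfl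
    rw [h1, Submodule.Quotient.mk_eq_zero] at hx
    rw [Submodule.Quotient.mk_eq_zero, hJ''eq]
    exact mem_of_mul_mem f i₀ g h hgh hf a hx
  · intro x
    obtain ⟨a, rfl⟩ := Submodule.Quotient.mk_surjective _ x
    exact ⟨Submodule.Quotient.mk a, rfl⟩
  · intro x
    obtain ⟨b, rfl⟩ := Submodule.Quotient.mk_surjective _ x
    have h1 : ψ (Submodule.Quotient.mk b) = Submodule.Quotient.mk b := rfl
    rw [h1, Submodule.Quotient.mk_eq_zero]
    constructor
    · intro hb
      rw [hJ'eq] at hb
      obtain ⟨j, hj, k, hk, rfl⟩ := Submodule.mem_sup.1 hb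
      obtain ⟨k', rfl⟩ := Ideal.mem_span_singleton'.1 hk
      refine ⟨Submodule.Quotient.mk k', ?_⟩
      have h2 : φ (Submodule.Quotient.mk k') = Submodule.Quotient.mk (g * k') := rfl
      rw [h2, Submodule.Quotient.eq]
      have : g * k' - (j + k' * g) = -j := by ring
      rw [this]
      exact Ideal.neg_mem_iff _ |>.2 hj
    · rintro ⟨y, hy⟩
      obtain ⟨a, rfl⟩ := Submodule.Quotient.mk_surjective _ y
      have h2 : φ (Submodule.Quotient.mk a) = Submodule.Quotient.mk (g * a) := rfl
      rw [h2, Submodule.Quotient.eq] at hy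
      have h3 : b = g * a - (g * a - b) := by ring
      rw [h3]
      exact Ideal.sub_mem _ (Ideal.mul_mem_right _ _ (mem_span_update_self f i₀ g)) (hle hy)

end Groth.Agent.Lib.Helper3.LechIndep
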