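import Groth.Agent.Lib.Helper16.LocCohLES
import Mathlib.Algebra.Module.FinitePresentation
import Mathlib.Algebra.Module.LocalizedModule.Submodule

/-!
# Annihilators of local cohomology of modules locally free on the punctured spectrum
-/

set_option autoImplicit false
universe u
open CategoryTheory

namespace Groth.Agent.Lib.Helper3.LocCohAnn

open Groth.Agent.Lib.Helper16.LC

section Hmap

variable {R : Type u} [CommRing R] (I : Ideal R) (i : ℕ)

theorem Hmap_smul_id (M : ModuleCat.{u} R) (a : R) (x : (localCohomology I i).obj M) :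
    Hmap I i (a • 𝟙 M) x = a • x := by
  obtain ⟨k, e, rfl⟩ := ι_jointly_surjective I i M x
  rw [Hmap_ι, ← map_smul]
  congr 1
  simp [Abelian.Ext.mk₀_smul]

theorem Hmap_add {M N : ModuleCat.{u} R} (f g : M ⟶ N) (x : (localCohomology I i).obj M) :
    Hmap I i (f + g) x = Hmap I i f x + Hmap I i g x := by
  obtain ⟨k, e, rfl⟩ := ι_jointly_surjective I i M x
  rw [Hmap_ι, Hmap_ι, Hmap_ι, ← map_add]
  congr 1
  simp [Abelian.Ext.mk₀_add]

theorem Hmap_zero {M N : ModuleCat.{u} R} (x : (localCohomology I i).obj M) :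
    Hmap I i (0 : M ⟶ N) x = 0 := by
  obtain ⟨k, e, rfl⟩ := ι_jointly_surjective I i M x
  rw [Hmap_ι, Abelian.Ext.mk₀_zero, Abelian.Ext.comp_zero, map_zero]

theorem Hmap_sum {M N : ModuleCat.{u} R} {κ : Type*} (s : Finset κ) (f : κ → (M ⟶ N))
    (x : (localCohomology I i).obj M) :
    Hmap I i (∑ j ∈ s, f j) x = ∑ j ∈ s, Hmap I i (f j) x := by
  classical
  induction s using Finset.induction_on with
  | empty => simp [Hmap_zero]
  | insert a s ha ih => rw [Finset.sum_insert ha, Finset.sum_insert ha, Hmap_add, ih]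

theorem Hmap_comp {M N P : ModuleCat.{u} R} (f : M ⟶ N) (g : N ⟶ P)
    (x : (localCohomology I i).obj M) :
    Hmap I i (f ≫ g) x = Hmap I i g (Hmap I i f x) := by
  simp [Hmap]

/-- If `a` kills `H^i_I(R)` then it kills `H^i_I(R^r)`. -/
theorem smul_H_pi_eq_zero (r : ℕ) (a : R)
    (ha : ∀ x : (localCohomology I i).obj (ModuleCat.of R R), a • x = 0)
    (x : (localCohomology I i).obj (ModuleCat.of R (Fin r → R))) : a • x = 0 := by
  classical
  have hid : 𝟙 (ModuleCat.of R (Fin r → R)) =
      ∑ l : Fin r, ModuleCat.ofHom (LinearMap.proj (R := R) (φ := fun _ : Fin r => R) l) ≫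
        ModuleCat.ofHom (LinearMap.single R (fun _ : Fin r => R) l) := by
    apply ModuleCat.hom_ext
    apply LinearMap.ext
    intro v
    rw [ModuleCat.hom_sum]
    simp only [ModuleCat.hom_id, LinearMap.id_coe, id_eq, LinearMap.sum_apply,
      ModuleCat.hom_comp, ModuleCat.hom_ofHom, LinearMap.comp_apply, LinearMap.proj_apply,
      LinearMap.single_apply]
    exact (Finset.univ_sum_single v).symm
  have hx : x = Hmap I i (𝟙 _) x := by simp [Hmap]
  rw [hx, hid, Hmap_sum, Finset.smul_sum]
  refine Finset.sum_eq_zero fun l _ => ?_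
  rw [Hmap_comp, ← map_smul, ha, map_zero]

end Hmap

section Factor

variable {A : Type u} [CommRing A] [IsNoetherianRing A]

/-- If `M_f` is projective over `A_f`, then a power of `f` on `M` factors through a finite free
module. -/
theorem exists_factor_pow (M : Type u) [AddCommGroup M] [Module A M] [Module.Finite A M] (f : A)
    (hM : Module.Projective (Localization.Away f) (LocalizedModule (Submonoid.powers f) M)) :
    ∃ (c r : ℕ) (u : M →ₗ[A] (Fin r → A)) (v : (Fin r → A) →ₗ[A] M),
      v ∘ₗ u = (f ^ c) • LinearMap.id := by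
  classical
  set S := Submonoid.powers f with hS
  obtain ⟨r, π, hπ⟩ := Module.Finite.exists_fin' A M
  have hfp : Module.FinitePresentation A M := Module.finitePresentation_of_finite A M
  let mkN := LocalizedModule.mkLinearMap S (Fin r → A)
  let mkM := LocalizedModule.mkLinearMap S M
  let πA : LocalizedModule S (Fin r → A) →ₗ[A] LocalizedModule S M :=
    IsLocalizedModule.map S mkN mkM π
  have hπA : Function.Surjective πA := IsLocalizedModule.map_surjective S mkN mkM π hπ
  let πloc : LocalizedModule S (Fin r → A) →ₗ[Localization S] LocalizedModule S M :=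
    πA.extendScalarsOfIsLocalization S (Localization S)
  have hπloc : Function.Surjective πloc := hπA
  obtain ⟨σ, hσ⟩ := Module.projective_lifting_property πloc LinearMap.id hπloc
  have hσ' : ∀ y, πA (σ y) = y := fun y => congrArg (fun t => t y) hσ
  let g0 : M →ₗ[A] LocalizedModule S (Fin r → A) := (σ.restrictScalars A) ∘ₗ mkM
  obtain ⟨u, s, hu⟩ := Module.FinitePresentation.exists_lift_of_isLocalizedModule S mkN g0
  have hcomp : mkM ∘ₗ (π ∘ₗ u) = mkM ∘ₗ ((s : A) • LinearMap.id) := by
    have h1 : mkM ∘ₗ π = πA ∘ₗ mkN := (IsLocalizedModule.map_comp S mkN mkM π).symm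
    rw [← LinearMap.comp_assoc, h1, LinearMap.comp_assoc, hu]
    ext y
    simp only [LinearMap.comp_apply, LinearMap.smul_apply, LinearMap.id_apply, map_smul, g0,
      LinearMap.coe_restrictScalars]
    rw [Submonoid.smul_def, map_smul, hσ']
  obtain ⟨s', hs'⟩ := Module.Finite.exists_smul_of_comp_eq_of_isLocalizedModule S mkM _ _ hcomp
  obtain ⟨c, hc⟩ : ∃ c, f ^ c = (s' * s : S) := (s' * s).2
  refine ⟨c, r, (s' : A) • u, π, ?_⟩
  rw [hc, LinearMap.comp_smul]
  have : (s' : A) • (π ∘ₗ u) = (s' : A) • ((s : A) • LinearMap.id) := hs'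
  rw [this, smul_smul]
  rfl

end Factor

section Main

variable {A : Type u} [CommRing A] [IsNoetherianRing A]

theorem exists_pow_annihilates (J I : Ideal A) (hJI : J ≤ I) (i n : ℕ)
    (hA : ∀ a ∈ J ^ n, ∀ x : LocCoh.H I i A, a • x = 0) (M : Type u) [AddCommGroup M] [Module A M]
    [Module.Finite A M]
    (hM : ∀ f ∈ I, Module.Projective (Localization.Away f)
      (LocalizedModule (Submonoid.powers f) M)) :
    ∃ m : ℕ, ∀ a ∈ J ^ m, ∀ x : LocCoh.H I i M, a • x = 0 := by
  classical
  -- Step 3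
  have step3 : ∀ f ∈ I, ∃ c : ℕ, ∀ a ∈ J ^ n, ∀ x : LocCoh.H I i M, (f ^ c * a) • x = 0 := by
    intro f hf
    obtain ⟨c, r, u, v, huv⟩ := exists_factor_pow M f (hM f hf)
    refine ⟨c, fun a ha x => ?_⟩
    have hfac : (f ^ c) • 𝟙 (ModuleCat.of A M) = ModuleCat.ofHom u ≫ ModuleCat.ofHom v := by
      rw [← ModuleCat.ofHom_comp, huv]
      rfl
    have h1 : (f ^ c) • x = Hmap I i (ModuleCat.ofHom v) (Hmap I i (ModuleCat.ofHom u) x) := by
      rw [← Hmap_comp, ← hfac, Hmap_smul_id]
    rw [mul_comm, mul_smul, h1, ← map_smul,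
      smul_H_pi_eq_zero I i r a (hA a ha) (Hmap I i (ModuleCat.ofHom u) x), map_zero]
  -- Step 4
  obtain ⟨s, g, hg⟩ := Submodule.fg_iff_exists_fin_generating_family.1
    (IsNoetherian.noetherian J)
  have hgJ : ∀ l, g l ∈ J := fun l => by
    rw [← hg]; exact Submodule.subset_span ⟨l, rfl⟩
  choose cl hcl using fun l => step3 (g l) (hJI (hgJ l))
  set c := ∑ l, cl l with hc
  have hcl' : ∀ l, ∀ a ∈ J ^ n, ∀ x : LocCoh.H I i M, (g l ^ c * a) • x = 0 := by
    intro l a ha x
    have hle : cl l ≤ c := Finset.single_le_sum (f := cl) (fun _ _ => Nat.zero_le _)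
      (Finset.mem_univ l)
    have : g l ^ c * a = g l ^ (c - cl l) * (g l ^ cl l * a) := by
      rw [← mul_assoc, ← pow_add, Nat.sub_add_cancel hle]
    rw [this, mul_smul, hcl l a ha x, smul_zero]
  set J' := Ideal.span (Set.range fun l => g l ^ c) with hJ'
  have hrad : J ≤ J'.radical := by
    rw [← hg]
    change Ideal.span _ ≤ _
    rw [Ideal.span_le]
    rintro _ ⟨l, rfl⟩
    exact ⟨c, Ideal.subset_span ⟨l, rfl⟩⟩
  obtain ⟨N, hN⟩ := Ideal.exists_pow_le_of_le_radical_of_fg hrad (IsNoetherian.noetherian J)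
  refine ⟨N + n, fun a ha x => ?_⟩
  have hann : J' * J ^ n ≤ Module.annihilator A (LocCoh.H I i M) := by
    rw [Ideal.mul_le]
    intro b hb a' ha'
    rw [Module.mem_annihilator]
    intro x'
    induction hb using Submodule.span_induction with
    | mem y hy =>
      obtain ⟨l, rfl⟩ := hy
      exact hcl' l a' ha' x'
    | zero => rw [zero_mul, zero_smul]
    | add y z _ _ hy hz => rw [add_mul, add_smul, hy, hz, add_zero]
    | smul r y _ hy => rw [smul_eq_mul, mul_assoc, mul_smul, hy, smul_zero]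
  have hmem : a ∈ J' * J ^ n := by
    rw [pow_add] at ha
    exact Ideal.mul_mono_left hN ha
  exact Module.mem_annihilator.1 (hann hmem) x

end Main

end Groth.Agent.Lib.Helper3.LocCohAnn
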