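import Groth.Agent.Lib.Helper16.LocCohTorsion
import Mathlib.RingTheory.Lasker

/-!
# Finiteness of `H¹_I` : dévissage along associated primes
-/

set_option autoImplicit false
universe u
open CategoryTheory

namespace Groth.Agent.Lib.Helper3.LocCohFin

open Groth.Agent.Lib.Helper16.LC Groth.Agent.Lib.Helper16.Depth

variable {R : Type u} [CommRing R]

/-- Middle term of an exact sequence with finite ends is finite (Noetherian ring). -/
theorem finite_of_exact [IsNoetherianRing R] {X Y Z : Type u} [AddCommGroup X] [Module R X]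
    [AddCommGroup Y] [Module R Y] [AddCommGroup Z] [Module R Z]
    (f : X →ₗ[R] Y) (g : Y →ₗ[R] Z) (hex : ∀ y, g y = 0 → ∃ x, f x = y)
    [Module.Finite R X] [Module.Finite R Z] : Module.Finite R Y := by
  rw [Module.finite_def]
  apply Submodule.fg_of_fg_map_of_fg_inf_ker g
  · have : IsNoetherian R Z := isNoetherian_of_isNoetherianRing_of_finite R Z
    exact IsNoetherian.noetherian _
  · have hfg : (LinearMap.range f).FG := by
      rw [LinearMap.range_eq_map]
      exact Submodule.FG.map f Module.Finite.fg_top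
    refine Submodule.FG.of_le hfg ?_
    rintro y ⟨-, hy⟩
    obtain ⟨x, rfl⟩ := hex y hy
    exact ⟨x, rfl⟩

variable (I : Ideal R)

/-- `H¹_I(N)` is a finite module. -/
def FinH1 (N : Type u) [AddCommGroup N] [Module R N] : Prop :=
  Module.Finite R (LocCoh.H I 1 N)

theorem finH1_of_equiv {N N' : Type u} [AddCommGroup N] [Module R N] [AddCommGroup N']
    [Module R N'] (e : N ≃ₗ[R] N') (h : FinH1 I N) : FinH1 I N' := by
  have e' : LocCoh.H I 1 N ≃ₗ[R] LocCoh.H I 1 N' :=
    ((localCohomology I 1).mapIso e.toModuleIso).toLinearEquiv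
  unfold FinH1 at h ⊢
  exact Module.Finite.equiv e'

variable [IsNoetherianRing R]

theorem finite_H0 (N : Type u) [AddCommGroup N] [Module R N] [Module.Finite R N] :
    Module.Finite R (LocCoh.H I 0 N) := by
  have : IsNoetherian R N := isNoetherian_of_isNoetherianRing_of_finite R N
  exact Module.Finite.equiv (H0equiv I (ModuleCat.of R N)).symm

theorem finH1_of_torsion (N : Type u) [AddCommGroup N] [Module R N]
    (hN : ∀ m : N, m ∈ DRing.torsionSub I N) : FinH1 I N := by
  have := subsingleton_H_succ_of_torsion I 0 N hN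
  unfold FinH1
  infer_instance

/-- Claim A: a submodule of a finite module with finite `H¹` has finite `H¹`. -/
theorem finH1_of_injective {N N' : Type u} [AddCommGroup N] [Module R N] [AddCommGroup N']
    [Module R N'] [Module.Finite R N'] (j : N →ₗ[R] N') (hj : Function.Injective j)
    (h : FinH1 I N') : FinH1 I N := by
  have hS := shortExact_of_linearMaps j (LinearMap.range j).mkQ hj
      (Submodule.mkQ_surjective _) (LinearMap.exact_map_mkQ_range j)
  have h0 : Module.Finite R (LocCoh.H I 0 (N' ⧸ LinearMap.range j)) := finite_H0 I _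
  unfold FinH1 at h ⊢
  exact finite_of_exact (δ I hS 0) (Hmap I 1 (ModuleCat.ofHom j))
    (fun x hx => Hmap_exact₁ I hS 0 x hx)

/-- Claim B: an extension of modules with finite `H¹` has finite `H¹`. -/
theorem finH1_of_exact {N' N N'' : Type u} [AddCommGroup N] [Module R N] [AddCommGroup N']
    [Module R N'] [AddCommGroup N''] [Module R N''] (f : N' →ₗ[R] N) (g : N →ₗ[R] N'')
    (hf : Function.Injective f) (hg : Function.Surjective g) (hfg : Function.Exact f g)
    (h' : FinH1 I N') (h'' : FinH1 I N'') : FinH1 I N := by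
  have hS := shortExact_of_linearMaps f g hf hg hfg
  unfold FinH1 at h' h'' ⊢
  exact finite_of_exact (Hmap I 1 (ModuleCat.ofHom f)) (Hmap I 1 (ModuleCat.ofHom g))
    (fun x hx => Hmap_exact₂ I hS 1 x hx)


/-- Coprimary case: if `C` is killed by a power of the prime `p`, elements outside `p` are
nonzerodivisors on `C`, and `H¹_I(R/p)` is finite, then `H¹_I(C)` is finite. -/
theorem finH1_of_coprimary (C : Type u) [AddCommGroup C] [Module R C] [Module.Finite R C]
    (p : Ideal R) (k : ℕ) (hk : ∀ a ∈ p ^ k, ∀ c : C, a • c = 0)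
    (htf : ∀ d : R, d ∉ p → ∀ c : C, d • c = 0 → c = 0)
    (hp : FinH1 I (R ⧸ p)) : FinH1 I C := by
  classical
  have hN : IsNoetherian R C := isNoetherian_of_isNoetherianRing_of_finite R C
  obtain ⟨N, hNS, hmax⟩ := set_has_maximal_iff_noetherian.2 hN {N : Submodule R C | FinH1 I N}
    ⟨⊥, finH1_of_torsion I _ (fun m => ⟨0, fun a _ => by
      have : m = 0 := Subsingleton.elim _ _
      rw [this, smul_zero]⟩)⟩
  have hNS' : FinH1 I N := hNS
  by_cases hNtop : N = ⊤
  · subst hNtop
    exact finH1_of_equiv I Submodule.topEquiv hNS'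
  exfalso
  obtain ⟨m₀, hm₀⟩ : ∃ m, m ∉ N := by
    by_contra hcon
    push Not at hcon
    exact hNtop (eq_top_iff.2 fun x _ => hcon x)
  -- find `m ∉ N` with `p • m ⊆ N`
  obtain ⟨m, hmN, hpm⟩ : ∃ m, m ∉ N ∧ ∀ b ∈ p, b • m ∈ N := by
    have hex : ∃ j, ∀ a ∈ p ^ j, a • m₀ ∈ N :=
      ⟨k, fun a ha => by rw [hk a ha]; exact N.zero_mem⟩
    have hjspec := Nat.find_spec hex
    have hj0 : Nat.find hex ≠ 0 := by
      intro h0
      have := hjspec 1 (by rw [h0, pow_zero, Ideal.one_eq_top]; exact Submodule.mem_top)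
      rw [one_smul] at this
      exact hm₀ this
    obtain ⟨j', hj'⟩ := Nat.exists_eq_succ_of_ne_zero hj0
    have hmin := Nat.find_min hex (m := j') (by omega)
    push Not at hmin
    obtain ⟨a, ha, ham⟩ := hmin
    refine ⟨a • m₀, ham, fun b hb => ?_⟩
    rw [smul_smul]
    apply hjspec
    rw [hj', pow_succ']
    exact Ideal.mul_mem_mul hb ha
  set N₂ := N ⊔ Submodule.span R {m} with hN₂
  have hmN₂ : m ∈ N₂ := Submodule.mem_sup_right (Submodule.mem_span_singleton_self m)
  have hlt : N < N₂ := by
    refine lt_of_le_of_ne le_sup_left ?_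
    intro heq
    apply hmN
    rw [heq]
    exact hmN₂
  apply hmax N₂ _ hlt
  show FinH1 I N₂
  have hfinN : Module.Finite R N := inferInstance
  by_cases hcase : ∃ d, d ∉ p ∧ d • m ∈ N
  · obtain ⟨d, hdp, hdm⟩ := hcase
    have hmaps : ∀ x : N₂, (d • N₂.subtype) x ∈ N := by
      rintro ⟨x, hx⟩
      obtain ⟨n, hn, y, hy, rfl⟩ := Submodule.mem_sup.1 hx
      obtain ⟨r, rfl⟩ := Submodule.mem_span_singleton.1 hy
      show d • (n + r • m) ∈ N
      rw [smul_add, smul_comm]
      exact N.add_mem (N.smul_mem _ hn) (N.smul_mem _ hdm)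
    let j : N₂ →ₗ[R] N := (d • N₂.subtype).codRestrict N hmaps
    have hj : Function.Injective j := by
      rw [← LinearMap.ker_eq_bot, LinearMap.ker_eq_bot']
      intro x hx
      have h1 : d • (x : C) = 0 := congrArg Subtype.val hx
      exact Subtype.ext (htf d hdp _ h1)
    exact finH1_of_injective I j hj hNS'
  · push Not at hcase
    let N₁ : Submodule R N₂ := N.comap N₂.subtype
    let m₂ : N₂ := ⟨m, hmN₂⟩
    let φ : R →ₗ[R] (N₂ ⧸ N₁) := N₁.mkQ ∘ₗ LinearMap.toSpanSingleton R N₂ m₂
    have hφ : ∀ r, φ r = Submodule.Quotient.mk (r • m₂) := fun r => rfl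
    have hsurj : Function.Surjective φ := by
      intro y
      obtain ⟨⟨x, hx⟩, rfl⟩ := Submodule.Quotient.mk_surjective N₁ y
      obtain ⟨n, hn, y, hy, rfl⟩ := Submodule.mem_sup.1 hx
      obtain ⟨r, rfl⟩ := Submodule.mem_span_singleton.1 hy
      refine ⟨r, ?_⟩
      rw [hφ, eq_comm, Submodule.Quotient.eq]
      show ((⟨n + r • m, hx⟩ - r • m₂ : N₂) : C) ∈ N
      have : ((⟨n + r • m, hx⟩ - r • m₂ : N₂) : C) = n := by
        show n + r • m - r • m = n
        abel
      rw [this]
      exact hn
    have hker : LinearMap.ker φ = p := by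
      ext r
      rw [LinearMap.mem_ker, hφ, Submodule.Quotient.mk_eq_zero]
      show r • m ∈ N ↔ r ∈ p
      constructor
      · intro h
        by_contra hr
        exact hcase r hr h
      · exact hpm r
    let e : (R ⧸ p) ≃ₗ[R] (N₂ ⧸ N₁) :=
      (Submodule.quotEquivOfEq p (LinearMap.ker φ) hker.symm).trans
        (φ.quotKerEquivOfSurjective hsurj)
    have hquot : FinH1 I (N₂ ⧸ N₁) := finH1_of_equiv I e hp
    refine finH1_of_exact I (Submodule.inclusion (le_sup_left : N ≤ N₂)) N₁.mkQ
      (Submodule.inclusion_injective _) (Submodule.mkQ_surjective _) ?_ hNS' hquot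
    rw [LinearMap.exact_iff, Submodule.ker_mkQ, Submodule.range_inclusion]

/-- If `H¹_I(R/p)` is finite for every associated prime `p` of `M` not containing `I`, then
`H¹_I(M)` is finite. -/
theorem finH1_of_forall_assoc (M : Type u) [AddCommGroup M] [Module R M] [Module.Finite R M]
    (h : ∀ p : Ideal R, p ∈ associatedPrimes R M → ¬ I ≤ p → FinH1 I (R ⧸ p)) : FinH1 I M := by
  classical
  have hN : IsNoetherian R M := isNoetherian_of_isNoetherianRing_of_finite R M
  obtain ⟨t, ht⟩ :=
    Submodule.IsLasker.exists_isMinimalPrimaryDecomposition (Submodule.isLasker R M)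
      (⊥ : Submodule R M)
  have hquot : ∀ J ∈ t, FinH1 I (M ⧸ J) := by
    intro J hJ
    have hprim := ht.primary hJ
    have hpass : (J.colon Set.univ).radical ∈ associatedPrimes R M := ht.mem_associatedPrimes hJ
    obtain ⟨k, hk⟩ := (J.colon Set.univ).exists_radical_pow_le_of_fg (IsNoetherian.noetherian _)
    have hkill : ∀ a ∈ (J.colon Set.univ).radical ^ k, ∀ c : M ⧸ J, a • c = 0 := by
      intro a ha c
      obtain ⟨x, rfl⟩ := Submodule.Quotient.mk_surjective J c
      rw [← Submodule.Quotient.mk_smul, Submodule.Quotient.mk_eq_zero]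
      exact Submodule.mem_colon.1 (hk ha) x (Set.mem_univ x)
    by_cases hIp : I ≤ (J.colon Set.univ).radical
    · apply finH1_of_torsion
      intro c
      exact ⟨k, fun a ha => hkill a (Ideal.pow_right_mono hIp k ha) c⟩
    · refine finH1_of_coprimary I (M ⧸ J) _ k hkill ?_ (h _ hpass hIp)
      intro d hd c hc
      obtain ⟨x, rfl⟩ := Submodule.Quotient.mk_surjective J c
      rw [← Submodule.Quotient.mk_smul, Submodule.Quotient.mk_eq_zero] at hc
      rw [Submodule.Quotient.mk_eq_zero]
      exact (hprim.mem_or_mem hc).resolve_right hd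
  have hind : ∀ s : Finset (Submodule R M), s ⊆ t → FinH1 I (M ⧸ s.inf id) := by
    intro s
    induction s using Finset.induction_on with
    | empty =>
      intro _
      apply finH1_of_torsion
      intro c
      refine ⟨0, fun a _ => ?_⟩
      obtain ⟨x, rfl⟩ := Submodule.Quotient.mk_surjective _ c
      rw [← Submodule.Quotient.mk_smul, Submodule.Quotient.mk_eq_zero, Finset.inf_empty]
      exact Submodule.mem_top
    | insert J s hJs ih =>
      intro hsub
      have hJ : FinH1 I (M ⧸ J) := hquot J (hsub (Finset.mem_insert_self J s))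
      have hs : FinH1 I (M ⧸ s.inf id) := ih (fun x hx => hsub (Finset.mem_insert_of_mem hx))
      rw [Finset.inf_insert, id]
      have hprod : FinH1 I ((M ⧸ J) × (M ⧸ s.inf id)) :=
        finH1_of_exact I (LinearMap.inl R (M ⧸ J) (M ⧸ s.inf id))
          (LinearMap.snd R (M ⧸ J) (M ⧸ s.inf id))
          LinearMap.inl_injective LinearMap.snd_surjective Function.Exact.inl_snd hJ hs
      let ψ : M →ₗ[R] (M ⧸ J) × (M ⧸ s.inf id) := J.mkQ.prod (s.inf id).mkQ
      have hker : J ⊓ s.inf id = LinearMap.ker ψ := by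
        rw [LinearMap.ker_prod, Submodule.ker_mkQ, Submodule.ker_mkQ]
      have hinj : Function.Injective ((J ⊓ s.inf id).liftQ ψ (le_of_eq hker)) := by
        rw [← LinearMap.ker_eq_bot]
        exact Submodule.ker_liftQ_eq_bot' _ ψ hker
      exact finH1_of_injective I _ hinj hprod
  have hfin := hind t (Finset.Subset.refl t)
  exact finH1_of_equiv I (Submodule.quotEquivOfEqBot _ ht.inf_eq) hfin

/-- If `H¹_I(M)` is finite then so is `H¹_I(R/p)` for every associated prime `p` of `M`. -/
theorem finH1_quot_of_assoc (M : Type u) [AddCommGroup M] [Module R M] [Module.Finite R M]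
    (h : FinH1 I M) (p : Ideal R) (hp : p ∈ associatedPrimes R M) : FinH1 I (R ⧸ p) := by
  obtain ⟨hprime, x, hx⟩ := (Submodule.isAssociatedPrime_iff).1 hp
  have hker : p = LinearMap.ker (LinearMap.toSpanSingleton R M x) := by
    rw [hx]
    ext r
    simp [Submodule.mem_colon_singleton]
  have hinj : Function.Injective
      (Submodule.liftQ p (LinearMap.toSpanSingleton R M x) (le_of_eq hker)) := by
    rw [← LinearMap.ker_eq_bot]
    exact Submodule.ker_liftQ_eq_bot' _ _ hker
  exact finH1_of_injective I _ hinj h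

end Groth.Agent.Lib.Helper3.LocCohFin
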