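import Mathlib
/-!
# Localization away from an element commutes with filtered colimits of commutative rings
-/
universe u
open CategoryTheory CategoryTheory.Limits

namespace Groth.Agent.Lib.Helper3

variable {J : Type u} [SmallCategory J] [IsFiltered J] {G G' : J ⥤ CommRingCat.{u}} (ρ : G ⟶ G')
  {cG : Cocone G} (hG : IsColimit cG) {cG' : Cocone G'} (hG' : IsColimit cG')
  (ρ' : cG.pt ⟶ cG'.pt) (hρ : ∀ j, cG.ι.app j ≫ ρ' = ρ.app j ≫ cG'.ι.app j)
  (r : ∀ j, G.obj j) (hr : ∀ {j j' : J} (φ : j ⟶ j'), (G.map φ).hom (r j) = r j')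
  (hloc : ∀ j, letI := (ρ.app j).hom.toAlgebra; IsLocalization.Away (r j) (G'.obj j))

include hr in
theorem colimit_ι_r_eq (j j' : J) : (cG.ι.app j).hom (r j) = (cG.ι.app j').hom (r j') := by
  obtain ⟨k, φ, φ', -⟩ := IsFilteredOrEmpty.cocone_objs j j'
  have h1 : (cG.ι.app j).hom (r j) = (cG.ι.app k).hom (r k) := by
    rw [← hr φ, ← RingHom.comp_apply, ← CommRingCat.hom_comp, cG.w]
  have h2 : (cG.ι.app j').hom (r j') = (cG.ι.app k).hom (r k) := by
    rw [← hr φ', ← RingHom.comp_apply, ← CommRingCat.hom_comp, cG.w]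
  rw [h1, h2]

include hG hG' hρ hr hloc in
theorem isLocalization_away_of_isColimit (j₀ : J) :
    letI := ρ'.hom.toAlgebra
    IsLocalization.Away (show cG.pt from (cG.ι.app j₀).hom (r j₀)) cG'.pt := by
  let _ := ρ'.hom.toAlgebra
  have hρa : ∀ (j : J) (a : G.obj j), ρ'.hom ((cG.ι.app j).hom a) =
      (cG'.ι.app j).hom ((ρ.app j).hom a) := fun j a =>
    congrArg (fun k => k.hom a) (hρ j)
  have hx : ∀ j, (cG.ι.app j).hom (r j) = (cG.ι.app j₀).hom (r j₀) := fun j =>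
    colimit_ι_r_eq r hr j j₀
  refine (isLocalization_iff _ _).mpr ⟨?_, ?_, ?_⟩
  · rintro ⟨_, n, rfl⟩
    change IsUnit (ρ'.hom ((show cG.pt from (cG.ι.app j₀).hom (r j₀)) ^ n))
    rw [map_pow, hρa]
    refine IsUnit.pow n (IsUnit.map (cG'.ι.app j₀).hom ?_)
    let _ := (ρ.app j₀).hom.toAlgebra
    have := hloc j₀
    exact IsLocalization.Away.algebraMap_isUnit (r j₀)
  · intro y
    obtain ⟨j, yj, rfl⟩ := Concrete.isColimit_exists_rep G' hG' y
    let _ := (ρ.app j).hom.toAlgebra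
    have := hloc j
    obtain ⟨n, a, ha⟩ := IsLocalization.Away.surj (r j) yj
    refine ⟨⟨(cG.ι.app j).hom a, ⟨_, n, rfl⟩⟩, ?_⟩
    change (show cG'.pt from (cG'.ι.app j).hom yj) *
        ρ'.hom ((show cG.pt from (cG.ι.app j₀).hom (r j₀)) ^ n) =
      ρ'.hom ((cG.ι.app j).hom a)
    rw [← hx j, map_pow, hρa, hρa, ← map_pow, ← map_mul]
    congr 1
  · intro a b hab
    obtain ⟨i, ai, rfl⟩ := Concrete.isColimit_exists_rep G hG a
    obtain ⟨i', bi, rfl⟩ := Concrete.isColimit_exists_rep G hG b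
    change ρ'.hom _ = ρ'.hom _ at hab
    rw [hρa, hρa] at hab
    obtain ⟨l, f, g, hfg⟩ := Concrete.isColimit_exists_of_rep_eq G' hG' _ _ hab
    have h1 : (ρ.app l).hom ((G.map f).hom ai) = (ρ.app l).hom ((G.map g).hom bi) := by
      have e1 : (ρ.app l).hom ((G.map f).hom ai) = (G'.map f).hom ((ρ.app i).hom ai) :=
        congrArg (fun k => k.hom ai) (ρ.naturality f)
      have e2 : (ρ.app l).hom ((G.map g).hom bi) = (G'.map g).hom ((ρ.app i').hom bi) :=
        congrArg (fun k => k.hom bi) (ρ.naturality g)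
      rw [e1, e2]
      exact hfg
    let _ := (ρ.app l).hom.toAlgebra
    have := hloc l
    obtain ⟨⟨_, n, rfl⟩, hc⟩ := IsLocalization.exists_of_eq (M := Submonoid.powers (r l)) h1
    refine ⟨⟨_, n, rfl⟩, ?_⟩
    change (show cG.pt from (cG.ι.app j₀).hom (r j₀)) ^ n * _ =
      (show cG.pt from (cG.ι.app j₀).hom (r j₀)) ^ n * _
    have e3 : (cG.ι.app i).hom ai = (cG.ι.app l).hom ((G.map f).hom ai) := by
      rw [← RingHom.comp_apply, ← CommRingCat.hom_comp, cG.w]
    have e4 : (cG.ι.app i').hom bi = (cG.ι.app l).hom ((G.map g).hom bi) := by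
      rw [← RingHom.comp_apply, ← CommRingCat.hom_comp, cG.w]
    rw [← hx l, e3, e4, ← map_pow, ← map_mul, ← map_mul]
    exact congrArg _ hc

end Groth.Agent.Lib.Helper3
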