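import Groth.Agent.Lib.Helper29.Sky
import Groth.Agent.Lib.Helper29.QCohIdealMod
import Groth.Agent.Lib.Helper29.QCohAss2
/-!
# Germs of non-invertible functions; generation of stalks of pullbacks; the counit `f^* f_* F ⟶ F`
-/
universe u
open CategoryTheory CategoryTheory.Limits AlgebraicGeometry Opposite TopologicalSpace

namespace Groth.Agent.Lib.Helper3
open Groth.Agent.Lib.Helper29.QCoh

variable {X : Scheme.{u}}

/-- Germs at `x` of functions that are not invertible at `x`, as a submodule of the stalk of the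
structure module. -/
noncomputable def nonunitSub (x : X) : Submodule (X.presheaf.stalk x) ((unitM X).presheaf.stalk x) where
  carrier := {t | ∃ (W : X.Opens) (hx : x ∈ W) (a : Γ(X, W)),
    (unitM X).presheaf.germ W x hx (toUnit a) = t ∧ x ∉ X.basicOpen a}
  add_mem' := by
    rintro _ _ ⟨W, hx, a, rfl, ha⟩ ⟨W', hx', a', rfl, ha'⟩
    have hx'' : x ∈ W ⊓ W' := ⟨hx, hx'⟩
    refine ⟨W ⊓ W', hx'', X.presheaf.map (homOfLE inf_le_left).op a +
      X.presheaf.map (homOfLE inf_le_right).op a', ?_, ?_⟩
    · have e1 : toUnit (X.presheaf.map (homOfLE inf_le_left).op a +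
          X.presheaf.map (homOfLE inf_le_right).op a') =
          res (unitM X) (inf_le_left : W ⊓ W' ≤ W) (toUnit a) +
            res (unitM X) (inf_le_right : W ⊓ W' ≤ W') (toUnit a') := rfl
      rw [e1, map_add, germ_res, germ_res]
    · rw [X.mem_basicOpen _ x hx'', map_add]
      intro hu
      rcases IsLocalRing.isUnit_or_isUnit_of_isUnit_add hu with h | h
      · apply ha
        rw [X.mem_basicOpen _ x hx]
        rwa [X.presheaf.germ_res_apply] at h
      · apply ha'
        rw [X.mem_basicOpen _ x hx']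
        rwa [X.presheaf.germ_res_apply] at h
  zero_mem' := by
    refine ⟨⊤, trivial, 0, ?_, ?_⟩
    · exact map_zero _
    · rw [Scheme.mem_basicOpen_top, map_zero]
      exact not_isUnit_zero
  smul_mem' := by
    rintro r _ ⟨W, hx, a, rfl, ha⟩
    obtain ⟨W', hx', b, rfl⟩ := X.presheaf.exists_germ_eq r
    have hx'' : x ∈ W' ⊓ W := ⟨hx', hx⟩
    refine ⟨W' ⊓ W, hx'', X.presheaf.map (homOfLE inf_le_left).op b *
      X.presheaf.map (homOfLE inf_le_right).op a, ?_, ?_⟩
    · have e1 : toUnit (X.presheaf.map (homOfLE inf_le_left).op b *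
          X.presheaf.map (homOfLE inf_le_right).op a) =
          (show Γ(X, W' ⊓ W) from X.presheaf.map (homOfLE (inf_le_left : W' ⊓ W ≤ W')).op b) •
            res (unitM X) (inf_le_right : W' ⊓ W ≤ W) (toUnit a) := by
        change (_ : Γ(X, W' ⊓ W)) = _ * _
        rfl
      rw [e1, germ_smul, germ_res, X.presheaf.germ_res_apply]
    · rw [X.mem_basicOpen _ x hx'', map_mul]
      intro hu
      apply ha
      rw [X.mem_basicOpen _ x hx]
      have h := isUnit_of_mul_isUnit_right hu
      rwa [X.presheaf.germ_res_apply] at h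

theorem germ_mem_nonunitSub_iff (x : X) (W : X.Opens) (hx : x ∈ W) (a : Γ(X, W)) :
    (unitM X).presheaf.germ W x hx (toUnit a) ∈ nonunitSub x ↔ x ∉ X.basicOpen a := by
  constructor
  · rintro ⟨W', hx', a', he, ha'⟩ hxa
    obtain ⟨W'', hx'', i1, i2, e⟩ := (unitM X).presheaf.germ_eq x hx' hx _ _ he
    apply ha'
    have e' : X.presheaf.map i1.op a' = X.presheaf.map i2.op a := e
    have h1 : x ∈ X.basicOpen (X.presheaf.map i2.op a) := by
      rw [X.basicOpen_res]; exact ⟨hx'', hxa⟩
    rw [← e', X.basicOpen_res] at h1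
    exact h1.2
  · intro ha
    exact ⟨W, hx, a, rfl, ha⟩


theorem stalkMapₗ_germ_mem {J : X.Modules} (i : J ⟶ unitM X) (x : X) (W : X.Opens) (hx : x ∈ W)
    (m : Γ(J, W)) :
    stalkMapₗ i x (J.presheaf.germ W x hx m) ∈ nonunitSub x ↔
      x ∉ X.basicOpen (fromUnit (i.app W m)) := by
  have e := stalkMap_germ i x W hx m
  rw [stalkMapₗ_apply, e]
  exact germ_mem_nonunitSub_iff x W hx _


/-- If a set `S` of elements spans the stalk of `J` at `x` and `J` contains near `x` a section
mapping to `1` under `i : J ⟶ O_X`, then some element of `S` maps to an invertible germ. -/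
theorem exists_mem_not_mem_nonunitSub {J : X.Modules} (i : J ⟶ unitM X) (x : X)
    (S : Set (J.presheaf.stalk x)) (hS : Submodule.span (X.presheaf.stalk x) S = ⊤)
    (U : X.Opens) (hxU : x ∈ U) (s₁ : Γ(J, U)) (hs₁ : i.app U s₁ = toUnit (1 : Γ(X, U))) :
    ∃ t ∈ S, stalkMapₗ i x t ∉ nonunitSub x := by
  by_contra hcon
  push Not at hcon
  let N : Submodule (X.presheaf.stalk x) (J.presheaf.stalk x) :=
    (nonunitSub x).comap (stalkMapₗ i x)
  have hle : Submodule.span (X.presheaf.stalk x) S ≤ N := by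
    rw [Submodule.span_le]
    intro t ht
    exact hcon t ht
  rw [hS] at hle
  have h1 : J.presheaf.germ U x hxU s₁ ∈ N := hle trivial
  have h2 := (stalkMapₗ_germ_mem i x U hxU s₁).mp h1
  apply h2
  rw [hs₁, fromUnit_toUnit, X.mem_basicOpen _ x hxU, map_one]
  exact isUnit_one

end Groth.Agent.Lib.Helper3
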