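import Groth.Agent.Lib.Helper3.OfAff
import Groth.Prelude.Def_RelProj4
/-!
# `ψ`-morphisms out of a quasi-coherent algebra built from affine data (`OfAff.qhomOf`)
-/
set_option autoImplicit false
set_option linter.unusedSectionVars false
universe u
open CategoryTheory CategoryTheory.Limits AlgebraicGeometry Opposite TopologicalSpace
open RelSpec AlgebraicGeometry.Scheme.AffineZariskiSite

namespace Groth.Agent.Lib.Helper3.OfAff

section sheaf
variable {S : Scheme.{u}} (Q : TopCat.Sheaf CommRingCat.{u} S.carrier)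

/-- Two maps of presheaves of rings into a sheaf agree if they agree on the affine opens. -/
theorem presheafHom_ext_aff' {P : TopCat.Presheaf CommRingCat.{u} S.carrier}
    {f g : P ⟶ Q.1}
    (h : ∀ (U : S.Opens) (_ : IsAffineOpen U), f.app (op U) = g.app (op U)) : f = g := by
  apply (Functor.IsCoverDense.restrictHomEquivHom (G := toOpensFunctor S)
    (K := Opens.grothendieckTopology S) (ℱ := P) (ℱ' := Q)).symm.injective
  ext W : 2
  exact h W.unop.1 W.unop.2

/-- Extension of a natural transformation on the affine opens to a map of presheaves. -/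
noncomputable def extend' {P : TopCat.Presheaf CommRingCat.{u} S.carrier}
    (T : (toOpensFunctor S).op ⋙ P ⟶ (toOpensFunctor S).op ⋙ Q.1) : P ⟶ Q.1 :=
  Functor.IsCoverDense.restrictHomEquivHom (G := toOpensFunctor S)
    (K := Opens.grothendieckTopology S) (ℱ := P) (ℱ' := Q) T

theorem extend'_app {P : TopCat.Presheaf CommRingCat.{u} S.carrier}
    (T : (toOpensFunctor S).op ⋙ P ⟶ (toOpensFunctor S).op ⋙ Q.1)
    (W : S.AffineZariskiSiteᵒᵖ) : (extend' Q T).app (op W.unop.1) = T.app W :=
  NatTrans.congr_app ((Functor.IsCoverDense.restrictHomEquivHom (G := toOpensFunctor S)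
    (K := Opens.grothendieckTopology S) (ℱ := P) (ℱ' := Q)).symm_apply_apply T) W

end sheaf

section qhom
variable {S S' : Scheme.{u}} (ψ : S' ⟶ S) (B : QCAlg S')

/-- The direct image of the underlying sheaf of rings of a quasi-coherent algebra. -/
noncomputable def pushSheaf : TopCat.Sheaf CommRingCat.{u} S.carrier :=
  ⟨ψ.base _* B.presheaf, TopCat.Sheaf.pushforward_sheaf_of_sheaf ψ.base B.isSheaf⟩

variable {F : S.AffineZariskiSiteᵒᵖ ⥤ CommRingCat.{u}}
  {α : (toOpensFunctor S).op ⋙ S.presheaf ⟶ F} (H : α.Coequifibered)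

/-- The `ψ`-morphism out of `alg H` attached to a compatible natural transformation on the affine
site. -/
noncomputable def qhomOf (T : F ⟶ (toOpensFunctor S).op ⋙ (pushSheaf ψ B).1)
    (hT : ∀ W : S.AffineZariskiSiteᵒᵖ,
      α.app W ≫ T.app W = ψ.app W.unop.1 ≫ B.str.app (op (ψ ⁻¹ᵁ W.unop.1))) :
    QHom ψ (alg H) B where
  app U := (extend' (pushSheaf ψ B) (gammaNat H ≫ T)).app (op U)
  naturality {U V} i := ((extend' (pushSheaf ψ B) (gammaNat H ≫ T)).naturality (homOfLE i).op).symm
  str_app U := by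
    have key : (alg H).str ≫ extend' (pushSheaf ψ B) (gammaNat H ≫ T) =
        ψ.c ≫ (TopCat.Presheaf.pushforward CommRingCat.{u} ψ.base).map B.str := by
      refine presheafHom_ext_aff' (pushSheaf ψ B) fun W hW => ?_
      change (alg H).str.app (op W) ≫ (extend' (pushSheaf ψ B) (gammaNat H ≫ T)).app (op W) =
        ψ.app W ≫ B.str.app (op (ψ ⁻¹ᵁ W))
      rw [extend'_app (pushSheaf ψ B) (gammaNat H ≫ T) (op (aff W hW))]
      have h1 := NatTrans.congr_app (str_gammaNat H) (op (aff W hW))
      have h2 : (alg H).str.app (op W) ≫ (gammaNat H).app (op (aff W hW)) =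
          α.app (op (aff W hW)) := h1
      refine Eq.trans (b := ((alg H).str.app (op W) ≫ (gammaNat H).app (op (aff W hW))) ≫
        T.app (op (aff W hW))) ?_ ?_
      · exact (Category.assoc _ _ _).symm
      · rw [h2]
        exact hT (op (aff W hW))
    exact NatTrans.congr_app key (op U)

theorem qhomOf_app (T : F ⟶ (toOpensFunctor S).op ⋙ (pushSheaf ψ B).1)
    (hT : ∀ W : S.AffineZariskiSiteᵒᵖ,
      α.app W ≫ T.app W = ψ.app W.unop.1 ≫ B.str.app (op (ψ ⁻¹ᵁ W.unop.1)))
    (W : S.AffineZariskiSiteᵒᵖ) :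
    (qhomOf ψ B H T hT).app W.unop.1 = (gammaNat H).app W ≫ T.app W :=
  extend'_app (pushSheaf ψ B) (gammaNat H ≫ T) W

end qhom

end Groth.Agent.Lib.Helper3.OfAff
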