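import Mathlib.Algebra.MvPolynomial.Expand
import Mathlib.Algebra.MvPolynomial.Rename
import Mathlib.Algebra.MvPolynomial.CommRing
import Mathlib.RingTheory.Ideal.Span
import Mathlib.RingTheory.Ideal.Maps
import Mathlib.Tactic.Ring
import Mathlib.Tactic.FinCases
import Mathlib.Algebra.MvPolynomial.Derivation
import Mathlib.Algebra.CharP.Two
import Mathlib.Algebra.CharP.Algebra

/-!
# Parity decomposition of `R[u,v]` over `R[u²,v²]` and kernels of maps `R[a,b,c] → R[u,v]`
-/

namespace Groth.Agent.Lib.Helper3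

open MvPolynomial

variable {R : Type*} [CommRing R]

theorem coeff_expand_mul_monomial_van (Q : MvPolynomial (Fin 2) R) (m' s t : Fin 2 →₀ ℕ) (i : Fin 2)
    (h : s i ≤ 2 * m' i + t i → ¬ 2 ∣ (2 * m' i + t i - s i)) :
    coeff (2 • m' + t) (expand 2 Q * monomial s 1) = 0 := by
  rw [coeff_mul_monomial']
  split_ifs with hs
  · rw [coeff_expand_of_not_dvd (i := i), zero_mul]
    have h1 := hs i
    simp only [Finsupp.add_apply, Finsupp.smul_apply, smul_eq_mul, Finsupp.tsub_apply] at h1 ⊢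
    exact h h1
  · rfl

theorem coeff_expand_mul_monomial_nonvan (Q : MvPolynomial (Fin 2) R) (m' s : Fin 2 →₀ ℕ) :
    coeff (2 • m' + s) (expand 2 Q * monomial s 1) = coeff m' Q := by
  rw [coeff_mul_monomial', if_pos le_add_self, add_tsub_cancel_right,
    coeff_expand_smul 2 (by norm_num), mul_one]

/-- `1, u^a, v^b, u^a v^b` (with `a`, `b` odd) are linearly independent over `R[u², v²]`. -/
theorem parity_indep (a b : ℕ) (ha : Odd a) (hb : Odd b) (Q₀ Q₁ Q₂ Q₃ : MvPolynomial (Fin 2) R)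
    (h : expand 2 Q₀ + expand 2 Q₁ * X 0 ^ a + expand 2 Q₂ * X 1 ^ b +
      expand 2 Q₃ * (X 0 ^ a * X 1 ^ b) = 0) :
    Q₀ = 0 ∧ Q₁ = 0 ∧ Q₂ = 0 ∧ Q₃ = 0 := by
  obtain ⟨k, rfl⟩ := ha
  obtain ⟨l, rfl⟩ := hb
  have h' : expand 2 Q₀ * monomial 0 1 + expand 2 Q₁ * monomial (Finsupp.single 0 (2 * k + 1)) 1 +
      expand 2 Q₂ * monomial (Finsupp.single 1 (2 * l + 1)) 1 +
      expand 2 Q₃ * monomial (Finsupp.single 0 (2 * k + 1) + Finsupp.single 1 (2 * l + 1)) 1 = 0 := by
    rw [← h, X_pow_eq_monomial, X_pow_eq_monomial, monomial_mul, mul_one]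
    simp
  refine ⟨?_, ?_, ?_, ?_⟩
  · ext m'
    have := congrArg (coeff (2 • m' + 0)) h'
    simp only [coeff_add, coeff_zero] at this
    rw [coeff_expand_mul_monomial_nonvan,
      coeff_expand_mul_monomial_van _ _ _ _ 0 (by simp <;> omega),
      coeff_expand_mul_monomial_van _ _ _ _ 1 (by simp <;> omega),
      coeff_expand_mul_monomial_van _ _ _ _ 0 (by simp <;> omega)] at this
    simpa using this
  · ext m'
    have := congrArg (coeff (2 • m' + Finsupp.single 0 (2 * k + 1))) h'
    simp only [coeff_add, coeff_zero] at this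
    rw [coeff_expand_mul_monomial_nonvan,
      coeff_expand_mul_monomial_van _ _ _ _ 0 (by simp <;> omega),
      coeff_expand_mul_monomial_van _ _ _ _ 1 (by simp <;> omega),
      coeff_expand_mul_monomial_van _ _ _ _ 1 (by simp <;> omega)] at this
    simpa using this
  · ext m'
    have := congrArg (coeff (2 • m' + Finsupp.single 1 (2 * l + 1))) h'
    simp only [coeff_add, coeff_zero] at this
    rw [coeff_expand_mul_monomial_nonvan,
      coeff_expand_mul_monomial_van _ _ _ _ 1 (by simp <;> omega),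
      coeff_expand_mul_monomial_van _ _ _ _ 0 (by simp <;> omega),
      coeff_expand_mul_monomial_van _ _ _ _ 0 (by simp <;> omega)] at this
    simpa using this
  · ext m'
    have := congrArg (coeff (2 • m' +
      (Finsupp.single 0 (2 * k + 1) + Finsupp.single 1 (2 * l + 1)))) h'
    simp only [coeff_add, coeff_zero] at this
    rw [coeff_expand_mul_monomial_nonvan,
      coeff_expand_mul_monomial_van _ _ _ _ 0 (by simp <;> omega),
      coeff_expand_mul_monomial_van _ _ _ _ 1 (by simp <;> omega),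
      coeff_expand_mul_monomial_van _ _ _ _ 0 (by simp <;> omega)] at this
    simpa using this

/-- The kernel of `R[a,b,c] → R[u,v]`, `a ↦ u²`, `b ↦ v²`, `c ↦ g`, when `g² = -G(u²,v²)` and `1, g`
are independent over `R[u²,v²]`, is generated by `c² + G(a,b)`. -/
theorem ker_aeval_sq_sq_eq_span (g G : MvPolynomial (Fin 2) R)
    (hG : g ^ 2 + expand 2 G = 0)
    (hind : ∀ P₀ P₁ : MvPolynomial (Fin 2) R,
      expand 2 P₀ + expand 2 P₁ * g = 0 → P₀ = 0 ∧ P₁ = 0) :
    RingHom.ker (aeval (R := R) (S₁ := MvPolynomial (Fin 2) R) ![X 0 ^ 2, X 1 ^ 2, g]) =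
      Ideal.span {(X 2 ^ 2 + rename Fin.castSucc G : MvPolynomial (Fin 3) R)} := by
  set φ := aeval (R := R) (S₁ := MvPolynomial (Fin 2) R) ![X 0 ^ 2, X 1 ^ 2, g] with hφ
  have hren : ∀ Q : MvPolynomial (Fin 2) R, φ (rename Fin.castSucc Q) = expand 2 Q := by
    intro Q
    rw [hφ, aeval_rename]
    have : (![X 0 ^ 2, X 1 ^ 2, g] ∘ Fin.castSucc : Fin 2 → MvPolynomial (Fin 2) R) =
        fun i => X i ^ 2 := by
      funext i; fin_cases i <;> rfl
    rw [this]; rfl
  have hX2 : φ (X 2) = g := by simp [hφ]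
  set F : MvPolynomial (Fin 3) R := X 2 ^ 2 + rename Fin.castSucc G with hF
  have hFker : φ F = 0 := by rw [hF, map_add, map_pow, hX2, hren, hG]
  have hle : Ideal.span {F} ≤ RingHom.ker φ := by
    rw [Ideal.span_le, Set.singleton_subset_iff]; exact hFker
  have hred : ∀ P : MvPolynomial (Fin 3) R, ∃ P₀ P₁ : MvPolynomial (Fin 2) R,
      P - (rename Fin.castSucc P₀ + rename Fin.castSucc P₁ * X 2) ∈ Ideal.span {F} := by
    intro P
    induction P using MvPolynomial.induction_on with
    | C a => exact ⟨C a, 0, by simp⟩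
    | add p q hp hq =>
      obtain ⟨p₀, p₁, hp⟩ := hp
      obtain ⟨q₀, q₁, hq⟩ := hq
      refine ⟨p₀ + q₀, p₁ + q₁, ?_⟩
      have : p + q - (rename Fin.castSucc (p₀ + q₀) + rename Fin.castSucc (p₁ + q₁) * X 2) =
          (p - (rename Fin.castSucc p₀ + rename Fin.castSucc p₁ * X 2)) +
          (q - (rename Fin.castSucc q₀ + rename Fin.castSucc q₁ * X 2)) := by
        simp only [map_add]; ring
      rw [this]
      exact Ideal.add_mem _ hp hq
    | mul_X p i hp =>
      obtain ⟨p₀, p₁, hp⟩ := hp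
      induction i using Fin.lastCases with
      | last =>
        refine ⟨-(p₁ * G), p₀, ?_⟩
        have : p * X (Fin.last 2) -
            (rename Fin.castSucc (-(p₁ * G)) + rename Fin.castSucc p₀ * X 2) =
            (p - (rename Fin.castSucc p₀ + rename Fin.castSucc p₁ * X 2)) * X 2 +
              rename Fin.castSucc p₁ * F := by
          have h2 : (Fin.last 2 : Fin 3) = 2 := rfl
          rw [hF, h2]
          simp only [map_neg, map_mul]
          ring
        rw [this]
        exact Ideal.add_mem _ (Ideal.mul_mem_right _ _ hp)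
          (Ideal.mul_mem_left _ _ (Ideal.subset_span rfl))
      | cast j =>
        refine ⟨p₀ * X j, p₁ * X j, ?_⟩
        have : p * X j.castSucc -
            (rename Fin.castSucc (p₀ * X j) + rename Fin.castSucc (p₁ * X j) * X 2) =
            (p - (rename Fin.castSucc p₀ + rename Fin.castSucc p₁ * X 2)) * X j.castSucc := by
          simp only [map_mul, rename_X]; ring
        rw [this]
        exact Ideal.mul_mem_right _ _ hp
  apply le_antisymm
  · intro P hP
    rw [RingHom.mem_ker] at hP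
    obtain ⟨P₀, P₁, hmem⟩ := hred P
    have hφ0 := hle hmem
    rw [RingHom.mem_ker, map_sub, hP, map_add, map_mul, hren, hren, hX2, zero_sub,
      neg_eq_zero] at hφ0
    obtain ⟨h0, h1⟩ := hind P₀ P₁ hφ0
    rw [h0, h1] at hmem
    simpa using hmem
  · exact hle

/-- Every polynomial in `u, v` decomposes as `Q₀(u²,v²) + Q₁(u²,v²) u + Q₂(u²,v²) v + Q₃(u²,v²) uv`. -/
theorem exists_parity_decomp (p : MvPolynomial (Fin 2) R) :
    ∃ Q₀ Q₁ Q₂ Q₃ : MvPolynomial (Fin 2) R,
      p = expand 2 Q₀ + expand 2 Q₁ * X 0 + expand 2 Q₂ * X 1 + expand 2 Q₃ * (X 0 * X 1) := by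
  induction p using MvPolynomial.induction_on with
  | C a => exact ⟨C a, 0, 0, 0, by simp [expand_C]⟩
  | add p q hp hq =>
    obtain ⟨p₀, p₁, p₂, p₃, rfl⟩ := hp
    obtain ⟨q₀, q₁, q₂, q₃, rfl⟩ := hq
    refine ⟨p₀ + q₀, p₁ + q₁, p₂ + q₂, p₃ + q₃, ?_⟩
    simp only [map_add]; ring
  | mul_X p i hp =>
    obtain ⟨p₀, p₁, p₂, p₃, rfl⟩ := hp
    fin_cases i
    · refine ⟨p₁ * X 0, p₀, p₃ * X 0, p₂, ?_⟩
      simp only [map_mul, expand_X, Fin.zero_eta]; ring
    · refine ⟨p₂ * X 1, p₃ * X 1, p₀, p₁, ?_⟩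
      simp only [map_mul, expand_X, Fin.mk_one]; ring

/-- In characteristic 2 every derivation kills `Q(u², v²)`. -/
theorem derivation_expand_two_eq_zero [CharP R 2] {σ : Type*}
    (D : Derivation R (MvPolynomial σ R) (MvPolynomial σ R)) (Q : MvPolynomial σ R) :
    D (expand 2 Q) = 0 := by
  haveI : CharP (MvPolynomial σ R) 2 := charP_of_injective_ringHom (C_injective σ R) 2
  induction Q using MvPolynomial.induction_on with
  | C a => rw [expand_C, derivation_C]
  | add p q hp hq => rw [map_add, map_add, hp, hq, add_zero]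
  | mul_X p i hp =>
    rw [map_mul, expand_X, Derivation.leibniz, hp, smul_zero, add_zero, Derivation.leibniz_pow]
    rw [CharTwo.two_nsmul, smul_zero]

theorem aeval_sq_sq_rename (g Q : MvPolynomial (Fin 2) R) :
    aeval (R := R) (S₁ := MvPolynomial (Fin 2) R) ![X 0 ^ 2, X 1 ^ 2, g]
      (rename Fin.castSucc Q) = expand 2 Q := by
  rw [aeval_rename]
  have : (![X 0 ^ 2, X 1 ^ 2, g] ∘ Fin.castSucc : Fin 2 → MvPolynomial (Fin 2) R) =
      fun i => X i ^ 2 := by
    funext i; fin_cases i <;> rfl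
  rw [this]; rfl

end Groth.Agent.Lib.Helper3
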