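import Mathlib

/-!
# Finite products of modules/algebras over finite products of rings

For a finite family of rings `R i` and modules `M i` (algebras `S i`) over them, properties of
`Π i, M i` over `Π i, R i` from the corresponding properties of each `M i` over `R i`:
`finite_pi_pi`, `flat_pi_pi`, `faithfullyFlat_pi_pi`, `etale_pi_pi`.
Also `isBaseChange_pi`: a family of base changes `N → P i` along `Γ → B i` assembles into a base change
`N → Π i, P i` along `Γ → Π i, B i`.
-/

set_option autoImplicit false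
set_option linter.style.haveILetI false
set_option linter.unusedSectionVars false

namespace Groth.Agent.Lib.Helper3.PiOverPi

open TensorProduct

universe u v

section Basic

variable {ι : Type v} [Finite ι] (R : ι → Type u) [∀ i, CommRing (R i)]

/-- the ring of the `i`-th factor is the localisation of the product away from an idempotent -/
theorem isLocalization_away_eval [DecidableEq ι] (i : ι) :
    letI : Algebra (Π i, R i) (R i) := (Pi.evalRingHom R i).toAlgebra
    IsLocalization.Away (Pi.single i 1 : Π i, R i) (R i) := by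
  letI : Algebra (Π i, R i) (R i) := (Pi.evalRingHom R i).toAlgebra
  refine IsLocalization.away_of_isIdempotentElem ?_ (RingHom.ker_evalRingHom R i)
    (Function.surjective_eval i)
  change (Pi.single i 1 : Π i, R i) * Pi.single i 1 = Pi.single i 1
  rw [← Pi.single_mul, mul_one]

section Mod

variable (M : ι → Type u) [∀ i, AddCommGroup (M i)] [∀ i, Module (R i) (M i)]

theorem finite_pi_pi [∀ i, Module.Finite (R i) (M i)] :
    Module.Finite (Π i, R i) (Π i, M i) := by
  classical
  letI a1 : ∀ i, Algebra (Π i, R i) (R i) := fun i => (Pi.evalRingHom R i).toAlgebra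
  letI m1 : ∀ i, Module (Π i, R i) (M i) := fun i => Module.compHom (M i) (Pi.evalRingHom R i)
  haveI t1 : ∀ i, IsScalarTower (Π i, R i) (R i) (M i) := fun i =>
    IsScalarTower.of_algebraMap_smul fun _ _ => rfl
  haveI f1 : ∀ i, Module.Finite (Π i, R i) (R i) := fun i =>
    Module.Finite.of_surjective (Algebra.linearMap (Π i, R i) (R i)) (Function.surjective_eval i)
  haveI f2 : ∀ i, Module.Finite (Π i, R i) (M i) := fun i => Module.Finite.trans (R i) (M i)
  have h : @Module.Finite (Π i, R i) (Π i, M i) _ _ (Pi.module ι M (Π i, R i)) := inferInstance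
  have heq : (Pi.module ι M (Π i, R i)) = Pi.module' := Module.ext' _ _ (fun _ _ => rfl)
  rw [← heq]
  exact h

theorem flat_pi_pi [∀ i, Module.Flat (R i) (M i)] :
    Module.Flat (Π i, R i) (Π i, M i) := by
  classical
  cases nonempty_fintype ι
  letI a1 : ∀ i, Algebra (Π i, R i) (R i) := fun i => (Pi.evalRingHom R i).toAlgebra
  letI m1 : ∀ i, Module (Π i, R i) (M i) := fun i => Module.compHom (M i) (Pi.evalRingHom R i)
  haveI t1 : ∀ i, IsScalarTower (Π i, R i) (R i) (M i) := fun i =>
    IsScalarTower.of_algebraMap_smul fun _ _ => rfl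
  haveI f1 : ∀ i, Module.Flat (Π i, R i) (R i) := fun i =>
    haveI := isLocalization_away_eval R i
    IsLocalization.flat (R i) (Submonoid.powers (Pi.single i 1 : Π i, R i))
  haveI f2 : ∀ i, Module.Flat (Π i, R i) (M i) := fun i => Module.Flat.trans (Π i, R i) (R i) (M i)
  have h : @Module.Flat (Π i, R i) (Π i, M i) _ _ (Pi.module ι M (Π i, R i)) :=
    Module.Flat.of_linearEquiv (DFinsupp.linearEquivFunOnFintype (R := Π i, R i) (M := M)).symm
  have heq : (Pi.module ι M (Π i, R i)) = Pi.module' := Module.ext' _ _ (fun _ _ => rfl)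
  rw [← heq]
  exact h

end Mod

section Alg

variable (S : ι → Type u) [∀ i, CommRing (S i)] [∀ i, Algebra (R i) (S i)]

theorem etale_pi_pi [∀ i, Algebra.Etale (R i) (S i)] :
    Algebra.Etale (Π i, R i) (Π i, S i) := by
  classical
  letI a1 : ∀ i, Algebra (Π i, R i) (R i) := fun i => (Pi.evalRingHom R i).toAlgebra
  letI a2 : ∀ i, Algebra (Π i, R i) (S i) := fun i =>
    ((algebraMap (R i) (S i)).comp (Pi.evalRingHom R i)).toAlgebra
  haveI t1 : ∀ i, IsScalarTower (Π i, R i) (R i) (S i) := fun i =>
    IsScalarTower.of_algebraMap_eq fun _ => rfl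
  haveI e1 : ∀ i, Algebra.Etale (Π i, R i) (R i) := fun i =>
    haveI := isLocalization_away_eval R i
    Algebra.Etale.of_isLocalizationAway (Pi.single i 1 : Π i, R i)
  haveI e2 : ∀ i, Algebra.Etale (Π i, R i) (S i) := fun i =>
    Algebra.Etale.comp (Π i, R i) (R i) (S i)
  have h : @Algebra.Etale (Π i, R i) (Π i, S i) _ _ (Pi.algebra ι S) := inferInstance
  have heq : (Pi.algebra ι S : Algebra (Π i, R i) (Π i, S i)) = Pi.instAlgebraForall S R :=
    Algebra.algebra_ext _ _ (fun _ => rfl)
  rw [← heq]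
  exact h

theorem faithfullyFlat_pi_pi [∀ i, Module.FaithfullyFlat (R i) (S i)] :
    Module.FaithfullyFlat (Π i, R i) (Π i, S i) := by
  haveI : Module.Flat (Π i, R i) (Π i, S i) := flat_pi_pi R S
  refine Module.FaithfullyFlat.of_comap_surjective ?_
  intro p
  obtain ⟨⟨i, pi⟩, rfl⟩ := (PrimeSpectrum.sigmaToPi_bijective R).2 p
  obtain ⟨qi, rfl⟩ := PrimeSpectrum.comap_surjective_of_faithfullyFlat (A := R i) (B := S i) pi
  refine ⟨PrimeSpectrum.comap (Pi.evalRingHom S i) qi, ?_⟩
  rw [PrimeSpectrum.sigmaToPi_apply]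
  rfl

end Alg

end Basic

section BaseChange

variable {Γ : Type u} [CommRing Γ] {ι : Type v} [Finite ι] (B : ι → Type u) [∀ i, CommRing (B i)]
  [∀ i, Algebra Γ (B i)] {N : Type u} [AddCommGroup N] [Module Γ N]
  (P : ι → Type u) [∀ i, AddCommGroup (P i)] [∀ i, Module (B i) (P i)] [∀ i, Module Γ (P i)]
  [∀ i, IsScalarTower Γ (B i) (P i)]

/-- a family of base changes assembles into a base change along the product -/
theorem isBaseChange_pi (ε : ∀ i, N →ₗ[Γ] P i) (h : ∀ i, IsBaseChange (B i) (ε i)) :
    IsBaseChange (Π i, B i) (LinearMap.pi ε) := by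
  classical
  cases nonempty_fintype ι
  let Θ : (Π i, B i) ⊗[Γ] N →ₗ[Π i, B i] Π i, P i := (LinearMap.pi ε).liftBaseChange (Π i, B i)
  let e : (Π i, B i) ⊗[Γ] N ≃ₗ[Γ] Π i, P i :=
    (TensorProduct.piLeft Γ N B).trans
      (LinearEquiv.piCongrRight fun i => (h i).equiv.restrictScalars Γ)
  have hΘ : ∀ t, Θ t = e t := by
    intro t
    induction t using TensorProduct.induction_on with
    | zero => simp
    | add x y hx hy => rw [map_add, map_add, hx, hy]
    | tmul b n =>
        funext i
        simp [Θ, e, IsBaseChange.equiv_tmul]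
  have hbij : Function.Bijective Θ := by
    have : (Θ : _ → _) = e := funext hΘ
    rw [this]
    exact e.bijective
  refine IsBaseChange.of_equiv (LinearEquiv.ofBijective Θ hbij) fun n => ?_
  simp [Θ]

end BaseChange

section Descent

/-- faithful flatness descends along faithfully flat base change -/
theorem faithfullyFlat_of_tensorProduct {Γ : Type u} [CommRing Γ] (T : Type v) [CommRing T]
    [Algebra Γ T] [Module.FaithfullyFlat Γ T] (N : Type u) [AddCommGroup N] [Module Γ N]
    [Module.FaithfullyFlat T (T ⊗[Γ] N)] : Module.FaithfullyFlat Γ N := by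
  haveI : Module.Flat Γ N := Module.Flat.of_flat_tensorProduct Γ N T
  haveI : Module.FaithfullyFlat Γ (T ⊗[Γ] N) := Module.FaithfullyFlat.trans Γ T _
  rw [Module.FaithfullyFlat.iff_flat_and_lTensor_reflects_triviality]
  refine ⟨inferInstance, fun Q _ _ hQ => ?_⟩
  haveI : Subsingleton ((T ⊗[Γ] N) ⊗[Γ] Q) := (TensorProduct.assoc Γ T N Q).subsingleton
  exact Module.FaithfullyFlat.lTensor_reflects_triviality Γ (T ⊗[Γ] N) Q

variable {Γ : Type u} [CommRing Γ] {ι : Type v} [Finite ι] (B : ι → Type u) [∀ i, CommRing (B i)]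
  [∀ i, Algebra Γ (B i)] [hff : Module.FaithfullyFlat Γ (Π i, B i)]

section Mod

variable {N : Type u} [AddCommGroup N] [Module Γ N]
  (P : ι → Type u) [∀ i, AddCommGroup (P i)] [∀ i, Module (B i) (P i)] [∀ i, Module Γ (P i)]
  [∀ i, IsScalarTower Γ (B i) (P i)] (ε : ∀ i, N →ₗ[Γ] P i) (h : ∀ i, IsBaseChange (B i) (ε i))

include h hff

theorem flat_iff_of_isBaseChange : (∀ i, Module.Flat (B i) (P i)) ↔ Module.Flat Γ N := by
  constructor
  · intro hP
    haveI : Module.Flat (Π i, B i) (Π i, P i) := flat_pi_pi B P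
    haveI : Module.Flat (Π i, B i) ((Π i, B i) ⊗[Γ] N) :=
      Module.Flat.of_linearEquiv (isBaseChange_pi B P ε h).equiv
    exact Module.Flat.of_flat_tensorProduct Γ N (Π i, B i)
  · intro hN i
    exact Module.Flat.of_linearEquiv (h i).equiv.symm

theorem finite_iff_of_isBaseChange : (∀ i, Module.Finite (B i) (P i)) ↔ Module.Finite Γ N := by
  constructor
  · intro hP
    haveI : Module.Finite (Π i, B i) (Π i, P i) := finite_pi_pi B P
    haveI : Module.Finite (Π i, B i) ((Π i, B i) ⊗[Γ] N) :=
      Module.Finite.equiv (isBaseChange_pi B P ε h).equiv.symm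
    exact Module.Finite.of_finite_tensorProduct_of_faithfullyFlat (Π i, B i)
  · intro hN i
    exact Module.Finite.equiv (h i).equiv

end Mod

section Alg

variable {M : Type u} [CommRing M] [Algebra Γ M] (S : ι → Type u) [∀ i, CommRing (S i)]
  [∀ i, Algebra (B i) (S i)] [∀ i, Algebra Γ (S i)] [∀ i, IsScalarTower Γ (B i) (S i)]
  (ε : ∀ i, M →ₐ[Γ] S i) (h : ∀ i, IsBaseChange (B i) (ε i).toLinearMap)

include h hff

theorem faithfullyFlat_iff_of_isBaseChange :
    (∀ i, Module.FaithfullyFlat (B i) (S i)) ↔ Module.FaithfullyFlat Γ M := by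
  constructor
  · intro hP
    haveI : Module.FaithfullyFlat (Π i, B i) (Π i, S i) := faithfullyFlat_pi_pi B S
    haveI : Module.FaithfullyFlat (Π i, B i) ((Π i, B i) ⊗[Γ] M) :=
      Module.FaithfullyFlat.of_linearEquiv _ _
        (isBaseChange_pi B S (fun i => (ε i).toLinearMap) h).equiv
    exact faithfullyFlat_of_tensorProduct (Π i, B i) M
  · intro hN i
    exact Module.FaithfullyFlat.of_linearEquiv _ _ (h i).equiv.symm

theorem etale_iff_of_isBaseChange :
    (∀ i, Algebra.Etale (B i) (S i)) ↔ Algebra.Etale Γ M := by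
  constructor
  · intro hP
    letI a1 : Algebra M (Π i, S i) := (AlgHom.pi ε).toRingHom.toAlgebra
    haveI t1 : IsScalarTower Γ M (Π i, S i) :=
      IsScalarTower.of_algebraMap_eq fun x => ((AlgHom.pi ε).commutes x).symm
    haveI po : Algebra.IsPushout Γ (Π i, B i) M (Π i, S i) :=
      ⟨isBaseChange_pi B S (fun i => (ε i).toLinearMap) h⟩
    haveI : Algebra.Etale (Π i, B i) (Π i, S i) := etale_pi_pi B S
    haveI : Algebra.Etale (Π i, B i) ((Π i, B i) ⊗[Γ] M) :=
      Algebra.Etale.of_equiv (Algebra.IsPushout.equiv Γ (Π i, B i) M (Π i, S i)).symm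
    exact Algebra.Etale.of_etale_tensorProduct_of_faithfullyFlat (Π i, B i)
  · intro hN i
    letI a1 : Algebra M (S i) := (ε i).toRingHom.toAlgebra
    haveI t1 : IsScalarTower Γ M (S i) :=
      IsScalarTower.of_algebraMap_eq fun x => ((ε i).commutes x).symm
    haveI po : Algebra.IsPushout Γ (B i) M (S i) := ⟨h i⟩
    exact Algebra.Etale.of_equiv (Algebra.IsPushout.equiv Γ (B i) M (S i))

end Alg

end Descent

end Groth.Agent.Lib.Helper3.PiOverPi
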