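import Mathlib
/-!
# Bijective graded ring homomorphisms induce isomorphisms of `Proj`
-/
set_option autoImplicit false
universe u
open CategoryTheory AlgebraicGeometry
open scoped HomogeneousIdeal

namespace Groth.Agent.Lib.Helper3.PnBridge

variable {A B σ τ : Type u} [CommRing A] [CommRing B] [SetLike σ A] [AddSubgroupClass σ A]
  [SetLike τ B] [AddSubgroupClass τ B] {𝒜 : ℕ → σ} {ℬ : ℕ → τ} [GradedRing 𝒜] [GradedRing ℬ]

/-- an injective graded ring homomorphism reflects homogeneity -/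
theorem mem_of_map_mem (ψ : 𝒜 →+*ᵍ ℬ) (hinj : Function.Injective ψ) {a : A} {d : ℕ}
    (h : ψ a ∈ ℬ d) : a ∈ 𝒜 d := by
  classical
  have key : ∀ n, n ≠ d → ((DirectSum.decompose 𝒜 a n : 𝒜 n) : A) = 0 := by
    intro n hn
    apply hinj
    have h1 := GradedRingHom.map_directSumDecompose (𝒜 := 𝒜) (ℬ := ℬ) ψ (x := a) (i := n)
    rw [DirectSum.decompose_of_mem_ne _ h hn.symm] at h1
    rw [map_zero]
    exact h1
  have hsum : a = ((DirectSum.decompose 𝒜 a d : 𝒜 d) : A) := by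
    conv_lhs => rw [← DirectSum.sum_support_decompose 𝒜 a]
    rw [Finset.sum_eq_single d]
    · intro k _ hk; exact key k hk
    · intro hn
      rw [DFinsupp.notMem_support_iff] at hn
      rw [hn]; rfl
  rw [hsum]
  exact SetLike.coe_mem _

/-- the inverse of a bijective graded ring homomorphism -/
noncomputable def symmG (ψ : 𝒜 →+*ᵍ ℬ) (hb : Function.Bijective ψ) : ℬ →+*ᵍ 𝒜 where
  toRingHom := (RingEquiv.ofBijective ψ.toRingHom hb).symm.toRingHom
  map_mem {i x} hx := by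
    apply mem_of_map_mem ψ hb.1
    have : ψ ((RingEquiv.ofBijective ψ.toRingHom hb).symm x) = x :=
      (RingEquiv.ofBijective ψ.toRingHom hb).apply_symm_apply x
    change ψ ((RingEquiv.ofBijective ψ.toRingHom hb).symm x) ∈ ℬ i
    rw [this]; exact hx

theorem symmG_apply_apply (ψ : 𝒜 →+*ᵍ ℬ) (hb : Function.Bijective ψ) (a : A) : symmG ψ hb (ψ a) = a :=
  (RingEquiv.ofBijective ψ.toRingHom hb).symm_apply_apply a

theorem apply_symmG_apply (ψ : 𝒜 →+*ᵍ ℬ) (hb : Function.Bijective ψ) (b : B) : ψ (symmG ψ hb b) = b :=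
  (RingEquiv.ofBijective ψ.toRingHom hb).apply_symm_apply b

theorem irrelevant_le_map_of_surjective (ψ : 𝒜 →+*ᵍ ℬ) (hs : Function.Surjective ψ) :
    ℬ₊ ≤ (𝒜₊).map ψ := by
  classical
  rw [HomogeneousIdeal.irrelevant_le]
  intro i hi b hb
  obtain ⟨a, rfl⟩ := hs b
  have hb' : ψ a ∈ ℬ i := hb
  have h1 := GradedRingHom.map_directSumDecompose (𝒜 := 𝒜) (ℬ := ℬ) ψ (x := a) (i := i)
  rw [DirectSum.decompose_of_mem_same _ hb'] at h1
  change ψ a ∈ Ideal.map ψ (𝒜₊).toIdeal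
  rw [← h1]
  exact Ideal.mem_map_of_mem _ (HomogeneousIdeal.mem_irrelevant_of_mem _ hi (SetLike.coe_mem _))

theorem map_congr {f g : 𝒜 →+*ᵍ ℬ} (h : f = g) (hf : ℬ₊ ≤ (𝒜₊).map f) :
    Proj.map f hf = Proj.map g (h ▸ hf) := by
  subst h; rfl

/-- a bijective graded ring homomorphism induces an isomorphism of `Proj` -/
theorem isIso_map_of_bijective (ψ : 𝒜 →+*ᵍ ℬ) (hb : Function.Bijective ψ) (hirr : ℬ₊ ≤ (𝒜₊).map ψ) :
    IsIso (Proj.map ψ hirr) := by
  have hirr' : 𝒜₊ ≤ (ℬ₊).map (symmG ψ hb) :=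
    irrelevant_le_map_of_surjective (symmG ψ hb) (fun a => ⟨ψ a, symmG_apply_apply ψ hb a⟩)
  have e1 : (symmG ψ hb).comp ψ = GradedRingHom.id 𝒜 :=
    GradedRingHom.ext fun a => symmG_apply_apply ψ hb a
  have e2 : ψ.comp (symmG ψ hb) = GradedRingHom.id ℬ :=
    GradedRingHom.ext fun b => apply_symmG_apply ψ hb b
  refine ⟨Proj.map (symmG ψ hb) hirr', ?_, ?_⟩
  · rw [← Proj.map_comp, map_congr e2, Proj.map_id]
  · rw [← Proj.map_comp, map_congr e1, Proj.map_id]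

end Groth.Agent.Lib.Helper3.PnBridge
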