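import Groth.Agent.Lib.Helper3.PnBridge1
import Groth.Agent.Lib.Helper3.GrSymAlg
import Groth.Prelude.Def_CohB1
/-!
# The graded symmetric algebra of a free module over an affine base: global sections are the polynomial ring
-/
set_option autoImplicit false
set_option linter.unusedSectionVars false
universe u
open CategoryTheory CategoryTheory.Limits AlgebraicGeometry Opposite TopologicalSpace
open scoped HomogeneousIdeal
open Groth.Agent.Lib.Helper29.QCoh

namespace Groth.Agent.Lib.Helper3.PnBridge
open RelProj RelSpec Groth.Agent.Lib.Helper3 Groth.Agent.Lib.Helper3.SymAlg Groth.Agent.Lib.Helper3.SymGr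
  Groth.Agent.Lib.Helper3.SymQC

section Alg
variable {R : Type u} [CommRing R] {κ : Type*} {M : Type u} [AddCommGroup M] [Module R M]

/-- `equivMvPolynomial` maps degree `k` into homogeneous polynomials of degree `k` -/
theorem equivMvPolynomial_mem (b : Module.Basis κ R M) {k : ℕ} {x : SymmetricAlgebra R M}
    (hx : x ∈ symDeg R M k) :
    SymmetricAlgebra.equivMvPolynomial b x ∈ MvPolynomial.homogeneousSubmodule κ R k := by
  unfold symDeg at hx
  induction hx using Submodule.pow_induction_on_left' with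
  | algebraMap r =>
    rw [AlgEquiv.commutes]
    exact MvPolynomial.isHomogeneous_C κ r
  | add x y i hx hy ihx ihy =>
    rw [map_add]; exact Submodule.add_mem _ ihx ihy
  | mem_mul m hm i x hx ih =>
    obtain ⟨m, rfl⟩ := hm
    rw [map_mul]
    have h1 : SymmetricAlgebra.equivMvPolynomial b (SymmetricAlgebra.ι R M m) ∈
        MvPolynomial.homogeneousSubmodule κ R 1 := by
      classical
      rw [← b.linearCombination_repr m, Finsupp.linearCombination_apply, Finsupp.sum, map_sum, map_sum]
      refine Submodule.sum_mem _ fun i _ => ?_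
      rw [map_smul, map_smul, SymmetricAlgebra.equivMvPolynomial_ι_apply]
      exact Submodule.smul_mem _ _ (MvPolynomial.isHomogeneous_X R i)
    have := MvPolynomial.IsHomogeneous.mul h1 ih
    rwa [add_comm] at this

end Alg

section Sch
variable (n : ℕ) (R : CommRingCat.{u})

/-- the free module of rank `n + 1` on `Spec R` -/
noncomputable def E₀ : (Spec R).Modules :=
  tilde (ModuleCat.of R (Fin (n + 1) →₀ R))

instance : (E₀ n R).IsQuasicoherent := by unfold E₀; infer_instance

/-- global sections of the free module -/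
noncomputable def f₀ : Γ(E₀ n R, ⊤) ≃ₗ[R] (Fin (n + 1) →₀ R) :=
  (tilde.isoTop (ModuleCat.of R (Fin (n + 1) →₀ R))).toLinearEquiv.symm

/-- global functions on `Spec R` -/
noncomputable def ρ₀ : Γ(Spec R, ⊤) →+* R := (Scheme.ΓSpecIso R).hom.hom

theorem ρ₀_bijective : Function.Bijective (ρ₀ R) :=
  (ConcreteCategory.isIso_iff_bijective (Scheme.ΓSpecIso R).hom).mp inferInstance

theorem smul_eq (a : Γ(Spec R, ⊤)) (m : Γ(E₀ n R, ⊤)) : a • m = (ρ₀ R a) • m := by
  rw [Scheme.Modules.smul_Spec_def]
  congr 1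
  have h1 : (Scheme.ΓSpecIso R).inv ((Scheme.ΓSpecIso R).hom.hom a) = a := by
    exact congrArg (fun k => k.hom a) (Scheme.ΓSpecIso R).hom_inv_id
  change _ = (Spec R).presheaf.map _ ((Scheme.ΓSpecIso R).inv ((Scheme.ΓSpecIso R).hom.hom a))
  rw [h1]
  have : ((⊤ : (Spec R).Opens).leTop).op = 𝟙 _ := rfl
  rw [this, (Spec R).presheaf.map_id]
  rfl

theorem f₀_smul (a : Γ(Spec R, ⊤)) (m : Γ(E₀ n R, ⊤)) :
    (f₀ n R).toAddMonoidHom (a • m) = ρ₀ R a • (f₀ n R).toAddMonoidHom m := by
  rw [smul_eq]
  exact (f₀ n R).map_smul _ _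

/-- the comparison of symmetric algebras -/
noncomputable def sMap : SymmetricAlgebra Γ(Spec R, ⊤) Γ(E₀ n R, ⊤) →+* SymmetricAlgebra R (Fin (n + 1) →₀ R) :=
  symMap (ρ₀ R) (f₀ n R).toAddMonoidHom (f₀_smul n R)

theorem sMap_bijective : Function.Bijective (sMap n R) := by
  let ρi : R →+* Γ(Spec R, ⊤) := (RingEquiv.ofBijective (ρ₀ R) (ρ₀_bijective R)).symm.toRingHom
  have hρ1 : ∀ a, ρi (ρ₀ R a) = a := (RingEquiv.ofBijective (ρ₀ R) (ρ₀_bijective R)).symm_apply_apply
  have hρ2 : ∀ r, ρ₀ R (ρi r) = r := (RingEquiv.ofBijective (ρ₀ R) (ρ₀_bijective R)).apply_symm_apply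
  have hfi : ∀ (r : R) (v : Fin (n + 1) →₀ R),
      (f₀ n R).symm.toAddMonoidHom (r • v) = ρi r • (f₀ n R).symm.toAddMonoidHom v := by
    intro r v
    rw [smul_eq, hρ2]
    exact (f₀ n R).symm.map_smul _ _
  let t := symMap ρi (f₀ n R).symm.toAddMonoidHom hfi
  have h1 : t.comp (sMap n R) = RingHom.id _ :=
    ringHom_ext
      (fun a => by
        rw [RingHom.comp_apply, sMap, symMap_algebraMap, symMap_algebraMap, hρ1]; rfl)
      (fun m => by
        rw [RingHom.comp_apply, sMap, symMap_ι, symMap_ι]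
        exact congrArg _ ((f₀ n R).symm_apply_apply m))
  have h2 : (sMap n R).comp t = RingHom.id _ :=
    ringHom_ext
      (fun a => by
        rw [RingHom.comp_apply, sMap, symMap_algebraMap, symMap_algebraMap, hρ2]; rfl)
      (fun m => by
        rw [RingHom.comp_apply, sMap, symMap_ι, symMap_ι]
        exact congrArg _ ((f₀ n R).apply_symm_apply m))
  exact ⟨fun a b hab => by
      have := congrArg t hab
      rwa [← RingHom.comp_apply, ← RingHom.comp_apply, h1] at this,
    fun b => ⟨t b, by rw [← RingHom.comp_apply, h2]; rfl⟩⟩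

/-- the ring homomorphism from the global sections of `Sym(O^{n+1})` to the polynomial ring -/
noncomputable def eRing : (symAlg (E₀ n R)).presheaf.obj (op ⊤) →+* MvPolynomial (Fin (n + 1)) R :=
  ((SymmetricAlgebra.equivMvPolynomial (Finsupp.basisSingleOne (R := R) (ι := Fin (n + 1)))).toRingEquiv.toRingHom).comp
    ((sMap n R).comp (γh (E₀ n R) ⊤ (isAffineOpen_top _)))

theorem eRing_bijective : Function.Bijective (eRing n R) := by
  unfold eRing
  refine (SymmetricAlgebra.equivMvPolynomial _).bijective.comp ((sMap_bijective n R).comp ?_)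
  exact (γe (E₀ n R) ⊤ (isAffineOpen_top _)).symm.bijective

/-- the graded ring homomorphism from the global sections of `Sym(O^{n+1})` to the polynomial ring -/
noncomputable def eGr :
    ((grSymAlg (E₀ n R)).deg ⊤ (isAffineOpen_top _)) →+*ᵍ (CohB1.polyGrading n R) where
  toRingHom := eRing n R
  map_mem {k x} hx := by
    have h1 : γh (E₀ n R) ⊤ (isAffineOpen_top _) x ∈ symDeg _ _ k :=
      (mem_sdeg_iff (E₀ n R) ⊤ (isAffineOpen_top _) k x).mp hx
    have h2 := symMap_mem (ρ₀ R) (f₀ n R).toAddMonoidHom (f₀_smul n R) h1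
    exact equivMvPolynomial_mem (Finsupp.basisSingleOne (R := R) (ι := Fin (n + 1))) h2

theorem eGr_bijective : Function.Bijective (eGr n R) := eRing_bijective n R

end Sch

end Groth.Agent.Lib.Helper3.PnBridge
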