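import Groth.Agent.Lib.Helper3.TwistBC
import Groth.Agent.Lib.Helper3.ProjAux2
/-!
# Twisting sheaves and graded homomorphisms bijective in large degrees
-/
set_option autoImplicit false
set_option linter.unusedSectionVars false
universe u
open CategoryTheory CategoryTheory.Limits AlgebraicGeometry Opposite TopologicalSpace
open HomogeneousLocalization TensorProduct DirectSum
open scoped HomogeneousIdeal
open Groth.Agent.Lib.Helper29
open Groth.Agent.Lib.Helper3.TildeQC Groth.Agent.Lib.Helper3.TwistTriv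

namespace Groth.Agent.Lib.Helper3.TwistEv

section Alg
variable {S S' M N : Type u} [CommRing S] [CommRing S'] [Algebra S S'] [AddCommGroup M] [Module S M]
  [AddCommGroup N] [Module S' N] [Module S N] [IsScalarTower S S' N]

theorem bijective_liftBaseChange_of_bijective (v : M →ₗ[S] N)
    (hS : Function.Surjective (algebraMap S S')) (hv : Function.Bijective v) :
    Function.Bijective (v.liftBaseChange S') := by
  have hsurj : ∀ t : S' ⊗[S] M, ∃ m : M, t = (1 : S') ⊗ₜ[S] m := by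
    intro t
    induction t using TensorProduct.induction_on with
    | zero => exact ⟨0, by simp⟩
    | tmul s' m =>
      obtain ⟨s, rfl⟩ := hS s'
      refine ⟨s • m, ?_⟩
      rw [← TensorProduct.smul_tmul, Algebra.smul_def, mul_one]
    | add x y hx hy =>
      obtain ⟨m₁, rfl⟩ := hx
      obtain ⟨m₂, rfl⟩ := hy
      exact ⟨m₁ + m₂, by rw [TensorProduct.tmul_add]⟩
  constructor
  · rw [injective_iff_map_eq_zero]
    intro t ht
    obtain ⟨m, rfl⟩ := hsurj t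
    rw [LinearMap.liftBaseChange_tmul, one_smul] at ht
    have : m = 0 := hv.1 (by rw [ht, map_zero])
    rw [this, TensorProduct.tmul_zero]
  · intro y
    obtain ⟨m, rfl⟩ := hv.2 y
    exact ⟨(1 : S') ⊗ₜ[S] m, by rw [LinearMap.liftBaseChange_tmul, one_smul]⟩

end Alg

section Away
variable {A B σ τ : Type u} [CommRing A] [SetLike σ A] [AddSubgroupClass σ A]
  [CommRing B] [SetLike τ B] [AddSubgroupClass τ B]
  (𝒜 : ℕ → σ) (ℬ : ℕ → τ) [GradedRing 𝒜] [GradedRing ℬ]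

/-- `x / s ^ n = x s ^ m / s ^ (n + m)`. -/
theorem mk_shift {i : ℕ} {s : B} (hs : s ∈ ℬ i) (n m : ℕ) (x : B) (hx : x ∈ ℬ (n • i)) :
    Away.mk ℬ hs n x hx = Away.mk ℬ hs (n + m) (x * s ^ m)
      (by rw [add_smul]; exact SetLike.mul_mem_graded hx (SetLike.pow_mem_graded m hs)) := by
  apply HomogeneousLocalization.val_injective
  simp only [Away.val_mk]
  rw [Localization.mk_eq_mk_iff, Localization.r_iff_exists]
  refine ⟨1, ?_⟩
  simp only [OneMemClass.coe_one, one_mul]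
  ring

theorem away_map_bijective_of_eventually (φ : 𝒜 →+*ᵍ ℬ) (d₀ : ℕ)
    (hbij : ∀ n : ℕ, d₀ ≤ n → Set.BijOn φ (𝒜 n) (ℬ n))
    {i : ℕ} (hi : 0 < i) (s : A) (hs : s ∈ 𝒜 i) :
    Function.Bijective (Away.map φ s : Away 𝒜 s →+* Away ℬ (φ s)) := by
  have hφs : φ s ∈ ℬ i := φ.map_mem hs
  constructor
  · rw [injective_iff_map_eq_zero]
    intro x hx
    obtain ⟨n, b, hb, rfl⟩ := Away.mk_surjective 𝒜 hs x
    rw [Away.map_mk] at hx
    have hval := congrArg HomogeneousLocalization.val hx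
    rw [Away.val_mk, HomogeneousLocalization.val_zero, Localization.mk_eq_mk',
      IsLocalization.mk'_eq_zero_iff] at hval
    obtain ⟨⟨_, k, rfl⟩, hk⟩ := hval
    have hdeg : d₀ ≤ (k + d₀) • i + n • i := by
      have : d₀ ≤ (k + d₀) * i := by nlinarith
      simp only [smul_eq_mul]; omega
    have hmem : s ^ (k + d₀) * b ∈ 𝒜 ((k + d₀) • i + n • i) :=
      SetLike.mul_mem_graded (SetLike.pow_mem_graded _ hs) hb
    have hzero : φ (s ^ (k + d₀) * b) = φ 0 := by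
      rw [map_mul, map_pow, map_zero, pow_add, mul_right_comm, hk, zero_mul]
    have h0 : s ^ (k + d₀) * b = 0 := (hbij _ hdeg).injOn hmem (zero_mem _) hzero
    apply HomogeneousLocalization.val_injective
    rw [Away.val_mk, HomogeneousLocalization.val_zero, Localization.mk_eq_mk',
      IsLocalization.mk'_eq_zero_iff]
    exact ⟨⟨s ^ (k + d₀), k + d₀, rfl⟩, h0⟩
  · intro y
    obtain ⟨n, a, ha, rfl⟩ := Away.mk_surjective ℬ hφs y
    rw [mk_shift ℬ hφs n d₀ a ha]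
    have hdeg : d₀ ≤ (n + d₀) • i := by
      have : d₀ ≤ (n + d₀) * i := by nlinarith
      simpa only [smul_eq_mul] using this
    have hmem : a * φ s ^ d₀ ∈ ℬ ((n + d₀) • i) := by
      rw [add_smul]; exact SetLike.mul_mem_graded ha (SetLike.pow_mem_graded _ hφs)
    obtain ⟨b, hb, hbe⟩ := (hbij _ hdeg).surjOn hmem
    refine ⟨Away.mk 𝒜 hs (n + d₀) b hb, ?_⟩
    rw [Away.map_mk]
    congr 1

end Away

end Groth.Agent.Lib.Helper3.TwistEv

open CategoryTheory CategoryTheory.Limits AlgebraicGeometry Opposite TopologicalSpace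
open HomogeneousLocalization TensorProduct DirectSum
open scoped HomogeneousIdeal
open Groth.Agent.Lib.Helper29
open Groth.Agent.Lib.Helper3.TildeQC Groth.Agent.Lib.Helper3.TwistTriv Groth.Agent.Lib.Helper3.TwistBC

namespace Groth.Agent.Lib.Helper3.TwistEv

section Main
variable {A B σ τ : Type u} [CommRing A] [SetLike σ A] [AddSubgroupClass σ A]
  [CommRing B] [SetLike τ B] [AddSubgroupClass τ B]
  (𝒜 : ℕ → σ) (ℬ : ℕ → τ) [GradedRing 𝒜] [GradedRing ℬ]
  (ψ : 𝒜 →+*ᵍ ℬ) (hψ : ℬ₊ ≤ (𝒜₊).map ψ) (d₀ : ℕ)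
  (hbij : ∀ n : ℕ, d₀ ≤ n → Set.BijOn ψ (𝒜 n) (ℬ n))
  {d : ℕ} (hd : 0 < d) {f : A} (hf : f ∈ 𝒜 d) (n : ℤ)

theorem Lsec_zero (k : ℕ) : Lsec 𝒜 hd hf n k 0 = 0 := by
  have h := Lsec_add 𝒜 hd hf n k 0 0
  rw [add_zero] at h
  exact left_eq_add.mp h

include hbij hd hf in
theorem appLE_bijective :
    Function.Bijective ((Proj.map ψ hψ).appLE (Proj.basicOpen 𝒜 f) (Proj.basicOpen ℬ (ψ f)) le_rfl).hom := by
  have key := Proj.awayToSection_comp_appLE ψ hψ hf
  have h1 : Function.Bijective (Proj.awayToSection 𝒜 f).hom :=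
    ConcreteCategory.bijective_of_isIso (Proj.basicOpenIsoAway 𝒜 f hf hd).hom
  have h2 : Function.Bijective (Proj.awayToSection ℬ (ψ f)).hom :=
    ConcreteCategory.bijective_of_isIso (Proj.basicOpenIsoAway ℬ (ψ f) (ψ.map_mem hf) hd).hom
  have h3 := away_map_bijective_of_eventually 𝒜 ℬ ψ d₀ hbij hd f hf
  have h4 : ⇑((Proj.map ψ hψ).appLE (Proj.basicOpen 𝒜 f) (Proj.basicOpen ℬ (ψ f)) le_rfl).hom ∘
      ⇑(Proj.awayToSection 𝒜 f).hom = ⇑(Proj.awayToSection ℬ (ψ f)).hom ∘ ⇑(Away.map ψ f) := by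
    funext x
    exact congr($key x)
  exact (Function.Bijective.of_comp_iff _ h1).mp (h4 ▸ h2.comp h3)

include hbij hd hf in
theorem secFun_bijective :
    Function.Bijective (secFun (U := Proj.basicOpen ℬ (ψ f)) (V := Proj.basicOpen 𝒜 f)
      (Proj.map ψ hψ) (GrTwist.comap ψ hψ n) le_rfl) := by
  have hψf : ψ f ∈ ℬ d := ψ.map_mem hf
  constructor
  · rw [injective_iff_map_eq_zero]
    intro x hx
    obtain ⟨k, a, ha, rfl⟩ := exists_eq_Lsec 𝒜 hd hf n x
    rw [secFun_Lsec] at hx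
    obtain ⟨m, hm⟩ := exists_mul_pow_eq_zero ℬ hd hψf n k (ψ a) (ψ.map_mem ha) hx
    have hmem : a * f ^ (m + d₀) ∈ 𝒜 (n0 n d + k * d + (m + d₀) • d) :=
      SetLike.mul_mem_graded ha (SetLike.pow_mem_graded _ hf)
    have hdeg : d₀ ≤ n0 n d + k * d + (m + d₀) • d := by
      have : d₀ ≤ (m + d₀) * d := by nlinarith
      simp only [smul_eq_mul]; omega
    have h0 : a * f ^ (m + d₀) = 0 := by
      refine (hbij _ hdeg).injOn hmem (zero_mem _) ?_
      rw [map_mul, map_pow, pow_add, ← mul_assoc, hm, zero_mul, map_zero]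
    rw [← Lsec_mul_pow 𝒜 hd hf n k (m + d₀) a, h0]
    exact Lsec_zero 𝒜 hd hf n _
  · intro y
    obtain ⟨k, b, hb, rfl⟩ := exists_eq_Lsec ℬ hd hψf n y
    rw [← Lsec_mul_pow ℬ hd hψf n k d₀ b]
    have hmem : b * ψ f ^ d₀ ∈ ℬ (n0 n d + (k + d₀) * d) := by
      have h1 : b * ψ f ^ d₀ ∈ ℬ (n0 n d + k * d + d₀ • d) :=
        SetLike.mul_mem_graded hb (SetLike.pow_mem_graded _ hψf)
      have h2 : n0 n d + k * d + d₀ • d = n0 n d + (k + d₀) * d := by
        simp only [smul_eq_mul]; ring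
      exact h2 ▸ h1
    have hdeg : d₀ ≤ n0 n d + (k + d₀) * d := by
      have : d₀ ≤ (k + d₀) * d := by nlinarith
      omega
    obtain ⟨a, ha, hae⟩ := (hbij _ hdeg).surjOn hmem
    refine ⟨Lsec 𝒜 hd hf n (k + d₀) a, ?_⟩
    rw [secFun_Lsec, hae]

end Main

section Final
variable {A B σ τ : Type u} [CommRing A] [SetLike σ A] [AddSubgroupClass σ A]
  [CommRing B] [SetLike τ B] [AddSubgroupClass τ B]
  (𝒜 : ℕ → σ) (ℬ : ℕ → τ) [GradedRing 𝒜] [GradedRing ℬ]
  (ψ : 𝒜 →+*ᵍ ℬ) (hψ : ℬ₊ ≤ (𝒜₊).map ψ) (d₀ : ℕ)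
  (hbij : ∀ n : ℕ, d₀ ≤ n → Set.BijOn ψ (𝒜 n) (ℬ n)) (n : ℤ)

include hbij in
/-- For a graded homomorphism bijective in large degrees, the comparison map of twisting sheaves
is an isomorphism. -/
theorem isIso_adjunct_comap_of_eventually :
    IsIso (((Scheme.Modules.pullbackPushforwardAdjunction (Proj.map ψ hψ)).homEquiv
      (GrTwist.twist 𝒜 n) (GrTwist.twist ℬ n)).symm (GrTwist.comap ψ hψ n)) := by
  haveI := TwistQC.twist_isQuasicoherent 𝒜 n
  haveI := TwistQC.twist_isQuasicoherent ℬ n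
  refine isIso_adjunct_of_bijective (Proj.map ψ hψ) (GrTwist.comap ψ hψ n)
    (ι := {p : Σ m : ℕ, 𝒜 m // 0 < p.1})
    (fun p => Proj.basicOpen ℬ (ψ p.1.2.1)) (fun p => Proj.basicOpen 𝒜 p.1.2.1)
    (fun p => Proj.isAffineOpen_basicOpen ℬ _ (ψ.map_mem p.1.2.2) p.2)
    (fun p => Proj.isAffineOpen_basicOpen 𝒜 _ p.1.2.2 p.2)
    (fun p => le_rfl) ?_ ?_
  · intro y
    obtain ⟨m, hm, f, hf⟩ := exists_pos_mem_basicOpen 𝒜 ((Proj.map ψ hψ) y)
    exact ⟨⟨⟨m, f⟩, hm⟩, hf⟩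
  · intro p
    letI := ((Proj.map ψ hψ).appLE (Proj.basicOpen 𝒜 p.1.2.1) (Proj.basicOpen ℬ (ψ p.1.2.1)) le_rfl).hom.toAlgebra
    letI := Module.compHom Γ(GrTwist.twist ℬ n, Proj.basicOpen ℬ (ψ p.1.2.1))
      ((Proj.map ψ hψ).appLE (Proj.basicOpen 𝒜 p.1.2.1) (Proj.basicOpen ℬ (ψ p.1.2.1)) le_rfl).hom
    letI := isScalarTower_compHom (U := Proj.basicOpen ℬ (ψ p.1.2.1)) (V := Proj.basicOpen 𝒜 p.1.2.1)
      (Proj.map ψ hψ) (N := GrTwist.twist ℬ n) le_rfl
    exact bijective_liftBaseChange_of_bijective _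
      (appLE_bijective 𝒜 ℬ ψ hψ d₀ hbij p.2 p.1.2.2).2
      (secFun_bijective 𝒜 ℬ ψ hψ d₀ hbij p.2 p.1.2.2 n)

end Final

end Groth.Agent.Lib.Helper3.TwistEv
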