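import Groth.Agent.Lib.Helper3.PnBridge2
import Groth.Agent.Lib.Helper3.TwistEv
import Groth.Agent.Lib.Helper3.RelTwist
import Groth.Agent.Lib.Helper3.RelProjExist
/-!
# Relative Proj over an affine base; projective space over a ring as a projective bundle
-/
set_option autoImplicit false
set_option linter.unusedSectionVars false
universe u
open CategoryTheory CategoryTheory.Limits AlgebraicGeometry Opposite TopologicalSpace
open scoped HomogeneousIdeal
open Groth.Agent.Lib.Helper29.QCoh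

namespace Groth.Agent.Lib.Helper3.PnBridge
open RelProj RelSpec Groth.Agent.Lib.Helper3 Groth.Agent.Lib.Helper3.SymAlg Groth.Agent.Lib.Helper3.SymGr
  Groth.Agent.Lib.Helper3.SymQC

section AffBase
variable {Y P : Scheme.{u}} {𝒮 : QCGrAlg Y} (p : P ⟶ Y)
  (chart : ∀ (U : Y.Opens) (hU : IsAffineOpen U), (((p ⁻¹ᵁ U : P.Opens) : Scheme.{u}) ≅ Proj (𝒮.deg U hU)))
  {O1 : P.Modules} (k : ℤ)
  {lam : ∀ (U : Y.Opens) (hU : IsAffineOpen U),
      O1 ⟶ (Scheme.Modules.pushforward (emb p chart U hU)).obj (GrTwist.twist (𝒮.deg U hU) k)}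
  (hO1 : IsRelTwist 𝒮 p chart k O1 lam) (htop : IsAffineOpen (⊤ : Y.Opens))

theorem isIso_emb_top : IsIso (emb p chart ⊤ htop) := by
  unfold emb
  haveI : IsIso (p ⁻¹ᵁ (⊤ : Y.Opens)).ι := by
    change IsIso (⊤ : P.Opens).ι
    exact P.topIso.isIso_hom
  infer_instance

include hO1 in
theorem isIso_lam_top : IsIso (lam ⊤ htop) :=
  ModGlue.isIso_of_bijective_on_basis (lam ⊤ htop) (fun _ => True) (fun _ _ _ _ => trivial)
    (fun _ => ⟨⊤, trivial, trivial⟩) (fun W _ => hO1.bijective ⊤ htop W le_top)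

include hO1 in
theorem nonempty_iso_pullback_emb_top :
    Nonempty ((Scheme.Modules.pullback (emb p chart ⊤ htop)).obj O1 ≅ GrTwist.twist (𝒮.deg ⊤ htop) k) := by
  haveI := isIso_lam_top p chart k hO1 htop
  haveI : IsIso (Scheme.Modules.pullbackPushforwardAdjunction (emb p chart ⊤ htop)).counit :=
    (Scheme.Modules.pullbackPushforwardAdjunction (emb p chart ⊤ htop)).counit_isIso_of_R_fully_faithful
  exact ⟨(Scheme.Modules.pullback (emb p chart ⊤ htop)).mapIso (asIso (lam ⊤ htop)) ≪≫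
    asIso ((Scheme.Modules.pullbackPushforwardAdjunction (emb p chart ⊤ htop)).counit.app
      (GrTwist.twist (𝒮.deg ⊤ htop) k))⟩

end AffBase

section ProjSpace
variable (n : ℕ) (R : CommRingCat.{u})

theorem bijOn_of_bijective {A B σ τ : Type u} [CommRing A] [CommRing B] [SetLike σ A] [AddSubgroupClass σ A]
    [SetLike τ B] [AddSubgroupClass τ B] {𝒜 : ℕ → σ} {ℬ : ℕ → τ} [GradedRing 𝒜] [GradedRing ℬ]
    (ψ : 𝒜 →+*ᵍ ℬ) (hb : Function.Bijective ψ) (k : ℕ) : Set.BijOn ψ (𝒜 k) (ℬ k) := by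
  refine ⟨fun a ha => ψ.map_mem ha, fun a _ b _ hab => hb.1 hab, fun b hb' => ?_⟩
  obtain ⟨a, rfl⟩ := hb.2 b
  exact ⟨a, mem_of_map_mem ψ hb.1 hb', rfl⟩

/-- **projective space over a ring is the projective bundle of the free module, compatibly with `O(1)`** -/
theorem exists_iso_projSpace :
    ∃ φ : Proj (CohB1.polyGrading n R) ⟶ RelProjExist.relProj (grSymAlg (E₀ n R)), IsIso φ ∧
      Nonempty ((Scheme.Modules.pullback φ).obj
        (RelTwist.relTwist _ _ (RelProjExist.isRelProj (grSymAlg (E₀ n R))) 1) ≅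
          GrTwist.twist (CohB1.polyGrading n R) 1) := by
  have htop : IsAffineOpen (⊤ : (Spec R).Opens) := isAffineOpen_top _
  have hP₀ := RelProjExist.isRelProj (grSymAlg (E₀ n R))
  have hO1 := RelTwist.isRelTwist _ _ hP₀ 1
  have hirr : (CohB1.polyGrading n R)₊ ≤ (((grSymAlg (E₀ n R)).deg ⊤ (isAffineOpen_top _))₊).map (eGr n R) :=
    irrelevant_le_map_of_surjective (eGr n R) (eGr_bijective n R).2
  haveI h1 : IsIso (Proj.map (eGr n R) hirr) := isIso_map_of_bijective (eGr n R) (eGr_bijective n R) hirr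
  haveI h2 := isIso_emb_top (RelProjExist.relProjπ (grSymAlg (E₀ n R))) (RelProjExist.chart (grSymAlg (E₀ n R))) htop
  obtain ⟨e1⟩ := nonempty_iso_pullback_emb_top _ _ 1 hO1 htop
  haveI h3 := TwistEv.isIso_adjunct_comap_of_eventually _ _ (eGr n R) hirr 0
    (fun k _ => bijOn_of_bijective (eGr n R) (eGr_bijective n R) k) 1
  refine ⟨Proj.map (eGr n R) hirr ≫ emb (RelProjExist.relProjπ (grSymAlg (E₀ n R)))
    (RelProjExist.chart (grSymAlg (E₀ n R))) ⊤ htop, inferInstance, ⟨?_⟩⟩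
  exact ((Scheme.Modules.pullbackComp _ _).app _).symm ≪≫
    (Scheme.Modules.pullback (Proj.map (eGr n R) hirr)).mapIso e1 ≪≫
    asIso (((Scheme.Modules.pullbackPushforwardAdjunction (Proj.map (eGr n R) hirr)).homEquiv
      (GrTwist.twist ((grSymAlg (E₀ n R)).deg ⊤ (isAffineOpen_top _)) 1)
      (GrTwist.twist (CohB1.polyGrading n R) 1)).symm (GrTwist.comap (eGr n R) hirr 1))

end ProjSpace

end Groth.Agent.Lib.Helper3.PnBridge
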