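import Groth.Agent.Lib.Helper3.RelTwistQIso
import Groth.Agent.Lib.Helper3.ProjBundleBC
import Groth.Agent.Lib.Helper3.RelTwistAmpleP
import Groth.Agent.Lib.Helper3.GrSymAlg
import Groth.Agent.Lib.Helper3.RelProjExist
/-!
# Relative very ampleness: base change and cancellation
-/
set_option autoImplicit false
set_option linter.unusedSectionVars false
universe u
open CategoryTheory CategoryTheory.Limits AlgebraicGeometry Opposite TopologicalSpace
open scoped HomogeneousIdeal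
open Groth.Agent.Lib.Helper29

namespace Groth.Agent.Lib.Helper3.ProjBundle
open Groth.Agent.Lib.Helper3 Groth.Agent.Lib.Helper3.SymQC
open RelProj

/-- A general criterion: if `L' ≅ k^*O_P(1)` for `k : X' ⟶ P(E)` over `ψ : Y' ⟶ Y` such that the induced
map `X' ⟶ P(E) ×_Y Y'` is an immersion (for every choice of fibre product), then `L'` is very ample for
`X' ⟶ Y'`. -/
theorem isRelVeryAmple_of_lift {X' Y Y' P : Scheme.{u}} (ψ : Y' ⟶ Y) (f' : X' ⟶ Y') (L' : X'.Modules)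
    (E : Y.Modules) [E.IsQuasicoherent] (𝒮 : QCGrAlg Y) (j : E ⟶ 𝒮.toModule) (hj : IsGrSymAlg E 𝒮 j)
    (p : P ⟶ Y)
    (chart : ∀ (U : Y.Opens) (hU : IsAffineOpen U), ((p ⁻¹ᵁ U : P.Opens) : Scheme.{u}) ≅ Proj (𝒮.deg U hU))
    (hP : IsRelProj 𝒮 p chart) (O1 : P.Modules)
    (lam : ∀ (U : Y.Opens) (hU : IsAffineOpen U),
      O1 ⟶ (Scheme.Modules.pushforward (emb p chart U hU)).obj (GrTwist.twist (𝒮.deg U hU) 1))
    (hO1 : IsRelTwist 𝒮 p chart 1 O1 lam)
    (k : X' ⟶ P) (hk : k ≫ p = f' ≫ ψ)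
    (himm : ∀ (P' : Scheme.{u}) (p' : P' ⟶ Y') (h : P' ⟶ P) (hpb : IsPullback h p' p ψ),
      IsImmersion (hpb.lift k f' hk))
    (e : L' ≅ (Scheme.Modules.pullback k).obj O1) : IsRelVeryAmple f' L' := by
  have hq' : ((Scheme.Modules.pullback ψ).obj E).IsQuasicoherent := inferInstance
  have hj' := SymQC.isGrSymAlg ((Scheme.Modules.pullback ψ).obj E)
  have hP' := RelProjExist.isRelProj (SymQC.grSymAlg ((Scheme.Modules.pullback ψ).obj E))
  have hO1' := RelTwist.isRelTwist _ _ hP' 1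
  obtain ⟨u, h, hbc, hh, hpb, -⟩ := SymBC.exists_isPullback_projBundle ψ E 𝒮 j hj p chart hP
    (SymQC.grSymAlg ((Scheme.Modules.pullback ψ).obj E)) (SymQC.j ((Scheme.Modules.pullback ψ).obj E)) hj' _ _ hP'
  have hgen := RelGlued.isGenDegOne_of_isGrSymAlg E 𝒮 j hj
  obtain ⟨eO⟩ := RelTwistQ.nonempty_iso_pullback_of_isQBaseChange u hP hP' h 1 hO1 hO1' hbc hh hgen
  refine ⟨(Scheme.Modules.pullback ψ).obj E, hq', _, SymQC.j _, hj', _, _, _, hP', _, _, hO1',
    hpb.lift k f' hk, himm _ _ _ hpb, hpb.lift_snd _ _ _, ⟨?_⟩⟩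
  exact e ≪≫ ((Scheme.Modules.pullbackCongr (hpb.lift_fst k f' hk)).app O1).symm ≪≫
    ((Scheme.Modules.pullbackComp (hpb.lift k f' hk) h).app O1).symm ≪≫
    (Scheme.Modules.pullback (hpb.lift k f' hk)).mapIso eO

/-- **Relative very ampleness is stable under base change.** -/
theorem isRelVeryAmple_baseChange {X Y X' Y' : Scheme.{u}} (f : X ⟶ Y) (g : Y' ⟶ Y) (g' : X' ⟶ X) (f' : X' ⟶ Y')
    (hsq : IsPullback g' f' f g) (L : X.Modules) (hva : IsRelVeryAmple f L) :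
    IsRelVeryAmple f' ((Scheme.Modules.pullback g').obj L) := by
  obtain ⟨E, hE, 𝒮, j, hj, P, p, chart, hP, O1, lam, hO1, i, hi, hip, ⟨eL⟩⟩ := hva
  have hE' : E.IsQuasicoherent := hE
  have hk : (g' ≫ i) ≫ p = f' ≫ g := by rw [Category.assoc, hip, hsq.w]
  refine isRelVeryAmple_of_lift g f' _ E 𝒮 j hj p chart hP O1 lam hO1 (g' ≫ i) hk ?_ ?_
  · intro P' p' h hpb
    have hbot : IsPullback h p' p g := hpb
    have houter : IsPullback g' (hpb.lift (g' ≫ i) f' hk ≫ p') (i ≫ p) g := by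
      rw [hpb.lift_snd, hip]; exact hsq
    have htop : IsPullback g' (hpb.lift (g' ≫ i) f' hk) i h :=
      IsPullback.of_bot houter (hpb.lift_fst _ _ _).symm hbot
    exact MorphismProperty.of_isPullback (P := @IsImmersion) htop hi
  · exact (Scheme.Modules.pullback g').mapIso eL ≪≫ (Scheme.Modules.pullbackComp g' i).app O1

/-- **If `L` is very ample for `f ≫ g`, it is very ample for `f`.** -/
theorem isRelVeryAmple_of_comp {X Y Z : Scheme.{u}} (f : X ⟶ Y) (g : Y ⟶ Z) (L : X.Modules)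
    (hva : IsRelVeryAmple (f ≫ g) L) : IsRelVeryAmple f L := by
  obtain ⟨E, hE, 𝒮, j, hj, P, p, chart, hP, O1, lam, hO1, i, hi, hip, ⟨eL⟩⟩ := hva
  have hE' : E.IsQuasicoherent := hE
  refine isRelVeryAmple_of_lift g f _ E 𝒮 j hj p chart hP O1 lam hO1 i hip ?_ eL
  intro P' p' h hpb
  have : IsImmersion (hpb.lift i f hip ≫ h) := by rw [hpb.lift_fst]; exact hi
  exact IsImmersion.of_comp (hpb.lift i f hip) h

end Groth.Agent.Lib.Helper3.ProjBundle
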