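import Groth.Agent.Lib.Helper3.PnBridge3
import Groth.Agent.Lib.Helper3.VeryAmpleBC
import Groth.Prelude.Def_LCI2
/-!
# Very ampleness with respect to a projective space implies very ampleness with respect to a projective bundle
-/
set_option autoImplicit false
set_option linter.unusedSectionVars false
universe u
open CategoryTheory CategoryTheory.Limits AlgebraicGeometry Opposite TopologicalSpace
open scoped HomogeneousIdeal
open Groth.Agent.Lib.Helper29.QCoh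

namespace Groth.Agent.Lib.Helper3.PnBridge
open RelProj RelSpec Groth.Agent.Lib.Helper3 Groth.Agent.Lib.Helper3.SymAlg Groth.Agent.Lib.Helper3.SymGr
  Groth.Agent.Lib.Helper3.SymQC

theorem isImmersion_lift_of_iso {X S T P₁ P₂ : Scheme.{u}} (p₁ : P₁ ⟶ T) (ψ : S ⟶ T) (φ : P₁ ⟶ P₂) [IsIso φ]
    (p₂ : P₂ ⟶ T) (hp : φ ≫ p₂ = p₁) (i : X ⟶ pullback p₁ ψ) [IsImmersion i] (g : X ⟶ S)
    (hi : i ≫ pullback.snd p₁ ψ = g) {P' : Scheme.{u}} {p' : P' ⟶ S} {h' : P' ⟶ P₂}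
    (hpb : IsPullback h' p' p₂ ψ) (hk : (i ≫ pullback.fst p₁ ψ ≫ φ) ≫ p₂ = g ≫ ψ) :
    IsImmersion (hpb.lift (i ≫ pullback.fst p₁ ψ ≫ φ) g hk) := by
  have hpb₀ : IsPullback (pullback.fst p₁ ψ ≫ φ) (pullback.snd p₁ ψ) p₂ ψ :=
    (IsPullback.of_hasPullback p₁ ψ).of_iso (Iso.refl _) (asIso φ) (Iso.refl _) (Iso.refl _)
      (by simp) (by simp) (by simp [hp]) (by simp)
  have hlift : hpb.lift (i ≫ pullback.fst p₁ ψ ≫ φ) g hk = i ≫ (hpb₀.isoIsPullback _ _ hpb).hom := by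
    apply hpb.hom_ext
    · rw [hpb.lift_fst, Category.assoc, IsPullback.isoIsPullback_hom_fst]
    · rw [hpb.lift_snd, Category.assoc, IsPullback.isoIsPullback_hom_snd]
      exact hi.symm
  rw [hlift]
  infer_instance

/-- the module isomorphism for the composite -/
noncomputable def isoPullbackComp {X Q P₁ P₂ : Scheme.{u}} (i : X ⟶ Q) (f : Q ⟶ P₁) (φ : P₁ ⟶ P₂)
    {M : X.Modules} {T : P₁.Modules} {O : P₂.Modules}
    (eM : M ≅ (Scheme.Modules.pullback i).obj ((Scheme.Modules.pullback f).obj T))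
    (eφ : (Scheme.Modules.pullback φ).obj O ≅ T) :
    M ≅ (Scheme.Modules.pullback (i ≫ f ≫ φ)).obj O :=
  eM ≪≫ (Scheme.Modules.pullback i).mapIso
    ((Scheme.Modules.pullback f).mapIso eφ.symm ≪≫ (Scheme.Modules.pullbackComp f φ).app O) ≪≫
    (Scheme.Modules.pullbackComp i (f ≫ φ)).app O

/-- **an immersion into `P^n_S` with `M ≅ i^*O(1)` exhibits `M` as very ample relative to `g`** -/
theorem isRelVeryAmple_of_isRelVeryAmplePn {X S : Scheme.{u}} (g : X ⟶ S) (M : X.Modules)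
    (h : RelAmple.IsRelVeryAmplePn g M) : RelProj.IsRelVeryAmple g M := by
  obtain ⟨n, i, himm, hi, ⟨eM⟩⟩ := h
  have hP₀ := RelProjExist.isRelProj (grSymAlg (E₀ n (CommRingCat.of (ULift.{u} ℤ))))
  have hO1 := RelTwist.isRelTwist _ _ hP₀ 1
  obtain ⟨φ, hφ, ⟨eφ⟩⟩ : ∃ φ : CohB1.ProjSpace n (ULift.{u} ℤ) ⟶
      RelProjExist.relProj (grSymAlg (E₀ n (CommRingCat.of (ULift.{u} ℤ)))), IsIso φ ∧
      Nonempty ((Scheme.Modules.pullback φ).obj
        (RelTwist.relTwist _ _ hP₀ 1) ≅ Twist.twistProjSpace n (ULift.{u} ℤ) 1) :=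
    exists_iso_projSpace n (CommRingCat.of (ULift.{u} ℤ))
  haveI := hφ
  haveI := himm
  have hk : (i ≫ pullback.fst (CohB1.ProjSpace.toSpec n (ULift.{u} ℤ)) (specULiftZIsTerminal.from S) ≫ φ) ≫
      RelProjExist.relProjπ (grSymAlg (E₀ n (CommRingCat.of (ULift.{u} ℤ)))) =
        g ≫ specULiftZIsTerminal.from S := specULiftZIsTerminal.hom_ext _ _
  refine ProjBundle.isRelVeryAmple_of_lift (specULiftZIsTerminal.from S) g M
    (E₀ n (CommRingCat.of (ULift.{u} ℤ))) (grSymAlg (E₀ n (CommRingCat.of (ULift.{u} ℤ))))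
    (SymQC.j _) (SymQC.isGrSymAlg _) (RelProjExist.relProjπ _) (RelProjExist.chart _) hP₀ _ _ hO1
    (i ≫ pullback.fst (CohB1.ProjSpace.toSpec n (ULift.{u} ℤ)) (specULiftZIsTerminal.from S) ≫ φ) hk ?_ ?_
  · intro P' p' h' hpb
    haveI himm' : @IsImmersion X (pullback (CohB1.ProjSpace.toSpec n (ULift.{u} ℤ))
      (specULiftZIsTerminal.from S)) i := himm
    exact isImmersion_lift_of_iso (CohB1.ProjSpace.toSpec n (ULift.{u} ℤ)) (specULiftZIsTerminal.from S) φ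
      (RelProjExist.relProjπ _) (specULiftZIsTerminal.hom_ext _ _) i g hi hpb hk
  · exact isoPullbackComp i _ φ eM eφ

end Groth.Agent.Lib.Helper3.PnBridge
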