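import Groth.Agent.Lib.Helper3.FTRed5
import Groth.Agent.Lib.Helper3.PnBridge4
import Groth.Agent.Lib.Helper3.ProjCI
import Groth.Agent.Lib.Helper3.RelTwistPull
import Groth.Agent.Lib.Helper29.QCohLocFree
import Groth.Agent.Lib.Helper29.QCohAffine
/-!
# From a projective bundle of a module of finite type over an affine base to a projective space, part 1
-/
set_option autoImplicit false
set_option linter.unusedSectionVars false
universe u
open CategoryTheory CategoryTheory.Limits AlgebraicGeometry Opposite TopologicalSpace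
open scoped HomogeneousIdeal
open Groth.Agent.Lib.Helper29.QCoh

namespace Groth.Agent.Lib.Helper3.PnRev
open RelProj RelSpec Groth.Agent.Lib.Helper3 Groth.Agent.Lib.Helper3.SymAlg Groth.Agent.Lib.Helper3.SymGr
  Groth.Agent.Lib.Helper3.SymQC Groth.Agent.Lib.Helper3.PnBridge Groth.Agent.Lib.Helper3.FTRed

/-- the free module `E₀` is the free sheaf of modules -/
noncomputable def isoE₀Free (n : ℕ) (R : CommRingCat.{u}) :
    E₀ n R ≅ freeM (Spec R) (ULift.{u} (Fin (n + 1))) :=
  (tilde.functor R).mapIso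
    (LinearEquiv.toModuleIso (Finsupp.domLCongr (M := R) (R := R) (Equiv.ulift.{u, 0} (α := Fin (n + 1))).symm)) ≪≫
    tildeFinsupp (ULift.{u} (Fin (n + 1)))

/-- on an affine scheme a quasi-coherent module of finite type is a quotient of the inverse image of a free module
on `Spec ℤ` -/
theorem exists_epi_pullback_E₀ {S : Scheme.{u}} [IsAffine S] (E : S.Modules) [E.IsQuasicoherent]
    [E.IsFiniteType] :
    ∃ (N : ℕ) (φ₁ : (Scheme.Modules.pullback (specULiftZIsTerminal.from S)).obj
        (E₀ N (CommRingCat.of (ULift.{u} ℤ))) ⟶ E), Epi φ₁ := by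
  classical
  have hfin : Module.Finite Γ(S, ⊤) Γ(E, ⊤) := module_finite_of_isFiniteType E (isAffineOpen_top S)
  obtain ⟨n, s, hs⟩ := Module.Finite.exists_fin (R := Γ(S, ⊤)) (M := Γ(E, ⊤))
  let s' : ULift.{u} (Fin (n + 1)) → Γ(E, ⊤) := fun k => Fin.cases 0 s k.down
  have hs' : Submodule.span Γ(S, ⊤) (Set.range s') = ⊤ := by
    refine top_unique (hs ▸ Submodule.span_mono ?_)
    rintro _ ⟨k, rfl⟩
    exact ⟨⟨k.succ⟩, rfl⟩
  have hepi : Epi (homOfSections E s') := epi_homOfSections_of_span E s'
    (fun x => span_germ_eq_top_of_span_eq_top E (isAffineOpen_top S) s' hs' x trivial)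
  exact ⟨n, ((Scheme.Modules.pullback (specULiftZIsTerminal.from S)).mapIso
      (isoE₀Free n (CommRingCat.of (ULift.{u} ℤ))) ≪≫ pullbackFreeIso _ _).hom ≫ homOfSections E s',
    inferInstance⟩

end Groth.Agent.Lib.Helper3.PnRev
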