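import Groth.Agent.Lib.Helper3.PnRev1
/-!
# Part 2: an epimorphism of quasi-coherent modules induces a closed immersion of projective bundles
-/
set_option autoImplicit false
set_option linter.unusedSectionVars false
universe u
open CategoryTheory CategoryTheory.Limits AlgebraicGeometry Opposite TopologicalSpace
open scoped HomogeneousIdeal
open Groth.Agent.Lib.Helper29.QCoh

namespace Groth.Agent.Lib.Helper3.PnRev
open RelProj RelSpec Groth.Agent.Lib.Helper3 Groth.Agent.Lib.Helper3.SymAlg Groth.Agent.Lib.Helper3.SymGr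
  Groth.Agent.Lib.Helper3.SymQC Groth.Agent.Lib.Helper3.PnBridge Groth.Agent.Lib.Helper3.FTRed

/-- **`P(E) ⟶ P(F)` is a closed immersion compatible with `O(1)` for an epimorphism `F ⟶ E`** -/
theorem exists_closedImmersion_of_epi {Y : Scheme.{u}} {F E : Y.Modules} [F.IsQuasicoherent] [E.IsQuasicoherent]
    (φ₁ : F ⟶ E) [Epi φ₁] :
    ∃ c : RelProjExist.relProj (grSymAlg E) ⟶ RelProjExist.relProj (grSymAlg F), IsClosedImmersion c ∧
      c ≫ RelProjExist.relProjπ (grSymAlg F) = RelProjExist.relProjπ (grSymAlg E) ∧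
      Nonempty ((Scheme.Modules.pullback c).obj
        (RelTwist.relTwist _ _ (RelProjExist.isRelProj (grSymAlg F)) 1) ≅
          RelTwist.relTwist _ _ (RelProjExist.isRelProj (grSymAlg E)) 1) := by
  classical
  have hψ : IsGradedHom (𝒜 := grSymAlg F) (ℬ := grSymAlg E) (symHom φ₁) := isGradedHom_symHom φ₁
  have hsurj : ∀ (U : Y.Opens) (hU : IsAffineOpen U) (n : ℕ), ∀ b ∈ (grSymAlg E).deg U hU n,
      ∃ a ∈ (grSymAlg F).deg U hU n,
        gradedHomAt (𝒜 := grSymAlg F) (ℬ := grSymAlg E) _ hψ U hU a = b := by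
    intro U hU n b hb
    obtain ⟨T, hT⟩ := exists_finset_lift_symHom U hU hb
    exact hT φ₁ fun m _ => app_surjective_of_epi φ₁ hU m
  have hirr : ∀ (U : Y.Opens) (hU : IsAffineOpen U), ((grSymAlg E).deg U hU)₊ ≤
      (((grSymAlg F).deg U hU)₊).map
        (gradedHomAt (𝒜 := grSymAlg F) (ℬ := grSymAlg E) _ hψ U hU) := by
    intro U hU
    rw [HomogeneousIdeal.irrelevant_le]
    intro k hk x hx
    obtain ⟨a, ha, rfl⟩ := hsurj U hU k x hx
    apply Ideal.mem_map_of_mem
    exact HomogeneousIdeal.mem_irrelevant_of_mem _ hk ha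
  have hPF := RelProjExist.isRelProj (grSymAlg F)
  have hPE := RelProjExist.isRelProj (grSymAlg E)
  have hh := RelProjMap.isRelProjMap_relProjMap (𝒜 := grSymAlg F) (ℬ := grSymAlg E) _ hψ hirr hPF hPE
  have hci : IsClosedImmersion (RelProjMap.relProjMap (𝒜 := grSymAlg F) (ℬ := grSymAlg E) _ hψ hirr hPF hPE) := by
    refine RelProjMap.of_forall_projMap _ hψ hirr hPF hPE @IsClosedImmersion hh fun U hU => ?_
    exact ProjAux.isClosedImmersion_map_of_pos _ _ _ (fun n _ => hsurj U hU n) (hirr U hU)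
  have hgen := RelGlued.isGenDegOne_of_isGrSymAlg F (grSymAlg F) (SymQC.j F) (SymQC.isGrSymAlg F)
  have hiso := RelTwistMap.isIso_adjunct_θ (𝒜 := grSymAlg F) (ℬ := grSymAlg E) _ hψ hirr hPF hPE _ hh 1
    (RelTwist.isRelTwist _ _ hPF 1) (RelTwist.isRelTwist _ _ hPE 1) hgen
  exact ⟨_, hci, RelProjMap.comp_eq_of_isRelProjMap _ hψ hirr hPF hPE hh, ⟨@asIso _ _ _ _ _ hiso⟩⟩

end Groth.Agent.Lib.Helper3.PnRev
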