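import Groth.Agent.Lib.Helper3.PnRev2
/-!
# Part 3: an immersion into the projective bundle of a module of finite type over an affine base gives an immersion
into a projective space
-/
set_option autoImplicit false
set_option linter.unusedSectionVars false
universe u
open CategoryTheory CategoryTheory.Limits AlgebraicGeometry Opposite TopologicalSpace
open scoped HomogeneousIdeal
open Groth.Agent.Lib.Helper29.QCoh

namespace Groth.Agent.Lib.Helper3.PnRev
open RelProj RelSpec Groth.Agent.Lib.Helper3 Groth.Agent.Lib.Helper3.SymAlg Groth.Agent.Lib.Helper3.SymGr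
  Groth.Agent.Lib.Helper3.SymQC Groth.Agent.Lib.Helper3.PnBridge Groth.Agent.Lib.Helper3.FTRed

/-- transport of a module along the inverse of an isomorphism -/
noncomputable def isoPullbackInv {P₁ P₂ : Scheme.{u}} (φ : P₁ ⟶ P₂) [IsIso φ] {T : P₂.Modules} {O : P₁.Modules}
    (eφ : (Scheme.Modules.pullback φ).obj T ≅ O) : (Scheme.Modules.pullback (inv φ)).obj O ≅ T :=
  (Scheme.Modules.pullback (inv φ)).mapIso eφ.symm ≪≫ (Scheme.Modules.pullbackComp (inv φ) φ).app T ≪≫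
    (Scheme.Modules.pullbackCongr (IsIso.inv_hom_id φ)).app T ≪≫ (Scheme.Modules.pullbackId _).app T

theorem isRelVeryAmplePn_of_immersion {X S : Scheme.{u}} [IsAffine S] (f : X ⟶ S) (L : X.Modules)
    (E : S.Modules) [E.IsQuasicoherent] [E.IsFiniteType]
    (i₀ : X ⟶ RelProjExist.relProj (grSymAlg E)) [IsImmersion i₀]
    (hi₀ : i₀ ≫ RelProjExist.relProjπ (grSymAlg E) = f)
    (eL : L ≅ (Scheme.Modules.pullback i₀).obj
      (RelTwist.relTwist _ _ (RelProjExist.isRelProj (grSymAlg E)) 1)) :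
    RelAmple.IsRelVeryAmplePn f L := by
  classical
  obtain ⟨N, φ₁, hφ₁⟩ := exists_epi_pullback_E₀ E
  haveI := hφ₁
  obtain ⟨c, hc, hcp, ⟨ec⟩⟩ := exists_closedImmersion_of_epi φ₁
  haveI := hc
  have hP₀ := RelProjExist.isRelProj (grSymAlg (E₀ N (CommRingCat.of (ULift.{u} ℤ))))
  have hO1 := RelTwist.isRelTwist _ _ hP₀ 1
  have hj' := SymQC.isGrSymAlg ((Scheme.Modules.pullback (specULiftZIsTerminal.from S)).obj
    (E₀ N (CommRingCat.of (ULift.{u} ℤ))))
  have hP' := RelProjExist.isRelProj (grSymAlg ((Scheme.Modules.pullback (specULiftZIsTerminal.from S)).obj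
    (E₀ N (CommRingCat.of (ULift.{u} ℤ)))))
  have hO1' := RelTwist.isRelTwist _ _ hP' 1
  obtain ⟨u, h, hbc, hh, hpb, -⟩ := SymBC.exists_isPullback_projBundle (specULiftZIsTerminal.from S)
    (E₀ N (CommRingCat.of (ULift.{u} ℤ))) (grSymAlg _) (SymQC.j _) (SymQC.isGrSymAlg _) _ _ hP₀
    (grSymAlg _) (SymQC.j _) hj' _ _ hP'
  have hgen := RelGlued.isGenDegOne_of_isGrSymAlg (E₀ N (CommRingCat.of (ULift.{u} ℤ))) _ _ (SymQC.isGrSymAlg _)
  obtain ⟨eO⟩ := RelTwistQ.nonempty_iso_pullback_of_isQBaseChange u hP₀ hP' h 1 hO1 hO1' hbc hh hgen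
  obtain ⟨φ, hφ, ⟨eφ⟩⟩ : ∃ φ : CohB1.ProjSpace N (ULift.{u} ℤ) ⟶
      RelProjExist.relProj (grSymAlg (E₀ N (CommRingCat.of (ULift.{u} ℤ)))), IsIso φ ∧
      Nonempty ((Scheme.Modules.pullback φ).obj
        (RelTwist.relTwist _ _ hP₀ 1) ≅ Twist.twistProjSpace N (ULift.{u} ℤ) 1) :=
    exists_iso_projSpace N (CommRingCat.of (ULift.{u} ℤ))
  haveI := hφ
  have hk : ((i₀ ≫ c ≫ h) ≫ inv φ) ≫ CohB1.ProjSpace.toSpec N (ULift.{u} ℤ) =
      f ≫ specULiftZIsTerminal.from S := specULiftZIsTerminal.hom_ext _ _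
  refine ⟨N, pullback.lift ((i₀ ≫ c ≫ h) ≫ inv φ) f hk, ?_, pullback.lift_snd _ _ _, ⟨?_⟩⟩
  · have hpb' : IsPullback (h ≫ inv φ) (RelProjExist.relProjπ (grSymAlg
        ((Scheme.Modules.pullback (specULiftZIsTerminal.from S)).obj (E₀ N (CommRingCat.of (ULift.{u} ℤ))))))
        (CohB1.ProjSpace.toSpec N (ULift.{u} ℤ)) (specULiftZIsTerminal.from S) :=
      hpb.of_iso (Iso.refl _) (asIso φ).symm (Iso.refl _) (Iso.refl _) (by simp) (by simp)
        (specULiftZIsTerminal.hom_ext _ _) (by simp)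
    have hl : pullback.lift ((i₀ ≫ c ≫ h) ≫ inv φ) f hk = (i₀ ≫ c) ≫ hpb'.isoPullback.hom := by
      apply pullback.hom_ext
      · simp only [Category.assoc, pullback.lift_fst, IsPullback.isoPullback_hom_fst]
      · simp only [Category.assoc, pullback.lift_snd, IsPullback.isoPullback_hom_snd, hcp, hi₀]
    rw [hl]
    haveI h1 : IsImmersion c := inferInstance
    haveI h2 : IsImmersion (i₀ ≫ c) := inferInstance
    haveI h3 : IsImmersion hpb'.isoPullback.hom := inferInstance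
    exact IsImmersion.comp _ _
  · have e1 : L ≅ (Scheme.Modules.pullback (i₀ ≫ c ≫ h)).obj (RelTwist.relTwist _ _ hP₀ 1) :=
      eL ≪≫ (Scheme.Modules.pullback i₀).mapIso (ec.symm ≪≫ (Scheme.Modules.pullback c).mapIso eO.symm ≪≫
        (Scheme.Modules.pullbackComp c h).app _) ≪≫ (Scheme.Modules.pullbackComp i₀ (c ≫ h)).app _
    have e2 : (Scheme.Modules.pullback (i₀ ≫ c ≫ h)).obj (RelTwist.relTwist _ _ hP₀ 1) ≅
        (Scheme.Modules.pullback ((i₀ ≫ c ≫ h) ≫ inv φ)).obj (Twist.twistProjSpace N (ULift.{u} ℤ) 1) :=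
      (Scheme.Modules.pullback (i₀ ≫ c ≫ h)).mapIso (isoPullbackInv φ eφ).symm ≪≫
        (Scheme.Modules.pullbackComp (i₀ ≫ c ≫ h) (inv φ)).app _
    exact e1 ≪≫ e2 ≪≫
      ((Scheme.Modules.pullbackCongr (pullback.lift_fst ((i₀ ≫ c ≫ h) ≫ inv φ) f hk)).app _).symm ≪≫
      ((Scheme.Modules.pullbackComp (pullback.lift ((i₀ ≫ c ≫ h) ≫ inv φ) f hk)
        (pullback.fst (CohB1.ProjSpace.toSpec N (ULift.{u} ℤ)) (specULiftZIsTerminal.from S))).app _).symm

end Groth.Agent.Lib.Helper3.PnRev
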