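import Groth.Agent.Lib.Helper3.PnRev3
/-!
# Part 4: very ample relative to a morphism of finite type to an affine scheme is very ample for a projective space
-/
set_option autoImplicit false
set_option linter.unusedSectionVars false
universe u
open CategoryTheory CategoryTheory.Limits AlgebraicGeometry Opposite TopologicalSpace
open scoped HomogeneousIdeal
open Groth.Agent.Lib.Helper29.QCoh

namespace Groth.Agent.Lib.Helper3.PnRev
open RelProj RelSpec Groth.Agent.Lib.Helper3 Groth.Agent.Lib.Helper3.SymAlg Groth.Agent.Lib.Helper3.SymGr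
  Groth.Agent.Lib.Helper3.SymQC Groth.Agent.Lib.Helper3.PnBridge Groth.Agent.Lib.Helper3.FTRed

/-- the concrete form of the finite-type reduction -/
theorem exists_immersion_relProj_finiteType {X Y : Scheme.{u}}
    (hY : (CompactSpace Y ∧ Y.IsSeparated) ∨ TopologicalSpace.NoetherianSpace Y) (q : X ⟶ Y) [QuasiCompact q]
    [LocallyOfFiniteType q] (L : X.Modules) (hL : PicF.IsInvertible L) (h : RelProj.IsRelVeryAmple q L) :
    ∃ (E : Y.Modules) (hq : E.IsQuasicoherent) (_ : E.IsFiniteType)
      (i : X ⟶ RelProjExist.relProj (@grSymAlg _ E hq)), IsImmersion i ∧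
        i ≫ RelProjExist.relProjπ (@grSymAlg _ E hq) = q ∧
        Nonempty (L ≅ (Scheme.Modules.pullback i).obj
          (RelTwist.relTwist _ _ (RelProjExist.isRelProj (@grSymAlg _ E hq)) 1)) := by
  classical
  haveI : L.IsQuasicoherent := isQuasicoherent_of_isInvertible hL
  have hjL := SymQC.isGrSymAlg (E := L)
  have hPL := RelProjExist.isRelProj (SymQC.grSymAlg L)
  obtain ⟨K, hKq, hKft, u, hu, hsurj, hdata⟩ :=
    FTRed.exists_finiteType_reduction hY q L hL (SymQC.grSymAlg L) (SymQC.j L) hjL h
  haveI : K.toModules.IsQuasicoherent := hKq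
  have hjE := SymQC.isGrSymAlg (E := K.toModules)
  have hP := RelProjExist.isRelProj (SymQC.grSymAlg K.toModules)
  obtain ⟨r, hr, -⟩ := QProj.existsUnique_isProjQMapOn_domQ (u := u) hP hPL
  have h1 := RelGlued.isGenDegOne_of_isGrSymAlg _ _ _ hjE
  have himm : IsImmersion r :=
    SymLine.isImmersion_of_forall hL hjL u hPL hP r hr fun w => hdata _
  obtain ⟨i, hi, hip, hiso⟩ := FTRed.exists_immersion_of_rLpsi_isImmersion q L hL _ _ hjL _ _ hPL _ h1 u
    (fun x => by
      obtain ⟨U, hU, e, V, hV, hVU, hxV, hg⟩ := hsurj x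
      exact ⟨U, hU, _, hjE.2 U hU e, V, hV, hVU, hxV, hg⟩) _ _ hP r hr himm
  exact ⟨K.toModules, hKq, hKft, i, hi, hip, hiso⟩

/-- **very ample over an affine base, finite type: very ample for a projective space** -/
theorem isRelVeryAmplePn_of_isRelVeryAmple {X S : Scheme.{u}} [IsAffine S] (f : X ⟶ S)
    [LocallyOfFiniteType f] [QuasiCompact f] (L : X.Modules) (hLinv : PicF.IsInvertible L)
    (hL : RelProj.IsRelVeryAmple f L) : RelAmple.IsRelVeryAmplePn f L := by
  obtain ⟨E, hq, hft, i, hi, hip, ⟨eL⟩⟩ := exists_immersion_relProj_finiteType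
    (Or.inl ⟨inferInstance, inferInstance⟩) f L hLinv hL
  haveI := hq
  haveI := hft
  haveI := hi
  exact isRelVeryAmplePn_of_immersion f L E i hip eL

end Groth.Agent.Lib.Helper3.PnRev
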