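import Mathlib

/-!
# The annihilator of a finitely generated projective module is generated by an idempotent
-/

set_option autoImplicit false

namespace Groth.Agent.Lib.Helper3.ProjAnnihilator

open Matrix

/-- The annihilator of a finite projective module over a commutative ring is generated by an
idempotent (the complement of the idempotent generating the trace ideal). -/
theorem exists_idem_annihilator (A P : Type*) [CommRing A] [AddCommGroup P] [Module A P]
    [Module.Finite A P] [Module.Projective A P] :
    ∃ e : A, IsIdempotentElem e ∧ Module.annihilator A P = Ideal.span {e} := by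
  classical
  obtain ⟨n, π, i, -, -, hπi⟩ := Module.Finite.exists_comp_eq_id_of_projective A P
  let M : Matrix (Fin n) (Fin n) A := LinearMap.toMatrix' (i ∘ₗ π)
  have hMM : M * M = M := by
    rw [← LinearMap.toMatrix'_comp]
    congr 1
    rw [LinearMap.comp_assoc, ← LinearMap.comp_assoc π i π, hπi, LinearMap.id_comp]
  let T : Ideal A := Ideal.span (Set.range fun jk : Fin n × Fin n => M jk.1 jk.2)
  have hTfg : T.FG := Submodule.fg_span (Set.finite_range _)
  have hmemT : ∀ j k, M j k ∈ T := fun j k => Ideal.subset_span ⟨(j, k), rfl⟩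
  have hTidem : IsIdempotentElem T := by
    apply le_antisymm Ideal.mul_le_right
    rw [Ideal.span_le]
    rintro _ ⟨⟨j, k⟩, rfl⟩
    have : M j k = ∑ l, M j l * M l k := by
      conv_lhs => rw [← hMM]
      rw [Matrix.mul_apply]
    change M j k ∈ T * T
    rw [this]
    exact Ideal.sum_mem _ fun l _ => Ideal.mul_mem_mul (hmemT j l) (hmemT l k)
  obtain ⟨e', he', hTe'⟩ := (Ideal.isIdempotentElem_iff_of_fg T hTfg).1 hTidem
  refine ⟨1 - e', he'.one_sub, ?_⟩
  have hkill : ∀ t ∈ T, (1 - e') * t = 0 := by
    intro t ht
    rw [hTe'] at ht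
    obtain ⟨b, rfl⟩ := Ideal.mem_span_singleton'.1 ht
    rw [sub_mul, one_mul, mul_comm e' (b * e'), mul_assoc, he'.eq, sub_self]
  ext a
  rw [Module.mem_annihilator, Ideal.mem_span_singleton']
  constructor
  · intro ha
    have haM : ∀ j k, a * M j k = 0 := by
      intro j k
      change a * LinearMap.toMatrix' (i ∘ₗ π) j k = 0
      rw [LinearMap.toMatrix'_apply]
      change a • (i (π _)) j = 0
      rw [← Pi.smul_apply, ← map_smul, ha, map_zero]
      rfl
    have haT : ∀ t ∈ T, a * t = 0 := by
      intro t ht
      induction ht using Submodule.span_induction with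
      | mem x hx =>
          obtain ⟨⟨j, k⟩, rfl⟩ := hx
          exact haM j k
      | zero => rw [mul_zero]
      | add x y _ _ hx hy => rw [mul_add, hx, hy, add_zero]
      | smul c x _ hx => rw [smul_eq_mul, mul_left_comm, hx, mul_zero]
    have hae' : a * e' = 0 := haT e' (hTe' ▸ Ideal.subset_span rfl)
    exact ⟨a, by rw [mul_sub, mul_one, hae', sub_zero]⟩
  · rintro ⟨b, rfl⟩ x
    have hx : x = π (i x) := by
      have := congrArg (fun g => g x) hπi
      exact this.symm
    have hv : i x = M *ᵥ (i x) := by
      rw [LinearMap.toMatrix'_mulVec]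
      change i x = i (π (i x))
      rw [← hx]
    have h0 : (1 - e') • (i x) = 0 := by
      funext j
      rw [Pi.smul_apply, hv, Matrix.mulVec, dotProduct, smul_eq_mul, Finset.mul_sum]
      refine Finset.sum_eq_zero fun k _ => ?_
      rw [← mul_assoc, hkill _ (hmemT j k), zero_mul]
    rw [hx, mul_smul, ← map_smul, ← map_smul, h0, smul_zero, map_zero]

end Groth.Agent.Lib.Helper3.ProjAnnihilator
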