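import Groth.Agent.Lib.Helper3.ProjCI
import Groth.Agent.Lib.Helper3.ProjBundleBC
/-!
# Projective morphisms: base change, cancellation, closed subschemes
-/
set_option autoImplicit false
set_option linter.unusedSectionVars false
universe u
open CategoryTheory CategoryTheory.Limits AlgebraicGeometry Opposite TopologicalSpace
open RelSpec AlgebraicGeometry.Scheme.AffineZariskiSite
open scoped HomogeneousIdeal
open Groth.Agent.Lib.Helper29

namespace Groth.Agent.Lib.Helper3.ProjCI
open RelProj Groth.Agent.Lib.Helper3 Groth.Agent.Lib.Helper3.SymQC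

/-- **Projective morphisms are stable under base change.** -/
theorem isProjective_baseChange {X Y Y' : Scheme.{u}} (f : X ⟶ Y) (hf : RelProj.IsProjective f) (g : Y' ⟶ Y) :
    RelProj.IsProjective (pullback.snd f g) := by
  obtain ⟨E, 𝒯, j, P, p, chart, i, hE, hft, hj, hP, hi, hip⟩ := exists_closedImmersion_projBundle f hf
  have : E.IsQuasicoherent := hE
  have : E.IsFiniteType := hft
  have hE' : ((Scheme.Modules.pullback g).obj E).IsQuasicoherent := inferInstance
  have hft' : ((Scheme.Modules.pullback g).obj E).IsFiniteType := inferInstance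
  have hj' := isGrSymAlg ((Scheme.Modules.pullback g).obj E)
  have hP' := RelProjExist.isRelProj (grSymAlg ((Scheme.Modules.pullback g).obj E))
  obtain ⟨u, h, hbc, hh, hpb, -⟩ := SymBC.exists_isPullback_projBundle g E 𝒯 j hj p chart hP
    (grSymAlg ((Scheme.Modules.pullback g).obj E)) (SymQC.j _) hj' _ _ hP'
  have hcond : (pullback.fst f g ≫ i) ≫ p = pullback.snd f g ≫ g := by
    rw [Category.assoc, hip, pullback.condition]
  have htop : IsPullback (pullback.fst f g) (hpb.lift (pullback.fst f g ≫ i) (pullback.snd f g) hcond) i h := by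
    refine IsPullback.of_bot ?_ (hpb.lift_fst _ _ _).symm hpb
    rw [hpb.lift_snd, hip]
    exact IsPullback.of_hasPullback f g
  have hci : IsClosedImmersion (hpb.lift (pullback.fst f g ≫ i) (pullback.snd f g) hcond) :=
    MorphismProperty.of_isPullback htop hi
  exact isProjective_of_closedImmersion_projBundle (pullback.snd f g) _ _ _ _ _
    (hpb.lift (pullback.fst f g ≫ i) (pullback.snd f g) hcond) hE' hft' hj' hP'
    (hpb.lift_snd _ _ _)

end Groth.Agent.Lib.Helper3.ProjCI

open CategoryTheory CategoryTheory.Limits AlgebraicGeometry Opposite TopologicalSpace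
open RelSpec AlgebraicGeometry.Scheme.AffineZariskiSite
open scoped HomogeneousIdeal
open Groth.Agent.Lib.Helper29

namespace Groth.Agent.Lib.Helper3.ProjCI
open RelProj Groth.Agent.Lib.Helper3 Groth.Agent.Lib.Helper3.SymQC

/-- a closed immersion followed by a projective morphism is projective -/
theorem isProjective_closedImmersion_comp {Z X Y : Scheme.{u}} (c : Z ⟶ X) [IsClosedImmersion c] (f : X ⟶ Y)
    (hf : RelProj.IsProjective f) : RelProj.IsProjective (c ≫ f) := by
  obtain ⟨𝒮, P, p, chart, e, h1, h2, hP, he⟩ := hf
  have : QuasiCompact p := RelGlued.quasiCompact_of_genDegOne p chart h1 h2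
  have := Groth.Agent.Lib.Helper25.PolyRelProj.isProjective_of_isClosedImmersion 𝒮 p chart hP h1 h2 (c ≫ e.hom)
  rwa [Category.assoc, he] at this

/-- **If `f ≫ g` is projective and `g` is separated then `f` is projective.** -/
theorem isProjective_of_comp_of_isSeparated {X Y Z : Scheme.{u}} (f : X ⟶ Y) (g : Y ⟶ Z) [IsSeparated g]
    (h : RelProj.IsProjective (f ≫ g)) : RelProj.IsProjective f := by
  have h1 := isProjective_baseChange (f ≫ g) h g
  have h2 := isProjective_closedImmersion_comp (pullback.lift (𝟙 _) f (Category.id_comp (f ≫ g))) _ h1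
  rwa [pullback.lift_snd] at h2

/-- **The morphism induced on closed subschemes by a projective morphism is projective.** -/
theorem isProjective_of_closedImmersions {X Y X₀ Y₀ : Scheme.{u}} (f : X ⟶ Y) (hf : RelProj.IsProjective f)
    (j : X₀ ⟶ X) [IsClosedImmersion j] (k : Y₀ ⟶ Y) [IsClosedImmersion k]
    (f₀ : X₀ ⟶ Y₀) (hcomm : j ≫ f = f₀ ≫ k) : RelProj.IsProjective f₀ := by
  have h1 := isProjective_baseChange f hf k
  have : IsClosedImmersion (pullback.lift j f₀ hcomm ≫ pullback.fst f k) := by
    rw [pullback.lift_fst]; infer_instance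
  have : IsClosedImmersion (pullback.lift j f₀ hcomm) :=
    IsClosedImmersion.of_comp_isClosedImmersion _ (pullback.fst f k)
  have h2 := isProjective_closedImmersion_comp (pullback.lift j f₀ hcomm) _ h1
  rwa [pullback.lift_snd] at h2

end Groth.Agent.Lib.Helper3.ProjCI
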