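import Groth.Agent.Lib.Helper3.SymQCAlg2
import Groth.Agent.Lib.Helper3.ConeTriv
import Groth.Agent.Lib.Helper29.GenLocus
/-!
# The graded symmetric algebra of an invertible module, locally
-/
universe u
open CategoryTheory CategoryTheory.Limits AlgebraicGeometry Opposite TopologicalSpace
open HomogeneousLocalization
open scoped HomogeneousIdeal
open Groth.Agent.Lib.Helper29.QCoh

namespace Groth.Agent.Lib.Helper3.SymLine
open RelProj RelSpec RelCone Groth.Agent.Lib.Helper3 Groth.Agent.Lib.Helper3.Cone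

section Alg
variable {A : Type u} [CommRing A] {M : Type u} [AddCommGroup M] [Module A M]

/-- the symmetric algebra of a free module of rank one is a polynomial ring -/
theorem bijective_aeval_ι (e : M) (he : Function.Bijective (fun r : A => r • e)) :
    Function.Bijective (Polynomial.aeval (R := A) (SymmetricAlgebra.ι A M e)) := by
  let leq : A ≃ₗ[A] M := LinearEquiv.ofBijective (LinearMap.toSpanSingleton A M e) he
  have hleq : ∀ m : M, leq.symm m • e = m := fun m => leq.apply_symm_apply m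
  have hleq1 : leq.symm e = 1 := by
    apply he.1
    change leq.symm e • e = (1 : A) • e
    rw [hleq, one_smul]
  let ℓ : M →ₗ[A] Polynomial A := (Polynomial.monomial 1 : A →ₗ[A] Polynomial A) ∘ₗ leq.symm.toLinearMap
  let G : SymmetricAlgebra A M →ₐ[A] Polynomial A := SymmetricAlgebra.lift ℓ
  let F : Polynomial A →ₐ[A] SymmetricAlgebra A M := Polynomial.aeval (SymmetricAlgebra.ι A M e)
  have hGF : G.comp F = AlgHom.id A _ := by
    apply Polynomial.algHom_ext
    change G (Polynomial.aeval (SymmetricAlgebra.ι A M e) Polynomial.X) = Polynomial.X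
    rw [Polynomial.aeval_X]
    change SymmetricAlgebra.lift ℓ (SymmetricAlgebra.ι A M e) = _
    rw [SymmetricAlgebra.lift_ι_apply]
    change Polynomial.monomial 1 (leq.symm e) = Polynomial.X
    rw [hleq1]
    rfl
  have hFG : F.comp G = AlgHom.id A _ := by
    apply SymmetricAlgebra.algHom_ext
    ext m
    change F (SymmetricAlgebra.lift ℓ (SymmetricAlgebra.ι A M m)) = SymmetricAlgebra.ι A M m
    rw [SymmetricAlgebra.lift_ι_apply]
    change Polynomial.aeval (SymmetricAlgebra.ι A M e) (Polynomial.monomial 1 (leq.symm m)) = _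
    rw [Polynomial.aeval_monomial, pow_one, ← Algebra.smul_def, ← map_smul, hleq]
  refine Function.bijective_iff_has_inverse.mpr ⟨G, fun p => ?_, fun s => ?_⟩
  · exact congrArg (fun k : Polynomial A →ₐ[A] Polynomial A => k p) hGF
  · exact congrArg (fun k : SymmetricAlgebra A M →ₐ[A] SymmetricAlgebra A M => k s) hFG

end Alg

section Loc
variable {X : Scheme.{u}} {L : X.Modules} [L.IsQuasicoherent] {𝒮L : QCGrAlg X} {j : L ⟶ 𝒮L.toModule}
  (hj : IsGrSymAlg L 𝒮L j) {V : X.Opens} (hV : IsAffineOpen V) {e : Γ(L, V)} (hT : IsTriv L V e)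

include hj hV hT in
/-- over a trivialising affine open, the symmetric algebra of an invertible module is a polynomial ring -/
theorem bijective_eval₂ :
    Function.Bijective (Polynomial.eval₂RingHom (𝒮L.str.app (op V)).hom
      (show 𝒮L.presheaf.obj (op V) from j.app V e)) := by
  obtain ⟨ε, hε1, hε2⟩ := SymQC.exists_ringEquiv_of_isSymAlg hj.1 V hV
  have h1 := bijective_aeval_ι (A := Γ(X, V)) (M := Γ(L, V)) e hT.bijective
  have h2 : (Polynomial.eval₂RingHom (𝒮L.str.app (op V)).hom
      (show 𝒮L.presheaf.obj (op V) from j.app V e)) =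
      ε.toRingHom.comp (Polynomial.aeval (R := Γ(X, V)) (SymmetricAlgebra.ι Γ(X, V) Γ(L, V) e)).toRingHom := by
    apply Polynomial.ringHom_ext
    · intro a
      simp only [Polynomial.coe_eval₂RingHom, Polynomial.eval₂_C, RingHom.comp_apply]
      change _ = ε (Polynomial.aeval (SymmetricAlgebra.ι Γ(X, V) Γ(L, V) e) (Polynomial.C a))
      rw [Polynomial.aeval_C, hε1]
      rfl
    · simp only [Polynomial.coe_eval₂RingHom, Polynomial.eval₂_X, RingHom.comp_apply]
      change _ = ε (Polynomial.aeval (SymmetricAlgebra.ι Γ(X, V) Γ(L, V) e) Polynomial.X)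
      rw [Polynomial.aeval_X, hε2]
  rw [h2]
  exact ε.bijective.comp h1

end Loc

section PZ
variable {A B τ : Type u} [CommRing A] [CommRing B] [SetLike τ B] [AddSubgroupClass τ B]
  {ℬ : ℕ → τ} [GradedRing ℬ] (ι : trivDeg A →+*ᵍ ℬ) {z : B} (hz : z ∈ ℬ 1)
  (e : B →+* A) (heι : ∀ a, e (ι a) = a) (hez : e z = 1)
  (hsurj : ∀ x : B, ∃ p : Polynomial A, p.eval₂ (ι : A →+* B) z = x)

include hz hsurj in
/-- `z` vanishes nowhere on `Proj A[z]` -/
theorem z_not_mem (y : Proj ℬ) : z ∉ y.asHomogeneousIdeal := by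
  intro hzy
  refine y.not_irrelevant_le ?_
  refine PolyCone.irrelevant_le_of ι hz hsurj y.asHomogeneousIdeal.toIdeal (fun f hf => ?_) hzy
  rw [eq_zero_of_mem_irrelevant_trivDeg hf, map_zero]
  exact zero_mem _

include hz hsurj in
/-- homogeneous elements of degree `d` of `A[z]` are the `a z ^ d` -/
theorem exists_eq_mul_pow {d : ℕ} {b : B} (hb : b ∈ ℬ d) : ∃ a : A, b = ι a * z ^ d := by
  obtain ⟨a, ha, rfl⟩ := PolyCone.exists_rep ι hz hsurj hb
  refine ⟨a d, ?_⟩
  rw [Finset.sum_eq_single d]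
  · intro n hn hnd
    have hnd' : n < d := lt_of_le_of_ne (Nat.lt_succ_iff.mp (Finset.mem_range.mp hn)) hnd
    obtain ⟨k, hk⟩ : ∃ k, d - n = k + 1 := ⟨d - n - 1, by omega⟩
    have h0 : a n = 0 := by
      have := ha n
      rw [hk] at this
      exact eq_zero_of_mem_trivDeg_succ this
    rw [h0, map_zero, zero_mul]
  · intro hd
    exact absurd (Finset.mem_range.mpr (Nat.lt_succ_self d)) hd

include heι hez in
omit [AddSubgroupClass τ B] [GradedRing ℬ] in
theorem mul_pow_injective {d : ℕ} {a a' : A} (h : ι a * z ^ d = ι a' * z ^ d) : a = a' := by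
  have := congrArg e h
  rwa [map_mul, map_mul, map_pow, hez, one_pow, mul_one, mul_one, heι, heι] at this

include hz hsurj in
theorem mul_pow_mem_iff (y : Proj ℬ) (a : A) (d : ℕ) :
    ι a * z ^ d ∈ y.asHomogeneousIdeal ↔ ι a ∈ y.asHomogeneousIdeal := by
  constructor
  · intro h
    rcases y.isPrime.mem_or_mem h with h1 | h1
    · exact h1
    · exact absurd (y.isPrime.mem_of_pow_mem d h1) (z_not_mem ι hz hsurj y)
  · intro h
    exact Ideal.mul_mem_right _ _ h

include hz heι hez hsurj in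
/-- `Proj A[z] → Spec A` is an isomorphism -/
theorem isIso_toSpecZero_comp (φ₀ : A →+* ℬ 0) (hφ₀ : ∀ a, (φ₀ a : B) = ι a) :
    IsIso (Proj.toSpecZero ℬ ≫ Spec.map (CommRingCat.ofHom φ₀)) := by
  have h1 : IsIso (Proj.awayι ℬ z hz one_pos) := by
    refine isIso_of_isOpenImmersion_of_opensRange_eq_top _ ?_
    rw [Proj.opensRange_awayι, eq_top_iff]
    intro y _
    exact z_not_mem ι hz hsurj y
  have hbij := PolyCone.awayToBase_bijective ι hz e heι hez hsurj
  have h2 : Function.Bijective ((fromZeroRingHom ℬ (Submonoid.powers z)).comp φ₀) := by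
    have hleft : ∀ a, PolyCone.awayToBase (ℬ := ℬ) e hez ((fromZeroRingHom ℬ (Submonoid.powers z)) (φ₀ a)) = a := by
      intro a
      rw [PolyCone.awayToBase_of_val e hez _ (ι a) 0, heι]
      simp only [fromZeroRingHom, RingHom.coe_mk, MonoidHom.coe_mk, OneHom.coe_mk, HomogeneousLocalization.val_mk]
      congr 1
      · exact hφ₀ a
      · apply Subtype.ext
        simp
    constructor
    · intro a a' h
      have := congrArg (PolyCone.awayToBase (ℬ := ℬ) e hez) h
      simpa only [RingHom.comp_apply, hleft] using this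
    · intro q
      refine ⟨PolyCone.awayToBase (ℬ := ℬ) e hez q, hbij.1 ?_⟩
      rw [RingHom.comp_apply, hleft]
  have h3 : IsIso (Proj.awayι ℬ z hz one_pos ≫ Proj.toSpecZero ℬ ≫ Spec.map (CommRingCat.ofHom φ₀)) := by
    rw [Proj.awayι_toSpecZero_assoc, ← Spec.map_comp]
    have : IsIso (CommRingCat.ofHom φ₀ ≫ CommRingCat.ofHom (fromZeroRingHom ℬ (Submonoid.powers z))) :=
      (ConcreteCategory.isIso_iff_bijective _).mpr h2
    infer_instance
  exact IsIso.of_isIso_comp_left (Proj.awayι ℬ z hz one_pos) _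

end PZ

section Loc2
variable {X : Scheme.{u}} (𝒮L : QCGrAlg X) (V : X.Opens) (hV : IsAffineOpen V)

/-- the structure map as a graded homomorphism from the trivially graded ring of functions -/
noncomputable def strG : trivDeg Γ(X, V) →+*ᵍ 𝒮L.deg V hV :=
  { (𝒮L.str.app (op V)).hom with
    map_mem := fun {n} {x} hx => by
      cases n with
      | zero => exact 𝒮L.str_mem V hV x
      | succ n =>
        have hx0 : x = 0 := eq_zero_of_mem_trivDeg_succ hx
        have h0 : (𝒮L.str.app (op V)).hom x = 0 := by rw [hx0, map_zero]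
        exact h0 ▸ zero_mem _ }

theorem strG_apply (a : Γ(X, V)) : strG 𝒮L V hV a = (𝒮L.str.app (op V)).hom a := rfl

variable {𝒮L V} {L : X.Modules} [L.IsQuasicoherent] {j : L ⟶ 𝒮L.toModule}
  (hj : IsGrSymAlg L 𝒮L j) {e : Γ(L, V)} (hT : IsTriv L V e)

/-- the generator of degree one -/
noncomputable def tt (j : L ⟶ 𝒮L.toModule) (e : Γ(L, V)) : 𝒮L.presheaf.obj (op V) := j.app V e

include hj in
omit [L.IsQuasicoherent] in
theorem tt_mem : tt j e ∈ 𝒮L.deg V hV 1 := hj.2 V hV e

include hj hT in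
theorem hsurjL (x : 𝒮L.presheaf.obj (op V)) :
    ∃ p : Polynomial Γ(X, V), p.eval₂ (strG 𝒮L V hV : Γ(X, V) →+* 𝒮L.presheaf.obj (op V)) (tt j e) = x :=
  (bijective_eval₂ hj hV hT).2 x

/-- the presentation as a polynomial ring -/
noncomputable def polyEq : Polynomial Γ(X, V) ≃+* 𝒮L.presheaf.obj (op V) :=
  RingEquiv.ofBijective _ (bijective_eval₂ hj hV hT)

theorem polyEq_apply (p : Polynomial Γ(X, V)) :
    polyEq hV hj hT p = Polynomial.eval₂ (𝒮L.str.app (op V)).hom (tt j e) p := rfl

/-- "`t = 1`" -/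
noncomputable def ev1 : 𝒮L.presheaf.obj (op V) →+* Γ(X, V) :=
  (Polynomial.evalRingHom 1).comp (polyEq hV hj hT).symm.toRingHom

theorem ev1_str (a : Γ(X, V)) : ev1 hV hj hT (strG 𝒮L V hV a) = a := by
  have h : polyEq hV hj hT (Polynomial.C a) = strG 𝒮L V hV a := by
    rw [polyEq_apply, Polynomial.eval₂_C]
    rfl
  rw [ev1, RingHom.comp_apply, ← h]
  simp

theorem ev1_tt : ev1 hV hj hT (tt j e) = 1 := by
  have h : polyEq hV hj hT Polynomial.X = tt j e := by
    rw [polyEq_apply, Polynomial.eval₂_X]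
  rw [ev1, RingHom.comp_apply, ← h]
  simp

include hj hT in
/-- over a trivialising affine open, `Proj 𝒮L(V) → V` is an isomorphism -/
theorem isIso_toSpecZero_strZero :
    IsIso (Proj.toSpecZero (𝒮L.deg V hV) ≫ Spec.map (𝒮L.strZero V hV)) :=
  isIso_toSpecZero_comp (strG 𝒮L V hV) (tt_mem hV hj) (ev1 hV hj hT) (ev1_str hV hj hT) (ev1_tt hV hj hT)
    (hsurjL hV hj hT) (𝒮L.strZero V hV).hom (fun a => rfl)

end Loc2

section Glob
variable {X PL : Scheme.{u}} {L : X.Modules} [L.IsQuasicoherent] {𝒮L : QCGrAlg X} {j : L ⟶ 𝒮L.toModule}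
  (hL : PicF.IsInvertible L) (hj : IsGrSymAlg L 𝒮L j)
  {pL : PL ⟶ X}
  {chartL : ∀ (U : X.Opens) (hU : IsAffineOpen U), (((pL ⁻¹ᵁ U : PL.Opens) : Scheme.{u}) ≅ Proj (𝒮L.deg U hU))}
  (hPL : IsRelProj 𝒮L pL chartL)

include hL hj hPL in
/-- the relative homogeneous spectrum of the symmetric algebra of an invertible module is the base -/
theorem isIso_pL : IsIso pL := by
  change MorphismProperty.isomorphisms Scheme pL
  refine IsZariskiLocalAtTarget.of_iSup_eq_top (P := MorphismProperty.isomorphisms Scheme)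
    (fun V : {V : X.affineOpens // ∃ e : Γ(L, V.1), IsTriv L V.1 e} => V.1.1) ?_ fun V => ?_
  · rw [eq_top_iff]
    intro x _
    obtain ⟨U, e, hU, hxU, -, he⟩ := exists_affine_isTriv hL (W := ⊤) x trivial
    exact Opens.mem_iSup.mpr ⟨⟨⟨U, hU⟩, e, he⟩, hxU⟩
  · obtain ⟨⟨V, hV⟩, e, hT⟩ := V
    have h1 : pL ∣_ V = (chartL V hV).hom ≫
        (Proj.toSpecZero (𝒮L.deg V hV) ≫ Spec.map (𝒮L.strZero V hV)) ≫ hV.isoSpec.inv := by
      rw [← cancel_mono V.ι]
      simp only [Category.assoc, morphismRestrict_ι, IsAffineOpen.isoSpec_inv_ι]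
      exact (hPL.chart_over V hV).symm
    rw [MorphismProperty.isomorphisms.iff, h1]
    have := isIso_toSpecZero_strZero hV hj hT
    infer_instance

end Glob

end Groth.Agent.Lib.Helper3.SymLine
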