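import Groth.Agent.Lib.Helper3.CanMapIso
import Groth.Agent.Lib.Helper3.GrSymAlg
import Groth.Agent.Lib.Helper3.RelProjExist
import Groth.Agent.Lib.Helper3.SymLine
/-!
# An invertible module is very ample relative to the identity
-/
set_option autoImplicit false
set_option linter.unusedSectionVars false
universe u
open CategoryTheory CategoryTheory.Limits AlgebraicGeometry Opposite TopologicalSpace
open scoped HomogeneousIdeal
open Groth.Agent.Lib.Helper29

namespace Groth.Agent.Lib.Helper3.ProjBundle
open Groth.Agent.Lib.Helper3 Groth.Agent.Lib.Helper3.SymQC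
open RelProj

/-- **An invertible module is very ample relative to the identity.** -/
theorem isRelVeryAmple_id (Y : Scheme.{u}) (L : Y.Modules) (hL : PicF.IsInvertible L) :
    IsRelVeryAmple (𝟙 Y) L := by
  have hq : L.IsQuasicoherent := QCoh.isQuasicoherent_of_isInvertible hL
  have hj := isGrSymAlg L
  have hP := RelProjExist.isRelProj (grSymAlg L)
  have hO1 := RelTwist.isRelTwist _ _ hP 1
  have hpiso : IsIso (RelProjExist.relProjπ (grSymAlg L)) := SymLine.isIso_pL hL hj hP
  have hiso := RelGlued.isIso_adjunct_canMap _ _ hO1 hP L hL (SymQC.j L) hj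
  refine ⟨L, hq, grSymAlg L, SymQC.j L, hj, _, _, _, hP, _, _, hO1,
    inv (RelProjExist.relProjπ (grSymAlg L)), inferInstance, IsIso.inv_hom_id _, ⟨?_⟩⟩
  exact ((Scheme.Modules.pullbackId Y).app L).symm ≪≫
    ((Scheme.Modules.pullbackCongr (IsIso.inv_hom_id (RelProjExist.relProjπ (grSymAlg L)))).app L).symm ≪≫
    ((Scheme.Modules.pullbackComp (inv (RelProjExist.relProjπ (grSymAlg L)))
      (RelProjExist.relProjπ (grSymAlg L))).app L).symm ≪≫
    (Scheme.Modules.pullback (inv (RelProjExist.relProjπ (grSymAlg L)))).mapIso (@asIso _ _ _ _ _ hiso)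

end Groth.Agent.Lib.Helper3.ProjBundle
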