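import Groth.Agent.Lib.Helper3.ProjAux
/-!
# Finite type of the homogeneous localizations of a graded ring generated in degree one with
finitely generated degree-one part
-/
universe u
open HomogeneousLocalization DirectSum

namespace Groth.Agent.Lib.Helper3.ProjFT
variable {R A σ : Type u} [CommRing R] [CommRing A] [SetLike σ A] [AddSubgroupClass σ A]
  (𝒜 : ℕ → σ) [GradedRing 𝒜] {t : A} (ht : t ∈ 𝒜 1)

/-- `x ↦ x_n / t ^ n`. -/
noncomputable def μ (n : ℕ) (x : A) : Away 𝒜 t :=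
  Away.mk 𝒜 ht n (decompose 𝒜 x (n • 1) : A) (SetLike.coe_mem _)

theorem val_μ (n : ℕ) (x : A) :
    (μ 𝒜 ht n x).val = Localization.mk (decompose 𝒜 x (n • 1) : A) (⟨t ^ n, n, rfl⟩ : Submonoid.powers t) := rfl

theorem val_μ_of_mem {n : ℕ} {x : A} (hx : x ∈ 𝒜 n) :
    (μ 𝒜 ht n x).val = Localization.mk x (⟨t ^ n, n, rfl⟩ : Submonoid.powers t) := by
  rw [val_μ]
  have : n • 1 = n := by simp
  rw [this, decompose_of_mem_same 𝒜 hx]

theorem μ_of_mem_ne {n m : ℕ} {x : A} (hx : x ∈ 𝒜 m) (hnm : m ≠ n) : μ 𝒜 ht n x = 0 := by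
  apply val_injective
  rw [val_μ, val_zero]
  have : n • 1 = n := by simp
  rw [this, decompose_of_mem_ne 𝒜 hx hnm, Localization.mk_zero]

theorem μ_add (n : ℕ) (x y : A) : μ 𝒜 ht n (x + y) = μ 𝒜 ht n x + μ 𝒜 ht n y := by
  apply val_injective
  rw [val_add, val_μ, val_μ, val_μ, decompose_add, DirectSum.add_apply,
    AddMemClass.coe_add, Localization.add_mk_self]

theorem μ_zero (n : ℕ) : μ 𝒜 ht n 0 = 0 := by
  apply val_injective
  rw [val_μ, val_zero, decompose_zero, DirectSum.zero_apply, ZeroMemClass.coe_zero,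
    Localization.mk_zero]

theorem μ_neg (n : ℕ) (x : A) : μ 𝒜 ht n (-x) = - μ 𝒜 ht n x := by
  rw [eq_neg_iff_add_eq_zero, ← μ_add, neg_add_cancel, μ_zero]

theorem μ_mul {a b : ℕ} {x y : A} (hx : x ∈ 𝒜 a) (hy : y ∈ 𝒜 b) :
    μ 𝒜 ht (a + b) (x * y) = μ 𝒜 ht a x * μ 𝒜 ht b y := by
  apply val_injective
  rw [val_mul, val_μ_of_mem 𝒜 ht hx, val_μ_of_mem 𝒜 ht hy,
    val_μ_of_mem 𝒜 ht (SetLike.mul_mem_graded hx hy), Localization.mk_mul]
  congr 1
  exact Subtype.ext (pow_add t a b)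

theorem μ_zero_eq_μ_one {x : A} (hx : x ∈ 𝒜 0) : μ 𝒜 ht 0 x = μ 𝒜 ht 1 (x * t) := by
  apply val_injective
  have hxt : x * t ∈ 𝒜 1 := by simpa using SetLike.mul_mem_graded hx ht
  rw [val_μ_of_mem 𝒜 ht hx, val_μ_of_mem 𝒜 ht hxt, Localization.mk_eq_mk_iff,
    Localization.r_iff_exists]
  exact ⟨1, by simp; ring⟩

theorem μ_surjective (z : Away 𝒜 t) : ∃ n x, μ 𝒜 ht n x = z := by
  obtain ⟨n, x, hx, rfl⟩ := Away.mk_surjective 𝒜 ht z
  refine ⟨n, x, ?_⟩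
  apply val_injective
  rw [val_μ, Away.val_mk, decompose_of_mem_same 𝒜 hx]

/-- `μ` as an additive map. -/
noncomputable def μHom (n : ℕ) : A →+ Away 𝒜 t := AddMonoidHom.mk' (μ 𝒜 ht n) (μ_add 𝒜 ht n)

theorem μ_one : μ 𝒜 ht 0 1 = 1 := by
  apply val_injective
  rw [val_μ_of_mem 𝒜 ht SetLike.GradedOne.one_mem, val_one]
  exact Localization.mk_self (⟨t ^ 0, 0, rfl⟩ : Submonoid.powers t) |>.trans rfl |> fun h => by
    simpa using Localization.mk_one

variable (ρ₀ : R →+* 𝒜 0)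

theorem μ_smul (r : R) (n : ℕ) (x : A) :
    μ 𝒜 ht n ((ρ₀ r : A) * x) = (fromZeroRingHom 𝒜 (Submonoid.powers t)) (ρ₀ r) * μ 𝒜 ht n x := by
  apply val_injective
  rw [val_mul, val_μ, val_μ, coe_decompose_mul_of_left_mem_zero 𝒜 (ρ₀ r).2]
  change _ = Localization.mk (ρ₀ r : A) 1 * _
  rw [Localization.mk_mul, one_mul]

include ht in
set_option backward.isDefEq.respectTransparency false in
/-- If `A` is generated by `A₀` and `A₁`, and `A₁` is generated over `R` by a finite set, the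
degree-zero localization `A_(t)` (for `t` of degree one) is an `R`-algebra of finite type. -/
theorem finiteType
    (hgen : Subring.closure ((𝒜 0 : Set A) ∪ (𝒜 1 : Set A)) = ⊤)
    (T : Finset A)
    (hspan : ∀ x ∈ 𝒜 1, ∃ c : A → R, x = ∑ t' ∈ T, (ρ₀ (c t') : A) * t') :
    ((fromZeroRingHom 𝒜 (Submonoid.powers t)).comp ρ₀).FiniteType := by
  classical
  letI := ((fromZeroRingHom 𝒜 (Submonoid.powers t)).comp ρ₀).toAlgebra
  let gens : Finset (Away 𝒜 t) := T.image (μ 𝒜 ht 1)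
  let E : Subalgebra R (Away 𝒜 t) := Algebra.adjoin R (gens : Set (Away 𝒜 t))
  have hdeg1 : ∀ x ∈ 𝒜 1, μ 𝒜 ht 1 x ∈ E := by
    intro x hx
    obtain ⟨c, hc⟩ := hspan x hx
    rw [hc]
    change μHom 𝒜 ht 1 _ ∈ E
    rw [map_sum]
    refine Subalgebra.sum_mem _ fun t' ht' => ?_
    change μ 𝒜 ht 1 _ ∈ E
    rw [μ_smul]
    refine Subalgebra.mul_mem _ (Subalgebra.algebraMap_mem E (c t')) ?_
    exact Algebra.subset_adjoin (Finset.mem_coe.mpr (Finset.mem_image_of_mem _ ht'))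
  have hdeg0 : ∀ x ∈ 𝒜 0, μ 𝒜 ht 0 x ∈ E := by
    intro x hx
    rw [μ_zero_eq_μ_one 𝒜 ht hx]
    exact hdeg1 _ (by simpa using SetLike.mul_mem_graded hx ht)
  let H : Submonoid A :=
    { carrier := {h | ∃ m, h ∈ 𝒜 m ∧ μ 𝒜 ht m h ∈ E}
      one_mem' := ⟨0, SetLike.GradedOne.one_mem, by rw [μ_one]; exact Subalgebra.one_mem _⟩
      mul_mem' := by
        rintro x y ⟨a, hx, hxE⟩ ⟨b, hy, hyE⟩
        exact ⟨a + b, SetLike.mul_mem_graded hx hy, by
          rw [μ_mul 𝒜 ht hx hy]; exact Subalgebra.mul_mem _ hxE hyE⟩ }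
  have hsub : ((𝒜 0 : Set A) ∪ (𝒜 1 : Set A)) ⊆ H := by
    rintro x (hx | hx)
    · exact ⟨0, hx, hdeg0 x hx⟩
    · exact ⟨1, hx, hdeg1 x hx⟩
  have hQ : ∀ x : A, ∀ n, μ 𝒜 ht n x ∈ E := by
    intro x
    have hx : x ∈ Subring.closure ((𝒜 0 : Set A) ∪ (𝒜 1 : Set A)) := by rw [hgen]; trivial
    rw [Subring.mem_closure_iff] at hx
    induction hx using AddSubgroup.closure_induction with
    | mem y hy =>
      obtain ⟨m, hym, hyE⟩ := (Submonoid.closure_le.mpr hsub) hy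
      intro n
      by_cases hnm : m = n
      · subst hnm; exact hyE
      · rw [μ_of_mem_ne 𝒜 ht hym hnm]; exact Subalgebra.zero_mem _
    | zero => intro n; rw [μ_zero]; exact Subalgebra.zero_mem _
    | add y z _ _ hy hz => intro n; rw [μ_add]; exact Subalgebra.add_mem _ (hy n) (hz n)
    | neg y _ hy => intro n; rw [μ_neg]; exact Subalgebra.neg_mem _ (hy n)
  refine ⟨gens, ?_⟩
  rw [eq_top_iff]
  rintro z -
  obtain ⟨n, x, rfl⟩ := μ_surjective 𝒜 ht z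
  exact hQ x n

end Groth.Agent.Lib.Helper3.ProjFT
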