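import Groth.Agent.Lib.Helper3.TwistBC
import Groth.Agent.Lib.Helper3.ProjLoc
/-!
# Twisting sheaves under localization at a degree-zero element
-/
set_option autoImplicit false
universe u
open CategoryTheory CategoryTheory.Limits AlgebraicGeometry Opposite TopologicalSpace
open HomogeneousLocalization TensorProduct DirectSum
open scoped HomogeneousIdeal

namespace Groth.Agent.Lib.Helper3.ProjLocTwist

variable {A B σ τ : Type u} [CommRing A] [SetLike σ A] [AddSubgroupClass σ A]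
  [CommRing B] [SetLike τ B] [AddSubgroupClass τ B]
  (𝒜 : ℕ → σ) (ℬ : ℕ → τ) [GradedRing 𝒜] [GradedRing ℬ]
  (ψ : 𝒜 →+*ᵍ ℬ) (hψ : ℬ₊ ≤ (𝒜₊).map ψ) (g : A) (hg : g ∈ 𝒜 0)

/-- the degree-zero part of a graded ring homomorphism -/
def psi0 : 𝒜 0 →+* ℬ 0 where
  toFun r := ⟨ψ r, ψ.map_mem r.2⟩
  map_one' := Subtype.ext (map_one ψ)
  map_mul' x y := Subtype.ext (map_mul ψ (x : A) (y : A))
  map_zero' := Subtype.ext (map_zero ψ)
  map_add' x y := Subtype.ext (map_add ψ (x : A) (y : A))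

variable [Algebra A B] (hψA : ∀ a, ψ a = algebraMap A B a) [IsLocalization.Away g B]

include hψA in
theorem isLocAt : ProjLoc.IsLocAt ψ g := by
  refine ⟨?_, ?_, ?_⟩
  · rw [hψA]; exact IsLocalization.Away.algebraMap_isUnit g
  · intro b
    obtain ⟨⟨a, s, hs⟩, h'⟩ := IsLocalization.surj (Submonoid.powers g) b
    obtain ⟨k, rfl⟩ := (Submonoid.mem_powers_iff _ _).mp hs
    refine ⟨a, k, ?_⟩
    rw [← map_pow, hψA, hψA]
    exact h'
  · intro a ha
    rw [hψA, IsLocalization.map_eq_zero_iff (Submonoid.powers g)] at ha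
    obtain ⟨⟨_, k, rfl⟩, hk⟩ := ha
    exact ⟨k, hk⟩

include hψA hg in
theorem isUnit_psi0 : IsUnit (psi0 𝒜 ℬ ψ ⟨g, hg⟩) := by
  obtain ⟨v, hv, h1⟩ := (isLocAt 𝒜 ℬ ψ g hψA).exists_inv hg
  exact IsUnit.of_mul_eq_one (⟨v, hv⟩ : ℬ 0) (Subtype.ext h1)

include hψA hg in
theorem isIso_adjunct_comap (n : ℤ) :
    IsIso (((Scheme.Modules.pullbackPushforwardAdjunction (Proj.map ψ hψ)).homEquiv
      (GrTwist.twist 𝒜 n) (GrTwist.twist ℬ n)).symm (GrTwist.comap ψ hψ n)) := by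
  let g₀ : 𝒜 0 := ⟨g, hg⟩
  let ρ₀' := IsLocalization.Away.lift (S := Localization.Away g₀) g₀ (isUnit_psi0 𝒜 ℬ ψ g hg hψA)
  letI a1 : Algebra (Localization.Away g₀) B := ((algebraMap (ℬ 0) B).comp ρ₀').toAlgebra
  letI a2 : Algebra (𝒜 0) B := ((algebraMap A B).comp (algebraMap (𝒜 0) A)).toAlgebra
  haveI t1 : IsScalarTower (𝒜 0) A B := .of_algebraMap_eq' rfl
  haveI t2 : IsScalarTower (𝒜 0) (Localization.Away g₀) B := by
    refine IsScalarTower.of_algebraMap_eq (R := 𝒜 0) (S := Localization.Away g₀) (A := B) fun r => ?_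
    change algebraMap A B r = ((ρ₀' (algebraMap (𝒜 0) (Localization.Away g₀) r) : ℬ 0) : B)
    rw [IsLocalization.Away.lift_eq, ← hψA]
    rfl
  haveI : IsLocalization (Algebra.algebraMapSubmonoid A (Submonoid.powers g₀)) B := by
    rw [Algebra.algebraMapSubmonoid_powers]
    exact ‹IsLocalization.Away g B›
  haveI po : Algebra.IsPushout (𝒜 0) (Localization.Away g₀) A B :=
    (Algebra.isPushout_of_isLocalization (Submonoid.powers g₀) (Localization.Away g₀) A B).symm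
  exact TwistBC.isIso_adjunct_comap (R := 𝒜 0) (R' := Localization.Away g₀) 𝒜 ℬ (RingHom.id (𝒜 0))
    (fun _ => rfl) ρ₀' (fun _ => rfl) ψ hψA hψ n

end Groth.Agent.Lib.Helper3.ProjLocTwist
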