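import Mathlib.Algebra.Homology.HomotopyCategory.KProjective
import Mathlib.Algebra.Homology.HomotopyCategory.HomologicalFunctor
import Mathlib.Algebra.Homology.HomotopyCategory.ShiftSequence
import Mathlib.Algebra.Homology.HomotopyCategory.Triangulated

set_option autoImplicit false
universe v u
open CategoryTheory CategoryTheory.Limits

namespace Groth.Agent.Lib.Helper3

open CochainComplex HomComplex

/-- One step of the descending induction constructing a null-homotopy. -/
theorem projNullHomotopy_step {A : Type u} [Category.{v} A] [Abelian A]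
    {K L : CochainComplex A ℤ} (f : K ⟶ L) (α : Cochain K L (-1)) (m : ℤ)
    (hL : L.ExactAt m) [Projective (K.X m)]
    (hα : ∀ p : ℤ, m < p → (δ (-1) 0 α).v p p (add_zero p) = f.f p) :
    ∃ α' : Cochain K L (-1), ∀ p : ℤ, m ≤ p → (δ (-1) 0 α').v p p (add_zero p) = f.f p := by
  let u : K.X m ⟶ L.X m := f.f m - K.d m (m + 1) ≫ α.v (m + 1) m (by omega) -
    α.v m (m - 1) (by omega) ≫ L.d (m - 1) m
  have hu : u ≫ L.d m (m + 1) = 0 := by
    have eq := hα (m + 1) (by omega)
    rw [δ_v (-1) 0 (neg_add_cancel 1) α (m + 1) (m + 1) (add_zero _) m (m + 2)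
      (by omega) (by omega)] at eq
    simp only [Int.negOnePow_zero, one_smul] at eq
    simp only [u, Preadditive.sub_comp, Category.assoc, L.d_comp_d, comp_zero,
      f.comm, ← eq, Preadditive.comp_add, K.d_comp_d_assoc, zero_comp, add_zero, sub_self]
  rw [L.exactAt_iff' (m - 1) m (m + 1) (by simp) (by simp)] at hL
  obtain ⟨β, hβ⟩ : ∃ β : K.X m ⟶ L.X (m - 1), β ≫ L.d (m - 1) m = u :=
    ⟨hL.liftFromProjective u hu, hL.liftFromProjective_comp u hu⟩
  refine ⟨α + Cochain.single β (-1), ?_⟩
  intro p hp
  obtain hp | rfl := hp.lt_or_eq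
  · rw [δ_add, Cochain.add_v, hα p hp, add_eq_left,
      δ_v (-1) 0 (neg_add_cancel 1) _ p p (add_zero p) (p - 1) (p + 1) rfl rfl,
      Cochain.single_v_eq_zero _ _ _ _ _ (by omega),
      Cochain.single_v_eq_zero _ _ _ _ _ (by omega)]
    simp
  · rw [δ_add, Cochain.add_v,
      δ_v (-1) 0 (neg_add_cancel 1) _ m m (add_zero m) (m - 1) (m + 1) rfl rfl,
      δ_v (-1) 0 (neg_add_cancel 1) _ m m (add_zero m) (m - 1) (m + 1) rfl rfl,
      Cochain.single_v_eq_zero _ _ _ _ _ (by omega : m + 1 ≠ m),
      Cochain.single_v β (-1) (by omega)]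
    simp only [hβ, u, Int.negOnePow_zero, one_smul, comp_zero, add_zero]
    abel

/-- A morphism from a bounded complex of projectives concentrated in degrees `≥ n` to a complex
which is exact in degrees `≥ n` is null-homotopic. -/
theorem nonempty_homotopy_zero_of_projective {A : Type u} [Category.{v} A] [Abelian A]
    {K L : CochainComplex A ℤ} (f : K ⟶ L) (n b : ℤ) [K.IsStrictlyGE n] [K.IsStrictlyLE b]
    (hK : ∀ i : ℤ, Projective (K.X i)) (hL : ∀ i : ℤ, n ≤ i → L.ExactAt i) :
    Nonempty (Homotopy f 0) := by
  have H : ∀ k : ℕ, ∃ α : Cochain K L (-1),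
      ∀ p : ℤ, b - k < p → (δ (-1) 0 α).v p p (add_zero p) = f.f p := by
    intro k
    induction k with
    | zero =>
      exact ⟨0, fun p hp => (K.isZero_of_isStrictlyLE b p (by simpa using hp)).eq_of_src _ _⟩
    | succ k ih =>
      obtain ⟨α, hα⟩ := ih
      by_cases hm : n ≤ b - k
      · have := hK (b - k)
        obtain ⟨α', hα'⟩ := projNullHomotopy_step f α (b - k) (hL _ hm) hα
        exact ⟨α', fun p hp => hα' p (by push_cast at hp; omega)⟩
      · refine ⟨α, fun p hp => ?_⟩
        by_cases hp' : b - k < p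
        · exact hα p hp'
        · exact (K.isZero_of_isStrictlyGE n p (by push_cast at hp; omega)).eq_of_src _ _
  obtain ⟨α, hα⟩ := H (b - n + 1).toNat
  refine ⟨(Cochain.equivHomotopy f 0).symm ⟨α, ?_⟩⟩
  rw [Cochain.ofHom_zero, add_zero]
  ext p
  by_cases hp : n ≤ p
  · rw [hα p (by omega)]
    simp
  · exact (K.isZero_of_isStrictlyGE n p (by omega)).eq_of_src _ _

set_option backward.defeqAttrib.useBackward true in
set_option backward.isDefEq.respectTransparency false in
open CategoryTheory.Pretriangulated in
/-- If `Hⁱ(α)` is an epimorphism and `Hⁱ⁺¹(α)` is a monomorphism, the mapping cone of `α` is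
exact in degree `i`. -/
theorem mappingCone_exactAt {A : Type u} [Category.{v} A] [Abelian A]
    {E L : CochainComplex A ℤ} (α : E ⟶ L) (i : ℤ)
    (h1 : Epi (HomologicalComplex.homologyMap α i))
    (h2 : Mono (HomologicalComplex.homologyMap α (i + 1))) :
    (mappingCone α).ExactAt i := by
  let F := HomotopyCategory.homologyFunctor A (ComplexShape.up ℤ) 0
  have hT := HomotopyCategory.mappingCone_triangleh_distinguished α
  have key' : ∀ j : ℤ, (HomotopyCategory.homologyFunctor A (ComplexShape.up ℤ) j).map
        ((HomotopyCategory.quotient A (ComplexShape.up ℤ)).map α) =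
      (HomotopyCategory.homologyFunctorFactors A (ComplexShape.up ℤ) j).hom.app E ≫
        HomologicalComplex.homologyMap α j ≫
        (HomotopyCategory.homologyFunctorFactors A (ComplexShape.up ℤ) j).inv.app L := by
    intro j
    have := (HomotopyCategory.homologyFunctorFactors A (ComplexShape.up ℤ) j).hom.naturality α
    dsimp at this
    rw [← Category.assoc, ← this, Category.assoc, Iso.hom_inv_id_app]
    exact (Category.comp_id _).symm
  have key : ∀ j : ℤ, (F.shift j).map (mappingCone.triangleh α).mor₁ =
      (HomotopyCategory.homologyFunctorFactors A (ComplexShape.up ℤ) j).hom.app E ≫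
        HomologicalComplex.homologyMap α j ≫
        (HomotopyCategory.homologyFunctorFactors A (ComplexShape.up ℤ) j).inv.app L :=
    fun j => key' j
  have e1 : Epi ((F.shift i).map (mappingCone.triangleh α).mor₁) := by
    rw [key]
    infer_instance
  have e2 : Mono ((F.shift (i + 1)).map (mappingCone.triangleh α).mor₁) := by
    rw [key]
    infer_instance
  have z1 := (F.homologySequence_epi_shift_map_mor₁_iff _ hT i).1 e1
  have z2 := (F.homologySequence_mono_shift_map_mor₁_iff _ hT i (i + 1) rfl).1 e2
  have e3 := (F.homologySequence_epi_shift_map_mor₂_iff _ hT i (i + 1) rfl).2 z2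
  have hz := IsZero.of_epi_eq_zero _ z1
  rw [HomologicalComplex.exactAt_iff_isZero_homology]
  exact hz.of_iso ((HomotopyCategory.homologyFunctorFactors A (ComplexShape.up ℤ) i).app
    (mappingCone α)).symm

end Groth.Agent.Lib.Helper3
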