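import Groth.Agent.Lib.Helper3.ProjAux3
import Mathlib.RingTheory.MvPolynomial.Homogeneous
import Mathlib.AlgebraicGeometry.Morphisms.Proper
/-!
# `Proj A → Spec R` is proper when `A` is generated in degrees 0, 1 and `A₁` is a finite `R`-module
(closed immersion into `Proj R[x_t]`)
-/
set_option autoImplicit false
set_option linter.unusedSectionVars false
universe u
open CategoryTheory CategoryTheory.Limits AlgebraicGeometry Opposite TopologicalSpace
open HomogeneousLocalization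
open scoped HomogeneousIdeal

namespace Groth.Agent.Lib.Helper3.ProjPoly
variable {R A σ : Type u} [CommRing R] [CommRing A] [SetLike σ A] [AddSubgroupClass σ A]
  (𝒜 : ℕ → σ) [GradedRing 𝒜]
variable (ψ₀ : R →+* 𝒜 0) (T : Finset A)

/-- the polynomial ring on `T` maps to `A` -/
noncomputable def polyHom : MvPolynomial T R →+* A :=
  MvPolynomial.eval₂Hom ((algebraMap (𝒜 0) A).comp ψ₀) (fun t => t.1)

theorem polyHom_C (r : R) : polyHom 𝒜 ψ₀ T (MvPolynomial.C r) = (ψ₀ r : A) := by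
  rw [polyHom, MvPolynomial.coe_eval₂Hom, MvPolynomial.eval₂_C]; rfl

theorem polyHom_X (t : T) : polyHom 𝒜 ψ₀ T (MvPolynomial.X t) = t.1 := by
  rw [polyHom, MvPolynomial.coe_eval₂Hom, MvPolynomial.eval₂_X]

variable (hT : ∀ t ∈ T, t ∈ 𝒜 1)

include hT in
theorem polyHom_mem {n : ℕ} {q : MvPolynomial T R}
    (hq : q ∈ MvPolynomial.homogeneousSubmodule T R n) : polyHom 𝒜 ψ₀ T q ∈ 𝒜 n := by
  classical
  rw [MvPolynomial.mem_homogeneousSubmodule] at hq
  rw [q.as_sum, map_sum]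
  refine sum_mem fun d hd => ?_
  rw [polyHom, MvPolynomial.coe_eval₂Hom, MvPolynomial.eval₂_monomial]
  have hdeg : d.degree = n := by
    rw [Finsupp.degree_eq_weight_one]
    exact hq (MvPolynomial.mem_support_iff.mp hd)
  have h0 : ((algebraMap (𝒜 0) A).comp ψ₀) (MvPolynomial.coeff d q) ∈ 𝒜 0 := (ψ₀ _).2
  have h1 : (d.prod fun t e => (t.1 : A) ^ e) ∈ 𝒜 n := by
    rw [Finsupp.prod]
    have := SetLike.prod_pow_mem_graded 𝒜 (F := d.support) (i := fun _ => 1) (g := fun t : T => (t.1 : A))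
      (fun t => d t) (fun t _ => hT t.1 t.2)
    have hsum : ∑ k ∈ d.support, d k • 1 = n := by
      rw [← hdeg, Finsupp.degree_apply]
      simp
    rw [hsum] at this
    exact this
  have := SetLike.mul_mem_graded h0 h1
  rwa [zero_add] at this

attribute [local instance] MvPolynomial.gradedAlgebra

/-- the graded homomorphism from the polynomial ring -/
noncomputable def polyGHom : (MvPolynomial.homogeneousSubmodule T R) →+*ᵍ 𝒜 :=
  { polyHom 𝒜 ψ₀ T with map_mem := fun hx => polyHom_mem 𝒜 ψ₀ T hT hx }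

theorem polyGHom_apply (q : MvPolynomial T R) : polyGHom 𝒜 ψ₀ T hT q = polyHom 𝒜 ψ₀ T q := rfl

variable (hgen : Subring.closure ((𝒜 0 : Set A) ∪ (𝒜 1 : Set A)) = ⊤)
  (hspan : ∀ x ∈ 𝒜 1, ∃ c : A → R, x = ∑ t ∈ T, (ψ₀ (c t) : A) * t)

include hgen hspan in
theorem polyGHom_surjOn : ∀ n : ℕ, 0 < n → ∀ b ∈ 𝒜 n,
    ∃ a ∈ MvPolynomial.homogeneousSubmodule T R n, polyGHom 𝒜 ψ₀ T hT a = b := by
  refine ProjAux.surjOn_pos_of_genDegOne _ 𝒜 (polyGHom 𝒜 ψ₀ T hT) hgen ?_
  intro b hb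
  obtain ⟨c, hc⟩ := hspan b hb
  refine ⟨∑ t : T, MvPolynomial.C (c t.1) * MvPolynomial.X t, ?_, ?_⟩
  · refine sum_mem fun t _ => ?_
    rw [MvPolynomial.mem_homogeneousSubmodule]
    have := (MvPolynomial.isHomogeneous_C (σ := T) (c t.1)).mul (MvPolynomial.isHomogeneous_X R t)
    rwa [zero_add] at this
  · rw [polyGHom_apply, map_sum, hc, ← Finset.sum_attach T]
    refine Finset.sum_congr rfl fun t _ => ?_
    rw [map_mul, polyHom_C, polyHom_X]

include hgen hspan in
theorem polyGHom_irr : 𝒜₊ ≤ (MvPolynomial.homogeneousSubmodule T R)₊.map (polyGHom 𝒜 ψ₀ T hT) := by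
  rw [HomogeneousIdeal.irrelevant_le]
  intro i hi x hx
  obtain ⟨a, ha, rfl⟩ := polyGHom_surjOn 𝒜 ψ₀ T hT hgen hspan i hi x hx
  apply Ideal.mem_map_of_mem
  exact HomogeneousIdeal.mem_irrelevant_of_mem _ hi ha

include hT hgen hspan in
/-- `Proj A → Spec A₀ → Spec R` is proper when `A` is generated in degrees `0, 1` and `A₁` is a finite
`R`-module. -/
theorem isProper_toSpecZero_comp :
    IsProper (Proj.toSpecZero 𝒜 ≫ Spec.map (CommRingCat.ofHom ψ₀)) := by
  classical
  have hirr := polyGHom_irr 𝒜 ψ₀ T hT hgen hspan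
  have hci : IsClosedImmersion (Proj.map (polyGHom 𝒜 ψ₀ T hT) hirr) :=
    ProjAux.isClosedImmersion_map_of_pos _ _ (polyGHom 𝒜 ψ₀ T hT)
      (polyGHom_surjOn 𝒜 ψ₀ T hT hgen hspan) hirr
  let ρ : R →+* (MvPolynomial.homogeneousSubmodule T R 0) :=
    algebraMap R (MvPolynomial.homogeneousSubmodule T R 0)
  have hρ : Function.Surjective ρ := by
    rintro ⟨x, hx⟩
    rw [MvPolynomial.homogeneousSubmodule_zero, Submodule.mem_one] at hx
    obtain ⟨r, rfl⟩ := hx
    exact ⟨r, Subtype.ext rfl⟩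
  have hcomp : (polyGHom 𝒜 ψ₀ T hT).gradedZeroRingHom.comp ρ = ψ₀ := by
    ext r
    exact polyHom_C 𝒜 ψ₀ T r
  have hst : IsScalarTower R (MvPolynomial.homogeneousSubmodule T R 0) (MvPolynomial T R) :=
    IsScalarTower.of_algebraMap_eq (R := R) (S := MvPolynomial.homogeneousSubmodule T R 0)
      (A := MvPolynomial T R) fun r => rfl
  have hft : Algebra.FiniteType (MvPolynomial.homogeneousSubmodule T R 0) (MvPolynomial T R) :=
    Algebra.FiniteType.of_restrictScalars_finiteType R _ _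
  have h1 : IsProper (Proj.toSpecZero (MvPolynomial.homogeneousSubmodule T R)) := inferInstance
  have h2 : IsClosedImmersion (Spec.map (CommRingCat.ofHom ρ)) :=
    IsClosedImmersion.spec_of_surjective _ hρ
  have key : Proj.toSpecZero 𝒜 ≫ Spec.map (CommRingCat.ofHom ψ₀) =
      Proj.map (polyGHom 𝒜 ψ₀ T hT) hirr ≫
        Proj.toSpecZero (MvPolynomial.homogeneousSubmodule T R) ≫ Spec.map (CommRingCat.ofHom ρ) := by
    have e1 : Spec.map (CommRingCat.ofHom ψ₀) =
        Spec.map (CommRingCat.ofHom (polyGHom 𝒜 ψ₀ T hT).gradedZeroRingHom) ≫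
          Spec.map (CommRingCat.ofHom ρ) := by
      rw [← Spec.map_comp, ← CommRingCat.ofHom_comp, hcomp]
    rw [e1, ← Category.assoc, ← ProjAux.map_toSpecZero, Category.assoc]
  rw [key]
  infer_instance

end Groth.Agent.Lib.Helper3.ProjPoly
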