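import Groth.Agent.Lib.Helper3.ProjLoc
/-!
# The preimage of `D(c)` under `Proj 𝒜 ⟶ Spec 𝒜₀` is `D₊(c)`
-/
universe u
open CategoryTheory CategoryTheory.Limits AlgebraicGeometry Opposite TopologicalSpace
open HomogeneousLocalization DirectSum
open scoped HomogeneousIdeal

namespace Groth.Agent.Lib.Helper3.ProjLoc
variable {A σ : Type u} [CommRing A] [SetLike σ A] [AddSubgroupClass σ A]
  {𝒜 : ℕ → σ} [GradedRing 𝒜] {c : A} (hc : c ∈ 𝒜 0)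

theorem isLocalizationElem_eq {d : ℕ} {s : A} (hs : s ∈ 𝒜 d) :
    Away.isLocalizationElem hs (SetLike.mul_mem_graded hc hs) = cAway 𝒜 hc s ^ d := by
  apply val_injective
  rw [val_pow, val_cAway, Away.val_mk, Localization.mk_pow, Localization.mk_eq_mk_iff,
    Localization.r_iff_exists]
  refine ⟨1, ?_⟩
  simp only [OneMemClass.coe_one, one_mul, one_pow, zero_add]
  ring

theorem mem_toSpecZero_preimage_iff (q : Proj 𝒜) :
    q ∈ Proj.toSpecZero 𝒜 ⁻¹ᵁ PrimeSpectrum.basicOpen (⟨c, hc⟩ : 𝒜 0) ↔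
      c ∉ q.asHomogeneousIdeal := by
  obtain ⟨⟨i, s⟩, x, hx⟩ : ∃ t : (Proj.affineOpenCover 𝒜).I₀, ∃ x,
      Proj.awayι 𝒜 t.2.1 t.2.2 t.1.pos x = q := ⟨_, (Proj.affineOpenCover 𝒜).covers q⟩
  have hi : 0 < (i : ℕ) := i.pos
  change Proj.awayι 𝒜 s.1 s.2 hi x = q at hx
  have hqs : q ∈ Proj.basicOpen 𝒜 s.1 := by
    rw [← Proj.opensRange_awayι 𝒜 s.1 s.2 hi]; exact ⟨x, hx⟩
  have hcs : c * s.1 ∈ 𝒜 (0 + i) := SetLike.mul_mem_graded hc s.2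
  have hpos : 0 < 0 + (i : ℕ) := by omega
  have h1 := awayι_mem_preimage_toSpecZero hc hi s.1 s.2 x
  rw [hx] at h1
  rw [h1]
  have h2 := Proj.awayι_preimage_basicOpen 𝒜 s.2 hi hcs hpos
  have h3 : x ∈ Proj.awayι 𝒜 s.1 s.2 hi ⁻¹ᵁ Proj.basicOpen 𝒜 (c * s.1) ↔
      q ∈ Proj.basicOpen 𝒜 (c * s.1) := by rw [← hx]; rfl
  rw [h2, isLocalizationElem_eq hc s.2] at h3
  have h4 : x ∈ PrimeSpectrum.basicOpen (cAway 𝒜 hc s.1 ^ (i : ℕ)) ↔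
      cAway 𝒜 hc s.1 ∉ x.asIdeal := by
    rw [PrimeSpectrum.basicOpen_pow _ _ hi]; rfl
  refine h4.symm.trans (h3.trans ?_)
  rw [Proj.basicOpen_mul]
  constructor
  · rintro ⟨h, -⟩; exact h
  · intro h; exact ⟨h, hqs⟩

/-- The preimage of `D(c)` under the structure morphism is `D₊(c)`. -/
theorem toSpecZero_preimage_basicOpen :
    Proj.toSpecZero 𝒜 ⁻¹ᵁ PrimeSpectrum.basicOpen (⟨c, hc⟩ : 𝒜 0) = Proj.basicOpen 𝒜 c := by
  ext q
  exact mem_toSpecZero_preimage_iff hc q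

end Groth.Agent.Lib.Helper3.ProjLoc
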