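import Groth.Agent.Lib.Helper3.RelProjExist
import Mathlib.AlgebraicGeometry.Morphisms.Affine
import Groth.Agent.Lib.Helper3.GrSymAlg
import Groth.Agent.Lib.Helper3.SymLine
import Groth.Agent.Lib.Helper3.RelTwistAmpleP
import Groth.Agent.Lib.Helper3.QCAlgSub
import Mathlib.AlgebraicGeometry.Morphisms.Finite
/-!
# Direct image of a quasi-coherent graded algebra along an affine morphism; finite morphisms are projective
-/
set_option autoImplicit false
set_option linter.unusedSectionVars false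
universe u
open CategoryTheory CategoryTheory.Limits AlgebraicGeometry Opposite TopologicalSpace
open scoped HomogeneousIdeal

namespace Groth.Agent.Lib.Helper3.PushAlg
open RelProj RelSpec Groth.Agent.Lib.Helper3

variable {X Y : Scheme.{u}} (f : X ⟶ Y) [IsAffineHom f]

/-- the localization property for an open which is propositionally a basic open -/
theorem isQC_of_eq (A : QCAlg X) (W : X.Opens) (hW : IsAffineOpen W) (r' : Γ(X, W)) (V : X.Opens)
    (hV : V = X.basicOpen r') (i : V ≤ W) :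
    letI := (A.presheaf.map (homOfLE i).op).hom.toAlgebra
    IsLocalization.Away ((A.str.app (op W)).hom r') (A.presheaf.obj (op V)) := by
  subst hV
  exact A.isQC W hW r'

/-- **The direct image of a quasi-coherent graded algebra along an affine morphism.** -/
noncomputable def pushQCGrAlg (𝒮 : QCGrAlg X) : QCGrAlg Y where
  presheaf := (TopCat.Presheaf.pushforward CommRingCat.{u} f.base).obj 𝒮.presheaf
  isSheaf := TopCat.Sheaf.pushforward_sheaf_of_sheaf f.base 𝒮.isSheaf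
  str := f.c ≫ (TopCat.Presheaf.pushforward CommRingCat.{u} f.base).map 𝒮.str
  isQC := fun U hU r =>
    isQC_of_eq 𝒮.toQCAlg (f ⁻¹ᵁ U) (hU.preimage f) (f.app U r) (f ⁻¹ᵁ Y.basicOpen r)
      (Scheme.preimage_basicOpen f r) (f.preimage_mono (Y.basicOpen_le r))
  deg := fun U hU => 𝒮.deg (f ⁻¹ᵁ U) (hU.preimage f)
  graded := fun U hU => 𝒮.graded (f ⁻¹ᵁ U) (hU.preimage f)
  map_mem := fun hU hV i _ _ hx => 𝒮.map_mem (hU.preimage f) (hV.preimage f) (f.preimage_mono i) hx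
  str_mem := fun U hU r => 𝒮.str_mem (f ⁻¹ᵁ U) (hU.preimage f) (f.app U r)

variable {PL : Scheme.{u}} {𝒮 : QCGrAlg X} {pL : PL ⟶ X}
  {chartL : ∀ (U : X.Opens) (hU : IsAffineOpen U), (((pL ⁻¹ᵁ U : PL.Opens) : Scheme.{u}) ≅ Proj (𝒮.deg U hU))}
  (hPL : IsRelProj 𝒮 pL chartL)

include hPL in
/-- `chart_res` for an open which is propositionally a basic open -/
theorem chart_res_of_eq (W : X.Opens) (hW : IsAffineOpen W) (r' : Γ(X, W)) (V : X.Opens)
    (hV : IsAffineOpen V) (hVr : V = X.basicOpen r') (i : V ≤ W)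
    (hirr : (𝒮.deg V hV)₊ ≤ ((𝒮.deg W hW)₊).map (𝒮.res hW hV i)) :
    PL.homOfLE (pL.preimage_mono i) ≫ (chartL W hW).hom =
      (chartL V hV).hom ≫ Proj.map (𝒮.res hW hV i) hirr := by
  subst hVr
  exact hPL.chart_res W hW r'

include hPL in
/-- **The relative `Proj` of the direct image along an affine morphism is the relative `Proj` upstairs.** -/
theorem isRelProj_push :
    IsRelProj (pushQCGrAlg f 𝒮) (pL ≫ f) (fun U hU => chartL (f ⁻¹ᵁ U) (hU.preimage f)) where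
  chart_over U hU := by
    have h1 : (pushQCGrAlg f 𝒮).strZero U hU = f.app U ≫ 𝒮.strZero (f ⁻¹ᵁ U) (hU.preimage f) := by
      ext r; rfl
    have h2 : Spec.map (f.app U) ≫ hU.fromSpec = (hU.preimage f).fromSpec ≫ f := by
      have := IsAffineOpen.SpecMap_appLE_fromSpec f hU (hU.preimage f) le_rfl
      rwa [← Scheme.Hom.app_eq_appLE] at this
    have h3 := hPL.chart_over (f ⁻¹ᵁ U) (hU.preimage f)
    have h5 : Spec.map (f.app U ≫ 𝒮.strZero (f ⁻¹ᵁ U) (hU.preimage f)) ≫ hU.fromSpec =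
        Spec.map (𝒮.strZero (f ⁻¹ᵁ U) (hU.preimage f)) ≫ (hU.preimage f).fromSpec ≫ f := by
      rw [Spec.map_comp, Category.assoc, h2]
    show (chartL (f ⁻¹ᵁ U) (hU.preimage f)).hom ≫ Proj.toSpecZero (𝒮.deg (f ⁻¹ᵁ U) (hU.preimage f)) ≫
        Spec.map ((pushQCGrAlg f 𝒮).strZero U hU) ≫ hU.fromSpec = (pL ⁻¹ᵁ (f ⁻¹ᵁ U)).ι ≫ pL ≫ f
    rw [h1]
    refine Eq.trans (b := (chartL (f ⁻¹ᵁ U) (hU.preimage f)).hom ≫
        Proj.toSpecZero (𝒮.deg (f ⁻¹ᵁ U) (hU.preimage f)) ≫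
        Spec.map (𝒮.strZero (f ⁻¹ᵁ U) (hU.preimage f)) ≫ (hU.preimage f).fromSpec ≫ f) ?_ ?_
    · exact congrArg (fun t => (chartL (f ⁻¹ᵁ U) (hU.preimage f)).hom ≫
        Proj.toSpecZero (𝒮.deg (f ⁻¹ᵁ U) (hU.preimage f)) ≫ t) h5
    · have h4 := congrArg (fun t => t ≫ f) h3
      simp only [Category.assoc] at h4
      exact h4
  chart_res U hU r :=
    chart_res_of_eq hPL (f ⁻¹ᵁ U) (hU.preimage f) (f.app U r) (f ⁻¹ᵁ Y.basicOpen r)
      ((hU.basicOpen r).preimage f) (Scheme.preimage_basicOpen f r) (f.preimage_mono (Y.basicOpen_le r)) _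

end Groth.Agent.Lib.Helper3.PushAlg

open CategoryTheory CategoryTheory.Limits AlgebraicGeometry Opposite TopologicalSpace
open scoped HomogeneousIdeal
open Groth.Agent.Lib.Helper29

namespace Groth.Agent.Lib.Helper3.PushAlg
open RelProj RelSpec Groth.Agent.Lib.Helper3 Groth.Agent.Lib.Helper3.SymQC

/-- the degree one part of the symmetric algebra over an affine open is the image of `j` -/
theorem exists_j_eq_of_mem_deg_one {S : Scheme.{u}} (E : S.Modules) [E.IsQuasicoherent]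
    (U : S.Opens) (hU : IsAffineOpen U) (x : (symAlg E).presheaf.obj (op U)) (hx : x ∈ sdeg E U hU 1) :
    ∃ m : Γ(E, U), (show (symAlg E).presheaf.obj (op U) from (SymQC.j E).app U m) = x := by
  have h1 := (mem_sdeg_iff E U hU 1 x).mp hx
  rw [SymGr.symDeg, pow_one] at h1
  obtain ⟨m, hm⟩ := h1
  refine ⟨m, ?_⟩
  rw [j_app E U hU, hm, γi_γh]

/-- **A finite morphism is projective.** -/
theorem isProjective_of_isFinite {X Y : Scheme.{u}} (f : X ⟶ Y) [IsFinite f] : RelProj.IsProjective f := by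
  have hL : PicF.IsInvertible (QCoh.unitM X) := QCoh.isInvertible_unit X
  have hq : (QCoh.unitM X).IsQuasicoherent := QCoh.isQuasicoherent_of_isInvertible hL
  have hj := isGrSymAlg (QCoh.unitM X)
  have hPL := RelProjExist.isRelProj (grSymAlg (QCoh.unitM X))
  have hiso : IsIso (RelProjExist.relProjπ (grSymAlg (QCoh.unitM X))) := SymLine.isIso_pL hL hj hPL
  refine ⟨pushQCGrAlg f (grSymAlg (QCoh.unitM X)), _, RelProjExist.relProjπ (grSymAlg (QCoh.unitM X)) ≫ f,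
    fun U hU => RelProjExist.chart (grSymAlg (QCoh.unitM X)) (f ⁻¹ᵁ U) (hU.preimage f),
    (asIso (RelProjExist.relProjπ (grSymAlg (QCoh.unitM X)))).symm, ?_, ?_, isRelProj_push f hPL, ?_⟩
  · intro U hU
    exact RelGlued.isGenDegOne_of_isGrSymAlg (QCoh.unitM X) _ _ hj (f ⁻¹ᵁ U) (hU.preimage f)
  · intro U hU
    classical
    have hV : IsAffineOpen (f ⁻¹ᵁ U) := hU.preimage f
    have hT : QCoh.IsTriv (QCoh.unitM X) (f ⁻¹ᵁ U) (QCoh.toUnit 1) := QCoh.isTriv_unit (f ⁻¹ᵁ U)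
    let t₀ : (grSymAlg (QCoh.unitM X)).presheaf.obj (op (f ⁻¹ᵁ U)) :=
      (SymQC.j (QCoh.unitM X)).app (f ⁻¹ᵁ U) (QCoh.toUnit 1)
    have ht₀ : t₀ ∈ (grSymAlg (QCoh.unitM X)).deg (f ⁻¹ᵁ U) hV 1 := hj.2 _ hV (QCoh.toUnit 1)
    letI algXY : Algebra Γ(Y, U) Γ(X, f ⁻¹ᵁ U) := (f.app U).hom.toAlgebra
    have hmf : Module.Finite Γ(Y, U) Γ(X, f ⁻¹ᵁ U) := IsFinite.finite_app f U hU
    letI algM : Algebra Γ(Y, U) ((grSymAlg (QCoh.unitM X)).presheaf.obj (op (f ⁻¹ᵁ U))) :=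
      (((grSymAlg (QCoh.unitM X)).str.app (op (f ⁻¹ᵁ U))).hom.comp (f.app U).hom).toAlgebra
    let lin : Γ(X, f ⁻¹ᵁ U) →ₗ[Γ(Y, U)] (grSymAlg (QCoh.unitM X)).presheaf.obj (op (f ⁻¹ᵁ U)) :=
      { toFun := fun r => ((grSymAlg (QCoh.unitM X)).str.app (op (f ⁻¹ᵁ U))).hom r * t₀
        map_add' := fun a b => by rw [map_add, add_mul]
        map_smul' := fun c r => by
          change ((grSymAlg (QCoh.unitM X)).str.app (op (f ⁻¹ᵁ U))).hom ((f.app U).hom c * r) * t₀ =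
            ((grSymAlg (QCoh.unitM X)).str.app (op (f ⁻¹ᵁ U))).hom ((f.app U).hom c) *
              (((grSymAlg (QCoh.unitM X)).str.app (op (f ⁻¹ᵁ U))).hom r * t₀)
          rw [map_mul, mul_assoc] }
    have hrange : ∀ x, x ∈ (grSymAlg (QCoh.unitM X)).deg (f ⁻¹ᵁ U) hV 1 ↔ x ∈ Submodule.map lin ⊤ := by
      intro x
      constructor
      · intro hx
        obtain ⟨m, rfl⟩ := exists_j_eq_of_mem_deg_one (QCoh.unitM X) (f ⁻¹ᵁ U) hV x hx
        obtain ⟨r, hr⟩ := (hT.bijective).2 m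
        refine ⟨r, trivial, ?_⟩
        change ((grSymAlg (QCoh.unitM X)).str.app (op (f ⁻¹ᵁ U))).hom r * t₀ = _
        have hr' : r • (QCoh.toUnit 1 : Γ(QCoh.unitM X, f ⁻¹ᵁ U)) = m := hr
        rw [← hr']
        exact (Scheme.Modules.Hom.app_smul (SymQC.j (QCoh.unitM X)) r (QCoh.toUnit 1)).symm
      · rintro ⟨r, -, rfl⟩
        have := SetLike.mul_mem_graded ((grSymAlg (QCoh.unitM X)).str_mem _ hV r) ht₀
        rw [zero_add] at this
        exact this
    have hfg : (Submodule.map lin ⊤).FG := (Module.Finite.fg_top).map lin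
    obtain ⟨T, hTspan⟩ := hfg
    refine ⟨T, ?_, ?_⟩
    · intro (t : (grSymAlg (QCoh.unitM X)).presheaf.obj (op (f ⁻¹ᵁ U))) ht
      exact (hrange t).mpr (hTspan ▸ Submodule.subset_span ht)
    · intro (x : (grSymAlg (QCoh.unitM X)).presheaf.obj (op (f ⁻¹ᵁ U))) hx
      have hx' : x ∈ Submodule.span Γ(Y, U) (T : Set ((grSymAlg (QCoh.unitM X)).presheaf.obj (op (f ⁻¹ᵁ U)))) :=
        hTspan ▸ (hrange x).mp hx
      obtain ⟨c, -, hc⟩ := Submodule.mem_span_finset.mp hx'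
      exact ⟨c, hc.symm⟩
  · simp

end Groth.Agent.Lib.Helper3.PushAlg
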