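import Groth.Agent.Lib.Helper3.OfAff
import Groth.Agent.Lib.Helper3.LocColim
/-!
# Filtered colimits of quasi-coherent algebras
-/
universe u
open CategoryTheory CategoryTheory.Limits AlgebraicGeometry Opposite TopologicalSpace
open RelSpec AlgebraicGeometry.Scheme.AffineZariskiSite

namespace Groth.Agent.Lib.Helper3.QCAlgColim

variable {S : Scheme.{u}}

/-- The sections functor over an open. -/
@[simps]
def secF (U : S.Opens) : QCAlg S ⥤ CommRingCat.{u} where
  obj B := B.presheaf.obj (op U)
  map φ := φ.hom.app (op U)

/-- Restriction of a quasi-coherent algebra to the affine site. -/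
@[simps]
def affRes : QCAlg S ⥤ (S.AffineZariskiSiteᵒᵖ ⥤ CommRingCat.{u}) where
  obj B := (toOpensFunctor S).op ⋙ B.presheaf
  map φ := (toOpensFunctor S).op.whiskerLeft φ.hom

/-- The structure sheaf on the affine site. -/
abbrev OAff (S : Scheme.{u}) : S.AffineZariskiSiteᵒᵖ ⥤ CommRingCat.{u} :=
  (toOpensFunctor S).op ⋙ S.presheaf

/-- The structure map on the affine site. -/
def strAff (B : QCAlg S) : OAff S ⟶ affRes.obj B := (toOpensFunctor S).op.whiskerLeft B.str

theorem strAff_map {B B' : QCAlg S} (φ : B ⟶ B') : strAff B ≫ affRes.map φ = strAff B' := by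
  ext W : 2
  exact congrArg (fun k => k.app (op W.unop.1)) φ.comm

variable {J : Type u} [SmallCategory J] [IsFiltered J] (A : J ⥤ QCAlg S)

/-- The sectionwise colimit on the affine site. -/
noncomputable abbrev F : S.AffineZariskiSiteᵒᵖ ⥤ CommRingCat.{u} := colimit (A ⋙ affRes)

/-- A base index. -/
noncomputable def j₀ (J : Type u) [SmallCategory J] [IsFiltered J] : J :=
  Classical.choice IsFiltered.nonempty

/-- The structure map of the colimit. -/
noncomputable def α : OAff S ⟶ F A := strAff (A.obj (j₀ J)) ≫ colimit.ι (A ⋙ affRes) (j₀ J)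

theorem str_ι_of_hom {j k : J} (φ : j ⟶ k) :
    strAff (A.obj j) ≫ colimit.ι (A ⋙ affRes) j =
      strAff (A.obj k) ≫ colimit.ι (A ⋙ affRes) k := by
  rw [← colimit.w (A ⋙ affRes) φ, ← Category.assoc]
  congr 1
  exact strAff_map (A.map φ)

theorem α_eq (j : J) : strAff (A.obj j) ≫ colimit.ι (A ⋙ affRes) j = α A := by
  obtain ⟨k, φ, φ', -⟩ := IsFilteredOrEmpty.cocone_objs j (j₀ J)
  exact (str_ι_of_hom A φ).trans (str_ι_of_hom A φ').symm

/-- The evaluation cocone. -/
noncomputable def evC (W : S.AffineZariskiSiteᵒᵖ) :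
    Cocone ((A ⋙ affRes) ⋙ (evaluation _ _).obj W) :=
  ((evaluation _ _).obj W).mapCocone (colimit.cocone (A ⋙ affRes))

/-- The evaluation cocone is a colimit. -/
noncomputable def evIsColimit (W : S.AffineZariskiSiteᵒᵖ) : IsColimit (evC A W) :=
  isColimitOfPreserves _ (colimit.isColimit _)

theorem F_hom_ext (W : S.AffineZariskiSiteᵒᵖ) {R : CommRingCat.{u}} (f g : (F A).obj W ⟶ R)
    (h : ∀ j, (colimit.ι (A ⋙ affRes) j).app W ≫ f = (colimit.ι (A ⋙ affRes) j).app W ≫ g) :
    f = g :=
  (evIsColimit A W).hom_ext h

theorem α_coequifibered : (α A).Coequifibered := by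
  refine coequifibered_iff_forall_isLocalizationAway.mpr fun U f => ?_
  have key := isLocalization_away_of_isColimit
    (G := (A ⋙ affRes) ⋙ (evaluation _ _).obj (op U))
    (G' := (A ⋙ affRes) ⋙ (evaluation _ _).obj (op (U.basicOpen f)))
    (Functor.whiskerLeft (A ⋙ affRes) ((evaluation _ _).map (homOfLE (U.basicOpen_le f)).op))
    (evIsColimit A (op U)) (evIsColimit A (op (U.basicOpen f)))
    ((F A).map (homOfLE (U.basicOpen_le f)).op)
    (fun j => ((colimit.ι (A ⋙ affRes) j).naturality (homOfLE (U.basicOpen_le f)).op).symm)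
    (fun j => ((A.obj j).str.app (op U.1)).hom f)
    (fun {j j'} φ => congrArg (fun k => (k.app (op U.1)).hom f) (A.map φ).comm)
    (fun j => (A.obj j).isQC U.1 U.2 f) (j₀ J)
  exact key


/-- The colimit algebra. -/
noncomputable def colimAlg : QCAlg S := OfAff.alg (α_coequifibered A)

/-- The identification of the sections of the colimit algebra on affine opens. -/
noncomputable def γ : affRes.obj (colimAlg A) ⟶ F A := OfAff.gammaNat (α_coequifibered A)

instance : IsIso (γ A) := inferInstanceAs (IsIso (OfAff.gammaNat (α_coequifibered A)))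

theorem str_γ : strAff (colimAlg A) ≫ γ A = α A := OfAff.str_gammaNat (α_coequifibered A)

/-- The coprojections on the affine site. -/
noncomputable def legNat (j : J) : affRes.obj (A.obj j) ⟶ affRes.obj (colimAlg A) :=
  colimit.ι (A ⋙ affRes) j ≫ inv (γ A)

theorem str_legNat (j : J) : strAff (A.obj j) ≫ legNat A j = strAff (colimAlg A) := by
  unfold legNat
  rw [← Category.assoc, α_eq, ← str_γ, Category.assoc, IsIso.hom_inv_id, Category.comp_id]

theorem legNat_map {j j' : J} (φ : j ⟶ j') : affRes.map (A.map φ) ≫ legNat A j' = legNat A j := by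
  unfold legNat
  rw [← Category.assoc]
  congr 1
  exact colimit.w (A ⋙ affRes) φ

/-- The coprojections. -/
noncomputable def leg (j : J) : A.obj j ⟶ colimAlg A where
  hom := OfAff.extend (legNat A j)
  comm := by
    refine OfAff.presheafHom_ext_aff fun U hU => ?_
    rw [NatTrans.comp_app]
    have h1 : (OfAff.extend (legNat A j)).app (op U) = (legNat A j).app (op (OfAff.aff U hU)) :=
      OfAff.extend_app (legNat A j) (op (OfAff.aff U hU))
    rw [h1]
    exact congrArg (fun k => k.app (op (OfAff.aff U hU))) (str_legNat A j)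

theorem leg_app (j : J) (U : S.Opens) (hU : IsAffineOpen U) :
    (leg A j).hom.app (op U) = (legNat A j).app (op (OfAff.aff U hU)) :=
  OfAff.extend_app (legNat A j) (op (OfAff.aff U hU))

/-- The colimit cocone. -/
noncomputable def colimCocone : Cocone A where
  pt := colimAlg A
  ι :=
    { app := leg A
      naturality := fun j j' φ => by
        change A.map φ ≫ leg A j' = leg A j ≫ 𝟙 (colimAlg A)
        rw [Category.comp_id]
        refine OfAff.hom_ext_aff fun U hU => ?_
        change (A.map φ).hom.app (op U) ≫ (leg A j').hom.app (op U) = _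
        rw [leg_app A j' U hU, leg_app A j U hU]
        exact congrArg (fun k => k.app (op (OfAff.aff U hU))) (legNat_map A φ) }

/-- The comparison map for a cocone, on the affine site. -/
noncomputable def descNat (s : Cocone A) : F A ⟶ affRes.obj s.pt :=
  colimit.desc (A ⋙ affRes) (affRes.mapCocone s)

theorem ι_descNat (s : Cocone A) (j : J) :
    colimit.ι (A ⋙ affRes) j ≫ descNat A s = affRes.map (s.ι.app j) :=
  colimit.ι_desc _ _

theorem α_descNat (s : Cocone A) : α A ≫ descNat A s = strAff s.pt := by
  unfold α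
  rw [Category.assoc, ι_descNat, strAff_map]
  rfl

/-- The descent homomorphism. -/
noncomputable def desc (s : Cocone A) : colimAlg A ⟶ s.pt :=
  OfAff.homOf (α_coequifibered A) (descNat A s) (α_descNat A s)

theorem desc_app (s : Cocone A) (U : S.Opens) (hU : IsAffineOpen U) :
    (desc A s).hom.app (op U) =
      (γ A).app (op (OfAff.aff U hU)) ≫ (descNat A s).app (op (OfAff.aff U hU)) :=
  OfAff.homOf_app (α_coequifibered A) (descNat A s) (α_descNat A s) (op (OfAff.aff U hU))

/-- The colimit cocone is a colimit. -/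
noncomputable def isColimit : IsColimit (colimCocone A) where
  desc s := desc A s
  fac s j := by
    refine OfAff.hom_ext_aff fun U hU => ?_
    change (leg A j).hom.app (op U) ≫ (desc A s).hom.app (op U) = _
    rw [leg_app A j U hU, desc_app A s U hU]
    have h : legNat A j ≫ γ A ≫ descNat A s = affRes.map (s.ι.app j) := by
      unfold legNat
      rw [Category.assoc, IsIso.inv_hom_id_assoc, ι_descNat]
    exact congrArg (fun k => k.app (op (OfAff.aff U hU))) h
  uniq s m hm := by
    refine OfAff.hom_ext_aff fun U hU => ?_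
    refine Eq.trans ?_ (desc_app A s U hU).symm
    have hγ : IsIso ((γ A).app (op (OfAff.aff U hU))) := inferInstance
    let mU : (affRes.obj (colimAlg A)).obj (op (OfAff.aff U hU)) ⟶
      (affRes.obj s.pt).obj (op (OfAff.aff U hU)) := m.hom.app (op U)
    have claim : inv ((γ A).app (op (OfAff.aff U hU))) ≫ mU =
        (descNat A s).app (op (OfAff.aff U hU)) := by
      refine F_hom_ext A _ _ _ fun j => ?_
      have h2 : (colimit.ι (A ⋙ affRes) j).app (op (OfAff.aff U hU)) ≫
          (descNat A s).app (op (OfAff.aff U hU)) = (s.ι.app j).hom.app (op U) :=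
        congrArg (fun k => k.app (op (OfAff.aff U hU))) (ι_descNat A s j)
      refine Eq.trans ?_ h2.symm
      have h3 : (leg A j).hom.app (op U) ≫ m.hom.app (op U) = (s.ι.app j).hom.app (op U) :=
        congrArg (fun k : A.obj j ⟶ s.pt => k.hom.app (op U)) (hm j)
      refine Eq.trans ?_ h3
      have h4 : (leg A j).hom.app (op U) =
          (colimit.ι (A ⋙ affRes) j).app (op (OfAff.aff U hU)) ≫
            inv ((γ A).app (op (OfAff.aff U hU))) := by
        rw [leg_app A j U hU]
        unfold legNat
        rw [NatTrans.comp_app, NatIso.isIso_inv_app]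
      rw [h4]
      exact (Category.assoc _ _ _).symm
    exact (IsIso.hom_inv_id_assoc ((γ A).app (op (OfAff.aff U hU))) mU).symm.trans
      (congrArg (fun k => (γ A).app (op (OfAff.aff U hU)) ≫ k) claim)


theorem leg_app' (j : J) (U : S.Opens) (hU : IsAffineOpen U) :
    (leg A j).hom.app (op U) =
      (colimit.ι (A ⋙ affRes) j).app (op (OfAff.aff U hU)) ≫
        inv ((γ A).app (op (OfAff.aff U hU))) := by
  rw [leg_app A j U hU]
  unfold legNat
  rw [NatTrans.comp_app, NatIso.isIso_inv_app]

/-- A cocone over the sections, as a cocone over the evaluation. -/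
def evCoconeOf (U : S.Opens) (hU : IsAffineOpen U) (s : Cocone (A ⋙ secF U)) :
    Cocone ((A ⋙ affRes) ⋙ (evaluation _ _).obj (op (OfAff.aff U hU))) where
  pt := s.pt
  ι :=
    { app := fun j => s.ι.app j
      naturality := fun _ _ φ => s.ι.naturality φ }

/-- Sections of the colimit algebra over an affine open are the colimit of the sections. -/
noncomputable def secIsColimitColim (U : S.Opens) (hU : IsAffineOpen U) :
    IsColimit ((secF U).mapCocone (colimCocone A)) where
  desc s := (γ A).app (op (OfAff.aff U hU)) ≫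
    (evIsColimit A (op (OfAff.aff U hU))).desc (evCoconeOf A U hU s)
  fac s j := by
    have h1 : (colimit.ι (A ⋙ affRes) j).app (op (OfAff.aff U hU)) ≫
        (evIsColimit A (op (OfAff.aff U hU))).desc (evCoconeOf A U hU s) = s.ι.app j :=
      (evIsColimit A (op (OfAff.aff U hU))).fac (evCoconeOf A U hU s) j
    change (leg A j).hom.app (op U) ≫ _ = _
    rw [leg_app' A j U hU]
    refine (Category.assoc _ _ _).trans ?_
    refine Eq.trans ?_ h1
    exact congrArg (fun k => (colimit.ι (A ⋙ affRes) j).app (op (OfAff.aff U hU)) ≫ k)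
      (IsIso.inv_hom_id_assoc ((γ A).app (op (OfAff.aff U hU))) _)
  uniq s m hm := by
    have hγ : IsIso ((γ A).app (op (OfAff.aff U hU))) := inferInstance
    let mU : (affRes.obj (colimAlg A)).obj (op (OfAff.aff U hU)) ⟶ s.pt := m
    have claim : inv ((γ A).app (op (OfAff.aff U hU))) ≫ mU =
        (evIsColimit A (op (OfAff.aff U hU))).desc (evCoconeOf A U hU s) := by
      refine F_hom_ext A _ _ _ fun j => ?_
      have h1 : (colimit.ι (A ⋙ affRes) j).app (op (OfAff.aff U hU)) ≫
          (evIsColimit A (op (OfAff.aff U hU))).desc (evCoconeOf A U hU s) = s.ι.app j :=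
        (evIsColimit A (op (OfAff.aff U hU))).fac (evCoconeOf A U hU s) j
      refine Eq.trans ?_ h1.symm
      have h3 : (leg A j).hom.app (op U) ≫ m = s.ι.app j := hm j
      refine Eq.trans ?_ h3
      rw [leg_app' A j U hU]
      exact (Category.assoc _ _ _).symm
    exact (IsIso.hom_inv_id_assoc ((γ A).app (op (OfAff.aff U hU))) mU).symm.trans
      (congrArg (fun k => (γ A).app (op (OfAff.aff U hU)) ≫ k) claim)

/-- For any colimit cocone of a filtered diagram of quasi-coherent algebras, the sections over an
affine open form a colimit cocone of rings. -/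
noncomputable def secIsColimit {c : Cocone A} (hc : IsColimit c) (U : S.Opens)
    (hU : IsAffineOpen U) : IsColimit ((secF U).mapCocone c) :=
  IsColimit.ofIsoColimit (secIsColimitColim A U hU)
    ((Cocone.functoriality A (secF U)).mapIso ((isColimit A).uniqueUpToIso hc))

end Groth.Agent.Lib.Helper3.QCAlgColim
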