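import Groth.Agent.Lib.Helper3.QCAlgLift
import Groth.Prelude.Def_AffAlg
/-!
# More on morphisms into a relative spectrum: chart formula against affine test schemes
-/
universe u
open CategoryTheory CategoryTheory.Limits AlgebraicGeometry Opposite TopologicalSpace
open RelSpec AlgebraicGeometry.Scheme.AffineZariskiSite

namespace Groth.Agent.Lib.Helper3

theorem algHom_app {X Y S : Scheme.{u}} (f : X ⟶ S) (g : Y ⟶ S) (h : Y ⟶ X) (w : h ≫ f = g)
    (U : S.Opens) :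
    (AffAlg.algHom f g h w).app (op U) =
      h.appLE (f ⁻¹ᵁ U) (g ⁻¹ᵁ U) (by rw [← w]; rfl) := by
  subst w
  simp only [AffAlg.algHom, Scheme.Hom.appLE]
  rw [NatTrans.comp_app, eqToHom_app]
  have hid : ∀ (k : (op ((h ≫ f) ⁻¹ᵁ U)) ⟶ op ((h ≫ f) ⁻¹ᵁ U)),
      Y.presheaf.map k = 𝟙 _ := fun k => by
    rw [Subsingleton.elim k (𝟙 _)]; exact CategoryTheory.Functor.map_id _ _
  erw [hid]
  rfl

variable {S : Scheme.{u}} (A : QCAlg S) {Y : Scheme.{u}} (h₀ : Y ⟶ S)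
  (ω : A.presheaf ⟶ h₀.base _* Y.presheaf)

set_option backward.isDefEq.respectTransparency false in
/-- The lifted morphism precomposed with a morphism from an affine scheme landing over an affine
open `U` of the base: it is `Spec` of the evident ring map followed by the chart over `U`. -/
theorem QCAlg.comp_lift_of_le (U : S.Opens) (hU : IsAffineOpen U) {R : CommRingCat.{u}}
    (j : Spec R ⟶ Y) (hj : ⊤ ≤ j ⁻¹ᵁ (h₀ ⁻¹ᵁ U)) :
    j ≫ QCAlg.lift A h₀ ω =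
      Spec.map (ω.app (op U) ≫ j.appLE (h₀ ⁻¹ᵁ U) ⊤ hj ≫ (Scheme.ΓSpecIso R).hom) ≫
        A.ι U hU := by
  have : IsIso (⊤ : (Spec R).Opens).ι := (Spec R).topIso.isIso_hom
  rw [← cancel_epi (⊤ : (Spec R).Opens).ι]
  have h1 : (⊤ : (Spec R).Opens).ι ≫ j = j.resLE (h₀ ⁻¹ᵁ U) ⊤ hj ≫ (h₀ ⁻¹ᵁ U).ι :=
    (Scheme.Hom.resLE_comp_ι _ _).symm
  rw [reassoc_of% h1, QCAlg.ι_lift A h₀ ω ⟨U, hU⟩,
    ← Scheme.Opens.toSpecΓ_SpecMap_appLE_assoc, Scheme.Opens.toSpecΓ_top, Category.assoc,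
    ← SpecMap_ΓSpecIso_hom]
  simp only [Spec.map_comp, Category.assoc]

end Groth.Agent.Lib.Helper3
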