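import Groth.Agent.Lib.Helper3.OfAff
/-!
# Pushouts of quasi-coherent algebras, chartwise
-/
universe u
open CategoryTheory CategoryTheory.Limits AlgebraicGeometry Opposite TopologicalSpace
open RelSpec AlgebraicGeometry.Scheme.AffineZariskiSite

namespace Groth.Agent.Lib.Helper3

variable {S : Scheme.{u}} {A₀ A₁ A₂ A₃ : QCAlg S} (a : A₀ ⟶ A₁) (a' : A₀ ⟶ A₂) (b : A₁ ⟶ A₃)
  (b' : A₂ ⟶ A₃)

namespace QCAlgPushout

variable {a a' b b'}
  (h : ∀ (U : S.Opens) (_ : IsAffineOpen U),
    IsPushout (a.hom.app (op U)) (a'.hom.app (op U)) (b.hom.app (op U)) (b'.hom.app (op U)))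
  (C : QCAlg S) (u : A₁ ⟶ C) (u' : A₂ ⟶ C) (hu : a ≫ u = a' ≫ u')

include hu in
theorem cond (U : S.Opens) :
    a.hom.app (op U) ≫ u.hom.app (op U) = a'.hom.app (op U) ≫ u'.hom.app (op U) :=
  congrArg (fun k : A₀ ⟶ C => k.hom.app (op U)) hu

/-- The descent map over an affine open. -/
noncomputable def descApp (U : S.Opens) (hU : IsAffineOpen U) :
    A₃.presheaf.obj (op U) ⟶ C.presheaf.obj (op U) :=
  (h U hU).desc (u.hom.app (op U)) (u'.hom.app (op U)) (cond C u u' hu U)

theorem inl_descApp (U : S.Opens) (hU : IsAffineOpen U) :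
    b.hom.app (op U) ≫ descApp h C u u' hu U hU = u.hom.app (op U) :=
  (h U hU).inl_desc _ _ _

theorem inr_descApp (U : S.Opens) (hU : IsAffineOpen U) :
    b'.hom.app (op U) ≫ descApp h C u u' hu U hU = u'.hom.app (op U) :=
  (h U hU).inr_desc _ _ _

theorem descApp_naturality {U V : S.Opens} (hU : IsAffineOpen U) (hV : IsAffineOpen V)
    (i : V ≤ U) :
    A₃.presheaf.map (homOfLE i).op ≫ descApp h C u u' hu V hV =
      descApp h C u u' hu U hU ≫ C.presheaf.map (homOfLE i).op := by
  refine (h U hU).hom_ext ?_ ?_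
  · rw [← Category.assoc, ← b.hom.naturality, Category.assoc, inl_descApp, ← Category.assoc,
      inl_descApp, u.hom.naturality]
  · rw [← Category.assoc, ← b'.hom.naturality, Category.assoc, inr_descApp, ← Category.assoc,
      inr_descApp, u'.hom.naturality]

/-- The descent maps as a natural transformation on the affine site. -/
noncomputable def descNat :
    (toOpensFunctor S).op ⋙ A₃.presheaf ⟶ (toOpensFunctor S).op ⋙ C.presheaf where
  app W := descApp h C u u' hu W.unop.1 W.unop.2
  naturality W W' i := descApp_naturality h C u u' hu W.unop.2 W'.unop.2 (toOpens_mono i.unop.le)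

/-- The descent homomorphism. -/
noncomputable def desc : A₃ ⟶ C where
  hom := OfAff.extend (descNat h C u u' hu)
  comm := by
    refine OfAff.presheafHom_ext_aff fun U hU => ?_
    rw [NatTrans.comp_app]
    have h1 : (OfAff.extend (descNat h C u u' hu)).app (op U) = descApp h C u u' hu U hU :=
      OfAff.extend_app (descNat h C u u' hu) (op (OfAff.aff U hU))
    rw [h1]
    have h2 : A₃.str.app (op U) = A₁.str.app (op U) ≫ b.hom.app (op U) :=
      (congrArg (fun k => k.app (op U)) b.comm).symm
    rw [h2, Category.assoc, inl_descApp]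
    exact congrArg (fun k => k.app (op U)) u.comm

theorem desc_app (U : S.Opens) (hU : IsAffineOpen U) :
    (desc h C u u' hu).hom.app (op U) = descApp h C u u' hu U hU :=
  OfAff.extend_app (descNat h C u u' hu) (op (OfAff.aff U hU))

end QCAlgPushout

open QCAlgPushout in
/-- A square of quasi-coherent algebras which is a pushout of rings over every affine open is a
pushout square. -/
theorem QCAlg.isPushout_of_charts
    (h : ∀ (U : S.Opens) (_ : IsAffineOpen U),
      IsPushout (a.hom.app (op U)) (a'.hom.app (op U)) (b.hom.app (op U)) (b'.hom.app (op U))) :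
    IsPushout a a' b b' := by
  have w : a ≫ b = a' ≫ b' := OfAff.hom_ext_aff fun U hU => (h U hU).w
  refine ⟨⟨w⟩, ⟨PushoutCocone.IsColimit.mk w
    (fun s => desc h s.pt s.inl s.inr s.condition) ?_ ?_ ?_⟩⟩
  · intro s
    refine OfAff.hom_ext_aff fun U hU => ?_
    change b.hom.app (op U) ≫ (desc h s.pt s.inl s.inr s.condition).hom.app (op U) = _
    rw [desc_app h _ _ _ _ U hU, inl_descApp]
  · intro s
    refine OfAff.hom_ext_aff fun U hU => ?_
    change b'.hom.app (op U) ≫ (desc h s.pt s.inl s.inr s.condition).hom.app (op U) = _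
    rw [desc_app h _ _ _ _ U hU, inr_descApp]
  · intro s m hm1 hm2
    refine OfAff.hom_ext_aff fun U hU => ?_
    rw [desc_app h _ _ _ _ U hU]
    refine (h U hU).hom_ext ?_ ?_
    · rw [inl_descApp]
      exact congrArg (fun k : A₁ ⟶ s.pt => k.hom.app (op U)) hm1
    · rw [inr_descApp]
      exact congrArg (fun k : A₂ ⟶ s.pt => k.hom.app (op U)) hm2

end Groth.Agent.Lib.Helper3
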