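import Groth.Prelude.Def_RelProj4
import Groth.Agent.Lib.Helper3.GlueCharts
import Groth.Agent.Lib.Helper3.AwayTo
/-!
# The morphism `Proj(u)` on its open of definition `G(u)` for a graded morphism over a change of base
-/
universe u
open CategoryTheory CategoryTheory.Limits AlgebraicGeometry Opposite TopologicalSpace
open HomogeneousLocalization
open scoped HomogeneousIdeal

namespace Groth.Agent.Lib.Helper3.QProj
open RelProj RelSpec Groth.Agent.Lib.Helper3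

variable {S S' : Scheme.{u}} {g : S' ⟶ S} {𝒮 : QCGrAlg S} {𝒮' : QCGrAlg S'} (u : QGrHom g 𝒮 𝒮')

theorem res_comp_gradedAt {U : S.Opens} (hU : IsAffineOpen U) {U' V' : S'.Opens} (hU' : IsAffineOpen U')
    (hV' : IsAffineOpen V') (hle : U' ≤ g ⁻¹ᵁ U) (i : V' ≤ U') :
    (𝒮'.res hU' hV' i).comp (u.gradedAt U hU U' hU' hle) = u.gradedAt U hU V' hV' (i.trans hle) := by
  ext x
  exact congr($(u.toQHom.appLE_map hle i) x)

theorem gradedAt_comp_res {U V : S.Opens} (hU : IsAffineOpen U) (hV : IsAffineOpen V) {U' : S'.Opens}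
    (hU' : IsAffineOpen U') (i : V ≤ U) (hle : U' ≤ g ⁻¹ᵁ V) :
    (u.gradedAt V hV U' hU' hle).comp (𝒮.res hU hV i) =
      u.gradedAt U hU U' hU' (hle.trans (g.preimage_mono i)) := by
  ext x
  exact congr($(u.toQHom.map_appLE i hle) x)

/-- Index type of the (flexible) standard charts of `G(u)`. -/
structure Idx where
  U : S.Opens
  hU : IsAffineOpen U
  U' : S'.Opens
  hU' : IsAffineOpen U'
  hle : U' ≤ g ⁻¹ᵁ U
  d : ℕ
  hd : 0 < d
  f : 𝒮.presheaf.obj (op U)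
  hf : f ∈ 𝒮.deg U hU d
  b : 𝒮'.presheaf.obj (op U')
  hb : u.gradedAt U hU U' hU' hle f = b

namespace Idx
variable {u}

theorem hb' (c : Idx u) : c.b ∈ 𝒮'.deg c.U' c.hU' c.d :=
  c.hb ▸ (u.gradedAt c.U c.hU c.U' c.hU' c.hle).map_mem c.hf

/-- the source of a chart -/
noncomputable abbrev D (c : Idx u) : Scheme.{u} :=
  Spec (CommRingCat.of (Away (𝒮'.deg c.U' c.hU') c.b))

variable {P : Scheme.{u}} (p : P ⟶ S)
  (chart : ∀ (U : S.Opens) (hU : IsAffineOpen U), (((p ⁻¹ᵁ U : P.Opens) : Scheme.{u}) ≅ Proj (𝒮.deg U hU)))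
  {P' : Scheme.{u}} (p' : P' ⟶ S')
  (chart' : ∀ (U' : S'.Opens) (hU' : IsAffineOpen U'), (((p' ⁻¹ᵁ U' : P'.Opens) : Scheme.{u}) ≅ Proj (𝒮'.deg U' hU')))

/-- the chart immersion -/
noncomputable def j (c : Idx u) : c.D ⟶ P' :=
  Proj.awayι (𝒮'.deg c.U' c.hU') c.b c.hb' c.hd ≫ emb p' chart' c.U' c.hU'

instance (c : Idx u) : IsOpenImmersion (c.j p' chart') := by
  unfold j; infer_instance

/-- the target morphism on a chart -/
noncomputable def t (c : Idx u) : c.D ⟶ P :=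
  Spec.map (CommRingCat.ofHom (AwayTo.mapTo (u.gradedAt c.U c.hU c.U' c.hU' c.hle) c.hb)) ≫
    Proj.awayι (𝒮.deg c.U c.hU) c.f c.hf c.hd ≫ emb p chart c.U c.hU

/-- the standard chart -/
def std (U : S.Opens) (hU : IsAffineOpen U) (U' : S'.Opens) (hU' : IsAffineOpen U') (hle : U' ≤ g ⁻¹ᵁ U)
    (d : ℕ) (hd : 0 < d) (f : 𝒮.presheaf.obj (op U)) (hf : f ∈ 𝒮.deg U hU d) : Idx u :=
  ⟨U, hU, U', hU', hle, d, hd, f, hf, _, rfl⟩

theorem j_std (U : S.Opens) (hU : IsAffineOpen U) (U' : S'.Opens) (hU' : IsAffineOpen U') (hle : U' ≤ g ⁻¹ᵁ U)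
    (d : ℕ) (hd : 0 < d) (f : 𝒮.presheaf.obj (op U)) (hf : f ∈ 𝒮.deg U hU d) :
    (std (u := u) U hU U' hU' hle d hd f hf).j p' chart' = awayEmb u p' chart' U hU U' hU' hle hd f hf := rfl

theorem t_std (U : S.Opens) (hU : IsAffineOpen U) (U' : S'.Opens) (hU' : IsAffineOpen U') (hle : U' ≤ g ⁻¹ᵁ U)
    (d : ℕ) (hd : 0 < d) (f : 𝒮.presheaf.obj (op U)) (hf : f ∈ 𝒮.deg U hU d) :
    (std (u := u) U hU U' hU' hle d hd f hf).t p chart =
      Spec.map (CommRingCat.ofHom (HomogeneousLocalization.Away.map (u.gradedAt U hU U' hU' hle) f)) ≫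
        Proj.awayι (𝒮.deg U hU) f hf hd ≫ RelProj.emb p chart U hU := rfl

/-- refinement of charts -/
def Le (c'' c : Idx u) : Prop :=
  ∃ k : c''.D ⟶ c.D, k ≫ c.j p' chart' = c''.j p' chart' ∧ k ≫ c.t p chart = c''.t p chart

theorem Le.refl (c : Idx u) : Le p chart p' chart' c c := ⟨𝟙 _, Category.id_comp _, Category.id_comp _⟩

variable {p chart p' chart'} in
theorem Le.trans {c₁ c₂ c₃ : Idx u} (h₁ : Le p chart p' chart' c₁ c₂) (h₂ : Le p chart p' chart' c₂ c₃) :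
    Le p chart p' chart' c₁ c₃ := by
  obtain ⟨k₁, h₁j, h₁t⟩ := h₁
  obtain ⟨k₂, h₂j, h₂t⟩ := h₂
  exact ⟨k₁ ≫ k₂, by rw [Category.assoc, h₂j, h₁j], by rw [Category.assoc, h₂t, h₁t]⟩

/-- restrict the second member -/
def resSnd (c : Idx u) (V' : S'.Opens) (hV' : IsAffineOpen V') (i : V' ≤ c.U') : Idx u :=
  ⟨c.U, c.hU, V', hV', i.trans c.hle, c.d, c.hd, c.f, c.hf, 𝒮'.res c.hU' hV' i c.b, by
    rw [← c.hb, ← res_comp_gradedAt u c.hU c.hU' hV' c.hle i]; rfl⟩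

/-- restrict the first member -/
def resFst (c : Idx u) (V : S.Opens) (hV : IsAffineOpen V) (i : V ≤ c.U) (hle' : c.U' ≤ g ⁻¹ᵁ V) : Idx u :=
  ⟨V, hV, c.U', c.hU', hle', c.d, c.hd, 𝒮.res c.hU hV i c.f, (𝒮.res c.hU hV i).map_mem c.hf, c.b, by
    rw [← c.hb, ← gradedAt_comp_res u c.hU hV c.hU' i hle']; rfl⟩

/-- change the element -/
def withElt (c : Idx u) (e : ℕ) (he : 0 < e) (x : 𝒮.presheaf.obj (op c.U)) (hx : x ∈ 𝒮.deg c.U c.hU e)
    (y : 𝒮'.presheaf.obj (op c.U')) (hy : u.gradedAt c.U c.hU c.U' c.hU' c.hle x = y) : Idx u :=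
  ⟨c.U, c.hU, c.U', c.hU', c.hle, e, he, x, hx, y, hy⟩

theorem resSnd_le (hP' : IsRelProj 𝒮' p' chart') (c : Idx u) (r' : Γ(S', c.U')) (V' : S'.Opens)
    (hV : V' = S'.basicOpen r') (hV' : IsAffineOpen V') (i : V' ≤ c.U') :
    Le p chart p' chart' (c.resSnd V' hV' i) c := by
  obtain ⟨U, hU, U', hU', hle, d, hd, f, hf, b, hb⟩ := c
  subst hV
  dsimp only at r' i
  have hb' : b ∈ 𝒮'.deg U' hU' d := hb ▸ (u.gradedAt U hU U' hU' hle).map_mem hf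
  refine ⟨Spec.map (CommRingCat.ofHom (Away.map (𝒮'.res hU' hV' i) b)), ?_, ?_⟩
  · change _ ≫ Proj.awayι (𝒮'.deg U' hU') b hb' hd ≫ emb p' chart' U' hU' =
      Proj.awayι (𝒮'.deg _ hV') (𝒮'.res hU' hV' i b) ((𝒮'.res hU' hV' i).map_mem hb') hd ≫ emb p' chart' _ hV'
    rw [← map_res_emb hP' U' hU' r', ← Category.assoc, ← Category.assoc]
    congr 1
    exact (Proj.awayι_comp_map (𝒮'.res hU' hV' i) (𝒮'.irrelevant_le_map U' hU' r') hd b hb').symm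
  · have hb2 : u.gradedAt U hU _ hV' (i.trans hle) f = 𝒮'.res hU' hV' i b := by
      subst hb
      exact (DFunLike.congr_fun (res_comp_gradedAt u hU hU' hV' hle i) f).symm
    change _ ≫ Spec.map (CommRingCat.ofHom (AwayTo.mapTo (u.gradedAt U hU U' hU' hle) hb)) ≫
        Proj.awayι (𝒮.deg U hU) f hf hd ≫ emb p chart U hU =
      Spec.map (CommRingCat.ofHom (AwayTo.mapTo (u.gradedAt U hU _ hV' (i.trans hle)) hb2)) ≫
        Proj.awayι (𝒮.deg U hU) f hf hd ≫ emb p chart U hU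
    refine (Category.assoc _ _ _).symm.trans ?_
    refine congrArg (· ≫ (Proj.awayι (𝒮.deg U hU) f hf hd ≫ emb p chart U hU)) ?_
    refine (Spec.map_comp _ _).symm.trans (congrArg Spec.map ?_)
    refine (CommRingCat.ofHom_comp _ _).symm.trans (congrArg CommRingCat.ofHom ?_)
    exact (AwayTo.mapTo_comp (u.gradedAt U hU U' hU' hle) (𝒮'.res hU' hV' i) hb rfl
      (by subst hb; rfl)).symm.trans (AwayTo.mapTo_congr (res_comp_gradedAt u hU hU' hV' hle i) _ _)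

theorem resFst_le (hP : IsRelProj 𝒮 p chart) (c : Idx u) (r : Γ(S, c.U)) (V : S.Opens)
    (hV : V = S.basicOpen r) (hV' : IsAffineOpen V) (i : V ≤ c.U) (hle' : c.U' ≤ g ⁻¹ᵁ V) :
    Le p chart p' chart' (c.resFst V hV' i hle') c := by
  obtain ⟨U, hU, U', hU', hle, d, hd, f, hf, b, hb⟩ := c
  subst hV
  dsimp only at r i hle'
  refine ⟨𝟙 _, Category.id_comp _, (Category.id_comp _).trans ?_⟩
  have hb2 : u.gradedAt _ hV' U' hU' hle' (𝒮.res hU hV' i f) = b := by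
    subst hb
    exact DFunLike.congr_fun (gradedAt_comp_res u hU hV' hU' i hle') f
  change Spec.map (CommRingCat.ofHom (AwayTo.mapTo (u.gradedAt U hU U' hU' hle) hb)) ≫
      Proj.awayι (𝒮.deg U hU) f hf hd ≫ emb p chart U hU =
    Spec.map (CommRingCat.ofHom (AwayTo.mapTo (u.gradedAt _ hV' U' hU' hle') hb2)) ≫
      Proj.awayι (𝒮.deg _ hV') (𝒮.res hU hV' i f) ((𝒮.res hU hV' i).map_mem hf) hd ≫ emb p chart _ hV'
  rw [← map_res_emb hP U hU r,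
    reassoc_of% Proj.awayι_comp_map (𝒮.res hU hV' i) (𝒮.irrelevant_le_map U hU r) hd f hf]
  refine Eq.trans ?_ (Category.assoc _ _ _)
  refine congrArg (· ≫ (Proj.awayι (𝒮.deg U hU) f hf hd ≫ emb p chart U hU)) ?_
  refine Eq.trans (congrArg Spec.map ?_) (Spec.map_comp _ _)
  refine Eq.trans (congrArg CommRingCat.ofHom ?_) (CommRingCat.ofHom_comp _ _)
  exact (AwayTo.mapTo_congr (gradedAt_comp_res u hU hV' hU' i hle').symm _ _).trans
    (AwayTo.mapTo_comp (𝒮.res hU hV' i) (u.gradedAt _ hV' U' hU' hle') rfl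
      hb2 hb2)

theorem withElt_mul_le (c : Idx u) (d₂ : ℕ) (f₂ : 𝒮.presheaf.obj (op c.U)) (hf₂ : f₂ ∈ 𝒮.deg c.U c.hU d₂)
    (b₂ : 𝒮'.presheaf.obj (op c.U')) (hb₂ : u.gradedAt c.U c.hU c.U' c.hU' c.hle f₂ = b₂)
    (e : ℕ) (he : 0 < e) (x : 𝒮.presheaf.obj (op c.U)) (hx : x ∈ 𝒮.deg c.U c.hU e)
    (y : 𝒮'.presheaf.obj (op c.U')) (hy : u.gradedAt c.U c.hU c.U' c.hU' c.hle x = y)
    (hed : e = c.d + d₂) (hxe : x = c.f * f₂) (hye : y = c.b * b₂) :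
    Le p chart p' chart' (c.withElt e he x hx y hy) c := by
  obtain ⟨U, hU, U', hU', hle, d, hd, f, hf, b, hb⟩ := c
  dsimp only at f₂ hf₂ b₂ hb₂ x hx y hy hed hxe hye
  subst hed
  have hb' : b ∈ 𝒮'.deg U' hU' d := hb ▸ (u.gradedAt U hU U' hU' hle).map_mem hf
  have hb₂' : b₂ ∈ 𝒮'.deg U' hU' d₂ := hb₂ ▸ (u.gradedAt U hU U' hU' hle).map_mem hf₂
  have hy' : y ∈ 𝒮'.deg U' hU' (d + d₂) := hy ▸ (u.gradedAt U hU U' hU' hle).map_mem hx
  refine ⟨Spec.map (CommRingCat.ofHom (awayMap (𝒮'.deg U' hU') hb₂' hye)), ?_, ?_⟩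
  · change _ ≫ Proj.awayι (𝒮'.deg U' hU') b hb' hd ≫ emb p' chart' U' hU' =
      Proj.awayι (𝒮'.deg U' hU') y hy' he ≫ emb p' chart' U' hU'
    rw [← Category.assoc]
    congr 1
    exact Proj.SpecMap_awayMap_awayι (𝒮'.deg U' hU') hb' hd hb₂' hye
  · change _ ≫ Spec.map (CommRingCat.ofHom (AwayTo.mapTo (u.gradedAt U hU U' hU' hle) hb)) ≫
        Proj.awayι (𝒮.deg U hU) f hf hd ≫ emb p chart U hU =
      Spec.map (CommRingCat.ofHom (AwayTo.mapTo (u.gradedAt U hU U' hU' hle) hy)) ≫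
        Proj.awayι (𝒮.deg U hU) x hx he ≫ emb p chart U hU
    have h1 : Spec.map (CommRingCat.ofHom (awayMap (𝒮'.deg U' hU') hb₂' hye)) ≫
        Spec.map (CommRingCat.ofHom (AwayTo.mapTo (u.gradedAt U hU U' hU' hle) hb)) =
        Spec.map (CommRingCat.ofHom (AwayTo.mapTo (u.gradedAt U hU U' hU' hle) hy)) ≫
          Spec.map (CommRingCat.ofHom (awayMap (𝒮.deg U hU) hf₂ hxe)) := by
      refine (Spec.map_comp _ _).symm.trans (Eq.trans (congrArg Spec.map ?_) (Spec.map_comp _ _))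
      refine (CommRingCat.ofHom_comp _ _).symm.trans (Eq.trans (congrArg CommRingCat.ofHom ?_)
        (CommRingCat.ofHom_comp _ _))
      exact AwayTo.awayMap_comp_mapTo (u.gradedAt U hU U' hU' hle) hf hb hb₂ hf₂ hb₂' hxe hye hy
    refine (Category.assoc _ _ _).symm.trans ?_
    refine (congrArg (· ≫ (Proj.awayι (𝒮.deg U hU) f hf hd ≫ emb p chart U hU)) h1).trans ?_
    refine (Category.assoc _ _ _).trans (congrArg (Spec.map (CommRingCat.ofHom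
      (AwayTo.mapTo (u.gradedAt U hU U' hU' hle) hy)) ≫ ·) ?_)
    refine (Category.assoc _ _ _).symm.trans (congrArg (· ≫ emb p chart U hU) ?_)
    exact Proj.SpecMap_awayMap_awayι (𝒮.deg U hU) hf hd hf₂ hxe

section Range
variable (u)

theorem exists_homogeneous_of_mem_domOpen {A B σ τ : Type u} [CommRing A] [SetLike σ A] [AddSubgroupClass σ A]
    {𝒜 : ℕ → σ} [GradedRing 𝒜] [CommRing B] [SetLike τ B] [AddSubgroupClass τ B] {ℬ : ℕ → τ} [GradedRing ℬ]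
    (ψ : 𝒜 →+*ᵍ ℬ) (q : Proj ℬ) (hq : q ∈ RelCone.domOpen ψ) :
    ∃ (d : ℕ) (_ : 0 < d) (f : A) (_ : f ∈ 𝒜 d), q ∈ Proj.basicOpen ℬ (ψ f) := by
  classical
  obtain ⟨f, hf, hfq⟩ := (RelCone.mem_domOpen ψ q).mp hq
  by_contra hcon
  push Not at hcon
  apply hfq
  rw [← DirectSum.sum_support_decompose 𝒜 f, map_sum]
  refine Ideal.sum_mem _ fun i _ => ?_
  rcases Nat.eq_zero_or_pos i with rfl | hi
  · have h0 : (DirectSum.decompose 𝒜 f 0 : A) = 0 := by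
      have := (HomogeneousIdeal.mem_irrelevant_iff 𝒜 f).mp hf
      simpa [GradedRing.proj_apply] using this
    rw [h0, map_zero]
    exact zero_mem _
  · have := hcon i hi _ (SetLike.coe_mem (DirectSum.decompose 𝒜 f i))
    rw [Proj.mem_basicOpen] at this
    exact not_not.mp this

variable {u}
variable {P' : Scheme.{u}} (p' : P' ⟶ S')
  (chart' : ∀ (U' : S'.Opens) (hU' : IsAffineOpen U'), (((p' ⁻¹ᵁ U' : P'.Opens) : Scheme.{u}) ≅ Proj (𝒮'.deg U' hU')))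

theorem range_emb (U' : S'.Opens) (hU' : IsAffineOpen U') :
    Set.range (emb p' chart' U' hU').base = ((p' ⁻¹ᵁ U' : P'.Opens) : Set P') := by
  unfold emb
  have hs : Function.Surjective (chart' U' hU').inv.base := (chart' U' hU').inv.homeomorph.surjective
  rw [Scheme.Hom.comp_base, TopCat.coe_comp, Set.range_comp, Set.range_eq_univ.mpr hs, Set.image_univ,
    Scheme.Opens.range_ι]

theorem mem_range_j_iff (c : Idx u) (x : P') :
    x ∈ Set.range (c.j p' chart').base ↔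
      ∃ q : Proj (𝒮'.deg c.U' c.hU'), q ∈ Proj.basicOpen (𝒮'.deg c.U' c.hU') c.b ∧
        (emb p' chart' c.U' c.hU').base q = x := by
  unfold j
  rw [Scheme.Hom.comp_base, TopCat.coe_comp, Set.range_comp]
  have : Set.range (Proj.awayι (𝒮'.deg c.U' c.hU') c.b c.hb' c.hd).base =
      (Proj.basicOpen (𝒮'.deg c.U' c.hU') c.b : Set _) :=
    congrArg (fun W : (Proj (𝒮'.deg c.U' c.hU')).Opens => (W : Set (Proj (𝒮'.deg c.U' c.hU'))))
      (Proj.opensRange_awayι (𝒮'.deg c.U' c.hU') c.b c.hb' c.hd)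
  rw [this]
  rfl

theorem range_j_subset_domQ (c : Idx u) :
    Set.range (c.j p' chart').base ⊆ Set.range (domQ u p' chart').ι.base := by
  obtain ⟨U, hU, U', hU', hle, d, hd, f, hf, b, hb⟩ := c
  subst hb
  exact range_awayEmb_subset_domQ u p' chart' U hU U' hU' hle hd f hf

theorem exists_mem_range_j (x : P') (hx : x ∈ domQ u p' chart') :
    ∃ c : Idx u, x ∈ Set.range (c.j p' chart').base := by
  obtain ⟨⟨⟨⟨U, hU⟩, ⟨U', hU'⟩⟩, hle⟩, hxV⟩ := Opens.mem_iSup.mp hx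
  obtain ⟨q, hq, rfl⟩ := hxV
  obtain ⟨d, hd, f, hf, hqf⟩ := exists_homogeneous_of_mem_domOpen (u.gradedAt U hU U' hU' hle) q hq
  exact ⟨std U hU U' hU' hle d hd f hf, (mem_range_j_iff p' chart' _ _).mpr ⟨q, hqf, rfl⟩⟩

theorem mem_range_resSnd (hP' : IsRelProj 𝒮' p' chart') (c : Idx u) (r' : Γ(S', c.U')) (V' : S'.Opens)
    (hV : V' = S'.basicOpen r') (hV' : IsAffineOpen V') (i : V' ≤ c.U') (x : P')
    (hx : x ∈ Set.range (c.j p' chart').base) (hxV : p'.base x ∈ V') :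
    x ∈ Set.range ((c.resSnd V' hV' i).j p' chart').base := by
  subst hV
  obtain ⟨q₀, hq₀, rfl⟩ := (mem_range_j_iff p' chart' c _).mp hx
  have hx' : (emb p' chart' c.U' c.hU').base q₀ ∈ Set.range (emb p' chart' _ hV').base := by
    rw [range_emb]; exact hxV
  obtain ⟨q, hq⟩ := hx'
  refine (mem_range_j_iff p' chart' _ _).mpr ⟨q, ?_, hq⟩
  rw [← map_res_emb hP' c.U' c.hU' r', Scheme.Hom.comp_apply] at hq
  have hq' := (emb p' chart' c.U' c.hU').isOpenEmbedding.injective hq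
  change q ∈ Proj.basicOpen (𝒮'.deg _ hV') (𝒮'.res c.hU' hV' i c.b)
  rw [← Proj.map_preimage_basicOpen (𝒮'.res c.hU' hV' i) (𝒮'.irrelevant_le_map c.U' c.hU' r')]
  change (Proj.map (𝒮'.res c.hU' hV' i) (𝒮'.irrelevant_le_map c.U' c.hU' r')).base q ∈
    Proj.basicOpen (𝒮'.deg c.U' c.hU') c.b
  rw [hq']
  exact hq₀

theorem mem_range_withElt_mul (c : Idx u) (d₂ : ℕ) (hd₂ : 0 < d₂) (f₂ : 𝒮.presheaf.obj (op c.U))
    (hf₂ : f₂ ∈ 𝒮.deg c.U c.hU d₂)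
    (b₂ : 𝒮'.presheaf.obj (op c.U')) (hb₂ : u.gradedAt c.U c.hU c.U' c.hU' c.hle f₂ = b₂)
    (e : ℕ) (he : 0 < e) (x : 𝒮.presheaf.obj (op c.U)) (hx : x ∈ 𝒮.deg c.U c.hU e)
    (y : 𝒮'.presheaf.obj (op c.U')) (hy : u.gradedAt c.U c.hU c.U' c.hU' c.hle x = y)
    (hye : y = c.b * b₂) (x₀ : P') (h1 : x₀ ∈ Set.range (c.j p' chart').base)
    (h2 : x₀ ∈ Set.range ((c.withElt d₂ hd₂ f₂ hf₂ b₂ hb₂).j p' chart').base) :
    x₀ ∈ Set.range ((c.withElt e he x hx y hy).j p' chart').base := by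
  obtain ⟨q₁, hq₁, rfl⟩ := (mem_range_j_iff p' chart' c _).mp h1
  obtain ⟨q₂, hq₂, hq₂'⟩ := (mem_range_j_iff p' chart' _ _).mp h2
  have hq : q₂ = q₁ := (emb p' chart' c.U' c.hU').isOpenEmbedding.injective hq₂'
  subst hq
  refine (mem_range_j_iff p' chart' _ _).mpr ⟨q₂, ?_, rfl⟩
  change q₂ ∈ Proj.basicOpen (𝒮'.deg c.U' c.hU') y
  rw [hye, Proj.basicOpen_mul]
  exact ⟨hq₁, hq₂⟩

end Range

end Idx

theorem exists_common_basicOpen {X : Scheme.{u}} {U₁ U₂ : X.Opens} (h₁ : IsAffineOpen U₁) (h₂ : IsAffineOpen U₂)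
    (N : X.Opens) (x : X) (hx₁ : x ∈ U₁) (hx₂ : x ∈ U₂) (hxN : x ∈ N) :
    ∃ (r₁ : Γ(X, U₁)) (r₂ : Γ(X, U₂)), X.basicOpen r₁ = X.basicOpen r₂ ∧ x ∈ X.basicOpen r₁ ∧
      X.basicOpen r₁ ≤ N := by
  obtain ⟨a, ha₁, ha₂⟩ := h₁.exists_basicOpen_le ⟨x, hxN⟩ hx₁
  obtain ⟨f, g₂, hfg, hxf⟩ := exists_basicOpen_le_affine_inter (h₁.basicOpen a) h₂ x ⟨ha₂, hx₂⟩
  obtain ⟨r₁, hr₁⟩ := h₁.basicOpen_basicOpen_is_basicOpen a f
  exact ⟨r₁, g₂, hr₁.trans hfg, hr₁ ▸ hxf, hr₁ ▸ (X.basicOpen_le f).trans ha₁⟩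

section Main
variable {u}
variable {P : Scheme.{u}} {p : P ⟶ S}
  {chart : ∀ (U : S.Opens) (hU : IsAffineOpen U), (((p ⁻¹ᵁ U : P.Opens) : Scheme.{u}) ≅ Proj (𝒮.deg U hU))}
  {P' : Scheme.{u}} {p' : P' ⟶ S'}
  {chart' : ∀ (U' : S'.Opens) (hU' : IsAffineOpen U'), (((p' ⁻¹ᵁ U' : P'.Opens) : Scheme.{u}) ≅ Proj (𝒮'.deg U' hU'))}
  (hP : IsRelProj 𝒮 p chart) (hP' : IsRelProj 𝒮' p' chart')

omit hP hP' in
theorem p'_j_mem (c : Idx u) (y : c.D) : p'.base ((c.j p' chart').base y) ∈ c.U' := by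
  have h : (c.j p' chart').base y ∈ Set.range (emb p' chart' c.U' c.hU').base := by
    unfold Idx.j
    rw [Scheme.Hom.comp_apply]
    exact ⟨_, rfl⟩
  rw [Idx.range_emb] at h
  exact h

/-- restrict both members -/
def Idx.res (c : Idx u) (V : S.Opens) (hV : IsAffineOpen V) (i : V ≤ c.U) (V' : S'.Opens) (hV' : IsAffineOpen V')
    (i' : V' ≤ c.U') (hle' : V' ≤ g ⁻¹ᵁ V) : Idx u :=
  (c.resSnd V' hV' i').resFst V hV i hle'

include hP hP' in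
theorem Idx.res_le (c : Idx u) (r : Γ(S, c.U)) (V : S.Opens) (hVr : V = S.basicOpen r) (hV : IsAffineOpen V)
    (i : V ≤ c.U) (r' : Γ(S', c.U')) (V' : S'.Opens) (hVr' : V' = S'.basicOpen r') (hV' : IsAffineOpen V')
    (i' : V' ≤ c.U') (hle' : V' ≤ g ⁻¹ᵁ V) :
    Idx.Le p chart p' chart' (c.res V hV i V' hV' i' hle') c := by
  have h1 := Idx.resSnd_le p chart p' chart' hP' c r' V' hVr' hV' i'
  have h2 := Idx.resFst_le p chart p' chart' hP (c.resSnd V' hV' i') (show Γ(S, (c.resSnd V' hV' i').U) from r)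
    V hVr hV i hle'
  unfold Idx.res
  exact h2.trans h1

include hP' in
theorem Idx.mem_range_res (c : Idx u) (V : S.Opens) (hV : IsAffineOpen V)
    (i : V ≤ c.U) (r' : Γ(S', c.U')) (V' : S'.Opens) (hVr' : V' = S'.basicOpen r') (hV' : IsAffineOpen V')
    (i' : V' ≤ c.U') (hle' : V' ≤ g ⁻¹ᵁ V) (x : P')
    (hx : x ∈ Set.range (c.j p' chart').base) (hxV : p'.base x ∈ V') :
    x ∈ Set.range ((c.res V hV i V' hV' i' hle').j p' chart').base :=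
  Idx.mem_range_resSnd p' chart' hP' c r' V' hVr' hV' i' x hx hxV

omit hP hP' in
theorem exists_mul (U : S.Opens) (hU : IsAffineOpen U) (U' : S'.Opens) (hU' : IsAffineOpen U') (hle : U' ≤ g ⁻¹ᵁ U)
    (d₁ : ℕ) (hd₁ : 0 < d₁) (f₁ : 𝒮.presheaf.obj (op U)) (hf₁ : f₁ ∈ 𝒮.deg U hU d₁)
    (b₁ : 𝒮'.presheaf.obj (op U')) (hb₁ : u.gradedAt U hU U' hU' hle f₁ = b₁)
    (d₂ : ℕ) (hd₂ : 0 < d₂) (f₂ : 𝒮.presheaf.obj (op U)) (hf₂ : f₂ ∈ 𝒮.deg U hU d₂)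
    (b₂ : 𝒮'.presheaf.obj (op U')) (hb₂ : u.gradedAt U hU U' hU' hle f₂ = b₂) :
    ∃ c'' : Idx u, Idx.Le p chart p' chart' c'' ⟨U, hU, U', hU', hle, d₁, hd₁, f₁, hf₁, b₁, hb₁⟩ ∧
      Idx.Le p chart p' chart' c'' ⟨U, hU, U', hU', hle, d₂, hd₂, f₂, hf₂, b₂, hb₂⟩ ∧
      ∀ x : P', x ∈ Set.range ((⟨U, hU, U', hU', hle, d₁, hd₁, f₁, hf₁, b₁, hb₁⟩ : Idx u).j p' chart').base →
        x ∈ Set.range ((⟨U, hU, U', hU', hle, d₂, hd₂, f₂, hf₂, b₂, hb₂⟩ : Idx u).j p' chart').base →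
        x ∈ Set.range (c''.j p' chart').base := by
  have hmem : f₁ * f₂ ∈ 𝒮.deg U hU (d₁ + d₂) := SetLike.mul_mem_graded hf₁ hf₂
  have hyb : u.gradedAt U hU U' hU' hle (f₁ * f₂) = b₁ * b₂ := by
    rw [map_mul, hb₁, hb₂]
  refine ⟨⟨U, hU, U', hU', hle, d₁ + d₂, Nat.add_pos_left hd₁ _, f₁ * f₂, hmem, b₁ * b₂, hyb⟩, ?_, ?_, ?_⟩
  · exact Idx.withElt_mul_le p chart p' chart' ⟨U, hU, U', hU', hle, d₁, hd₁, f₁, hf₁, b₁, hb₁⟩ d₂ f₂ hf₂ b₂ hb₂
      (d₁ + d₂) (Nat.add_pos_left hd₁ _) (f₁ * f₂) hmem (b₁ * b₂) hyb rfl rfl rfl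
  · exact Idx.withElt_mul_le p chart p' chart' ⟨U, hU, U', hU', hle, d₂, hd₂, f₂, hf₂, b₂, hb₂⟩ d₁ f₁ hf₁ b₁ hb₁
      (d₁ + d₂) (Nat.add_pos_left hd₁ _) (f₁ * f₂) hmem (b₁ * b₂) hyb (add_comm _ _) (mul_comm _ _) (mul_comm _ _)
  · intro x h1 h2
    exact Idx.mem_range_withElt_mul p' chart' ⟨U, hU, U', hU', hle, d₁, hd₁, f₁, hf₁, b₁, hb₁⟩ d₂ hd₂ f₂ hf₂ b₂ hb₂
      (d₁ + d₂) (Nat.add_pos_left hd₁ _) (f₁ * f₂) hmem (b₁ * b₂) hyb rfl x h1 h2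

include hP hP' in
theorem refines : GlueCharts.Refines (fun c : Idx u => c.D) (fun c => c.j p' chart') (fun c => c.t p chart) := by
  intro c₁ c₂ y₁ y₂ hy
  have hx₁ : (c₁.j p' chart').base y₁ ∈ Set.range (c₁.j p' chart').base := ⟨y₁, rfl⟩
  have hx₂ : (c₁.j p' chart').base y₁ ∈ Set.range (c₂.j p' chart').base := ⟨y₂, hy.symm⟩
  have hy'₁ : p'.base ((c₁.j p' chart').base y₁) ∈ c₁.U' := p'_j_mem (u := u) c₁ y₁
  have hy'₂ : p'.base ((c₁.j p' chart').base y₁) ∈ c₂.U' := by rw [hy]; exact p'_j_mem (u := u) c₂ y₂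
  obtain ⟨r₁, r₂, hr, hgy, -⟩ := exists_common_basicOpen c₁.hU c₂.hU ⊤
    (g.base (p'.base ((c₁.j p' chart').base y₁))) (c₁.hle hy'₁) (c₂.hle hy'₂) trivial
  have hV : IsAffineOpen (S.basicOpen r₁) := c₁.hU.basicOpen r₁
  obtain ⟨r₁', r₂', hr', hy'V, hV'N⟩ := exists_common_basicOpen c₁.hU' c₂.hU' (g ⁻¹ᵁ S.basicOpen r₁)
    (p'.base ((c₁.j p' chart').base y₁)) hy'₁ hy'₂ hgy
  have hV' : IsAffineOpen (S'.basicOpen r₁') := c₁.hU'.basicOpen r₁'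
  have i₂' : S'.basicOpen r₁' ≤ c₂.U' := hr' ▸ S'.basicOpen_le r₂'
  have i₂ : S.basicOpen r₁ ≤ c₂.U := hr ▸ S.basicOpen_le r₂
  have hle₁ := Idx.res_le hP hP' c₁ r₁ _ rfl hV (S.basicOpen_le r₁) r₁' _ rfl hV' (S'.basicOpen_le r₁') hV'N
  have hle₂ := Idx.res_le hP hP' c₂ r₂ _ hr hV i₂ r₂' _ hr' hV' i₂' hV'N
  have h1 := Idx.mem_range_res hP' c₁ _ hV (S.basicOpen_le r₁) r₁' _ rfl hV' (S'.basicOpen_le r₁') hV'N _ hx₁ hy'V
  have h2 := Idx.mem_range_res hP' c₂ _ hV i₂ r₂' _ hr' hV' i₂' hV'N _ hx₂ hy'V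
  obtain ⟨c'', hc₁, hc₂, hc⟩ := exists_mul (p := p) (chart := chart) (p' := p') (chart' := chart')
    (S.basicOpen r₁) hV (S'.basicOpen r₁') hV' hV'N
    c₁.d c₁.hd _ (c₁.res _ hV (S.basicOpen_le r₁) _ hV' (S'.basicOpen_le r₁') hV'N).hf _
      (c₁.res _ hV (S.basicOpen_le r₁) _ hV' (S'.basicOpen_le r₁') hV'N).hb
    c₂.d c₂.hd _ (c₂.res _ hV i₂ _ hV' i₂' hV'N).hf _ (c₂.res _ hV i₂ _ hV' i₂' hV'N).hb
  obtain ⟨k, hkj, hkt⟩ := hc₁.trans hle₁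
  obtain ⟨k', hkj', hkt'⟩ := hc₂.trans hle₂
  refine ⟨c'', k, k', ?_, hkj, hkj', hkt, hkt'⟩
  obtain ⟨z, hz⟩ := hc _ h1 h2
  refine ⟨z, ?_⟩
  apply (c₁.j p' chart').isOpenEmbedding.injective
  rw [← hz, ← hkj, Scheme.Hom.comp_apply]

omit hP hP' in
theorem isProjQMapOn_iff (W : P'.Opens) (r : (W : Scheme.{u}) ⟶ P) :
    IsProjQMapOn u p chart p' chart' W r ↔
      ∀ (c : Idx u) (hW : Set.range (c.j p' chart').base ⊆ Set.range W.ι.base),
        IsOpenImmersion.lift W.ι (c.j p' chart') hW ≫ r = c.t p chart := by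
  constructor
  · intro h c hW
    obtain ⟨U, hU, U', hU', hle, d, hd, f, hf, b, hb⟩ := c
    subst hb
    exact h U hU U' hU' hle d hd f hf hW
  · intro h U hU U' hU' hle d hd f hf hW
    exact h (Idx.std U hU U' hU' hle d hd f hf) hW

include hP hP' in
/-- Existence and uniqueness of `Proj(u)` on `G(u)`. -/
theorem existsUnique_isProjQMapOn_domQ :
    ∃! v : ((domQ u p' chart' : P'.Opens) : Scheme.{u}) ⟶ P,
      IsProjQMapOn u p chart p' chart' (domQ u p' chart') v := by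
  obtain ⟨v, hv, huniq⟩ := GlueCharts.existsUnique_glue (fun c : Idx u => c.D) (fun c => c.j p' chart')
    (fun c => c.t p chart) (domQ u p' chart') (fun c => Idx.range_j_subset_domQ p' chart' c)
    (fun x hx => Idx.exists_mem_range_j p' chart' x hx) (refines hP hP')
  refine ⟨v, (isProjQMapOn_iff _ _).mpr fun c _ => hv c, fun v' hv' => huniq v' fun c => ?_⟩
  exact (isProjQMapOn_iff _ _).mp hv' c _

omit hP hP' in
theorem fromZero_mapTo (U : S.Opens) (hU : IsAffineOpen U) (U' : S'.Opens) (hU' : IsAffineOpen U')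
    (hle : U' ≤ g ⁻¹ᵁ U) (f : 𝒮.presheaf.obj (op U)) (b : 𝒮'.presheaf.obj (op U'))
    (hb : u.gradedAt U hU U' hU' hle f = b) :
    (𝒮.strZero U hU ≫ CommRingCat.ofHom (fromZeroRingHom (𝒮.deg U hU) (Submonoid.powers f))) ≫
      CommRingCat.ofHom (AwayTo.mapTo (u.gradedAt U hU U' hU' hle) hb) =
    g.appLE U U' hle ≫ 𝒮'.strZero U' hU' ≫
      CommRingCat.ofHom (fromZeroRingHom (𝒮'.deg U' hU') (Submonoid.powers b)) := by
  ext1
  ext r
  have h := congr($(u.toQHom.str_appLE U U' hle) r)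
  simp only [CommRingCat.hom_comp, RingHom.comp_apply, CommRingCat.hom_ofHom] at h ⊢
  rw [AwayTo.mapTo_fromZeroRingHom]
  refine congrArg HomogeneousLocalization.val
    (congrArg (fromZeroRingHom (𝒮'.deg U' hU') (Submonoid.powers b)) (Subtype.ext ?_))
  exact h

include hP hP' in
/-- On every chart, the target morphism lies over the base change. -/
theorem t_comp_p (c : Idx u) : c.t p chart ≫ p = c.j p' chart' ≫ p' ≫ g := by
  have e1 : emb p chart c.U c.hU ≫ p =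
      Proj.toSpecZero (𝒮.deg c.U c.hU) ≫ Spec.map (𝒮.strZero c.U c.hU) ≫ c.hU.fromSpec := by
    rw [emb, Category.assoc, ← hP.chart_over c.U c.hU, Iso.inv_hom_id_assoc]
  have e2 : emb p' chart' c.U' c.hU' ≫ p' =
      Proj.toSpecZero (𝒮'.deg c.U' c.hU') ≫ Spec.map (𝒮'.strZero c.U' c.hU') ≫ c.hU'.fromSpec := by
    rw [emb, Category.assoc, ← hP'.chart_over c.U' c.hU', Iso.inv_hom_id_assoc]
  unfold Idx.t Idx.j
  simp only [Category.assoc]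
  rw [e1, reassoc_of% e2, Proj.awayι_toSpecZero_assoc, Proj.awayι_toSpecZero_assoc,
    ← IsAffineOpen.SpecMap_appLE_fromSpec g c.hU c.hU' c.hle]
  simp only [← Spec.map_comp_assoc]
  congr 2
  exact fromZero_mapTo c.U c.hU c.U' c.hU' c.hle c.f c.b c.hb

include hP hP' in
theorem comp_eq_of_isProjQMapOn_domQ (v : ((domQ u p' chart' : P'.Opens) : Scheme.{u}) ⟶ P)
    (hv : IsProjQMapOn u p chart p' chart' (domQ u p' chart') v) :
    v ≫ p = (domQ u p' chart').ι ≫ p' ≫ g := by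
  refine (GlueCharts.cover (fun c : Idx u => c.D) (fun c => c.j p' chart') (domQ u p' chart')
    (fun c => Idx.range_j_subset_domQ p' chart' c)
    (fun x hx => Idx.exists_mem_range_j p' chart' x hx)).hom_ext _ _ fun c => ?_
  change IsOpenImmersion.lift _ (c.j p' chart') (Idx.range_j_subset_domQ p' chart' c) ≫ v ≫ p =
    IsOpenImmersion.lift _ (c.j p' chart') (Idx.range_j_subset_domQ p' chart' c) ≫
      (domQ u p' chart').ι ≫ p' ≫ g
  rw [← Category.assoc, (isProjQMapOn_iff _ _).mp hv c _, IsOpenImmersion.lift_fac_assoc]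
  exact t_comp_p hP hP' c

end Main

end Groth.Agent.Lib.Helper3.QProj
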