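import Groth.Agent.Lib.Helper3.QProj
/-!
# `Proj(u)`: the same-base case and preimages of standard charts
-/
universe u
open CategoryTheory CategoryTheory.Limits AlgebraicGeometry Opposite TopologicalSpace
open HomogeneousLocalization
open scoped HomogeneousIdeal

namespace Groth.Agent.Lib.Helper3.QProj
open RelProj RelSpec Groth.Agent.Lib.Helper3

theorem gradedAt_ofHom_apply {Y : Scheme.{u}} {𝒜 ℬ : RelProj.QCGrAlg Y}
    (φ : 𝒜.toQCAlg ⟶ ℬ.toQCAlg) (hφ : RelProj.IsGradedHom φ) (U : Y.Opens) (hU : IsAffineOpen U)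
    (hle : U ≤ (𝟙 Y : Y ⟶ Y) ⁻¹ᵁ U) (x : 𝒜.presheaf.obj (op U)) :
    (RelProj.QGrHom.ofHom φ hφ).gradedAt U hU U hU hle x = RelProj.gradedHomAt φ hφ U hU x := by
  have key : ∀ (V : Y.Opens) (hV : V = U) (hle : U ≤ V) (b : ℬ.presheaf.obj (op V)),
      (ℬ.presheaf.map (homOfLE hle).op).hom b = cast (by rw [hV]) b := by
    intro V hV hle b
    subst hV
    have : (homOfLE hle).op = 𝟙 (op V) := Subsingleton.elim _ _
    rw [this, ℬ.presheaf.map_id]
    rfl
  exact key _ rfl hle _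

/-- If the irrelevant ideal of the target is generated by the image of the irrelevant ideal, the induced morphism
is everywhere defined. -/
theorem mem_domOpen_of_irrelevant_le {A B σ τ : Type u} [CommRing A] [SetLike σ A] [AddSubgroupClass σ A]
    {𝒜 : ℕ → σ} [GradedRing 𝒜] [CommRing B] [SetLike τ B] [AddSubgroupClass τ B] {ℬ : ℕ → τ} [GradedRing ℬ]
    (ψ : 𝒜 →+*ᵍ ℬ) (I : Ideal B) (hI : I = (𝒜₊).toIdeal.map ψ) (hirr : ℬ₊.toIdeal ≤ I) (q : Proj ℬ) :
    q ∈ RelCone.domOpen ψ := by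
  rw [RelCone.mem_domOpen]
  by_contra hcon
  push Not at hcon
  apply q.not_irrelevant_le
  change ℬ₊.toIdeal ≤ q.asHomogeneousIdeal.toIdeal
  refine hirr.trans ?_
  rw [hI, Ideal.map_le_iff_le_comap]
  intro f hf
  exact hcon f hf

end Groth.Agent.Lib.Helper3.QProj
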