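import Groth.Agent.Lib.Helper3.QProj2
import Groth.Agent.Lib.Helper3.ProjIntegral
/-!
# `Proj(u)`: preimages of standard charts
-/
universe u
open CategoryTheory CategoryTheory.Limits AlgebraicGeometry Opposite TopologicalSpace
open HomogeneousLocalization
open scoped HomogeneousIdeal

namespace Groth.Agent.Lib.Helper3.AwayTo
variable {A B σ τ : Type u} [CommRing A] [SetLike σ A] [AddSubgroupClass σ A]
  [CommRing B] [SetLike τ B] [AddSubgroupClass τ B]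
  {𝒜 : ℕ → σ} {ℬ : ℕ → τ} [GradedRing 𝒜] [GradedRing ℬ]

theorem mapTo_isLocalizationElem (ψ : 𝒜 →+*ᵍ ℬ) {d e : ℕ} {f g : A} (hf : f ∈ 𝒜 d) (hg : g ∈ 𝒜 e) {b : B}
    (hb : ψ f = b) (hb' : b ∈ ℬ d) :
    mapTo ψ hb (Away.isLocalizationElem hf hg) =
      Away.isLocalizationElem hb' (show ψ g ∈ ℬ e from ψ.map_mem hg) := by
  subst hb
  refine (Away.map_mk ψ f hf e (g ^ d) _).trans ?_
  apply HomogeneousLocalization.val_injective
  simp [Away.val_mk, map_pow]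

/-- A point of the chart `D₊(b)` whose image under the induced map lies in `D₊(g)` lies in `D₊(ψ g)`. -/
theorem mem_basicOpen_of_map (ψ : 𝒜 →+*ᵍ ℬ) {d e : ℕ} (hd : 0 < d) (he : 0 < e) {f g : A} (hf : f ∈ 𝒜 d)
    (hg : g ∈ 𝒜 e) {b : B} (hb : ψ f = b) (hb' : b ∈ ℬ d) (z : Spec (CommRingCat.of (Away ℬ b)))
    (hz : (Proj.awayι 𝒜 f hf hd).base ((Spec.map (CommRingCat.ofHom (mapTo ψ hb))).base z) ∈
      Proj.basicOpen 𝒜 g) :
    (Proj.awayι ℬ b hb' hd).base z ∈ Proj.basicOpen ℬ (ψ g) := by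
  have h1 : (Spec.map (CommRingCat.ofHom (mapTo ψ hb))).base z ∈
      Proj.awayι 𝒜 f hf hd ⁻¹ᵁ Proj.basicOpen 𝒜 g := hz
  rw [Proj.awayι_preimage_basicOpen 𝒜 hf hd hg he] at h1
  have h2 : z ∈ Spec.map (CommRingCat.ofHom (mapTo ψ hb)) ⁻¹ᵁ
      PrimeSpectrum.basicOpen (Away.isLocalizationElem hf hg) := h1
  rw [SpecMap_preimage_basicOpen] at h2
  have h3 : (CommRingCat.ofHom (mapTo ψ hb)) (Away.isLocalizationElem hf hg) =
      Away.isLocalizationElem hb' (show ψ g ∈ ℬ e from ψ.map_mem hg) := mapTo_isLocalizationElem ψ hf hg hb hb'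
  rw [h3, ← Proj.awayι_preimage_basicOpen ℬ hb' hd (show ψ g ∈ ℬ e from ψ.map_mem hg) he] at h2
  exact h2

/-- Conversely. -/
theorem map_mem_basicOpen (ψ : 𝒜 →+*ᵍ ℬ) {d e : ℕ} (hd : 0 < d) (he : 0 < e) {f g : A} (hf : f ∈ 𝒜 d)
    (hg : g ∈ 𝒜 e) {b : B} (hb : ψ f = b) (hb' : b ∈ ℬ d) (z : Spec (CommRingCat.of (Away ℬ b)))
    (hz : (Proj.awayι ℬ b hb' hd).base z ∈ Proj.basicOpen ℬ (ψ g)) :
    (Proj.awayι 𝒜 f hf hd).base ((Spec.map (CommRingCat.ofHom (mapTo ψ hb))).base z) ∈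
      Proj.basicOpen 𝒜 g := by
  have h2 : z ∈ Proj.awayι ℬ b hb' hd ⁻¹ᵁ Proj.basicOpen ℬ (ψ g) := hz
  rw [Proj.awayι_preimage_basicOpen ℬ hb' hd (show ψ g ∈ ℬ e from ψ.map_mem hg) he] at h2
  have h3 : (CommRingCat.ofHom (mapTo ψ hb)) (Away.isLocalizationElem hf hg) =
      Away.isLocalizationElem hb' (show ψ g ∈ ℬ e from ψ.map_mem hg) := mapTo_isLocalizationElem ψ hf hg hb hb'
  rw [← h3, ← SpecMap_preimage_basicOpen] at h2
  have h1 : (Spec.map (CommRingCat.ofHom (mapTo ψ hb))).base z ∈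
      PrimeSpectrum.basicOpen (Away.isLocalizationElem hf hg) := h2
  rw [← Proj.awayι_preimage_basicOpen 𝒜 hf hd hg he] at h1
  exact h1

end Groth.Agent.Lib.Helper3.AwayTo

namespace Groth.Agent.Lib.Helper3.QProj
open RelProj RelSpec Groth.Agent.Lib.Helper3

/-- restriction of a standard chart of a relative Proj to the part over a basic open -/
theorem mem_range_awayι_emb_res {S : Scheme.{u}} {𝒮 : QCGrAlg S} {P : Scheme.{u}} {p : P ⟶ S}
    {chart : ∀ (U : S.Opens) (hU : IsAffineOpen U), (((p ⁻¹ᵁ U : P.Opens) : Scheme.{u}) ≅ Proj (𝒮.deg U hU))}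
    (hP : IsRelProj 𝒮 p chart) (U : S.Opens) (hU : IsAffineOpen U) (r : Γ(S, U)) (V : S.Opens)
    (hVr : V = S.basicOpen r) (hV : IsAffineOpen V) (i : V ≤ U) {d : ℕ} (hd : 0 < d)
    (f : 𝒮.presheaf.obj (op U)) (hf : f ∈ 𝒮.deg U hU d) (x : P)
    (hx : x ∈ Set.range (Proj.awayι (𝒮.deg U hU) f hf hd ≫ emb p chart U hU).base) (hxV : p.base x ∈ V) :
    x ∈ Set.range (Proj.awayι (𝒮.deg V hV) (𝒮.res hU hV i f) ((𝒮.res hU hV i).map_mem hf) hd ≫
      emb p chart V hV).base := by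
  subst hVr
  obtain ⟨z₀, rfl⟩ := hx
  have hx' : (Proj.awayι (𝒮.deg U hU) f hf hd ≫ emb p chart U hU).base z₀ ∈
      Set.range (emb p chart _ hV).base := by
    rw [Idx.range_emb]; exact hxV
  obtain ⟨q, hq⟩ := hx'
  rw [Scheme.Hom.comp_apply, ← map_res_emb hP U hU r, Scheme.Hom.comp_apply] at hq
  have hq' := (emb p chart U hU).isOpenEmbedding.injective hq
  have hq2 : q ∈ Proj.basicOpen (𝒮.deg _ hV) (𝒮.res hU hV i f) := by
    change (Proj.map (𝒮.res hU hV i) (𝒮.irrelevant_le_map U hU r)).base q ∈ Proj.basicOpen (𝒮.deg U hU) f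
    rw [hq', ← Proj.opensRange_awayι (𝒮.deg U hU) f hf hd]
    exact ⟨z₀, rfl⟩
  rw [← Proj.opensRange_awayι (𝒮.deg _ hV) (𝒮.res hU hV i f) ((𝒮.res hU hV i).map_mem hf) hd] at hq2
  obtain ⟨z, rfl⟩ := hq2
  refine ⟨z, ?_⟩
  rw [Scheme.Hom.comp_apply, ← map_res_emb hP U hU r, Scheme.Hom.comp_apply, hq', Scheme.Hom.comp_apply]

/-- every point of a relative Proj lies in a standard chart -/
theorem exists_std_chart {S : Scheme.{u}} {𝒮 : QCGrAlg S} {P : Scheme.{u}} (p : P ⟶ S)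
    (chart : ∀ (U : S.Opens) (hU : IsAffineOpen U), (((p ⁻¹ᵁ U : P.Opens) : Scheme.{u}) ≅ Proj (𝒮.deg U hU)))
    (x : P) (U : S.Opens) (hU : IsAffineOpen U) (hxU : p.base x ∈ U) :
    ∃ (d : ℕ) (hd : 0 < d) (f : 𝒮.presheaf.obj (op U)) (hf : f ∈ 𝒮.deg U hU d),
      x ∈ Set.range (Proj.awayι (𝒮.deg U hU) f hf hd ≫ emb p chart U hU).base := by
  have hx : x ∈ Set.range (emb p chart U hU).base := by rw [Idx.range_emb]; exact hxU
  obtain ⟨q, rfl⟩ := hx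
  obtain ⟨f, d, hd, hf, hqf, -⟩ :=
    ProjIntegral.exists_homogeneous_basicOpen (𝒮.deg U hU) q Set.univ isOpen_univ trivial
  refine ⟨d, hd, f, hf, ?_⟩
  rw [← Proj.opensRange_awayι (𝒮.deg U hU) f hf hd] at hqf
  obtain ⟨z, rfl⟩ := hqf
  exact ⟨z, by rw [Scheme.Hom.comp_apply]⟩

section LemmaA
variable {S S' : Scheme.{u}} {g : S' ⟶ S} {𝒮 : QCGrAlg S} {𝒮' : QCGrAlg S'} {u : QGrHom g 𝒮 𝒮'}
  {P : Scheme.{u}} {p : P ⟶ S}
  {chart : ∀ (U : S.Opens) (hU : IsAffineOpen U), (((p ⁻¹ᵁ U : P.Opens) : Scheme.{u}) ≅ Proj (𝒮.deg U hU))}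
  {P' : Scheme.{u}} {p' : P' ⟶ S'}
  {chart' : ∀ (U' : S'.Opens) (hU' : IsAffineOpen U'), (((p' ⁻¹ᵁ U' : P'.Opens) : Scheme.{u}) ≅ Proj (𝒮'.deg U' hU'))}
  (hP : IsRelProj 𝒮 p chart) (hP' : IsRelProj 𝒮' p' chart')

/-- The value of `Proj(u)` at a point of a chart. -/
theorem v_apply (W : P'.Opens) (v : (W : Scheme.{u}) ⟶ P) (hv : IsProjQMapOn u p chart p' chart' W v) (c : Idx u)
    (hW : Set.range (c.j p' chart').base ⊆ Set.range W.ι.base)
    (z : c.D) (x : (W : Scheme.{u})) (hx : W.ι.base x = (c.j p' chart').base z) :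
    v.base x = (c.t p chart).base z := by
  have h1 := (isProjQMapOn_iff W v).mp hv c hW
  have h2 : x = (IsOpenImmersion.lift W.ι (c.j p' chart') hW).base z := by
    apply W.ι.isOpenEmbedding.injective
    rw [hx, ← Scheme.Hom.comp_apply, IsOpenImmersion.lift_fac]
  rw [h2, ← Scheme.Hom.comp_apply, h1]

theorem range_j_eq_of_b_eq (U : S.Opens) (hU : IsAffineOpen U) (U' : S'.Opens) (hU' : IsAffineOpen U')
    (hle : U' ≤ g ⁻¹ᵁ U) (U₂ : S.Opens) (hU₂ : IsAffineOpen U₂) (hle₂ : U' ≤ g ⁻¹ᵁ U₂)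
    (d : ℕ) (hd : 0 < d) (f : 𝒮.presheaf.obj (op U)) (hf : f ∈ 𝒮.deg U hU d) (b : 𝒮'.presheaf.obj (op U'))
    (hb : u.gradedAt U hU U' hU' hle f = b)
    (d₂ : ℕ) (hd₂ : 0 < d₂) (f₂ : 𝒮.presheaf.obj (op U₂)) (hf₂ : f₂ ∈ 𝒮.deg U₂ hU₂ d₂) (b₂ : 𝒮'.presheaf.obj (op U'))
    (hb₂ : u.gradedAt U₂ hU₂ U' hU' hle₂ f₂ = b₂) (hbb : b = b₂) :
    Set.range ((⟨U, hU, U', hU', hle, d, hd, f, hf, b, hb⟩ : Idx u).j p' chart').base =
      Set.range ((⟨U₂, hU₂, U', hU', hle₂, d₂, hd₂, f₂, hf₂, b₂, hb₂⟩ : Idx u).j p' chart').base := by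
  subst hbb
  ext x
  rw [Idx.mem_range_j_iff, Idx.mem_range_j_iff]

include hP hP' in
/-- Lemma A: a point of `G(u)` mapped by `Proj(u)` into the standard chart `D₊(f)` over `U` lies in a standard
chart of `G(u)` at `f`. -/
theorem exists_awayEmb_of_mem (v : ((domQ u p' chart' : P'.Opens) : Scheme.{u}) ⟶ P)
    (hv : IsProjQMapOn u p chart p' chart' (domQ u p' chart') v)
    (U : S.Opens) (hU : IsAffineOpen U) (d : ℕ) (hd : 0 < d) (f : 𝒮.presheaf.obj (op U)) (hf : f ∈ 𝒮.deg U hU d)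
    (x : ((domQ u p' chart' : P'.Opens) : Scheme.{u}))
    (hx : v.base x ∈ Set.range (Proj.awayι (𝒮.deg U hU) f hf hd ≫ emb p chart U hU).base) :
    ∃ (V' : S'.Opens) (hV' : IsAffineOpen V') (hle : V' ≤ g ⁻¹ᵁ U),
      (domQ u p' chart').ι.base x ∈ Set.range (awayEmb u p' chart' U hU V' hV' hle hd f hf).base := by
  obtain ⟨c, z, hz⟩ := Idx.exists_mem_range_j (u := u) p' chart' ((domQ u p' chart').ι.base x) x.2
  -- the point of the base
  have hy' : p'.base ((domQ u p' chart').ι.base x) ∈ c.U' := by rw [← hz]; exact p'_j_mem c z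
  have hcomm := comp_eq_of_isProjQMapOn_domQ hP hP' v hv
  have hpv : p.base (v.base x) = g.base (p'.base ((domQ u p' chart').ι.base x)) := by
    rw [← Scheme.Hom.comp_apply, hcomm]
    rfl
  have hgU : g.base (p'.base ((domQ u p' chart').ι.base x)) ∈ U := by
    rw [← hpv]
    obtain ⟨w, hw⟩ := hx
    rw [← hw, Scheme.Hom.comp_apply]
    have : (emb p chart U hU).base ((Proj.awayι (𝒮.deg U hU) f hf hd).base w) ∈
        Set.range (emb p chart U hU).base := ⟨_, rfl⟩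
    rw [Idx.range_emb] at this
    exact this
  obtain ⟨r, r₁, hr, hgy, -⟩ := exists_common_basicOpen hU c.hU ⊤ _ hgU (c.hle hy') trivial
  have hV : IsAffineOpen (S.basicOpen r) := hU.basicOpen r
  have i₁ : S.basicOpen r ≤ c.U := hr ▸ S.basicOpen_le r₁
  obtain ⟨r', hr'N, hy'V⟩ := c.hU'.exists_basicOpen_le
    (V := g ⁻¹ᵁ S.basicOpen r) ⟨p'.base ((domQ u p' chart').ι.base x), hgy⟩ hy'
  have hV' : IsAffineOpen (S'.basicOpen r') := c.hU'.basicOpen r'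
  -- the refined chart
  have hle' := Idx.res_le hP hP' c r₁ _ hr hV i₁ r' _ rfl hV' (S'.basicOpen_le r') hr'N
  have hmem := Idx.mem_range_res hP' c _ hV i₁ r' _ rfl hV' (S'.basicOpen_le r') hr'N _ ⟨z, hz⟩ hy'V
  obtain ⟨z', hz'⟩ := hmem
  have hvx := v_apply _ v hv (c.res _ hV i₁ _ hV' (S'.basicOpen_le r') hr'N)
    (Idx.range_j_subset_domQ p' chart' _) z' x hz'.symm
  -- the image lies in the restricted chart of `P`
  have hx2 := mem_range_awayι_emb_res hP U hU r _ rfl hV (S.basicOpen_le r) hd f hf _ hx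
    (by rw [hpv]; exact hgy)
  obtain ⟨w, hw⟩ := hx2
  rw [hvx] at hw
  -- compare inside `Proj 𝒮(V)`
  have ht : (Idx.t p chart (c.res _ hV i₁ _ hV' (S'.basicOpen_le r') hr'N)).base z' =
      (emb p chart _ hV).base ((Proj.awayι (𝒮.deg _ hV) (𝒮.res c.hU hV i₁ c.f)
        ((𝒮.res c.hU hV i₁).map_mem c.hf) c.hd).base
        ((Spec.map (CommRingCat.ofHom (AwayTo.mapTo (u.gradedAt _ hV _ hV' hr'N)
          (c.res _ hV i₁ _ hV' (S'.basicOpen_le r') hr'N).hb))).base z')) := rfl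
  rw [ht, Scheme.Hom.comp_apply] at hw
  have hw' := (emb p chart _ hV).isOpenEmbedding.injective hw
  have hmemD : (Proj.awayι (𝒮.deg _ hV) (𝒮.res c.hU hV i₁ c.f)
        ((𝒮.res c.hU hV i₁).map_mem c.hf) c.hd).base
        ((Spec.map (CommRingCat.ofHom (AwayTo.mapTo (u.gradedAt _ hV _ hV' hr'N)
          (c.res _ hV i₁ _ hV' (S'.basicOpen_le r') hr'N).hb))).base z') ∈
      Proj.basicOpen (𝒮.deg _ hV) (𝒮.res hU hV (S.basicOpen_le r) f) := by
    rw [← hw', ← Proj.opensRange_awayι (𝒮.deg _ hV) (𝒮.res hU hV (S.basicOpen_le r) f)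
      ((𝒮.res hU hV (S.basicOpen_le r)).map_mem hf) hd]
    exact ⟨w, rfl⟩
  have hkey := AwayTo.mem_basicOpen_of_map (u.gradedAt _ hV _ hV' hr'N) c.hd hd
    ((𝒮.res c.hU hV i₁).map_mem c.hf) ((𝒮.res hU hV (S.basicOpen_le r)).map_mem hf)
    (c.res _ hV i₁ _ hV' (S'.basicOpen_le r') hr'N).hb (c.res _ hV i₁ _ hV' (S'.basicOpen_le r') hr'N).hb' z' hmemD
  -- conclusion
  refine ⟨S'.basicOpen r', hV', hr'N.trans (g.preimage_mono (S.basicOpen_le r)), ?_⟩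
  have hfin : (domQ u p' chart').ι.base x ∈ Set.range
      ((⟨_, hV, _, hV', hr'N, d, hd, 𝒮.res hU hV (S.basicOpen_le r) f,
        (𝒮.res hU hV (S.basicOpen_le r)).map_mem hf, _, rfl⟩ : Idx u).j p' chart').base := by
    rw [Idx.mem_range_j_iff]
    refine ⟨_, hkey, ?_⟩
    rw [← hz']
    rfl
  have hrange := range_j_eq_of_b_eq (p' := p') (chart' := chart') _ hV _ hV' hr'N U hU
    (hr'N.trans (g.preimage_mono (S.basicOpen_le r))) d hd (𝒮.res hU hV (S.basicOpen_le r) f)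
    ((𝒮.res hU hV (S.basicOpen_le r)).map_mem hf) _ rfl d hd f hf _ rfl
    (DFunLike.congr_fun (gradedAt_comp_res u hU hV hV' (S.basicOpen_le r) hr'N) f)
  exact (Set.ext_iff.mp hrange _).mp hfin

omit hP hP' in
theorem Idx.Le.range_subset {c'' c : Idx u} (h : Idx.Le p chart p' chart' c'' c) :
    Set.range (c''.j p' chart').base ⊆ Set.range (c.j p' chart').base := by
  obtain ⟨k, hk, -⟩ := h
  rintro _ ⟨z, rfl⟩
  exact ⟨k.base z, by rw [← Scheme.Hom.comp_apply, hk]⟩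

omit hP in
include hP' in
theorem range_j_resSnd_subset (c : Idx u) (r' : Γ(S', c.U')) (V' : S'.Opens)
    (hV : V' = S'.basicOpen r') (hV' : IsAffineOpen V') (i : V' ≤ c.U') :
    Set.range ((c.resSnd V' hV' i).j p' chart').base ⊆ Set.range (c.j p' chart').base := by
  subst hV
  intro x hx
  obtain ⟨q, hq, rfl⟩ := (Idx.mem_range_j_iff p' chart' _ _).mp hx
  refine (Idx.mem_range_j_iff p' chart' c _).mpr
    ⟨(Proj.map (𝒮'.res c.hU' hV' i) (𝒮'.irrelevant_le_map c.U' c.hU' r')).base q, hq, ?_⟩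
  rw [← Scheme.Hom.comp_apply, map_res_emb hP' c.U' c.hU' r']
  rfl

omit hP in
include hP' in
/-- The standard charts grow with the second member of the pair. -/
theorem range_awayEmb_mono (U : S.Opens) (hU : IsAffineOpen U) (V' : S'.Opens) (hV' : IsAffineOpen V')
    (U'' : S'.Opens) (hU'' : IsAffineOpen U'') (i : V' ≤ U'') (hle'' : U'' ≤ g ⁻¹ᵁ U)
    (d : ℕ) (hd : 0 < d) (f : 𝒮.presheaf.obj (op U)) (hf : f ∈ 𝒮.deg U hU d) :
    Set.range (awayEmb u p' chart' U hU V' hV' (i.trans hle'') hd f hf).base ⊆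
      Set.range (awayEmb u p' chart' U hU U'' hU'' hle'' hd f hf).base := by
  intro x hx
  have hx₁ : x ∈ Set.range ((Idx.std (u := u) U hU V' hV' (i.trans hle'') d hd f hf).j p' chart').base := hx
  have hy' : p'.base x ∈ V' := by
    obtain ⟨z, rfl⟩ := hx₁
    exact p'_j_mem (Idx.std (u := u) U hU V' hV' (i.trans hle'') d hd f hf) z
  obtain ⟨r₁, r₂, hr, hyV, -⟩ := exists_common_basicOpen hV' hU'' ⊤ (p'.base x) hy' (i hy') trivial
  have hV'' : IsAffineOpen (S'.basicOpen r₁) := hV'.basicOpen r₁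
  have i₂ : S'.basicOpen r₁ ≤ U'' := hr ▸ S'.basicOpen_le r₂
  have h1 := Idx.mem_range_resSnd p' chart' hP' (Idx.std (u := u) U hU V' hV' (i.trans hle'') d hd f hf) r₁ _ rfl hV''
    (S'.basicOpen_le r₁) x hx₁ hyV
  have h2 := range_j_resSnd_subset hP' (Idx.std (u := u) U hU U'' hU'' hle'' d hd f hf) r₂ _ hr hV'' i₂
  refine h2 ?_
  have hrange := range_j_eq_of_b_eq (u := u) (p' := p') (chart' := chart') U hU _ hV''
    ((S'.basicOpen_le r₁).trans (i.trans hle'')) U hU (i₂.trans hle'') d hd f hf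
    (𝒮'.res hV' hV'' (S'.basicOpen_le r₁) (u.gradedAt U hU V' hV' (i.trans hle'') f))
    (Idx.resSnd (Idx.std (u := u) U hU V' hV' (i.trans hle'') d hd f hf) _ hV'' (S'.basicOpen_le r₁)).hb
    d hd f hf (𝒮'.res hU'' hV'' i₂ (u.gradedAt U hU U'' hU'' hle'' f))
    (Idx.resSnd (Idx.std (u := u) U hU U'' hU'' hle'' d hd f hf) _ hV'' i₂).hb
    ((DFunLike.congr_fun (res_comp_gradedAt u hU hV' hV'' (i.trans hle'') (S'.basicOpen_le r₁)) f).trans
      (DFunLike.congr_fun (res_comp_gradedAt u hU hU'' hV'' hle'' i₂) f).symm)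
  exact (Set.ext_iff.mp hrange _).mp h1

omit hP in
include hP' in
/-- Lemma B: a point of `G(u)` lying over the affine open `U` of the base lies in a standard chart attached to `U`. -/
theorem exists_awayEmb_of_mem_domQ (U : S.Opens) (hU : IsAffineOpen U) (x : P') (hx : x ∈ domQ u p' chart')
    (hxU : g.base (p'.base x) ∈ U) :
    ∃ (V' : S'.Opens) (hV' : IsAffineOpen V') (hle : V' ≤ g ⁻¹ᵁ U) (d : ℕ) (hd : 0 < d)
      (f : 𝒮.presheaf.obj (op U)) (hf : f ∈ 𝒮.deg U hU d),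
      x ∈ Set.range (awayEmb u p' chart' U hU V' hV' hle hd f hf).base := by
  obtain ⟨c, z, hz⟩ := Idx.exists_mem_range_j (u := u) p' chart' x hx
  have hy' : p'.base x ∈ c.U' := by rw [← hz]; exact p'_j_mem c z
  obtain ⟨r, r₁, hr, hgy, -⟩ := exists_common_basicOpen hU c.hU ⊤ _ hxU (c.hle hy') trivial
  have hV : IsAffineOpen (S.basicOpen r) := hU.basicOpen r
  have i₁ : S.basicOpen r ≤ c.U := hr ▸ S.basicOpen_le r₁
  obtain ⟨r', hr'N, hy'V⟩ := c.hU'.exists_basicOpen_le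
    (V := g ⁻¹ᵁ S.basicOpen r) ⟨p'.base x, hgy⟩ hy'
  have hV' : IsAffineOpen (S'.basicOpen r') := c.hU'.basicOpen r'
  have hmem := Idx.mem_range_res hP' c _ hV i₁ r' _ rfl hV' (S'.basicOpen_le r') hr'N _ ⟨z, hz⟩ hy'V
  obtain ⟨q', hq', hq'x⟩ : ∃ q' : Proj (𝒮'.deg (S'.basicOpen r') hV'),
      q' ∈ Proj.basicOpen (𝒮'.deg _ hV') (𝒮'.res c.hU' hV' (S'.basicOpen_le r') c.b) ∧
        (emb p' chart' _ hV').base q' = x := (Idx.mem_range_j_iff p' chart' _ _).mp hmem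
  have hleU : S'.basicOpen r' ≤ g ⁻¹ᵁ U := hr'N.trans (g.preimage_mono (S.basicOpen_le r))
  -- `q'` lies in the open of definition for the pair `(U, V')`
  have hdom : q' ∈ RelCone.domOpen (u.gradedAt U hU _ hV' hleU) := by
    refine (RelCone.mem_domOpen _ _).mpr ?_
    by_contra hcon
    push Not at hcon
    have hb1 : 𝒮'.res c.hU' hV' (S'.basicOpen_le r') c.b ∉ q'.asHomogeneousIdeal :=
      (ProjectiveSpectrum.mem_basicOpen _ _ _).mp hq'
    apply hb1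
    have hfirr : 𝒮.res c.hU hV i₁ c.f ∈ ((𝒮.deg _ hV)₊).toIdeal :=
      HomogeneousIdeal.mem_irrelevant_of_mem _ c.hd ((𝒮.res c.hU hV i₁).map_mem c.hf)
    have hfmap := 𝒮.irrelevant_le_map U hU r hfirr
    have hle2 : ((𝒮.deg U hU)₊).toIdeal.map (𝒮.res hU hV (S.basicOpen_le r)) ≤
        q'.asHomogeneousIdeal.toIdeal.comap (u.gradedAt _ hV _ hV' hr'N) := by
      rw [Ideal.map_le_iff_le_comap]
      intro a ha
      have := hcon a ha
      rw [← gradedAt_comp_res u hU hV hV' (S.basicOpen_le r) hr'N] at this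
      exact this
    have := hle2 hfmap
    have hbb : u.gradedAt _ hV _ hV' hr'N (𝒮.res c.hU hV i₁ c.f) = 𝒮'.res c.hU' hV' (S'.basicOpen_le r') c.b :=
      (c.res _ hV i₁ _ hV' (S'.basicOpen_le r') hr'N).hb
    rw [← hbb]
    exact this
  obtain ⟨d, hd, f, hf, hqf⟩ := Idx.exists_homogeneous_of_mem_domOpen (u.gradedAt U hU _ hV' hleU) q' hdom
  refine ⟨_, hV', hleU, d, hd, f, hf, ?_⟩
  exact (Idx.mem_range_j_iff p' chart' (Idx.std (u := u) U hU _ hV' hleU d hd f hf) _).mpr ⟨q', hqf, hq'x⟩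

end LemmaA

end Groth.Agent.Lib.Helper3.QProj
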