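import Groth.Agent.Lib.Helper3.RelGlue
/-!
# Gluing open subsets of a scheme over `S` along the preimages of the affine opens of `S`
-/
universe u
open CategoryTheory CategoryTheory.Limits AlgebraicGeometry Opposite TopologicalSpace

namespace Groth.Agent.Lib.Helper3.RelGlue
variable {S P : Scheme.{u}} (p : P ⟶ S)
  (W : ∀ (U : S.Opens), IsAffineOpen U → P.Opens)

omit p in
theorem W_congr {U U' : S.Opens} (hU : IsAffineOpen U) (hU' : IsAffineOpen U') (h : U = U') :
    W U hU = W U' hU' := by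
  subst h; rfl

/-- The union of a family of opens `W U ⊆ p⁻¹(U)` (`U` affine) compatible with restriction to
basic opens meets `p⁻¹(U)` in `W U`. -/
theorem iSup_inf_preimage (hW : ∀ U hU, W U hU ≤ p ⁻¹ᵁ U)
    (hres : ∀ (U : S.Opens) (hU : IsAffineOpen U) (r : Γ(S, U)),
      W (S.basicOpen r) (hU.basicOpen r) = W U hU ⊓ p ⁻¹ᵁ S.basicOpen r)
    (U : S.Opens) (hU : IsAffineOpen U) :
    (⨆ V : S.affineOpens, W V.1 V.2) ⊓ p ⁻¹ᵁ U = W U hU := by
  apply le_antisymm
  · rintro x ⟨hx1, hx2⟩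
    obtain ⟨V, hxV⟩ := Opens.mem_iSup.mp hx1
    have hpxV : p x ∈ V.1 := hW V.1 V.2 hxV
    obtain ⟨f, g, e, hxf⟩ := exists_basicOpen_le_affine_inter hU V.2 (p x) ⟨hx2, hpxV⟩
    have h1 : x ∈ W (S.basicOpen g) (V.2.basicOpen g) := by
      rw [hres V.1 V.2 g]
      exact ⟨hxV, by rw [← e]; exact hxf⟩
    rw [W_congr W (V.2.basicOpen g) (hU.basicOpen f) e.symm, hres U hU f] at h1
    exact h1.1
  · exact le_inf (le_iSup (fun V : S.affineOpens => W V.1 V.2) ⟨U, hU⟩) (hW U hU)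

end Groth.Agent.Lib.Helper3.RelGlue
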