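import Groth.Agent.Lib.Helper3.RelTwistS
/-!
# The comparison `O_{Proj 𝒜}(n) ⟶ h_* O_{Proj ℬ}(n)` for a morphism of relative Proj's
-/
universe u
set_option linter.unusedSectionVars false
open CategoryTheory CategoryTheory.Limits AlgebraicGeometry Opposite TopologicalSpace
open AlgebraicGeometry.Scheme.AffineZariskiSite
open scoped HomogeneousIdeal
open Groth.Agent.Lib.Helper29

namespace Groth.Agent.Lib.Helper3.RelTwistMap
open RelProj Groth.Agent.Lib.Helper3 Groth.Agent.Lib.Helper3.RelTilde Groth.Agent.Lib.Helper3.RelTwist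

variable {Y PA PB : Scheme.{u}} {𝒜 ℬ : QCGrAlg Y}
  (φ : 𝒜.toQCAlg ⟶ ℬ.toQCAlg) (hφ : IsGradedHom φ)
  (hirr : ∀ (U : Y.Opens) (hU : IsAffineOpen U),
      (ℬ.deg U hU)₊ ≤ ((𝒜.deg U hU)₊).map (gradedHomAt φ hφ U hU))
  {pA : PA ⟶ Y} {pB : PB ⟶ Y}
  {chartA : ∀ (U : Y.Opens) (hU : IsAffineOpen U), (((pA ⁻¹ᵁ U : PA.Opens) : Scheme.{u}) ≅ Proj (𝒜.deg U hU))}
  {chartB : ∀ (U : Y.Opens) (hU : IsAffineOpen U), (((pB ⁻¹ᵁ U : PB.Opens) : Scheme.{u}) ≅ Proj (ℬ.deg U hU))}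
  (hA : IsRelProj 𝒜 pA chartA) (hB : IsRelProj ℬ pB chartB)
  (h : PB ⟶ PA) (hh : IsRelProjMap φ hφ hirr chartA chartB h) (n : ℤ)

/-- the graded homomorphism over an affine open -/
noncomputable abbrev φU (U : Y.AffineZariskiSite) : 𝒜.deg U.1 U.2 →+*ᵍ ℬ.deg U.1 U.2 :=
  gradedHomAt φ hφ U.1 U.2

/-- the chart map of Proj's -/
noncomputable abbrev pm (U : Y.AffineZariskiSite) : Proj (ℬ.deg U.1 U.2) ⟶ Proj (𝒜.deg U.1 U.2) :=
  Proj.map (φU φ hφ U) (hirr U.1 U.2)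

include hh in
theorem pm_e (U : Y.AffineZariskiSite) :
    pm φ hφ hirr U ≫ e pA chartA U = e pB chartB U ≫ h := by
  have := hh U.1 U.2
  unfold e emb
  rw [Category.assoc, this, Iso.inv_hom_id_assoc]

/-- the chart comparison morphism -/
noncomputable def c (U : Y.AffineZariskiSite) :
    G pA chartA n U ⟶ (Scheme.Modules.pushforward h).obj (G pB chartB n U) :=
  (Scheme.Modules.pushforward (e pA chartA U)).map (GrTwist.comap (φU φ hφ U) (hirr U.1 U.2) n) ≫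
    (Scheme.Modules.pushforwardComp (pm φ hφ hirr U) (e pA chartA U)).hom.app (T ℬ n U) ≫
      (Scheme.Modules.pushforwardCongr (pm_e φ hφ hirr h hh U)).hom.app (T ℬ n U) ≫
        (Scheme.Modules.pushforwardComp (e pB chartB U) h).inv.app (T ℬ n U)

include hh in
theorem comap_mem' (U : Y.AffineZariskiSite) (W : PA.Opens)
    (y : ProjectiveSpectrum (ℬ.deg U.1 U.2)) (hy : (e pB chartB U).base y ∈ h ⁻¹ᵁ W) :
    (e pA chartA U).base (ProjectiveSpectrum.comap (φU φ hφ U) (hirr U.1 U.2) y) ∈ W := by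
  have := congrArg (fun m => m.base y) (pm_e φ hφ hirr h hh U)
  simp only [Scheme.Hom.comp_base, TopCat.hom_comp, ContinuousMap.comp_apply] at this
  change (e pA chartA U).base ((pm φ hφ hirr U).base y) ∈ W
  rw [this]; exact hy

theorem c_val (U : Y.AffineZariskiSite) (W : PA.Opens) (s : Γ(G pA chartA n U, W))
    (y : ProjectiveSpectrum (ℬ.deg U.1 U.2)) (hy : (e pB chartB U).base y ∈ h ⁻¹ᵁ W) :
    GrTwist.val (V := e pB chartB U ⁻¹ᵁ (h ⁻¹ᵁ W)) ((c φ hφ hirr h hh n U).app W s) ⟨y, hy⟩ =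
      GrTwist.locMap (φU φ hφ U) (hirr U.1 U.2) y
        (GrTwist.val (V := e pA chartA U ⁻¹ᵁ W) s ⟨_, comap_mem' φ hφ hirr h hh U W y hy⟩) := rfl

attribute [irreducible] c

end Groth.Agent.Lib.Helper3.RelTwistMap

namespace Groth.Agent.Lib.Helper3.RelTwistMap
open RelProj Groth.Agent.Lib.Helper3 Groth.Agent.Lib.Helper3.RelTilde Groth.Agent.Lib.Helper3.RelTwist

variable {Y PA PB : Scheme.{u}} {𝒜 ℬ : QCGrAlg Y}
  (φ : 𝒜.toQCAlg ⟶ ℬ.toQCAlg) (hφ : IsGradedHom φ)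
  (hirr : ∀ (U : Y.Opens) (hU : IsAffineOpen U),
      (ℬ.deg U hU)₊ ≤ ((𝒜.deg U hU)₊).map (gradedHomAt φ hφ U hU))
  {pA : PA ⟶ Y} {pB : PB ⟶ Y}
  {chartA : ∀ (U : Y.Opens) (hU : IsAffineOpen U), (((pA ⁻¹ᵁ U : PA.Opens) : Scheme.{u}) ≅ Proj (𝒜.deg U hU))}
  {chartB : ∀ (U : Y.Opens) (hU : IsAffineOpen U), (((pB ⁻¹ᵁ U : PB.Opens) : Scheme.{u}) ≅ Proj (ℬ.deg U hU))}
  (hA : IsRelProj 𝒜 pA chartA) (hB : IsRelProj ℬ pB chartB)
  (h : PB ⟶ PA) (hh : IsRelProjMap φ hφ hirr chartA chartB h) (n : ℤ)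

/-- the diagonal homomorphism `𝒜(U) → ℬ(V)` -/
noncomputable abbrev χ {U V : Y.AffineZariskiSite} (hVU : V ≤ U) : 𝒜.deg U.1 U.2 →+*ᵍ ℬ.deg V.1 V.2 :=
  (ψ ℬ hVU).comp (φU φ hφ U)

include hirr in
theorem hχ {U V : Y.AffineZariskiSite} (hVU : V ≤ U) :
    (ℬ.deg V.1 V.2)₊ ≤ ((𝒜.deg U.1 U.2)₊).map (χ φ hφ hVU) := by
  intro x hx
  have hx1 : x ∈ Ideal.map (ψ ℬ hVU) ((ℬ.deg U.1 U.2)₊).toIdeal := RelProjExist.irr ℬ hVU hx
  have h1 : Ideal.map (ψ ℬ hVU) ((ℬ.deg U.1 U.2)₊).toIdeal ≤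
      Ideal.map (ψ ℬ hVU) (Ideal.map (φU φ hφ U) ((𝒜.deg U.1 U.2)₊).toIdeal) :=
    Ideal.map_mono (hirr U.1 U.2)
  have hx2 := h1 hx1
  have h2 : Ideal.map (ψ ℬ hVU) (Ideal.map (φU φ hφ U) ((𝒜.deg U.1 U.2)₊).toIdeal) ≤
      Ideal.map (χ φ hφ hVU) ((𝒜.deg U.1 U.2)₊).toIdeal :=
    Ideal.map_le_iff_le_comap.mpr (Ideal.map_le_iff_le_comap.mpr fun a ha =>
      Ideal.mem_map_of_mem (χ φ hφ hVU) ha)
  exact h2 hx2

theorem χ_eq {U V : Y.AffineZariskiSite} (hVU : V ≤ U) (a : 𝒜.presheaf.obj (op U.1)) :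
    χ φ hφ hVU a = φU φ hφ V (ψ 𝒜 hVU a) := by
  change (ℬ.presheaf.map (homOfLE (toOpens_mono hVU)).op).hom ((φ.hom.app (op U.1)).hom a) =
    (φ.hom.app (op V.1)).hom ((𝒜.presheaf.map (homOfLE (toOpens_mono hVU)).op).hom a)
  have := φ.hom.naturality (homOfLE (toOpens_mono hVU)).op
  exact (congrArg (fun k => k.hom a) this).symm

/-- the system of direct images on `PA` -/
noncomputable abbrev DH : (Y.AffineZariskiSite)ᵒᵖ ⥤ PA.Modules :=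
  D pB chartB hB n ⋙ Scheme.Modules.pushforward h

/-- the chart comparison, indexed by the opposite category -/
noncomputable def cop (j : (Y.AffineZariskiSite)ᵒᵖ) :
    (D pA chartA hA n).obj j ⟶ (DH hB h n).obj j :=
  c φ hφ hirr h hh n j.unop

theorem cop_val (U : Y.AffineZariskiSite) (W : PA.Opens) (s : Γ(G pA chartA n U, W))
    (y : ProjectiveSpectrum (ℬ.deg U.1 U.2)) (hy : (e pB chartB U).base y ∈ h ⁻¹ᵁ W) :
    GrTwist.val (V := e pB chartB U ⁻¹ᵁ (h ⁻¹ᵁ W))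
        ((cop φ hφ hirr hA hB h hh n (op U)).app W s) ⟨y, hy⟩ =
      GrTwist.locMap (φU φ hφ U) (hirr U.1 U.2) y
        (GrTwist.val (V := e pA chartA U ⁻¹ᵁ W) s ⟨_, comap_mem' φ hφ hirr h hh U W y hy⟩) :=
  c_val φ hφ hirr h hh n U W s y hy

theorem cop_natural_le {U V : Y.AffineZariskiSite} (hVU : V ≤ U) :
    cmp (cop φ hφ hirr hA hB h hh n (op U)) ((DH hB h n).map (homOfLE hVU).op) =
      cmp ((D pA chartA hA n).map (homOfLE hVU).op) (cop φ hφ hirr hA hB h hh n (op V)) := by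
  rw [cmp_def, cmp_def]
  apply Scheme.Modules.hom_ext
  intro W
  apply ConcreteCategory.hom_ext
  intro s
  apply sec_ext pB chartB n (U := V) (W := h ⁻¹ᵁ W)
  intro y hy
  rw [Scheme.Modules.Hom.comp_app, Scheme.Modules.Hom.comp_app, ConcreteCategory.comp_apply,
    ConcreteCategory.comp_apply, cop_val]
  change GrTwist.val (V := e pB chartB V ⁻¹ᵁ (h ⁻¹ᵁ W))
    (((D pB chartB hB n).map (homOfLE hVU).op).app (h ⁻¹ᵁ W)
      ((cop φ hφ hirr hA hB h hh n (op U)).app W s)) ⟨y, hy⟩ = _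
  rw [RelTwist.D_map_val, cop_val, RelTwist.D_map_val]
  have h1 := TwistLoc.locMap_comp (hirr U.1 U.2) n (ψ ℬ hVU) (RelProjExist.irr ℬ hVU)
    (χ φ hφ hVU) (hχ φ hφ hirr hVU) (fun a => rfl) (e pA chartA U ⁻¹ᵁ W)
    (show GrTwist.sectN (𝒜 := 𝒜.deg U.1 U.2) n (op (e pA chartA U ⁻¹ᵁ W)) from s).1 y
  have h2 := TwistLoc.locMap_comp (RelProjExist.irr 𝒜 hVU) n (φU φ hφ V) (hirr V.1 V.2)
    (χ φ hφ hVU) (hχ φ hφ hirr hVU) (χ_eq φ hφ hVU) (e pA chartA U ⁻¹ᵁ W)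
    (show GrTwist.sectN (𝒜 := 𝒜.deg U.1 U.2) n (op (e pA chartA U ⁻¹ᵁ W)) from s).1 y
  have hmem : ProjectiveSpectrum.comap (χ φ hφ hVU) (hχ φ hφ hirr hVU) y ∈ e pA chartA U ⁻¹ᵁ W := by
    have hpt : ProjectiveSpectrum.comap (χ φ hφ hVU) (hχ φ hφ hirr hVU) y =
        ProjectiveSpectrum.comap (φU φ hφ U) (hirr U.1 U.2)
          (ProjectiveSpectrum.comap (ψ ℬ hVU) (RelProjExist.irr ℬ hVU) y) := by
      apply ProjectiveSpectrum.ext
      apply HomogeneousIdeal.toIdeal_injective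
      ext a
      rfl
    rw [hpt]
    exact comap_mem' φ hφ hirr h hh U W _ (comap_mem pB chartB hB hVU (h ⁻¹ᵁ W) y hy)
  exact (h1 _ hmem).trans (h2 _ hmem).symm

theorem cop_natural {j j' : (Y.AffineZariskiSite)ᵒᵖ} (f : j ⟶ j') :
    cmp (cop φ hφ hirr hA hB h hh n j) ((DH hB h n).map f) =
      cmp ((D pA chartA hA n).map f) (cop φ hφ hirr hA hB h hh n j') := by
  obtain ⟨U⟩ := j
  obtain ⟨V⟩ := j'
  have hVU : V ≤ U := f.unop.le
  have hf : f = (homOfLE hVU).op := Subsingleton.elim _ _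
  rw [hf]
  exact cop_natural_le φ hφ hirr hA hB h hh n hVU

end Groth.Agent.Lib.Helper3.RelTwistMap

namespace Groth.Agent.Lib.Helper3.RelTwist
open RelProj Groth.Agent.Lib.Helper3 Groth.Agent.Lib.Helper3.RelTilde

variable {Y P : Scheme.{u}} {𝒮 : QCGrAlg Y} (p : P ⟶ Y)
  (chart : ∀ (U : Y.Opens) (hU : IsAffineOpen U), (((p ⁻¹ᵁ U : P.Opens) : Scheme.{u}) ≅ Proj (𝒮.deg U hU)))
  (n : ℤ)
  {F : P.Modules}
  {lam : ∀ (U : Y.Opens) (hU : IsAffineOpen U),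
      F ⟶ (Scheme.Modules.pushforward (emb p chart U hU)).obj (GrTwist.twist (𝒮.deg U hU) n)}

/-- Sections of `O_P(n)` are determined by their chart components. -/
theorem section_ext (hF : IsRelTwist 𝒮 p chart n F lam) (W : P.Opens) (s t : Γ(F, W))
    (h : ∀ U : Y.AffineZariskiSite, (lam U.1 U.2).app W s = (lam U.1 U.2).app W t) : s = t := by
  apply ModGlue.ext_of_cover F (fun U : Y.AffineZariskiSite => W ⊓ R p U) W (fun _ => inf_le_left)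
  · intro w hw
    obtain ⟨U, hU, hwU, -⟩ := exists_isAffineOpen_mem_and_subset (x := p.base w) (U := ⊤) trivial
    exact Opens.mem_iSup.mpr ⟨⟨U, hU⟩, hw, hwU⟩
  · intro U
    apply (hF.bijective U.1 U.2 _ inf_le_right).1
    exact (QCoh.app_res (lam U.1 U.2) inf_le_left s).trans
      ((congrArg _ (h U)).trans (QCoh.app_res (lam U.1 U.2) inf_le_left t).symm)

end Groth.Agent.Lib.Helper3.RelTwist

namespace Groth.Agent.Lib.Helper3.RelTwistMap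
open RelProj Groth.Agent.Lib.Helper3 Groth.Agent.Lib.Helper3.RelTilde Groth.Agent.Lib.Helper3.RelTwist

variable {Y PA PB : Scheme.{u}} {𝒜 ℬ : QCGrAlg Y}
  (φ : 𝒜.toQCAlg ⟶ ℬ.toQCAlg) (hφ : IsGradedHom φ)
  (hirr : ∀ (U : Y.Opens) (hU : IsAffineOpen U),
      (ℬ.deg U hU)₊ ≤ ((𝒜.deg U hU)₊).map (gradedHomAt φ hφ U hU))
  {pA : PA ⟶ Y} {pB : PB ⟶ Y}
  {chartA : ∀ (U : Y.Opens) (hU : IsAffineOpen U), (((pA ⁻¹ᵁ U : PA.Opens) : Scheme.{u}) ≅ Proj (𝒜.deg U hU))}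
  {chartB : ∀ (U : Y.Opens) (hU : IsAffineOpen U), (((pB ⁻¹ᵁ U : PB.Opens) : Scheme.{u}) ≅ Proj (ℬ.deg U hU))}
  (hA : IsRelProj 𝒜 pA chartA) (hB : IsRelProj ℬ pB chartB)
  (h : PB ⟶ PA) (hh : IsRelProjMap φ hφ hirr chartA chartB h) (n : ℤ)
  {LA : PA.Modules}
  {lamA : ∀ (U : Y.Opens) (hU : IsAffineOpen U),
      LA ⟶ (Scheme.Modules.pushforward (emb pA chartA U hU)).obj (GrTwist.twist (𝒜.deg U hU) n)}
  (hLA : IsRelTwist 𝒜 pA chartA n LA lamA)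
  {LB : PB.Modules}
  {lamB : ∀ (U : Y.Opens) (hU : IsAffineOpen U),
      LB ⟶ (Scheme.Modules.pushforward (emb pB chartB U hU)).obj (GrTwist.twist (ℬ.deg U hU) n)}
  (hLB : IsRelTwist ℬ pB chartB n LB lamB)

theorem cmp_assoc {C : Type*} [Category C] {A B X Z : C} (f : A ⟶ B) (g : B ⟶ X) (k : X ⟶ Z) :
    cmp (cmp f g) k = cmp f (cmp g k) := Category.assoc f g k

/-- the legs of the cone -/
noncomputable def leg (j : (Y.AffineZariskiSite)ᵒᵖ) : LA ⟶ (DH hB h n).obj j :=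
  cmp (lamD pA chartA hA n LA lamA j) (cop φ hφ hirr hA hB h hh n j)

theorem leg_def (j : (Y.AffineZariskiSite)ᵒᵖ) :
    leg φ hφ hirr hA hB h hh n (lamA := lamA) j =
      cmp (lamD pA chartA hA n LA lamA j) (cop φ hφ hirr hA hB h hh n j) := rfl

include hLA in
theorem leg_w {j j' : (Y.AffineZariskiSite)ᵒᵖ} (f : j ⟶ j') :
    leg φ hφ hirr hA hB h hh n (lamA := lamA) j ≫ (DH hB h n).map f =
      leg φ hφ hirr hA hB h hh n (lamA := lamA) j' := by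
  have e2 : cmp (lamD pA chartA hA n LA lamA j) ((D pA chartA hA n).map f) =
      lamD pA chartA hA n LA lamA j' := by
    rw [cmp_def]
    exact lamD_w pA chartA hA n hLA f
  rw [← cmp_def, leg_def, leg_def, cmp_assoc, cop_natural φ hφ hirr hA hB h hh n f, ← cmp_assoc, e2]

end Groth.Agent.Lib.Helper3.RelTwistMap

namespace Groth.Agent.Lib.Helper3.RelTwistMap
open RelProj Groth.Agent.Lib.Helper3 Groth.Agent.Lib.Helper3.RelTilde Groth.Agent.Lib.Helper3.RelTwist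

variable {Y PA PB : Scheme.{u}} {𝒜 ℬ : QCGrAlg Y}
  (φ : 𝒜.toQCAlg ⟶ ℬ.toQCAlg) (hφ : IsGradedHom φ)
  (hirr : ∀ (U : Y.Opens) (hU : IsAffineOpen U),
      (ℬ.deg U hU)₊ ≤ ((𝒜.deg U hU)₊).map (gradedHomAt φ hφ U hU))
  {pA : PA ⟶ Y} {pB : PB ⟶ Y}
  {chartA : ∀ (U : Y.Opens) (hU : IsAffineOpen U), (((pA ⁻¹ᵁ U : PA.Opens) : Scheme.{u}) ≅ Proj (𝒜.deg U hU))}
  {chartB : ∀ (U : Y.Opens) (hU : IsAffineOpen U), (((pB ⁻¹ᵁ U : PB.Opens) : Scheme.{u}) ≅ Proj (ℬ.deg U hU))}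
  (hA : IsRelProj 𝒜 pA chartA) (hB : IsRelProj ℬ pB chartB)
  (h : PB ⟶ PA) (hh : IsRelProjMap φ hφ hirr chartA chartB h) (n : ℤ)
  {LA : PA.Modules}
  {lamA : ∀ (U : Y.Opens) (hU : IsAffineOpen U),
      LA ⟶ (Scheme.Modules.pushforward (emb pA chartA U hU)).obj (GrTwist.twist (𝒜.deg U hU) n)}
  (hLA : IsRelTwist 𝒜 pA chartA n LA lamA)
  {LB : PB.Modules}
  {lamB : ∀ (U : Y.Opens) (hU : IsAffineOpen U),
      LB ⟶ (Scheme.Modules.pushforward (emb pB chartB U hU)).obj (GrTwist.twist (ℬ.deg U hU) n)}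
  (hLB : IsRelTwist ℬ pB chartB n LB lamB)

/-- the cone over the system of direct images with apex `LA` -/
noncomputable def coneH : Cone (DH hB h n) where
  pt := LA
  π :=
    { app := leg φ hφ hirr hA hB h hh n (lamA := lamA)
      naturality := fun j j' f => by
        rw [leg_w φ hφ hirr hA hB h hh n hLA f]
        exact Category.id_comp _ }

/-- the comparison map to the direct image of the limit -/
noncomputable def θ₀ : LA ⟶ (Scheme.Modules.pushforward h).obj (relTwist pB chartB hB n) :=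
  (isLimitOfPreserves (Scheme.Modules.pushforward h) (limit.isLimit (D pB chartB hB n))).lift
    (coneH φ hφ hirr hA hB h hh n hLA)

theorem θ₀_π (j : (Y.AffineZariskiSite)ᵒᵖ) :
    θ₀ φ hφ hirr hA hB h hh n hLA ≫
      (Scheme.Modules.pushforward h).map (limit.π (D pB chartB hB n) j) =
      leg φ hφ hirr hA hB h hh n (lamA := lamA) j :=
  (isLimitOfPreserves (Scheme.Modules.pushforward h) (limit.isLimit (D pB chartB hB n))).fac
    (coneH φ hφ hirr hA hB h hh n hLA) j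

/-- the comparison map `O_{PA}(n) ⟶ h_* O_{PB}(n)` -/
noncomputable def θ : LA ⟶ (Scheme.Modules.pushforward h).obj LB :=
  have := isIso_lift pB chartB hB n hLB
  θ₀ φ hφ hirr hA hB h hh n hLA ≫ (Scheme.Modules.pushforward h).map (inv (lift pB chartB hB n hLB))

theorem θ_lam (U : Y.AffineZariskiSite) :
    θ φ hφ hirr hA hB h hh n hLA hLB ≫ (Scheme.Modules.pushforward h).map (lamB U.1 U.2) =
      leg φ hφ hirr hA hB h hh n (lamA := lamA) (op U) := by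
  have := isIso_lift pB chartB hB n hLB
  have h1 : inv (lift pB chartB hB n hLB) ≫ lamB U.1 U.2 = RelTwist.lam pB chartB hB n U.1 U.2 := by
    rw [IsIso.inv_comp_eq]
    exact (lift_lam pB chartB hB n hLB U.1 U.2).symm
  unfold θ
  rw [Category.assoc, ← Functor.map_comp, h1]
  exact θ₀_π φ hφ hirr hA hB h hh n hLA (op U)

theorem θ_val (U : Y.AffineZariskiSite) (W : PA.Opens) (s : Γ(LA, W))
    (y : ProjectiveSpectrum (ℬ.deg U.1 U.2))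
    (hy : (e pB chartB U).base y ∈ h ⁻¹ᵁ W) :
    GrTwist.val (V := e pB chartB U ⁻¹ᵁ (h ⁻¹ᵁ W))
      ((lamB U.1 U.2).app (h ⁻¹ᵁ W) ((θ φ hφ hirr hA hB h hh n hLA hLB).app W s)) ⟨y, hy⟩ =
      GrTwist.locMap (φU φ hφ U) (hirr U.1 U.2) y
        (GrTwist.val (V := e pA chartA U ⁻¹ᵁ W) ((lamA U.1 U.2).app W s)
          ⟨_, comap_mem' φ hφ hirr h hh U W y hy⟩) := by
  have h1 := congrArg (fun m => m.app W s) (θ_lam φ hφ hirr hA hB h hh n hLA hLB U)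
  simp only [Scheme.Modules.Hom.comp_app, ConcreteCategory.comp_apply] at h1
  have h2 : (lamB U.1 U.2).app (h ⁻¹ᵁ W) ((θ φ hφ hirr hA hB h hh n hLA hLB).app W s) =
      (c φ hφ hirr h hh n U).app W ((lamA U.1 U.2).app W s) := h1
  rw [h2, c_val]

end Groth.Agent.Lib.Helper3.RelTwistMap

namespace Groth.Agent.Lib.Helper3.RelTwistMap
open RelProj Groth.Agent.Lib.Helper3 Groth.Agent.Lib.Helper3.RelTilde Groth.Agent.Lib.Helper3.RelTwist

variable {Y PA PB : Scheme.{u}} {𝒜 ℬ : QCGrAlg Y}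
  (φ : 𝒜.toQCAlg ⟶ ℬ.toQCAlg) (hφ : IsGradedHom φ)
  (hirr : ∀ (U : Y.Opens) (hU : IsAffineOpen U),
      (ℬ.deg U hU)₊ ≤ ((𝒜.deg U hU)₊).map (gradedHomAt φ hφ U hU))
  {pA : PA ⟶ Y} {pB : PB ⟶ Y}
  {chartA : ∀ (U : Y.Opens) (hU : IsAffineOpen U), (((pA ⁻¹ᵁ U : PA.Opens) : Scheme.{u}) ≅ Proj (𝒜.deg U hU))}
  {chartB : ∀ (U : Y.Opens) (hU : IsAffineOpen U), (((pB ⁻¹ᵁ U : PB.Opens) : Scheme.{u}) ≅ Proj (ℬ.deg U hU))}
  (hA : IsRelProj 𝒜 pA chartA) (hB : IsRelProj ℬ pB chartB)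
  (h : PB ⟶ PA) (hh : IsRelProjMap φ hφ hirr chartA chartB h) (n : ℤ)
  {LA : PA.Modules}
  {lamA : ∀ (U : Y.Opens) (hU : IsAffineOpen U),
      LA ⟶ (Scheme.Modules.pushforward (emb pA chartA U hU)).obj (GrTwist.twist (𝒜.deg U hU) n)}
  (hLA : IsRelTwist 𝒜 pA chartA n LA lamA)
  {LB : PB.Modules}
  {lamB : ∀ (U : Y.Opens) (hU : IsAffineOpen U),
      LB ⟶ (Scheme.Modules.pushforward (emb pB chartB U hU)).obj (GrTwist.twist (ℬ.deg U hU) n)}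
  (hLB : IsRelTwist ℬ pB chartB n LB lamB)

include hLB hh in
theorem θ_unique (θ₁ θ₂ : LA ⟶ (Scheme.Modules.pushforward h).obj LB)
    (h₁ : ∀ (U : Y.AffineZariskiSite) (W : PA.Opens) (s : Γ(LA, W))
      (y : ProjectiveSpectrum (ℬ.deg U.1 U.2)) (hy : (e pB chartB U).base y ∈ h ⁻¹ᵁ W),
      GrTwist.val (V := e pB chartB U ⁻¹ᵁ (h ⁻¹ᵁ W))
        ((lamB U.1 U.2).app (h ⁻¹ᵁ W) (θ₁.app W s)) ⟨y, hy⟩ =
      GrTwist.val (V := e pB chartB U ⁻¹ᵁ (h ⁻¹ᵁ W))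
        ((lamB U.1 U.2).app (h ⁻¹ᵁ W) (θ₂.app W s)) ⟨y, hy⟩) : θ₁ = θ₂ := by
  apply Scheme.Modules.hom_ext
  intro W
  apply ConcreteCategory.hom_ext
  intro s
  apply section_ext pB chartB n hLB (h ⁻¹ᵁ W)
  intro U
  apply sec_ext pB chartB n (U := U) (W := h ⁻¹ᵁ W)
  intro y hy
  exact h₁ U W s y hy

end Groth.Agent.Lib.Helper3.RelTwistMap

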