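import Groth.Agent.Lib.Helper3.TwistTriv
import Groth.Agent.Lib.Helper29.TensorBasis
/-!
# The multiplications `M(m)~ × O(k) ⟶ M(m+k)~` and `O(m) × O(k) ⟶ O(m+k)` on `Proj`
(gradings by additive subgroups; port of Helper29 `GMul`)
-/
set_option autoImplicit false
set_option linter.unusedSectionVars false
universe u
open CategoryTheory CategoryTheory.Limits AlgebraicGeometry Opposite TopologicalSpace DirectSum
open Groth.Agent.Lib.Helper29 Groth.Agent.Lib.Helper29.QCoh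

namespace Groth.Agent.Lib.Helper3.TwMul
open Groth.Agent.Lib.Helper3.TildeQC Groth.Agent.Lib.Helper3.TwistTriv

section GMul
variable {A σ : Type u} [CommRing A] [SetLike σ A] [AddSubgroupClass σ A] (𝒜 : ℕ → σ) [GradedRing 𝒜]
variable {M τ : Type u} [AddCommGroup M] [Module A M] [SetLike τ M] [AddSubgroupClass τ M] (ℳ : ℕ → τ)
  [SetLike.GradedSMul 𝒜 ℳ]

/-- Sections of `O(k)` are locally fractions. -/
theorem exists_tfun_eq_mk' {k : ℤ} {W : (Proj 𝒜).Opens} (a : Γ(GrTwist.twist 𝒜 k, W)) (x : W) :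
    ∃ (V : (Proj 𝒜).Opens) (_ : x.1 ∈ V) (hVW : V ≤ W) (i j : ℕ) (b : 𝒜 i) (t : 𝒜 j)
      (ht : ∀ y : V, t.1 ∉ y.1.asHomogeneousIdeal), ((i : ℤ) = j + k ∨ b.1 = 0) ∧
      ∀ y : V, tfun 𝒜 a ⟨y.1, hVW y.2⟩ = Localization.mk b.1 ⟨t.1, ht y⟩ := by
  obtain ⟨V, hxV, ι, i, j, b, t, ht, hdeg, hw⟩ := (show GrTwist.sectN (𝒜 := 𝒜) k (op W) from a).2 x
  exact ⟨V, hxV, leOfHom ι, i, j, b, t, ht, hdeg, fun y => hw y⟩

theorem gmul_local (m k : ℤ) (W : (Proj 𝒜).Opens) (σ : Γ(GrMod.tilde 𝒜 ℳ m, W))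
    (a : Γ(GrTwist.twist 𝒜 k, W)) (x : W) :
    ∃ (V : (Proj 𝒜).Opens) (_ : x.1 ∈ V) (hVW : V ≤ W) (i j : ℕ) (ν : ℳ i) (s : 𝒜 j)
      (hs : ∀ y : V, s.1 ∉ y.1.asHomogeneousIdeal), ((i : ℤ) = j + (m + k) ∨ ν.1 = 0) ∧
      ∀ y : V, tfun 𝒜 a ⟨y.1, hVW y.2⟩ • gfun 𝒜 ℳ σ ⟨y.1, hVW y.2⟩ =
        LocalizedModule.mk ν.1 ⟨s.1, hs y⟩ := by
  obtain ⟨V, hxV, hVW, i, j, μ, s, hs, hdeg, hw⟩ := exists_gfun_eq_mk 𝒜 ℳ σ x
  obtain ⟨V', hxV', hVW', i', j', b, t, ht, hdeg', hw'⟩ := exists_tfun_eq_mk' 𝒜 a x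
  have hts : ∀ y : (V' ⊓ V : (Proj 𝒜).Opens), t.1 * s.1 ∉ y.1.asHomogeneousIdeal := fun y hh =>
    (y.1.isPrime.mem_or_mem hh).elim (ht ⟨y.1, y.2.1⟩) (hs ⟨y.1, y.2.2⟩)
  refine ⟨V' ⊓ V, ⟨hxV', hxV⟩, inf_le_left.trans hVW', i' + i, j' + j,
    ⟨b.1 • μ.1, SetLike.GradedSMul.smul_mem b.2 μ.2⟩,
    ⟨t.1 * s.1, SetLike.mul_mem_graded t.2 s.2⟩, hts, ?_, fun y => ?_⟩
  · rcases hdeg with hdeg | hdeg
    · rcases hdeg' with hdeg' | hdeg'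
      · left; push_cast; omega
      · right; change b.1 • μ.1 = 0; rw [hdeg', zero_smul]
    · right; change b.1 • μ.1 = 0; rw [hdeg, smul_zero]
  · have e1 := hw ⟨y.1, y.2.2⟩
    have e2 := hw' ⟨y.1, y.2.1⟩
    change tfun 𝒜 a ⟨y.1, _⟩ • gfun 𝒜 ℳ σ ⟨y.1, _⟩ = _
    erw [e1, e2]
    rw [LocalizedModule.mk_smul_mk]
    rfl

/-- The pointwise product of a section of `M(m)~` and a section of `O(k)`. -/
noncomputable def gmulFun (m k : ℤ) (W : (Proj 𝒜).Opens) (σ : Γ(GrMod.tilde 𝒜 ℳ m, W))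
    (a : Γ(GrTwist.twist 𝒜 k, W)) : Γ(GrMod.tilde 𝒜 ℳ (m + k), W) :=
  (⟨fun x => ⟨tfun 𝒜 a x • gfun 𝒜 ℳ σ x, by
      obtain ⟨V, hxV, hVW, i, j, ν, s, hs, hdeg, hw⟩ := gmul_local 𝒜 ℳ m k W σ a x
      have h1 := hw ⟨x.1, hxV⟩
      change tfun 𝒜 a x • gfun 𝒜 ℳ σ x = _ at h1
      rw [h1]
      rcases hdeg with hdeg | hdeg
      · exact Submodule.subset_span ⟨i, j, ν, s, hs ⟨x.1, hxV⟩, hdeg, rfl⟩
      · rw [hdeg, LocalizedModule.zero_mk]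
        exact Submodule.zero_mem _⟩,
    fun x => by
      obtain ⟨V, hxV, hVW, i, j, ν, s, hs, hdeg, hw⟩ := gmul_local 𝒜 ℳ m k W σ a x
      exact ⟨V, hxV, homOfLE hVW, i, j, ν, s, hs, hdeg, fun y => hw y⟩⟩ :
    GrMod.sect 𝒜 ℳ (m + k) (op W))

theorem gfun_gmulFun (m k : ℤ) (W : (Proj 𝒜).Opens) (σ : Γ(GrMod.tilde 𝒜 ℳ m, W))
    (a : Γ(GrTwist.twist 𝒜 k, W)) (x : W) :
    gfun 𝒜 ℳ (gmulFun 𝒜 ℳ m k W σ a) x = tfun 𝒜 a x • gfun 𝒜 ℳ σ x := rfl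

theorem gmulFun_add_left (m k : ℤ) (W : (Proj 𝒜).Opens) (σ σ' : Γ(GrMod.tilde 𝒜 ℳ m, W))
    (a : Γ(GrTwist.twist 𝒜 k, W)) :
    gmulFun 𝒜 ℳ m k W (σ + σ') a = gmulFun 𝒜 ℳ m k W σ a + gmulFun 𝒜 ℳ m k W σ' a :=
  gfun_ext 𝒜 ℳ _ _ fun x => by
    rw [gfun_add, gfun_gmulFun, gfun_gmulFun, gfun_gmulFun, gfun_add, smul_add]

theorem gmulFun_add_right (m k : ℤ) (W : (Proj 𝒜).Opens) (σ : Γ(GrMod.tilde 𝒜 ℳ m, W))
    (a a' : Γ(GrTwist.twist 𝒜 k, W)) :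
    gmulFun 𝒜 ℳ m k W σ (a + a') = gmulFun 𝒜 ℳ m k W σ a + gmulFun 𝒜 ℳ m k W σ a' :=
  gfun_ext 𝒜 ℳ _ _ fun x => by
    rw [gfun_add, gfun_gmulFun, gfun_gmulFun, gfun_gmulFun, tfun_add, add_smul]

theorem gmulFun_smul_left (m k : ℤ) (W : (Proj 𝒜).Opens) (r : Γ(Proj 𝒜, W))
    (σ : Γ(GrMod.tilde 𝒜 ℳ m, W)) (a : Γ(GrTwist.twist 𝒜 k, W)) :
    gmulFun 𝒜 ℳ m k W (r • σ) a = r • gmulFun 𝒜 ℳ m k W σ a :=
  gfun_ext 𝒜 ℳ _ _ fun x => by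
    rw [gfun_smul, gfun_gmulFun, gfun_gmulFun, gfun_smul, smul_comm]

theorem gmulFun_smul_right (m k : ℤ) (W : (Proj 𝒜).Opens) (r : Γ(Proj 𝒜, W))
    (σ : Γ(GrMod.tilde 𝒜 ℳ m, W)) (a : Γ(GrTwist.twist 𝒜 k, W)) :
    gmulFun 𝒜 ℳ m k W σ (r • a) = r • gmulFun 𝒜 ℳ m k W σ a :=
  gfun_ext 𝒜 ℳ _ _ fun x => by
    rw [gfun_smul, gfun_gmulFun, gfun_gmulFun, tfun_smul, mul_smul]

end GMul

section TSect
variable {A σ : Type u} [CommRing A] [SetLike σ A] [AddSubgroupClass σ A] (𝒜 : ℕ → σ) [GradedRing 𝒜]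

/-- Sections of `O(n)` over `D_+(g)` are fractions `μ / g^k` (through the definitional identification
of `O(n)` with `A(n)~`). -/
theorem exists_tfun_eq_mk_basicOpen (n : ℤ) {d : ℕ} (hd : 0 < d) (g : 𝒜 d)
    (σ : Γ(GrTwist.twist 𝒜 n, Proj.basicOpen 𝒜 g.1)) :
    ∃ (k i : ℕ) (μ : 𝒜 i), (i : ℤ) = k * d + n ∧ ∀ x : Proj.basicOpen 𝒜 g.1,
      tfun 𝒜 σ x = Localization.mk μ.1 ⟨g.1 ^ k, pow_not_mem_of_not_mem x.2 k⟩ :=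
  exists_gfun_eq_mk_basicOpen 𝒜 𝒜 n hd g σ

end TSect

section GMulIso
variable {A σ : Type u} [CommRing A] [SetLike σ A] [AddSubgroupClass σ A] (𝒜 : ℕ → σ) [GradedRing 𝒜]
variable {M τ : Type u} [AddCommGroup M] [Module A M] [SetLike τ M] [AddSubgroupClass τ M] (ℳ : ℕ → τ)
  [DirectSum.Decomposition ℳ] [SetLike.GradedSMul 𝒜 ℳ]

theorem gmulFun_eSec_bijective (m k : ℤ) {d : ℕ} (hd : 0 < d) (g : 𝒜 d) (p q : ℕ)
    (h : k = ((p : ℤ) - q) * d) :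
    Function.Bijective (fun σ : Γ(GrMod.tilde 𝒜 ℳ m, Proj.basicOpen 𝒜 g.1) =>
      gmulFun 𝒜 ℳ m k _ σ (eSec k g p q h _ le_rfl)) := by
  constructor
  · intro σ σ' hσ
    apply gfun_ext
    intro x
    have h1 := congrArg (fun τ => gfun 𝒜 ℳ τ x) hσ
    simp only [gfun_gmulFun, tfun_eSec] at h1
    have hu : IsUnit (Localization.mk (g.1 ^ p) ⟨g.1 ^ q, pow_not_mem_of_not_mem x.2 q⟩ :
        GrTwist.Loc 𝒜 x.1) :=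
      (isUnit_mk_iff x.1 _ _ _).mpr (pow_not_mem_of_not_mem x.2 p)
    exact hu.smul_left_cancel.mp h1
  · intro τ
    obtain ⟨j, i, μ, hdeg, hval⟩ := exists_gfun_eq_mk_basicOpen 𝒜 ℳ (m + k) hd g τ
    have hmem : g.1 ^ q • μ.1 ∈ ℳ (q • d + i) :=
      SetLike.GradedSMul.smul_mem (SetLike.pow_mem_graded q g.2) μ.2
    have hs : ∀ x : Proj.basicOpen 𝒜 g.1, g.1 ^ (j + p) ∉ x.1.asHomogeneousIdeal :=
      fun x => pow_not_mem_of_not_mem x.2 _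
    refine ⟨mkG 𝒜 ℳ m _ (⟨g.1 ^ q • μ.1, hmem⟩ : ℳ (q • d + i))
      (⟨g.1 ^ (j + p), SetLike.pow_mem_graded (j + p) g.2⟩ : 𝒜 ((j + p) • d)) hs ?_, ?_⟩
    · rw [h] at hdeg
      push_cast [smul_eq_mul] at hdeg ⊢
      linarith
    · apply gfun_ext
      intro x
      rw [gfun_gmulFun, tfun_eSec, gfun_mkG, hval x, LocalizedModule.mk_smul_mk,
        LocalizedModule.mk_eq]
      refine ⟨1, ?_⟩
      simp only [Submonoid.smul_def, Submonoid.coe_mul, one_smul, smul_smul]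
      congr 1
      ring

end GMulIso

section TMul
variable {A σ : Type u} [CommRing A] [SetLike σ A] [AddSubgroupClass σ A] (𝒜 : ℕ → σ) [GradedRing 𝒜]

theorem tmul_local (m k : ℤ) (W : (Proj 𝒜).Opens) (σ : Γ(GrTwist.twist 𝒜 m, W))
    (a : Γ(GrTwist.twist 𝒜 k, W)) (x : W) :
    ∃ (V : (Proj 𝒜).Opens) (_ : x.1 ∈ V) (hVW : V ≤ W) (i j : ℕ) (ν : 𝒜 i) (s : 𝒜 j)
      (hs : ∀ y : V, s.1 ∉ y.1.asHomogeneousIdeal), ((i : ℤ) = j + (m + k) ∨ ν.1 = 0) ∧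
      ∀ y : V, tfun 𝒜 a ⟨y.1, hVW y.2⟩ * tfun 𝒜 σ ⟨y.1, hVW y.2⟩ =
        Localization.mk ν.1 ⟨s.1, hs y⟩ := by
  obtain ⟨V, hxV, hVW, i, j, μ, s, hs, hdeg, hw⟩ := exists_tfun_eq_mk' 𝒜 σ x
  obtain ⟨V', hxV', hVW', i', j', b, t, ht, hdeg', hw'⟩ := exists_tfun_eq_mk' 𝒜 a x
  have hts : ∀ y : (V' ⊓ V : (Proj 𝒜).Opens), t.1 * s.1 ∉ y.1.asHomogeneousIdeal := fun y hh =>
    (y.1.isPrime.mem_or_mem hh).elim (ht ⟨y.1, y.2.1⟩) (hs ⟨y.1, y.2.2⟩)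
  refine ⟨V' ⊓ V, ⟨hxV', hxV⟩, inf_le_left.trans hVW', i' + i, j' + j,
    ⟨b.1 * μ.1, SetLike.mul_mem_graded b.2 μ.2⟩,
    ⟨t.1 * s.1, SetLike.mul_mem_graded t.2 s.2⟩, hts, ?_, fun y => ?_⟩
  · rcases hdeg with hdeg | hdeg
    · rcases hdeg' with hdeg' | hdeg'
      · left; push_cast; omega
      · right; change b.1 * μ.1 = 0; rw [hdeg', zero_mul]
    · right; change b.1 * μ.1 = 0; rw [hdeg, mul_zero]
  · have e1 := hw ⟨y.1, y.2.2⟩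
    have e2 := hw' ⟨y.1, y.2.1⟩
    change tfun 𝒜 a ⟨y.1, _⟩ * tfun 𝒜 σ ⟨y.1, _⟩ = _
    erw [e1, e2]
    rw [Localization.mk_mul]
    rfl

/-- The pointwise product of a section of `O(m)` and a section of `O(k)`. -/
noncomputable def tmulFun (m k : ℤ) (W : (Proj 𝒜).Opens) (σ : Γ(GrTwist.twist 𝒜 m, W))
    (a : Γ(GrTwist.twist 𝒜 k, W)) : Γ(GrTwist.twist 𝒜 (m + k), W) :=
  (⟨fun x => ⟨tfun 𝒜 a x * tfun 𝒜 σ x, by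
      obtain ⟨V, hxV, hVW, i, j, ν, s, hs, hdeg, hw⟩ := tmul_local 𝒜 m k W σ a x
      have h1 := hw ⟨x.1, hxV⟩
      change tfun 𝒜 a x * tfun 𝒜 σ x = _ at h1
      rw [h1]
      rcases hdeg with hdeg | hdeg
      · exact Submodule.subset_span ⟨i, j, ν, s, hs ⟨x.1, hxV⟩, hdeg, rfl⟩
      · rw [hdeg, Localization.mk_zero]
        exact Submodule.zero_mem _⟩,
    fun x => by
      obtain ⟨V, hxV, hVW, i, j, ν, s, hs, hdeg, hw⟩ := tmul_local 𝒜 m k W σ a x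
      exact ⟨V, hxV, homOfLE hVW, i, j, ν, s, hs, hdeg, fun y => hw y⟩⟩ :
    GrTwist.sectN (𝒜 := 𝒜) (m + k) (op W))

theorem tfun_tmulFun (m k : ℤ) (W : (Proj 𝒜).Opens) (σ : Γ(GrTwist.twist 𝒜 m, W))
    (a : Γ(GrTwist.twist 𝒜 k, W)) (x : W) :
    tfun 𝒜 (tmulFun 𝒜 m k W σ a) x = tfun 𝒜 a x * tfun 𝒜 σ x := rfl

theorem tmulFun_eSec_bijective (m k : ℤ) {d : ℕ} (hd : 0 < d) (g : 𝒜 d) (p q : ℕ)
    (h : k = ((p : ℤ) - q) * d) :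
    Function.Bijective (fun σ : Γ(GrTwist.twist 𝒜 m, Proj.basicOpen 𝒜 g.1) =>
      tmulFun 𝒜 m k _ σ (eSec k g p q h _ le_rfl)) := by
  constructor
  · intro σ σ' hσ
    apply tfun_ext
    intro x
    have h1 := congrArg (fun τ => tfun 𝒜 τ x) hσ
    simp only [tfun_tmulFun, tfun_eSec] at h1
    have hu : IsUnit (Localization.mk (g.1 ^ p) ⟨g.1 ^ q, pow_not_mem_of_not_mem x.2 q⟩ :
        GrTwist.Loc 𝒜 x.1) :=
      (isUnit_mk_iff x.1 _ _ _).mpr (pow_not_mem_of_not_mem x.2 p)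
    exact hu.mul_right_inj.mp h1
  · intro τ
    obtain ⟨j, i, μ, hdeg, hval⟩ := exists_tfun_eq_mk_basicOpen 𝒜 (m + k) hd g τ
    have hmem : g.1 ^ q * μ.1 ∈ 𝒜 (q • d + i) :=
      SetLike.mul_mem_graded (SetLike.pow_mem_graded q g.2) μ.2
    have hs : ∀ x : Proj.basicOpen 𝒜 g.1, g.1 ^ (j + p) ∉ x.1.asHomogeneousIdeal :=
      fun x => pow_not_mem_of_not_mem x.2 _
    refine ⟨mkSec 𝒜 m _ (⟨g.1 ^ q * μ.1, hmem⟩ : 𝒜 (q • d + i))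
      (⟨g.1 ^ (j + p), SetLike.pow_mem_graded (j + p) g.2⟩ : 𝒜 ((j + p) • d)) hs ?_, ?_⟩
    · rw [h] at hdeg
      push_cast [smul_eq_mul] at hdeg ⊢
      linarith
    · apply tfun_ext
      intro x
      rw [tfun_tmulFun, tfun_eSec, tfun_mkSec, hval x, Localization.mk_mul,
        Localization.mk_eq_mk_iff, Localization.r_iff_exists]
      refine ⟨1, ?_⟩
      simp only [Submonoid.coe_one, Submonoid.coe_mul, one_mul]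
      ring

theorem tmulFun_add_left (m k : ℤ) (W : (Proj 𝒜).Opens) (σ σ' : Γ(GrTwist.twist 𝒜 m, W))
    (a : Γ(GrTwist.twist 𝒜 k, W)) :
    tmulFun 𝒜 m k W (σ + σ') a = tmulFun 𝒜 m k W σ a + tmulFun 𝒜 m k W σ' a :=
  tfun_ext 𝒜 _ _ fun x => by
    rw [tfun_add, tfun_tmulFun, tfun_tmulFun, tfun_tmulFun, tfun_add, mul_add]

theorem tmulFun_add_right (m k : ℤ) (W : (Proj 𝒜).Opens) (σ : Γ(GrTwist.twist 𝒜 m, W))
    (a a' : Γ(GrTwist.twist 𝒜 k, W)) :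
    tmulFun 𝒜 m k W σ (a + a') = tmulFun 𝒜 m k W σ a + tmulFun 𝒜 m k W σ a' :=
  tfun_ext 𝒜 _ _ fun x => by
    rw [tfun_add, tfun_tmulFun, tfun_tmulFun, tfun_tmulFun, tfun_add, add_mul]

theorem tmulFun_smul_left (m k : ℤ) (W : (Proj 𝒜).Opens) (r : Γ(Proj 𝒜, W))
    (σ : Γ(GrTwist.twist 𝒜 m, W)) (a : Γ(GrTwist.twist 𝒜 k, W)) :
    tmulFun 𝒜 m k W (r • σ) a = r • tmulFun 𝒜 m k W σ a :=
  tfun_ext 𝒜 _ _ fun x => by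
    rw [tfun_smul, tfun_tmulFun, tfun_tmulFun, tfun_smul, mul_left_comm]

theorem tmulFun_smul_right (m k : ℤ) (W : (Proj 𝒜).Opens) (r : Γ(Proj 𝒜, W))
    (σ : Γ(GrTwist.twist 𝒜 m, W)) (a : Γ(GrTwist.twist 𝒜 k, W)) :
    tmulFun 𝒜 m k W σ (r • a) = r • tmulFun 𝒜 m k W σ a :=
  tfun_ext 𝒜 _ _ fun x => by
    rw [tfun_smul, tfun_tmulFun, tfun_tmulFun, tfun_smul, mul_assoc]

end TMul

end Groth.Agent.Lib.Helper3.TwMul
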