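import Groth.Agent.Lib.Helper3.RelTildeS
import Groth.Agent.Lib.Helper3.RelTwistMap
import Groth.Agent.Lib.Helper3.GluedPairing
import Groth.Agent.Lib.Helper3.TwMul
/-!
# `(ℳ(n))~` and `O_P(n)` on a relative Proj as glued modules, and the multiplication pairings
-/
universe u
set_option linter.unusedSectionVars false
open CategoryTheory CategoryTheory.Limits AlgebraicGeometry Opposite TopologicalSpace
open AlgebraicGeometry.Scheme.AffineZariskiSite
open scoped HomogeneousIdeal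
open Groth.Agent.Lib.Helper29 Groth.Agent.Lib.Helper29.QCoh

namespace Groth.Agent.Lib.Helper3.RelGlued
open RelProj Groth.Agent.Lib.Helper3 Groth.Agent.Lib.Helper3.GluedPairing

variable {Y P : Scheme.{u}} {𝒮 : QCGrAlg Y} (p : P ⟶ Y)
  (chart : ∀ (U : Y.Opens) (hU : IsAffineOpen U), (((p ⁻¹ᵁ U : P.Opens) : Scheme.{u}) ≅ Proj (𝒮.deg U hU)))
  (hP : IsRelProj 𝒮 p chart)

section Twist
variable (n : ℤ) {L : P.Modules}
  {lam : ∀ (U : Y.Opens) (hU : IsAffineOpen U),
      L ⟶ (Scheme.Modules.pushforward (emb p chart U hU)).obj (GrTwist.twist (𝒮.deg U hU) n)}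

theorem κ_lam (hL : IsRelTwist 𝒮 p chart n L lam) {U V : Y.AffineZariskiSite} (h : V ≤ U)
    (W : P.Opens) (s : Γ(L, W)) :
    (RelTwist.κ p chart hP n h).app W ((lam U.1 U.2).app W s) = (lam V.1 V.2).app W s := by
  have := congrArg (fun m => m.app W s) (RelTwist.lamD_w_le p chart hP n hL h)
  simp only [Scheme.Modules.Hom.comp_app, ConcreteCategory.comp_apply] at this
  exact this

theorem glued_relTwist (hL : IsRelTwist 𝒮 p chart n L lam) :
    Glued L (fun U : Y.AffineZariskiSite => RelTwist.G p chart n U)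
      (fun {_ _} h => RelTwist.κ p chart hP n h) (fun U => lam U.1 U.2) where
  compat h W s := κ_lam p chart hP n hL h W s
  ext W s t h := RelTwist.section_ext p chart n hL W s t h
  glue W τ hτ := RelTwist.exists_section p chart hP n hL W τ hτ

end Twist

section Tilde
variable (ℳ : GrModule 𝒮) (hℳ : Coh.IsQCoh ((AMod.toOS 𝒮.toQCAlg).obj ℳ.mod)) (n : ℤ) {F : P.Modules}
  {lam : ∀ (U : Y.Opens) (hU : IsAffineOpen U),
      F ⟶ (Scheme.Modules.pushforward (emb p chart U hU)).obj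
        (GrMod.tilde (𝒮.deg U hU) (ℳ.deg U hU) n)}

include hℳ in
theorem glued_relTilde (hF : IsRelTilde 𝒮 p chart ℳ n F lam) :
    Glued F (fun U : Y.AffineZariskiSite => RelTilde.G p chart ℳ n U)
      (fun {_ _} h => RelTilde.κ p chart hP ℳ n h) (fun U => lam U.1 U.2) where
  compat h W s := RelTilde.κ_lam p chart hP ℳ n hF h W s
  ext W s t h := RelTilde.section_ext p chart ℳ n hF W s t h
  glue W τ hτ := RelTilde.exists_section p chart hP ℳ n hℳ hF W τ hτ

end Tilde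

end Groth.Agent.Lib.Helper3.RelGlued

namespace Groth.Agent.Lib.Helper3.RelGlued
open RelProj Groth.Agent.Lib.Helper3 Groth.Agent.Lib.Helper3.GluedPairing
open Groth.Agent.Lib.Helper3.RelTilde (e comap_mem)

variable {Y P : Scheme.{u}} {𝒮 : QCGrAlg Y} (p : P ⟶ Y)
  (chart : ∀ (U : Y.Opens) (hU : IsAffineOpen U), (((p ⁻¹ᵁ U : P.Opens) : Scheme.{u}) ≅ Proj (𝒮.deg U hU)))
  (hP : IsRelProj 𝒮 p chart)

/-- the chart multiplication of twists -/
noncomputable def tb (m k : ℤ) (U : Y.AffineZariskiSite) (W : P.Opens)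
    (σ : Γ(RelTwist.G p chart m U, W)) (a : Γ(RelTwist.G p chart k U, W)) :
    Γ(RelTwist.G p chart (m + k) U, W) :=
  TwMul.tmulFun (𝒮.deg U.1 U.2) m k (e p chart U ⁻¹ᵁ W) σ a

theorem tb_add_left (m k : ℤ) (U : Y.AffineZariskiSite) (W : P.Opens)
    (σ σ' : Γ(RelTwist.G p chart m U, W)) (a : Γ(RelTwist.G p chart k U, W)) :
    tb p chart m k U W (σ + σ') a = tb p chart m k U W σ a + tb p chart m k U W σ' a :=
  TwMul.tmulFun_add_left (𝒮.deg U.1 U.2) m k (e p chart U ⁻¹ᵁ W) σ σ' a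

theorem tb_add_right (m k : ℤ) (U : Y.AffineZariskiSite) (W : P.Opens)
    (σ : Γ(RelTwist.G p chart m U, W)) (a a' : Γ(RelTwist.G p chart k U, W)) :
    tb p chart m k U W σ (a + a') = tb p chart m k U W σ a + tb p chart m k U W σ a' :=
  TwMul.tmulFun_add_right (𝒮.deg U.1 U.2) m k (e p chart U ⁻¹ᵁ W) σ a a'

theorem tb_smul_left (m k : ℤ) (U : Y.AffineZariskiSite) (W : P.Opens) (r : Γ(P, W))
    (σ : Γ(RelTwist.G p chart m U, W)) (a : Γ(RelTwist.G p chart k U, W)) :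
    tb p chart m k U W (r • σ) a = r • tb p chart m k U W σ a :=
  TwMul.tmulFun_smul_left (𝒮.deg U.1 U.2) m k (e p chart U ⁻¹ᵁ W) ((e p chart U).app W r) σ a

theorem tb_smul_right (m k : ℤ) (U : Y.AffineZariskiSite) (W : P.Opens) (r : Γ(P, W))
    (σ : Γ(RelTwist.G p chart m U, W)) (a : Γ(RelTwist.G p chart k U, W)) :
    tb p chart m k U W σ (r • a) = r • tb p chart m k U W σ a :=
  TwMul.tmulFun_smul_right (𝒮.deg U.1 U.2) m k (e p chart U ⁻¹ᵁ W) ((e p chart U).app W r) σ a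

theorem tb_res (m k : ℤ) (U : Y.AffineZariskiSite) {W W' : P.Opens} (h : W' ≤ W)
    (σ : Γ(RelTwist.G p chart m U, W)) (a : Γ(RelTwist.G p chart k U, W)) :
    QCoh.res (RelTwist.G p chart (m + k) U) h (tb p chart m k U W σ a) =
      tb p chart m k U W' (QCoh.res (RelTwist.G p chart m U) h σ)
        (QCoh.res (RelTwist.G p chart k U) h a) := rfl

theorem tb_val (m k : ℤ) (U : Y.AffineZariskiSite) (W : P.Opens)
    (σ : Γ(RelTwist.G p chart m U, W)) (a : Γ(RelTwist.G p chart k U, W))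
    (y : ProjectiveSpectrum (𝒮.deg U.1 U.2)) (hy : (e p chart U).base y ∈ W) :
    GrTwist.val (V := e p chart U ⁻¹ᵁ W) (tb p chart m k U W σ a) ⟨y, hy⟩ =
      GrTwist.val (V := e p chart U ⁻¹ᵁ W) a ⟨y, hy⟩ *
        GrTwist.val (V := e p chart U ⁻¹ᵁ W) σ ⟨y, hy⟩ := rfl

theorem tb_κ (m k : ℤ) {U V : Y.AffineZariskiSite} (h : V ≤ U) (W : P.Opens)
    (σ : Γ(RelTwist.G p chart m U, W)) (a : Γ(RelTwist.G p chart k U, W)) :
    (RelTwist.κ p chart hP (m + k) h).app W (tb p chart m k U W σ a) =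
      tb p chart m k V W ((RelTwist.κ p chart hP m h).app W σ) ((RelTwist.κ p chart hP k h).app W a) := by
  apply RelTwist.sec_ext p chart (m + k)
  intro y hy
  rw [RelTwist.κ_val, tb_val, tb_val, map_mul, RelTwist.κ_val, RelTwist.κ_val]

/-- The multiplication `O(m) × O(k) ⟶ O(m + k)` on the charts. -/
noncomputable def twistPairing (m k : ℤ) :
    ChartPairing (fun U : Y.AffineZariskiSite => RelTwist.G p chart m U)
      (fun U : Y.AffineZariskiSite => RelTwist.G p chart k U)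
      (fun U : Y.AffineZariskiSite => RelTwist.G p chart (m + k) U)
      (fun {_ _} h => RelTwist.κ p chart hP m h) (fun {_ _} h => RelTwist.κ p chart hP k h)
      (fun {_ _} h => RelTwist.κ p chart hP (m + k) h) where
  b := tb p chart m k
  add_left := tb_add_left p chart m k
  add_right := tb_add_right p chart m k
  smul_left := tb_smul_left p chart m k
  smul_right := tb_smul_right p chart m k
  res U {_ _} h σ a := tb_res p chart m k U h σ a
  κ_compat h W σ a := tb_κ p chart hP m k h W σ a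

section Tilde
variable (ℳ : GrModule 𝒮)

/-- the chart multiplication of `M(m)~` by twists -/
noncomputable def gb (m k : ℤ) (U : Y.AffineZariskiSite) (W : P.Opens)
    (σ : Γ(RelTilde.G p chart ℳ m U, W)) (a : Γ(RelTwist.G p chart k U, W)) :
    Γ(RelTilde.G p chart ℳ (m + k) U, W) :=
  TwMul.gmulFun (𝒮.deg U.1 U.2) (ℳ.deg U.1 U.2) m k (e p chart U ⁻¹ᵁ W) σ a

theorem gb_add_left (m k : ℤ) (U : Y.AffineZariskiSite) (W : P.Opens)
    (σ σ' : Γ(RelTilde.G p chart ℳ m U, W)) (a : Γ(RelTwist.G p chart k U, W)) :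
    gb p chart ℳ m k U W (σ + σ') a = gb p chart ℳ m k U W σ a + gb p chart ℳ m k U W σ' a :=
  TwMul.gmulFun_add_left (𝒮.deg U.1 U.2) (ℳ.deg U.1 U.2) m k (e p chart U ⁻¹ᵁ W) σ σ' a

theorem gb_add_right (m k : ℤ) (U : Y.AffineZariskiSite) (W : P.Opens)
    (σ : Γ(RelTilde.G p chart ℳ m U, W)) (a a' : Γ(RelTwist.G p chart k U, W)) :
    gb p chart ℳ m k U W σ (a + a') = gb p chart ℳ m k U W σ a + gb p chart ℳ m k U W σ a' :=
  TwMul.gmulFun_add_right (𝒮.deg U.1 U.2) (ℳ.deg U.1 U.2) m k (e p chart U ⁻¹ᵁ W) σ a a'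

theorem gb_smul_left (m k : ℤ) (U : Y.AffineZariskiSite) (W : P.Opens) (r : Γ(P, W))
    (σ : Γ(RelTilde.G p chart ℳ m U, W)) (a : Γ(RelTwist.G p chart k U, W)) :
    gb p chart ℳ m k U W (r • σ) a = r • gb p chart ℳ m k U W σ a :=
  TwMul.gmulFun_smul_left (𝒮.deg U.1 U.2) (ℳ.deg U.1 U.2) m k (e p chart U ⁻¹ᵁ W)
    ((e p chart U).app W r) σ a

theorem gb_smul_right (m k : ℤ) (U : Y.AffineZariskiSite) (W : P.Opens) (r : Γ(P, W))
    (σ : Γ(RelTilde.G p chart ℳ m U, W)) (a : Γ(RelTwist.G p chart k U, W)) :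
    gb p chart ℳ m k U W σ (r • a) = r • gb p chart ℳ m k U W σ a :=
  TwMul.gmulFun_smul_right (𝒮.deg U.1 U.2) (ℳ.deg U.1 U.2) m k (e p chart U ⁻¹ᵁ W)
    ((e p chart U).app W r) σ a

theorem gb_res (m k : ℤ) (U : Y.AffineZariskiSite) {W W' : P.Opens} (h : W' ≤ W)
    (σ : Γ(RelTilde.G p chart ℳ m U, W)) (a : Γ(RelTwist.G p chart k U, W)) :
    QCoh.res (RelTilde.G p chart ℳ (m + k) U) h (gb p chart ℳ m k U W σ a) =
      gb p chart ℳ m k U W' (QCoh.res (RelTilde.G p chart ℳ m U) h σ)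
        (QCoh.res (RelTwist.G p chart k U) h a) := rfl

theorem gb_val (m k : ℤ) (U : Y.AffineZariskiSite) (W : P.Opens)
    (σ : Γ(RelTilde.G p chart ℳ m U, W)) (a : Γ(RelTwist.G p chart k U, W))
    (y : ProjectiveSpectrum (𝒮.deg U.1 U.2)) (hy : (e p chart U).base y ∈ W) :
    GrMod.val (V := e p chart U ⁻¹ᵁ W) (gb p chart ℳ m k U W σ a) ⟨y, hy⟩ =
      GrTwist.val (V := e p chart U ⁻¹ᵁ W) a ⟨y, hy⟩ •
        GrMod.val (V := e p chart U ⁻¹ᵁ W) σ ⟨y, hy⟩ := rfl

theorem gb_κ (m k : ℤ) {U V : Y.AffineZariskiSite} (h : V ≤ U) (W : P.Opens)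
    (σ : Γ(RelTilde.G p chart ℳ m U, W)) (a : Γ(RelTwist.G p chart k U, W)) :
    (RelTilde.κ p chart hP ℳ (m + k) h).app W (gb p chart ℳ m k U W σ a) =
      gb p chart ℳ m k V W ((RelTilde.κ p chart hP ℳ m h).app W σ)
        ((RelTwist.κ p chart hP k h).app W a) := by
  apply RelTilde.sec_ext p chart ℳ (m + k)
  intro y hy
  rw [RelTilde.κ_val, gb_val, gb_val, GrMod.locModMap_smul, RelTilde.κ_val, RelTwist.κ_val]

/-- The multiplication `M(m)~ × O(k) ⟶ M(m + k)~` on the charts. -/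
noncomputable def tildePairing (m k : ℤ) :
    ChartPairing (fun U : Y.AffineZariskiSite => RelTilde.G p chart ℳ m U)
      (fun U : Y.AffineZariskiSite => RelTwist.G p chart k U)
      (fun U : Y.AffineZariskiSite => RelTilde.G p chart ℳ (m + k) U)
      (fun {_ _} h => RelTilde.κ p chart hP ℳ m h) (fun {_ _} h => RelTwist.κ p chart hP k h)
      (fun {_ _} h => RelTilde.κ p chart hP ℳ (m + k) h) where
  b := gb p chart ℳ m k
  add_left := gb_add_left p chart ℳ m k
  add_right := gb_add_right p chart ℳ m k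
  smul_left := gb_smul_left p chart ℳ m k
  smul_right := gb_smul_right p chart ℳ m k
  res U {_ _} h σ a := gb_res p chart ℳ m k U h σ a
  κ_compat h W σ a := gb_κ p chart hP ℳ m k h W σ a

end Tilde

end Groth.Agent.Lib.Helper3.RelGlued
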