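import Groth.Agent.Lib.Helper29.QCohBasic
import Mathlib

/-!
# Relative spectrum of a quasi-coherent `O_S`-algebra (EGA II 1.3.1)

For a sheaf of commutative rings `B` on a scheme `S` with `φ : O_S ⟶ B` making `B` quasi-coherent:
`relSpec B φ hB`, `toBase : relSpec ⟶ S` (affine), `sheafIso : B ≅ f_* O_X`, `compat`.
-/

universe u
open CategoryTheory AlgebraicGeometry TopologicalSpace Opposite Limits

namespace Groth.Agent.Lib.Helper3.RelSpec
open Groth.Agent.Lib.Helper29.QCoh
variable {S : Scheme.{u}}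
    (B : Sheaf (Opens.grothendieckTopology S) CommRingCat.{u}) (φ : S.sheaf ⟶ B)

noncomputable abbrev MB : S.Modules := ((SheafOfModules.restrictScalars
      ((sheafCompose (Opens.grothendieckTopology S) (forget₂ CommRingCat.{u} RingCat.{u})).map φ)).obj
      (SheafOfModules.unit ((sheafCompose (Opens.grothendieckTopology S) (forget₂ CommRingCat.{u} RingCat.{u})).obj B)))

noncomputable def F : S.AffineZariskiSiteᵒᵖ ⥤ CommRingCat.{u} :=
  (Scheme.AffineZariskiSite.toOpensFunctor S).op ⋙ B.obj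

noncomputable def α : (Scheme.AffineZariskiSite.toOpensFunctor S).op ⋙ S.presheaf ⟶ F B :=
  Functor.whiskerLeft _ φ.hom

/-- `φ` on sections, as a plain ring hom. -/
noncomputable def φU (U : S.Opens) : Γ(S, U) →+* B.obj.obj (op U) := (φ.hom.app (op U)).hom

/-- restriction of `B`, as a plain ring hom. -/
noncomputable def resB {U V : S.Opens} (h : V ≤ U) : B.obj.obj (op U) →+* B.obj.obj (op V) :=
  (B.obj.map (homOfLE h).op).hom

/-- restriction of `O_S`, as a plain ring hom. -/
noncomputable def resS {U V : S.Opens} (h : V ≤ U) : Γ(S, U) →+* Γ(S, V) :=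
  (S.presheaf.map (homOfLE h).op).hom

theorem naturality_apply {U V : S.Opens} (h : V ≤ U) (r : Γ(S, U)) :
    resB B h (φU B φ U r) = φU B φ V (resS h r) := by
  have := φ.hom.naturality (homOfLE h).op
  exact (congrArg (fun g => g.hom r) this).symm

theorem surj_aux (hB : (MB B φ).IsQuasicoherent) {U : S.Opens} (hU : IsAffineOpen U)
    (f : Γ(S, U)) (z : B.obj.obj (op (S.basicOpen f))) :
    ∃ (n : ℕ) (m : B.obj.obj (op U)),
      φU B φ _ (resS (S.basicOpen_le f) f) ^ n * z = resB B (S.basicOpen_le f) m := by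
  obtain ⟨n, m, h⟩ := exists_pow_smul_eq_res (MB B φ) hU f z
  refine ⟨n, m, ?_⟩
  rw [← map_pow]
  exact h

theorem inj_aux (hB : (MB B φ).IsQuasicoherent) {U : S.Opens} (hU : IsAffineOpen U)
    (f : Γ(S, U)) (x : B.obj.obj (op U)) (hx : resB B (S.basicOpen_le f) x = 0) :
    ∃ n : ℕ, φU B φ U f ^ n * x = 0 := by
  obtain ⟨n, hn⟩ := exists_pow_smul_eq_zero (MB B φ) hU f x hx
  refine ⟨n, ?_⟩
  rw [← map_pow]
  exact hn

theorem isLocalization_aux (hB : (MB B φ).IsQuasicoherent) {U : S.Opens} (hU : IsAffineOpen U)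
    (f : Γ(S, U)) :
    letI := (resB B (S.basicOpen_le f)).toAlgebra
    IsLocalization.Away (φU B φ U f) (B.obj.obj (op (S.basicOpen f))) := by
  letI := (resB B (S.basicOpen_le f)).toAlgebra
  have halg : ∀ b : B.obj.obj (op U),
      algebraMap (B.obj.obj (op U)) (B.obj.obj (op (S.basicOpen f))) b =
        resB B (S.basicOpen_le f) b := fun b => rfl
  have hunit : IsUnit (resB B (S.basicOpen_le f) (φU B φ U f)) := by
    rw [naturality_apply]
    exact (RingedSpace.isUnit_res_basicOpen _ f).map _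
  refine (isLocalization_iff _ _).mpr ⟨?_, ?_, ?_⟩
  · rintro ⟨_, n, rfl⟩
    rw [halg, map_pow]
    exact hunit.pow n
  · intro z
    obtain ⟨n, m, h⟩ := surj_aux B φ hB hU f z
    refine ⟨⟨m, ⟨_, n, rfl⟩⟩, ?_⟩
    rw [halg, halg, map_pow, naturality_apply, mul_comm]
    exact h
  · intro x y hxy
    rw [halg, halg] at hxy
    obtain ⟨n, hn⟩ := inj_aux B φ hB hU f (x - y) (by rw [map_sub, hxy, sub_self])
    refine ⟨⟨_, n, rfl⟩, ?_⟩
    rw [mul_sub, sub_eq_zero] at hn
    exact hn

theorem coequifibered (hB : (MB B φ).IsQuasicoherent) : (α B φ).Coequifibered := by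
  rw [Scheme.AffineZariskiSite.coequifibered_iff_forall_isLocalizationAway]
  intro U f
  exact isLocalization_aux B φ hB U.2 f

/-- the relative gluing datum of the quasi-coherent algebra `B`. -/
noncomputable abbrev gluing (hB : (MB B φ).IsQuasicoherent) :
    (Scheme.AffineZariskiSite.directedCover S).RelativeGluingData :=
  Scheme.AffineZariskiSite.relativeGluingData (coequifibered B φ hB)

/-- the relative spectrum of `B`. -/
noncomputable abbrev relSpec (hB : (MB B φ).IsQuasicoherent) : Scheme.{u} := (gluing B φ hB).glued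

/-- the structure map of the relative spectrum. -/
noncomputable abbrev toBase (hB : (MB B φ).IsQuasicoherent) : relSpec B φ hB ⟶ S :=
  (gluing B φ hB).toBase

set_option backward.isDefEq.respectTransparency.types false in
theorem toBase_preimage (hB : (MB B φ).IsQuasicoherent) (U : S.affineOpens) :
    toBase B φ hB ⁻¹ᵁ U = ((gluing B φ hB).cover.f U).opensRange := by
  simpa using! (gluing B φ hB).toBase_preimage_eq_opensRange_ι U

instance (hB : (MB B φ).IsQuasicoherent) : IsAffineHom (toBase B φ hB) := by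
  apply isAffineHom_of_forall_exists_isAffineOpen
  intro x
  obtain ⟨U, hU, hxU, -⟩ := exists_isAffineOpen_mem_and_subset (X := S) (x := x) (U := ⊤) trivial
  refine ⟨U, hxU, hU, ?_⟩
  rw [toBase_preimage B φ hB ⟨U, hU⟩]
  exact @isAffineOpen_opensRange _ _
    (show IsAffine (Spec ((F B).obj (op ⟨U, hU⟩))) from inferInstance)
    ((gluing B φ hB).cover.f ⟨U, hU⟩) ((gluing B φ hB).cover.map_prop ⟨U, hU⟩)


theorem appLE_top_top {Y₁ Y₂ : Scheme.{u}} (k : Y₂ ⟶ Y₁) (e : (⊤ : Y₂.Opens) ≤ k ⁻¹ᵁ ⊤) :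
    k.appLE ⊤ ⊤ e = k.appTop := by
  have h1 : Y₂.presheaf.map (homOfLE e).op = 𝟙 (Y₂.presheaf.obj (op ⊤)) :=
    (congrArg Y₂.presheaf.map (Subsingleton.elim (homOfLE e).op (𝟙 (op ⊤)))).trans
      (Y₂.presheaf.map_id _)
  exact (congrArg (fun t => k.app ⊤ ≫ t) h1).trans (Category.comp_id _)

theorem appLE_top_comp_appTop {X Y₁ Y₂ : Scheme.{u}} (j₁ : Y₁ ⟶ X) (j₂ : Y₂ ⟶ X) (k : Y₂ ⟶ Y₁)
    (hk : j₂ = k ≫ j₁) (W₁ W₂ : X.Opens) (hW : W₂ ≤ W₁) (h₁ : ⊤ ≤ j₁ ⁻¹ᵁ W₁)
    (h₂ : ⊤ ≤ j₂ ⁻¹ᵁ W₂) :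
    j₁.appLE W₁ ⊤ h₁ ≫ k.appTop = X.presheaf.map (homOfLE hW).op ≫ j₂.appLE W₂ ⊤ h₂ := by
  subst hk
  rw [Scheme.Hom.map_appLE]
  have e : (⊤ : Y₂.Opens) ≤ k ⁻¹ᵁ ⊤ := le_of_eq rfl
  exact (congrArg (fun t => j₁.appLE W₁ ⊤ h₁ ≫ t) (appLE_top_top k e)).symm.trans
    (Scheme.Hom.appLE_comp_appLE k j₁ W₁ ⊤ ⊤ h₁ e)

section Iso

variable (hB : (MB B φ).IsQuasicoherent)

instance : ((gluing B φ hB).functor ⋙ Scheme.forget).IsLocallyDirected :=
  Scheme.Cover.RelativeGluingData.instIsLocallyDirectedI₀CompFunctorForgetOfIsThin ..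

/-- the open cover of the relative spectrum by the `Spec B(U)`. -/
noncomputable abbrev openCover : (relSpec B φ hB).OpenCover := (gluing B φ hB).cover

theorem ι_toBase (U : S.AffineZariskiSite) :
    (openCover B φ hB).f U ≫ toBase B φ hB =
      Spec.map ((α B φ).app (op U)) ≫ U.2.fromSpec :=
  colimit.ι_desc _ _

set_option backward.isDefEq.respectTransparency false in
theorem le_preimage (U : S.AffineZariskiSite) :
    (⊤ : ((openCover B φ hB).X U).Opens) ≤
      ((openCover B φ hB).f U) ⁻¹ᵁ (toBase B φ hB ⁻¹ᵁ U.toOpens) := by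
  rw [← Scheme.Hom.comp_preimage, ι_toBase, Scheme.Hom.comp_preimage,
    IsAffineOpen.fromSpec_preimage_self]
  simp

set_option backward.isDefEq.respectTransparency.types false in
/-- sections of the relative spectrum over the preimage of an affine open. -/
noncomputable def θ (U : S.AffineZariskiSite) :
    Γ(relSpec B φ hB, toBase B φ hB ⁻¹ᵁ U.toOpens) ⟶ B.obj.obj (op U.toOpens) :=
  ((openCover B φ hB).f U).appLE (toBase B φ hB ⁻¹ᵁ U.toOpens) ⊤ (le_preimage B φ hB U) ≫
    (Scheme.ΓSpecIso ((F B).obj (op U))).hom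

set_option backward.isDefEq.respectTransparency false in
theorem app_θ (U : S.AffineZariskiSite) :
    (toBase B φ hB).app U.toOpens ≫ θ B φ hB U = φ.hom.app (op U.toOpens) := by
  dsimp only [θ]
  rw [Scheme.Hom.app_eq_appLE, Scheme.Hom.appLE_comp_appLE_assoc]
  simp only [ι_toBase]
  rw [Scheme.Hom.comp_appLE, U.2.fromSpec_app_self]
  simp only [Category.assoc, Scheme.Hom.appLE, Scheme.Hom.naturality_assoc]
  rw [← Scheme.Hom.appTop, ← Scheme.ΓSpecIso_inv_naturality_assoc, ← Functor.map_comp_assoc]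
  have : ∀ (g : (op (⊤ : ((openCover B φ hB).X U).Opens)) ⟶ op ⊤),
      ((openCover B φ hB).X U).presheaf.map g = 𝟙 _ := by
    intro g
    rw [Subsingleton.elim g (𝟙 _)]
    exact CategoryTheory.Functor.map_id _ _
  erw [this]
  simp
  rfl

set_option backward.isDefEq.respectTransparency false in
theorem openCover_f_eq {U V : S.AffineZariskiSite} (g : V ⟶ U) :
    (openCover B φ hB).f V = Spec.map ((F B).map g.op) ≫ (openCover B φ hB).f U :=
  (colimit.w (gluing B φ hB).functor g).symm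

set_option backward.isDefEq.respectTransparency false in
theorem θ_naturality {U V : S.AffineZariskiSite} (g : V ⟶ U) :
    θ B φ hB U ≫ (F B).map g.op =
      (relSpec B φ hB).presheaf.map
        (homOfLE ((toBase B φ hB).preimage_mono
          ((Scheme.AffineZariskiSite.toOpensFunctor S).map g).le)).op ≫ θ B φ hB V := by
  have h1 : (Scheme.ΓSpecIso ((F B).obj (op U))).hom ≫ (F B).map g.op =
      (Spec.map ((F B).map g.op)).appTop ≫ (Scheme.ΓSpecIso ((F B).obj (op V))).hom :=
    (Scheme.ΓSpecIso_naturality _).symm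
  have h2 := appLE_top_comp_appTop ((openCover B φ hB).f U) ((openCover B φ hB).f V)
    (Spec.map ((F B).map g.op)) (openCover_f_eq B φ hB g)
    (toBase B φ hB ⁻¹ᵁ U.toOpens) (toBase B φ hB ⁻¹ᵁ V.toOpens)
    ((toBase B φ hB).preimage_mono ((Scheme.AffineZariskiSite.toOpensFunctor S).map g).le)
    (le_preimage B φ hB U) (le_preimage B φ hB V)
  calc θ B φ hB U ≫ (F B).map g.op
      = ((openCover B φ hB).f U).appLE (toBase B φ hB ⁻¹ᵁ U.toOpens) ⊤ (le_preimage B φ hB U) ≫
          ((Scheme.ΓSpecIso ((F B).obj (op U))).hom ≫ (F B).map g.op) := Category.assoc _ _ _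
    _ = ((openCover B φ hB).f U).appLE (toBase B φ hB ⁻¹ᵁ U.toOpens) ⊤ (le_preimage B φ hB U) ≫
          ((Spec.map ((F B).map g.op)).appTop ≫ (Scheme.ΓSpecIso ((F B).obj (op V))).hom) :=
        congrArg (fun t => _ ≫ t) h1
    _ = (((openCover B φ hB).f U).appLE (toBase B φ hB ⁻¹ᵁ U.toOpens) ⊤ (le_preimage B φ hB U) ≫
          (Spec.map ((F B).map g.op)).appTop) ≫ (Scheme.ΓSpecIso ((F B).obj (op V))).hom :=
        (Category.assoc _ _ _).symm
    _ = _ := congrArg (fun t => t ≫ (Scheme.ΓSpecIso ((F B).obj (op V))).hom) h2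
    _ = _ := Category.assoc _ _ _

set_option backward.isDefEq.respectTransparency false in
instance isIso_θ (U : S.AffineZariskiSite) : IsIso (θ B φ hB U) := by
  haveI : IsOpenImmersion ((openCover B φ hB).f U) := (openCover B φ hB).map_prop U
  have h1 : IsIso (((openCover B φ hB).f U).app (toBase B φ hB ⁻¹ᵁ U.toOpens)) :=
    Scheme.Hom.isIso_app _ _ (by rw [toBase_preimage B φ hB U])
  have h2 : IsIso (((openCover B φ hB).X U).presheaf.map (homOfLE (le_preimage B φ hB U)).op) := by
    have : IsIso (homOfLE (le_preimage B φ hB U)) :=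
      ⟨⟨homOfLE le_top, Subsingleton.elim _ _, Subsingleton.elim _ _⟩⟩
    infer_instance
  dsimp only [θ, Scheme.Hom.appLE]
  infer_instance

/-- the pushforward of the structure sheaf of the relative spectrum. -/
noncomputable abbrev pushSheaf : Sheaf (Opens.grothendieckTopology S) CommRingCat.{u} :=
  (TopCat.Sheaf.pushforward CommRingCat.{u} (toBase B φ hB).base).obj (relSpec B φ hB).sheaf

set_option backward.isDefEq.respectTransparency false in
/-- the natural isomorphism on affine opens. -/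
noncomputable def natIso :
    (Scheme.AffineZariskiSite.toOpensFunctor S).op ⋙ B.obj ≅
      (Scheme.AffineZariskiSite.toOpensFunctor S).op ⋙ (pushSheaf B φ hB).obj :=
  NatIso.ofComponents (fun U => (asIso (θ B φ hB (unop U))).symm) (by
    rintro ⟨U⟩ ⟨V⟩ ⟨g⟩
    dsimp only [Iso.symm_hom, asIso_inv, Functor.comp_map, Functor.op_map]
    rw [IsIso.eq_inv_comp, ← Category.assoc, IsIso.comp_inv_eq]
    exact θ_naturality B φ hB g)

/-- the isomorphism `B ≅ f_* O_X`. -/
noncomputable def sheafIso : B ≅ pushSheaf B φ hB :=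
  Functor.IsCoverDense.sheafIso (G := Scheme.AffineZariskiSite.toOpensFunctor S) (natIso B φ hB)

set_option backward.isDefEq.respectTransparency false in
theorem compat : (φ ≫ (sheafIso B φ hB).hom).hom = (toBase B φ hB).c := by
  apply (Functor.IsCoverDense.restrictHomEquivHom
    (G := Scheme.AffineZariskiSite.toOpensFunctor S) (K := Opens.grothendieckTopology S)
    (ℱ := S.presheaf) (ℱ' := pushSheaf B φ hB)).symm.injective
  change Functor.whiskerLeft _ _ = Functor.whiskerLeft _ _
  refine NatTrans.ext (funext fun U => ?_)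
  have h1 : ((sheafIso B φ hB).hom.hom).app (op U.unop.toOpens) = inv (θ B φ hB U.unop) :=
    congrArg (fun t => t.app U) (Functor.IsCoverDense.sheafHom_restrict_eq
      (G := Scheme.AffineZariskiSite.toOpensFunctor S) (K := Opens.grothendieckTopology S)
      (natIso B φ hB).hom)
  change φ.hom.app (op U.unop.toOpens) ≫ ((sheafIso B φ hB).hom.hom).app (op U.unop.toOpens) =
    (toBase B φ hB).app U.unop.toOpens
  rw [h1, IsIso.comp_inv_eq, app_θ]

end Iso

end Groth.Agent.Lib.Helper3.RelSpec
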