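import Groth.Agent.Lib.Helper3.TildeZero
import Groth.Agent.Lib.Helper3.RelTensor
/-!
# The structure map `p.app U` of a glued relative `Proj` on chart sections
-/
set_option autoImplicit false
set_option linter.unusedSectionVars false
universe u
open CategoryTheory CategoryTheory.Limits AlgebraicGeometry Opposite TopologicalSpace DirectSum
open AlgebraicGeometry.Scheme.AffineZariskiSite
open scoped HomogeneousIdeal

namespace Groth.Agent.Lib.Helper3.RelGlued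
open RelProj Groth.Agent.Lib.Helper3
open Groth.Agent.Lib.Helper3.RelTilde (e comap_mem range_e e_mem_R)

variable {Y P : Scheme.{u}} {𝒮 : QCGrAlg Y} (p : P ⟶ Y)
  (chart : ∀ (U : Y.Opens) (hU : IsAffineOpen U), (((p ⁻¹ᵁ U : P.Opens) : Scheme.{u}) ≅ Proj (𝒮.deg U hU)))

theorem fromSpec_appLE_top {X : Scheme.{u}} {U : X.Opens} (hU : IsAffineOpen U)
    (h : (⊤ : (Spec Γ(X, U)).Opens) ≤ hU.fromSpec ⁻¹ᵁ U) :
    hU.fromSpec.appLE U ⊤ h = (Scheme.ΓSpecIso Γ(X, U)).inv := by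
  rw [Scheme.Hom.appLE, hU.fromSpec_app_self, Category.assoc, ← Functor.map_comp]
  convert Category.comp_id _
  exact (Spec Γ(X, U)).presheaf.map_id _

include chart in
/-- the composite `Proj 𝒮(U) → P → Y` on functions over `U`, through `appLE` to the top open -/
theorem emb_comp_appLE (hP : IsRelProj 𝒮 p chart) (U : Y.Opens) (hU : IsAffineOpen U)
    (h : (⊤ : (Proj (𝒮.deg U hU)).Opens) ≤ (emb p chart U hU ≫ p) ⁻¹ᵁ U) :
    (emb p chart U hU ≫ p).appLE U ⊤ h =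
      𝒮.strZero U hU ≫ (Scheme.ΓSpecIso (CommRingCat.of (𝒮.deg U hU 0))).inv ≫
        (Proj.toSpecZero (𝒮.deg U hU)).appTop := by
  have h1 : emb p chart U hU ≫ p =
      Proj.toSpecZero (𝒮.deg U hU) ≫ Spec.map (𝒮.strZero U hU) ≫ hU.fromSpec := by
    rw [emb, Category.assoc, ← hP.chart_over U hU, Iso.inv_hom_id_assoc]
  have key : ∀ (g : Proj (𝒮.deg U hU) ⟶ Y) (hg : g = Proj.toSpecZero (𝒮.deg U hU) ≫
      Spec.map (𝒮.strZero U hU) ≫ hU.fromSpec) (hle : (⊤ : (Proj (𝒮.deg U hU)).Opens) ≤ g ⁻¹ᵁ U),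
      g.appLE U ⊤ hle = 𝒮.strZero U hU ≫ (Scheme.ΓSpecIso (CommRingCat.of (𝒮.deg U hU 0))).inv ≫
        (Proj.toSpecZero (𝒮.deg U hU)).appTop := by
    rintro g rfl hle
    have e1 : (⊤ : (Spec Γ(Y, U)).Opens) ≤ hU.fromSpec ⁻¹ᵁ U := by
      rw [hU.fromSpec_preimage_self]
    have e2 : (⊤ : (Spec (CommRingCat.of (𝒮.deg U hU 0))).Opens) ≤
        Spec.map (𝒮.strZero U hU) ⁻¹ᵁ ⊤ := le_rfl
    have e3 : (⊤ : (Proj (𝒮.deg U hU)).Opens) ≤ Proj.toSpecZero (𝒮.deg U hU) ⁻¹ᵁ ⊤ := le_rfl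
    have h2 := Scheme.Hom.appLE_comp_appLE (Spec.map (𝒮.strZero U hU)) hU.fromSpec U ⊤ ⊤ e1 e2
    have e4 : (⊤ : (Spec (CommRingCat.of (𝒮.deg U hU 0))).Opens) ≤
        (Spec.map (𝒮.strZero U hU) ≫ hU.fromSpec) ⁻¹ᵁ U :=
      e2.trans ((Opens.map (Spec.map (𝒮.strZero U hU)).base).map (homOfLE e1)).le
    have h3 := Scheme.Hom.appLE_comp_appLE (Proj.toSpecZero (𝒮.deg U hU))
      (Spec.map (𝒮.strZero U hU) ≫ hU.fromSpec) U ⊤ ⊤ e4 e3
    rw [← h3, ← h2, fromSpec_appLE_top hU e1]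
    have h4 : (Spec.map (𝒮.strZero U hU)).appLE ⊤ ⊤ e2 = (Spec.map (𝒮.strZero U hU)).appTop := by
      rw [Scheme.Hom.appLE]
      exact (congrArg (fun k => (Spec.map (𝒮.strZero U hU)).app ⊤ ≫ k)
        ((Spec _).presheaf.map_id _)).trans (Category.comp_id _)
    have h5 : (Proj.toSpecZero (𝒮.deg U hU)).appLE ⊤ ⊤ e3 = (Proj.toSpecZero (𝒮.deg U hU)).appTop := by
      rw [Scheme.Hom.appLE]
      exact (congrArg (fun k => (Proj.toSpecZero (𝒮.deg U hU)).app ⊤ ≫ k)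
        ((Proj _).presheaf.map_id _)).trans (Category.comp_id _)
    rw [h4, h5, Category.assoc, ← Category.assoc _ (Spec.map (𝒮.strZero U hU)).appTop,
      ← Scheme.ΓSpecIso_inv_naturality, Category.assoc]
  exact key _ h1 h

include chart in
/-- **The structure morphism on functions, in a chart**: the function `p^♯ r` read on `Proj 𝒮(U)` is the
constant fraction `str(r) / 1`. -/
theorem ofun_emb_app_p_app (hP : IsRelProj 𝒮 p chart) (U : Y.Opens) (hU : IsAffineOpen U)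
    (r : Γ(Y, U)) (y : ↥(emb p chart U hU ⁻¹ᵁ (p ⁻¹ᵁ U))) :
    TildeQC.ofun (𝒮.deg U hU) ((emb p chart U hU).app (p ⁻¹ᵁ U) (p.app U r)) y =
      Localization.mk ((𝒮.str.app (op U)).hom r) ⟨1, TildeQC.one_not_mem y.1⟩ := by
  have htop : (⊤ : (Proj (𝒮.deg U hU)).Opens) ≤ (emb p chart U hU ≫ p) ⁻¹ᵁ U :=
    fun z _ => e_mem_R p chart ⟨U, hU⟩ z
  have h1 := emb_comp_appLE p chart hP U hU htop
  have h2 := congrArg (fun k => k.hom r) h1
  have h3 : TildeQC.ofun (𝒮.deg U hU) ((emb p chart U hU).app (p ⁻¹ᵁ U) (p.app U r)) y =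
      TildeQC.ofun (𝒮.deg U hU) (((emb p chart U hU ≫ p).appLE U ⊤ htop).hom r) ⟨y.1, trivial⟩ := rfl
  rw [h3, h2]
  exact TildeQC.ofun_toSpecZero_appTop (𝒮.deg U hU) ((𝒮.strZero U hU).hom r) ⟨y.1, trivial⟩

end Groth.Agent.Lib.Helper3.RelGlued
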