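import Groth.Agent.Lib.Helper3.TwMul
/-!
# Multiplication by a trivialising section of `O(k)` is bijective on every open of `D_+(g)`
-/
set_option autoImplicit false
set_option linter.unusedSectionVars false
universe u
open CategoryTheory CategoryTheory.Limits AlgebraicGeometry Opposite TopologicalSpace DirectSum
open Groth.Agent.Lib.Helper29 Groth.Agent.Lib.Helper29.QCoh

namespace Groth.Agent.Lib.Helper3.TwMul
open Groth.Agent.Lib.Helper3.TildeQC Groth.Agent.Lib.Helper3.TwistTriv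

variable {A σ : Type u} [CommRing A] [SetLike σ A] [AddSubgroupClass σ A] (𝒜 : ℕ → σ) [GradedRing 𝒜]

/-- Transport of a section of `O(j)` along an equality of indices. -/
def castSec {j j' : ℤ} (h : j = j') {W : (Proj 𝒜).Opens} (s : Γ(GrTwist.twist 𝒜 j, W)) :
    Γ(GrTwist.twist 𝒜 j', W) := h ▸ s

theorem tfun_castSec {j j' : ℤ} (h : j = j') {W : (Proj 𝒜).Opens} (s : Γ(GrTwist.twist 𝒜 j, W))
    (x : W) : tfun 𝒜 (castSec 𝒜 h s) x = tfun 𝒜 s x := by
  subst h
  rfl

theorem tmulFun_eSec_bijective_of_le (m k : ℤ) {d : ℕ} (g : 𝒜 d) (p q : ℕ)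
    (h : k = ((p : ℤ) - q) * d) (W : (Proj 𝒜).Opens) (hW : W ≤ Proj.basicOpen 𝒜 g.1) :
    Function.Bijective (fun s : Γ(GrTwist.twist 𝒜 m, W) =>
      tmulFun 𝒜 m k W s (eSec k g p q h W hW)) := by
  constructor
  · intro s s' hs
    apply tfun_ext
    intro x
    have h1 := congrArg (fun τ => tfun 𝒜 τ x) hs
    simp only [tfun_tmulFun, tfun_eSec] at h1
    have hu : IsUnit (Localization.mk (g.1 ^ p) ⟨g.1 ^ q, pow_not_mem_of_not_mem (hW x.2) q⟩ :
        GrTwist.Loc 𝒜 x.1) :=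
      (isUnit_mk_iff x.1 _ _ _).mpr (pow_not_mem_of_not_mem (hW x.2) p)
    exact hu.mul_right_inj.mp h1
  · intro τ
    have h' : -k = ((q : ℤ) - p) * d := by rw [h]; ring
    refine ⟨castSec 𝒜 (by ring : m + k + -k = m) (tmulFun 𝒜 (m + k) (-k) W τ (eSec (-k) g q p h' W hW)), ?_⟩
    apply tfun_ext
    intro x
    rw [tfun_tmulFun, tfun_castSec, tfun_tmulFun, tfun_eSec, tfun_eSec, ← mul_assoc,
      Localization.mk_mul]
    have : (Localization.mk (g.1 ^ p * g.1 ^ q)
        (⟨g.1 ^ q, pow_not_mem_of_not_mem (hW x.2) q⟩ * ⟨g.1 ^ p, pow_not_mem_of_not_mem (hW x.2) p⟩) :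
        GrTwist.Loc 𝒜 x.1) = 1 := by
      rw [← Localization.mk_one, Localization.mk_eq_mk_iff, Localization.r_iff_exists]
      refine ⟨1, ?_⟩
      simp only [Submonoid.coe_one, Submonoid.coe_mul, one_mul, mul_one]
      ring
    rw [this, one_mul]

end Groth.Agent.Lib.Helper3.TwMul
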