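import Groth.Agent.Lib.Helper3.RelTensor
import Groth.Agent.Lib.Helper3.TwMul2
import Groth.Agent.Lib.Helper3.TrivLocal
import Groth.Agent.Lib.Helper29.RT1
/-!
# `O_P(n)|_U ⊗ O_P(-n)|_U ≅ O_U` on a relative Proj, over opens where `n` is a period
-/
universe u
set_option linter.unusedSectionVars false
open CategoryTheory CategoryTheory.Limits AlgebraicGeometry Opposite TopologicalSpace
open AlgebraicGeometry.Scheme.AffineZariskiSite
open scoped HomogeneousIdeal
open Groth.Agent.Lib.Helper29 Groth.Agent.Lib.Helper29.QCoh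

namespace Groth.Agent.Lib.Helper3.RelGlued
open RelProj Groth.Agent.Lib.Helper3 Groth.Agent.Lib.Helper3.GluedPairing
open Groth.Agent.Lib.Helper3.RelTilde (e comap_mem range_e e_mem_R)

section Gen
variable {X : Scheme.{u}}
open scoped TensorProduct

/-- Bijectivity on sections over an affine open of a morphism out of `M ⊗ L`, with `L` free on `e`. -/
theorem app_bijective_of_tensor_basis {M L Q : X.Modules} [M.IsQuasicoherent] [L.IsQuasicoherent]
    (μ : CohB1.tensorMod M L ⟶ Q) (W : X.Opens) (hW : IsAffineOpen W) (e : Γ(L, W))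
    (he : Function.Bijective (fun r : Γ(X, W) => r • e))
    (h : Function.Bijective (fun m : Γ(M, W) => μ.app W (tmulSec M L m e))) :
    Function.Bijective (μ.app W) := by
  have h1 : Function.Bijective
      (fun m : Γ(M, W) => tensorSectionsEquiv M L hW (m ⊗ₜ[Γ(X, W)] e)) :=
    (tensorSectionsEquiv M L hW).bijective.comp (tmul_bijective_of_basis e he)
  have h2 : (fun m : Γ(M, W) => μ.app W (tmulSec M L m e)) =
      (fun t => μ.app W t) ∘
        (fun m : Γ(M, W) => tensorSectionsEquiv M L hW (m ⊗ₜ[Γ(X, W)] e)) := rfl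
  rw [h2] at h
  exact (Function.Bijective.of_comp_iff _ h1).mp h

end Gen

variable {Y P : Scheme.{u}} {𝒮 : QCGrAlg Y} (p : P ⟶ Y)
  (chart : ∀ (U : Y.Opens) (hU : IsAffineOpen U), (((p ⁻¹ᵁ U : P.Opens) : Scheme.{u}) ≅ Proj (𝒮.deg U hU)))
  (hP : IsRelProj 𝒮 p chart)

section Twist
variable (m k : ℤ)
  {F : P.Modules}
  {lam : ∀ (U : Y.Opens) (hU : IsAffineOpen U),
      F ⟶ (Scheme.Modules.pushforward (emb p chart U hU)).obj (GrTwist.twist (𝒮.deg U hU) m)}
  {L : P.Modules}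
  {lamL : ∀ (U : Y.Opens) (hU : IsAffineOpen U),
      L ⟶ (Scheme.Modules.pushforward (emb p chart U hU)).obj (GrTwist.twist (𝒮.deg U hU) k)}
  {F' : P.Modules}
  {lam' : ∀ (U : Y.Opens) (hU : IsAffineOpen U),
      F' ⟶ (Scheme.Modules.pushforward (emb p chart U hU)).obj
        (GrTwist.twist (𝒮.deg U hU) (m + k))}

/-- Multiplication by the trivialising section of `O_P(k)` over a standard open is bijective on the
sections of `O_P(m)` over every smaller open. -/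
theorem pairing_triv_bijective
    (hF : IsRelTwist 𝒮 p chart m F lam) (hL : IsRelTwist 𝒮 p chart k L lamL)
    (hF' : IsRelTwist 𝒮 p chart (m + k) F' lam') (β : Pairing F L F')
    (hβ : ∀ (U : Y.AffineZariskiSite) (W : P.Opens) (σ : Γ(F, W)) (a : Γ(L, W)),
      (lam' U.1 U.2).app W (β.b W σ a) =
        tb p chart m k U W ((lam U.1 U.2).app W σ) ((lamL U.1 U.2).app W a))
    {d : ℕ} (V : Y.AffineZariskiSite) (g : 𝒮.deg V.1 V.2 d) (a b : ℕ) (h : k = ((a : ℤ) - b) * d)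
    (s : Γ(L, stdOpen p chart V g))
    (hs : (lamL V.1 V.2).app (stdOpen p chart V g) s =
        TwistTriv.eSec k g a b h (e p chart V ⁻¹ᵁ stdOpen p chart V g)
          (le_of_eq (preimage_stdOpen p chart V g)))
    (W : P.Opens) (hW : W ≤ stdOpen p chart V g) :
    Function.Bijective (fun σ : Γ(F, W) => β.b W σ (QCoh.res L hW s)) := by
  have hWle : W ≤ p ⁻¹ᵁ V.1 := hW.trans (stdOpen_le p chart V g)
  have hb1 := hF.bijective V.1 V.2 W hWle
  have hb3 := hF'.bijective V.1 V.2 W hWle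
  have hle : e p chart V ⁻¹ᵁ W ≤ Proj.basicOpen (𝒮.deg V.1 V.2) g.1 :=
    ((e p chart V).preimage_mono hW).trans (le_of_eq (preimage_stdOpen p chart V g))
  have hb2 : Function.Bijective (fun σ : Γ(RelTwist.G p chart m V, W) =>
      tb p chart m k V W σ (TwistTriv.eSec k g a b h (e p chart V ⁻¹ᵁ W) hle)) :=
    TwMul.tmulFun_eSec_bijective_of_le (𝒮.deg V.1 V.2) m k g a b h _ hle
  have hres : (lamL V.1 V.2).app W (QCoh.res L hW s) =
      TwistTriv.eSec k g a b h (e p chart V ⁻¹ᵁ W) hle := by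
    rw [QCoh.app_res, hs]
    rfl
  have hcomp : ((lam' V.1 V.2).app W ∘
      (fun σ : Γ(F, W) => β.b W σ (QCoh.res L hW s)) : _ → _) =
      (fun σ : Γ(RelTwist.G p chart m V, W) =>
        tb p chart m k V W σ (TwistTriv.eSec k g a b h (e p chart V ⁻¹ᵁ W) hle)) ∘
        (lam V.1 V.2).app W := by
    funext σ
    change (lam' V.1 V.2).app _ (β.b _ σ (QCoh.res L hW s)) = _
    rw [hβ V, hres]
    rfl
  refine (Function.Bijective.of_comp_iff' hb3 _).mp ?_
  rw [hcomp]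
  exact hb2.comp hb1

end Twist

end Groth.Agent.Lib.Helper3.RelGlued

namespace Groth.Agent.Lib.Helper3.RelGlued
open RelProj Groth.Agent.Lib.Helper3 Groth.Agent.Lib.Helper3.GluedPairing
open Groth.Agent.Lib.Helper3.RelTilde (e comap_mem range_e e_mem_R)

variable {Y P : Scheme.{u}} {𝒮 : QCGrAlg Y} (p : P ⟶ Y)
  (chart : ∀ (U : Y.Opens) (hU : IsAffineOpen U), (((p ⁻¹ᵁ U : P.Opens) : Scheme.{u}) ≅ Proj (𝒮.deg U hU)))
  (hP : IsRelProj 𝒮 p chart)

section Twist
variable (m k : ℤ)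
  {F : P.Modules}
  {lam : ∀ (U : Y.Opens) (hU : IsAffineOpen U),
      F ⟶ (Scheme.Modules.pushforward (emb p chart U hU)).obj (GrTwist.twist (𝒮.deg U hU) m)}
  {L : P.Modules}
  {lamL : ∀ (U : Y.Opens) (hU : IsAffineOpen U),
      L ⟶ (Scheme.Modules.pushforward (emb p chart U hU)).obj (GrTwist.twist (𝒮.deg U hU) k)}
  {F' : P.Modules}
  {lam' : ∀ (U : Y.Opens) (hU : IsAffineOpen U),
      F' ⟶ (Scheme.Modules.pushforward (emb p chart U hU)).obj
        (GrTwist.twist (𝒮.deg U hU) (m + k))}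

include hP in
/-- Over an open covered by standard opens on which `O_P(k)` is trivial,
`O_P(m) ⊗ O_P(k) ≅ O_P(m + k)`. -/
theorem nonempty_restrict_tensor_iso (U : P.Opens)
    (hcov : ∀ x ∈ U, ∃ (V : Y.AffineZariskiSite) (d : ℕ) (g : 𝒮.deg V.1 V.2 d) (a b : ℕ),
      k = ((a : ℤ) - b) * d ∧ x ∈ stdOpen p chart V g)
    (hF : IsRelTwist 𝒮 p chart m F lam) (hL : IsRelTwist 𝒮 p chart k L lamL)
    (hF' : IsRelTwist 𝒮 p chart (m + k) F' lam') :
    Nonempty (CohB1.tensorMod (F.restrict U.ι) (L.restrict U.ι) ≅ F'.restrict U.ι) := by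
  have := isQuasicoherent_relTwist p chart m hF
  have := isQuasicoherent_relTwist p chart k hL
  obtain ⟨β, hβ⟩ := exists_pairing (glued_relTwist p chart hP m hF)
    (glued_relTwist p chart hP k hL) (glued_relTwist p chart hP (m + k) hF')
    (twistPairing p chart hP m k)
  have hbij : ∀ W : P.Opens, W ≤ U → Function.Bijective ((tensorDesc β).app W) := by
    intro W hW
    refine bijective_of_forall_basis (M := CohB1.tensorMod F L) (N := F') (U := U)
      (fun W => IsAffineOpen W ∧ ∃ (V : Y.AffineZariskiSite) (d : ℕ) (g : 𝒮.deg V.1 V.2 d)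
        (a b : ℕ), k = ((a : ℤ) - b) * d ∧ W ≤ stdOpen p chart V g)
      ?_ (fun W _ => (appₗ (tensorDesc β) W).toAddMonoidHom)
      (fun W W' h h' t => app_res (tensorDesc β) h' t) ?_ W hW
    · intro W hW x hx
      obtain ⟨V, d, g, a, b, hk, hxg⟩ := hcov x (hW hx)
      obtain ⟨W', hW', hxW', hW'le⟩ := exists_isAffineOpen_mem_and_subset (x := x)
        (U := W ⊓ stdOpen p chart V g) ⟨hx, hxg⟩
      exact ⟨W', hW'le.trans inf_le_left, hxW', hW', V, d, g, a, b, hk, hW'le.trans inf_le_right⟩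
    · rintro W hW ⟨hWaff, V, d, g, a, b, hk, hWg⟩
      obtain ⟨s, hs1, hs2⟩ := exists_triv_section p chart k hL V g a b hk
      change Function.Bijective ((tensorDesc β).app W)
      refine app_bijective_of_tensor_basis (tensorDesc β) W hWaff (QCoh.res L hWg s)
        (hs1.restrict hWg).bijective ?_
      simp only [tensorDesc_tmulSec]
      exact pairing_triv_bijective p chart m k hF hL hF' β (fun U W σ a => hβ U W σ a) V g a b hk s
        hs2 W hWg
  have hiso : IsIso ((Scheme.Modules.restrictFunctor U.ι).map (tensorDesc β)) :=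
    (isIso_restrict_iff (tensorDesc β) U).mpr hbij
  exact ⟨(restrictTensorIso U F L).symm ≪≫
    asIso ((Scheme.Modules.restrictFunctor U.ι).map (tensorDesc β))⟩

end Twist

end Groth.Agent.Lib.Helper3.RelGlued

namespace Groth.Agent.Lib.Helper3.RelGlued
open RelProj Groth.Agent.Lib.Helper3 Groth.Agent.Lib.Helper3.GluedPairing
open Groth.Agent.Lib.Helper3.RelTilde (e comap_mem range_e e_mem_R ψ)

variable {Y P : Scheme.{u}} {𝒮 : QCGrAlg Y} (p : P ⟶ Y)
  (chart : ∀ (U : Y.Opens) (hU : IsAffineOpen U), (((p ⁻¹ᵁ U : P.Opens) : Scheme.{u}) ≅ Proj (𝒮.deg U hU)))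
  (hP : IsRelProj 𝒮 p chart)

section Zero
variable {L0 : P.Modules}
  {lam0 : ∀ (U : Y.Opens) (hU : IsAffineOpen U),
      L0 ⟶ (Scheme.Modules.pushforward (emb p chart U hU)).obj (GrTwist.twist (𝒮.deg U hU) 0)}

/-- the unit of degree zero -/
noncomputable def one0 (V : Y.AffineZariskiSite) : 𝒮.deg V.1 V.2 0 :=
  ⟨1, SetLike.GradedOne.one_mem⟩

theorem h00 : (0 : ℤ) = (((0 : ℕ) : ℤ) - (0 : ℕ)) * (0 : ℕ) := by simp

theorem le_basicOpen_one (V : Y.AffineZariskiSite) (O : (Proj (𝒮.deg V.1 V.2)).Opens) :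
    O ≤ Proj.basicOpen (𝒮.deg V.1 V.2) (one0 V).1 := by
  intro y _
  exact TildeQC.one_not_mem y

/-- the unit section of `O(0)` on a chart -/
noncomputable def τ0 (V : Y.AffineZariskiSite) (W : P.Opens) : Γ(RelTwist.G p chart 0 V, W) :=
  TwistTriv.eSec 0 (one0 V) 0 0 h00 (e p chart V ⁻¹ᵁ W) (le_basicOpen_one V _)

include hP in
theorem τ0_compat {U V : Y.AffineZariskiSite} (h : V ≤ U) (W : P.Opens) :
    (RelTwist.κ p chart hP 0 h).app W (τ0 p chart U W) = τ0 p chart V W := by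
  apply RelTwist.sec_ext p chart 0
  intro y hy
  rw [RelTwist.κ_val]
  change GrTwist.locMap (ψ 𝒮 h) _ y (Localization.mk ((1 : 𝒮.presheaf.obj (op U.1)) ^ 0) ⟨1 ^ 0, _⟩) =
    Localization.mk ((1 : 𝒮.presheaf.obj (op V.1)) ^ 0) ⟨1 ^ 0, _⟩
  rw [GrTwist.locMap_mk]
  apply RelTwist.mk_congr
  · rw [pow_zero, pow_zero, map_one]
  · change (ψ 𝒮 h) (1 ^ 0) = 1 ^ 0
    rw [pow_zero, pow_zero, map_one]

include hP in
/-- `O_P(0)` restricted to any open is trivial. -/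
theorem nonempty_iso_restrict_zero (hL0 : IsRelTwist 𝒮 p chart 0 L0 lam0) (U : P.Opens) :
    Nonempty (unitM (U : Scheme.{u}) ≅ L0.restrict U.ι) := by
  obtain ⟨s, hs⟩ := RelTwist.exists_section p chart hP 0 hL0 ⊤ (fun V => τ0 p chart V ⊤)
    (fun U V h => τ0_compat p chart hP h ⊤)
  apply TrivLocal.nonempty_iso_restrict_of_local_isTriv (QCoh.res L0 (le_top : U ≤ ⊤) s)
  intro x hx
  obtain ⟨V, hV, hxV, -⟩ := exists_isAffineOpen_mem_and_subset (x := p.base x) (U := ⊤) trivial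
  obtain ⟨y, hy⟩ := RelTilde.exists_of_mem_R p chart ⟨V, hV⟩ x hxV
  obtain ⟨sV, hsV1, hsV2⟩ := exists_triv_section p chart 0 hL0 ⟨V, hV⟩ (one0 ⟨V, hV⟩) 0 0 h00
  have hxstd : x ∈ stdOpen p chart ⟨V, hV⟩ (one0 ⟨V, hV⟩) := by
    rw [← hy, mem_stdOpen]
    exact TildeQC.one_not_mem y
  have hsv : QCoh.res L0 (le_top : stdOpen p chart ⟨V, hV⟩ (one0 ⟨V, hV⟩) ≤ ⊤) s = sV := by
    apply (hL0.bijective V hV _ (stdOpen_le p chart ⟨V, hV⟩ (one0 ⟨V, hV⟩))).1
    rw [QCoh.app_res, hs ⟨V, hV⟩, hsV2]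
    rfl
  refine ⟨stdOpen p chart ⟨V, hV⟩ (one0 ⟨V, hV⟩) ⊓ U, inf_le_right, ⟨hxstd, hx⟩, ?_⟩
  have h1 := hsV1.restrict (inf_le_left : stdOpen p chart ⟨V, hV⟩ (one0 ⟨V, hV⟩) ⊓ U ≤ _)
  rw [← hsv, res_res] at h1
  rw [res_res]
  exact h1

end Zero

end Groth.Agent.Lib.Helper3.RelGlued

namespace Groth.Agent.Lib.Helper3.RelGlued
open RelProj Groth.Agent.Lib.Helper3 Groth.Agent.Lib.Helper3.GluedPairing
open Groth.Agent.Lib.Helper3.RelTilde (e comap_mem range_e e_mem_R ψ)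

variable {Y P : Scheme.{u}} {𝒮 : QCGrAlg Y} (p : P ⟶ Y)
  (chart : ∀ (U : Y.Opens) (hU : IsAffineOpen U), (((p ⁻¹ᵁ U : P.Opens) : Scheme.{u}) ≅ Proj (𝒮.deg U hU)))
  (hP : IsRelProj 𝒮 p chart)

include hP in
theorem exists_relTwist_eq (j : ℤ) (hj : j = 0) :
    ∃ (L0 : P.Modules) (lam0 : ∀ (U : Y.Opens) (hU : IsAffineOpen U),
      L0 ⟶ (Scheme.Modules.pushforward (emb p chart U hU)).obj (GrTwist.twist (𝒮.deg U hU) j)),
      IsRelTwist 𝒮 p chart j L0 lam0 ∧ ∀ U : P.Opens, Nonempty (unitM (U : Scheme.{u}) ≅ L0.restrict U.ι) := by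
  subst hj
  exact ⟨_, _, RelTwist.isRelTwist p chart hP 0, fun U =>
    nonempty_iso_restrict_zero p chart hP (RelTwist.isRelTwist p chart hP 0) U⟩

include hP in
/-- `O_P(n)|_U ⊗ O_P(-n)|_U ≅ O_U` over an open covered by standard opens `D_+(g)` with `deg g ∣ n`. -/
theorem nonempty_tensor_neg_iso (n : ℤ) {L L' : P.Modules}
    {lam : ∀ (U : Y.Opens) (hU : IsAffineOpen U),
      L ⟶ (Scheme.Modules.pushforward (emb p chart U hU)).obj (GrTwist.twist (𝒮.deg U hU) n)}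
    {lam' : ∀ (U : Y.Opens) (hU : IsAffineOpen U),
      L' ⟶ (Scheme.Modules.pushforward (emb p chart U hU)).obj (GrTwist.twist (𝒮.deg U hU) (-n))}
    (U : P.Opens)
    (hcov : ∀ x ∈ U, ∃ (V : Y.AffineZariskiSite) (d : ℕ) (g : 𝒮.deg V.1 V.2 d) (c : ℤ),
      n = c * d ∧ x ∈ stdOpen p chart V g)
    (hL : IsRelTwist 𝒮 p chart n L lam) (hL' : IsRelTwist 𝒮 p chart (-n) L' lam') :
    Nonempty (CohB1.tensorMod (L.restrict U.ι) (L'.restrict U.ι) ≅ unitM (U : Scheme.{u})) := by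
  obtain ⟨L0, lam0, hL0, hU0⟩ := exists_relTwist_eq p chart hP (n + -n) (by ring)
  obtain ⟨ε⟩ := hU0 U
  have hcov' : ∀ x ∈ U, ∃ (V : Y.AffineZariskiSite) (d : ℕ) (g : 𝒮.deg V.1 V.2 d) (a b : ℕ),
      -n = ((a : ℤ) - b) * d ∧ x ∈ stdOpen p chart V g := by
    intro x hx
    obtain ⟨V, d, g, c, hc, hxg⟩ := hcov x hx
    refine ⟨V, d, g, (-c).toNat, c.toNat, ?_, hxg⟩
    have h1 : (((-c).toNat : ℤ) - (c.toNat : ℤ)) = -c := by
      have := Int.toNat_sub_toNat_neg (-c)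
      rw [neg_neg] at this
      exact this
    rw [h1, hc]
    ring
  obtain ⟨φ⟩ := nonempty_restrict_tensor_iso p chart hP n (-n) U hcov' hL hL' hL0
  exact ⟨φ ≪≫ ε.symm⟩

end Groth.Agent.Lib.Helper3.RelGlued

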