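import Groth.Agent.Lib.Helper3.RelTildeK
/-!
# The module `(ℳ(n))~` on a relative Proj, as a limit of the direct images of the chart modules
-/
universe u
set_option linter.unusedSectionVars false
set_option Elab.async false
open CategoryTheory CategoryTheory.Limits AlgebraicGeometry Opposite TopologicalSpace
open AlgebraicGeometry.Scheme.AffineZariskiSite
open scoped HomogeneousIdeal
open Groth.Agent.Lib.Helper29

namespace Groth.Agent.Lib.Helper3.RelTilde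
open RelProj Groth.Agent.Lib.Helper3

variable {Y P : Scheme.{u}} {𝒮 : QCGrAlg Y} (p : P ⟶ Y)
  (chart : ∀ (U : Y.Opens) (hU : IsAffineOpen U), (((p ⁻¹ᵁ U : P.Opens) : Scheme.{u}) ≅ Proj (𝒮.deg U hU)))
  (hP : IsRelProj 𝒮 p chart) (ℳ : GrModule 𝒮) (n : ℤ)



/-- The objects of the system. -/
noncomputable def Gop (U : (Y.AffineZariskiSite)ᵒᵖ) : P.Modules := G p chart ℳ n U.unop

/-- The morphisms of the system. -/
noncomputable def κop {U V : (Y.AffineZariskiSite)ᵒᵖ} (f : U ⟶ V) :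
    Gop p chart ℳ n U ⟶ Gop p chart ℳ n V := κ p chart hP ℳ n f.unop.le

theorem κop_def {U V : (Y.AffineZariskiSite)ᵒᵖ} (f : U ⟶ V) :
    κop p chart hP ℳ n f = κ p chart hP ℳ n f.unop.le := rfl

theorem κop_id (U : (Y.AffineZariskiSite)ᵒᵖ) : κop p chart hP ℳ n (𝟙 U) = 𝟙 (Gop p chart ℳ n U) :=
  κ_self p chart hP ℳ n U.unop

theorem κop_comp {U V W : (Y.AffineZariskiSite)ᵒᵖ} (f : U ⟶ V) (g : V ⟶ W) :
    κop p chart hP ℳ n (f ≫ g) = κop p chart hP ℳ n f ≫ κop p chart hP ℳ n g :=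
  (κ_comp p chart hP ℳ n f.unop.le g.unop.le).symm.trans
    (congrArg₂ (fun (a : G p chart ℳ n U.unop ⟶ G p chart ℳ n V.unop)
      (b : G p chart ℳ n V.unop ⟶ G p chart ℳ n W.unop) => a ≫ b)
      (κop_def p chart hP ℳ n f) (κop_def p chart hP ℳ n g)).symm

/-- The system of direct images of the chart modules. -/
noncomputable def D : (Y.AffineZariskiSite)ᵒᵖ ⥤ P.Modules :=
  @CategoryTheory.Functor.mk _ _ _ _ (Gop p chart ℳ n) (@κop _ _ _ p chart hP ℳ n)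
    (κop_id p chart hP ℳ n) (@κop_comp _ _ _ p chart hP ℳ n)

theorem D_map_le {U V : Y.AffineZariskiSite} (h : V ≤ U) :
    (D p chart hP ℳ n).map (homOfLE h).op = κ p chart hP ℳ n h := rfl

theorem D_map_val {U V : Y.AffineZariskiSite} (h : V ≤ U) (W : P.Opens)
    (s : Γ((D p chart hP ℳ n).obj (op U), W))
    (y : ProjectiveSpectrum (𝒮.deg V.1 V.2)) (hy : (e p chart V).base y ∈ W) :
    GrMod.val (V := e p chart V ⁻¹ᵁ W) (((D p chart hP ℳ n).map (homOfLE h).op).app W s) ⟨y, hy⟩ =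
      GrMod.locModMap (ψ 𝒮 h) (RelProjExist.irr 𝒮 h) (vv ℳ h) y
        (GrMod.val (V := e p chart U ⁻¹ᵁ W) s ⟨_, comap_mem p chart hP h W y hy⟩) :=
  (congrArg (fun m : (D p chart hP ℳ n).obj (op U) ⟶ (D p chart hP ℳ n).obj (op V) =>
      GrMod.val (V := e p chart V ⁻¹ᵁ W) (m.app W s) ⟨y, hy⟩) (D_map_le p chart hP ℳ n h)).trans
    (κ_val p chart hP ℳ n h W s y hy)

theorem supp' (U : Y.AffineZariskiSite) (W : P.Opens) :
    Function.Bijective (QCoh.res (G p chart ℳ n U) (inf_le_left : W ⊓ R p U ≤ W)) := by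
  have e1 : e p chart U ⁻¹ᵁ (W ⊓ R p U) = e p chart U ⁻¹ᵁ W := by
    ext y
    exact ⟨fun h => h.1, fun h => ⟨h, e_mem_R p chart U y⟩⟩
  exact res_bijective_of_eq (T ℳ n U) ((e p chart U).preimage_mono inf_le_left) e1

theorem bij_basic (hℳ : Coh.IsQCoh ((AMod.toOS 𝒮.toQCAlg).obj ℳ.mod)) (U : Y.AffineZariskiSite)
    (f : Γ(Y, U.1)) (h : U.basicOpen f ≤ U)
    (W : P.Opens) (hW : W ≤ R p (U.basicOpen f)) :
    Function.Bijective (ModGlue.tr (D p chart hP ℳ n) h W) := by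
  have hOO' : (e p chart (U.basicOpen f) ⁻¹ᵁ W : (Proj (𝒮.deg (U.basicOpen f).1 (U.basicOpen f).2)).Opens).1 ⊆
      ProjectiveSpectrum.comap (ψ 𝒮 h) (RelProjExist.irr 𝒮 h) ⁻¹'
        (e p chart U ⁻¹ᵁ W : (Proj (𝒮.deg U.1 U.2)).Opens).1 :=
    fun y hy => comap_mem p chart hP h W y hy
  have hpts : ∀ x ∈ (e p chart U ⁻¹ᵁ W : (Proj (𝒮.deg U.1 U.2)).Opens),
      ∃ y ∈ (e p chart (U.basicOpen f) ⁻¹ᵁ W : (Proj (𝒮.deg (U.basicOpen f).1 (U.basicOpen f).2)).Opens),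
        ProjectiveSpectrum.comap (ψ 𝒮 h) (RelProjExist.irr 𝒮 h) y = x :=
    fun x hx => exists_comap_eq p chart hP h W hW x hx
  have tr_eq : ModGlue.tr (D p chart hP ℳ n) h W =
        GrMod.comapApp (ψ 𝒮 h) (RelProjExist.irr 𝒮 h) (vv ℳ h) (hvv ℳ h) n
          (e p chart U ⁻¹ᵁ W) (e p chart (U.basicOpen f) ⁻¹ᵁ W) hOO' := by
    funext s
    exact sec_ext p chart ℳ n (U := U.basicOpen f) _ _
      (fun y hy => D_map_val p chart hP ℳ n h W s y hy)
  rw [tr_eq]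
  have hA : ProjLoc.IsLocAt (ψ 𝒮 h) ((𝒮.str.app (op U.1)).hom f) := RelProjExist.isLocAt_res 𝒮 U.1 U.2 f
  have hM : TildeLoc.IsLocModAt (ψ 𝒮 h) (vv ℳ h) ((𝒮.str.app (op U.1)).hom f) :=
    isLocModAt_res ℳ hℳ U.1 U.2 f
  have hc : (𝒮.str.app (op U.1)).hom f ∈ 𝒮.deg U.1 U.2 0 := 𝒮.str_mem U.1 U.2 f
  have hoi : IsOpenImmersion (φ 𝒮 h) := hA.isOpenImmersion_map hc (RelProjExist.irr 𝒮 h)
  have hinj : Function.Injective (ProjectiveSpectrum.comap (ψ 𝒮 h) (RelProjExist.irr 𝒮 h)) :=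
    (φ 𝒮 h).isOpenEmbedding.injective
  have hopen : IsOpenMap (ProjectiveSpectrum.comap (ψ 𝒮 h) (RelProjExist.irr 𝒮 h)) :=
    (φ 𝒮 h).isOpenEmbedding.isOpenMap
  constructor
  · exact TildeLoc.comapApp_injective (RelProjExist.irr 𝒮 h) (hvv ℳ h) n _ _ hOO' hA hM hpts
  · exact TildeLoc.comapApp_surjective (RelProjExist.irr 𝒮 h) (hvv ℳ h) hc n _ _ hOO' hA hM hinj hopen hpts


theorem bij' (hℳ : Coh.IsQCoh ((AMod.toOS 𝒮.toQCAlg).obj ℳ.mod)) {U V : Y.AffineZariskiSite} (h : V ≤ U)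
    (W : P.Opens) (hW : W ≤ R p V) : Function.Bijective (ModGlue.tr (D p chart hP ℳ n) h W) := by
  obtain ⟨f, hf⟩ := id h
  obtain rfl : U.basicOpen f = V := Subtype.ext hf
  exact bij_basic p chart hP ℳ n hℳ U f h W hW

theorem hyp (hℳ : Coh.IsQCoh ((AMod.toOS 𝒮.toQCAlg).obj ℳ.mod)) :
    ModGlue.Hyp (D p chart hP ℳ n) (R p) where
  mono := fun {U V} h => p.preimage_mono (toOpens_mono h)
  dir := by
    intro U U' w hw hw'
    obtain ⟨f, g, hfg, hwf⟩ := exists_basicOpen_le_affine_inter U.2 U'.2 (p.base w) ⟨hw, hw'⟩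
    exact ⟨U.basicOpen f, U.basicOpen_le f, ⟨g, hfg.symm⟩, hwf⟩
  supp := supp' p chart ℳ n
  bij := fun h W hW => bij' p chart hP ℳ n hℳ h W hW

/-- The module `(ℳ(n))~` on the relative Proj. -/
noncomputable def relTilde : P.Modules := limit (D p chart hP ℳ n)

/-- Its chartwise identifications. -/
noncomputable def lam (U : Y.Opens) (hU : IsAffineOpen U) :
    relTilde p chart hP ℳ n ⟶ (Scheme.Modules.pushforward (emb p chart U hU)).obj
      (GrMod.tilde (𝒮.deg U hU) (ℳ.deg U hU) n) :=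
  limit.π (D p chart hP ℳ n) (op ⟨U, hU⟩)

theorem lam_eq (U : Y.AffineZariskiSite) :
    lam p chart hP ℳ n U.1 U.2 = limit.π (D p chart hP ℳ n) (op U) := rfl

theorem π_map_app {U V : Y.AffineZariskiSite} (h : V ≤ U) (W : P.Opens)
    (s : Γ(limit (D p chart hP ℳ n), W)) :
    (limit.π (D p chart hP ℳ n) (op V)).app W s =
      ((D p chart hP ℳ n).map (homOfLE h).op).app W ((limit.π (D p chart hP ℳ n) (op U)).app W s) := by
  rw [← limit.w (D p chart hP ℳ n) (homOfLE h).op, Scheme.Modules.Hom.comp_app]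
  rfl

theorem isRelTilde (hℳ : Coh.IsQCoh ((AMod.toOS 𝒮.toQCAlg).obj ℳ.mod)) :
    IsRelTilde 𝒮 p chart ℳ n (relTilde p chart hP ℳ n) (lam p chart hP ℳ n) where
  bijective U hU W hW :=
    ModGlue.bijective_of_isLimit (hyp p chart hP ℳ n hℳ) _ (limit.isLimit _) ⟨U, hU⟩ W hW
  compat U hU r W s y hy hy' := by
    let U' : Y.AffineZariskiSite := ⟨U, hU⟩
    have h : U'.basicOpen r ≤ U' := U'.basicOpen_le r
    exact (congrArg (fun t => GrMod.val (V := e p chart (U'.basicOpen r) ⁻¹ᵁ W) t ⟨y, hy⟩)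
      (π_map_app p chart hP ℳ n h W s)).trans
      (D_map_val p chart hP ℳ n h W _ y hy)

end Groth.Agent.Lib.Helper3.RelTilde
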