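import Groth.Prelude.Def_RelProj3
/-!
# Local exactness properties of `M ↦ M(n)~` on `Proj` (ring level, gradings by additive subgroups)
-/
universe u
set_option linter.unusedSectionVars false
open CategoryTheory CategoryTheory.Limits AlgebraicGeometry Opposite TopologicalSpace
open DirectSum
open scoped HomogeneousIdeal

namespace Groth.Agent.Lib.Helper3.TildeExact

variable {A σ : Type u} [CommRing A] [SetLike σ A] [AddSubgroupClass σ A] {𝒜 : ℕ → σ} [GradedRing 𝒜]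
variable {M τ : Type u} [AddCommGroup M] [Module A M] [SetLike τ M] [AddSubgroupClass τ M] {ℳ : ℕ → τ}
  [SetLike.GradedSMul 𝒜 ℳ] [DirectSum.Decomposition ℳ]
variable {M₂ τ₂ : Type u} [AddCommGroup M₂] [Module A M₂] [SetLike τ₂ M₂] [AddSubgroupClass τ₂ M₂] {ℳ₂ : ℕ → τ₂}
  [SetLike.GradedSMul 𝒜 ℳ₂] [DirectSum.Decomposition ℳ₂]
variable {M₃ τ₃ : Type u} [AddCommGroup M₃] [Module A M₃] [SetLike τ₃ M₃] [AddSubgroupClass τ₃ M₃] {ℳ₃ : ℕ → τ₃}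
  [SetLike.GradedSMul 𝒜 ℳ₃] [DirectSum.Decomposition ℳ₃]

omit [DirectSum.Decomposition ℳ] in
/-- The section given by one fraction. -/
def fracSect (n : ℤ) {i j : ℕ} (hij : (i : ℤ) = j + n) (m : ℳ i) (g : 𝒜 j)
    (O : Opens (ProjectiveSpectrum.top 𝒜)) (hO : ∀ y : O, (g : A) ∉ y.1.asHomogeneousIdeal) :
    GrMod.sect 𝒜 ℳ n (op O) :=
  ⟨fun y => ⟨LocalizedModule.mk (m : M) ⟨(g : A), hO y⟩,
      Submodule.subset_span ⟨i, j, m, g, hO y, hij, rfl⟩⟩,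
    fun y => ⟨O, y.2, 𝟙 O, i, j, m, g, hO, Or.inl hij, fun _ => rfl⟩⟩

omit [DirectSum.Decomposition ℳ] in
theorem fracSect_val (n : ℤ) {i j : ℕ} (hij : (i : ℤ) = j + n) (m : ℳ i) (g : 𝒜 j)
    (O : Opens (ProjectiveSpectrum.top 𝒜)) (hO : ∀ y : O, (g : A) ∉ y.1.asHomogeneousIdeal) (y : O) :
    ((fracSect n hij m g O hO).1 y).1 = LocalizedModule.mk (m : M) ⟨(g : A), hO y⟩ := rfl

theorem exists_component_notMem (x : ProjectiveSpectrum 𝒜) (c : A) (hc : c ∉ x.asHomogeneousIdeal) :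
    ∃ k : ℕ, ((decompose 𝒜 c k : 𝒜 k) : A) ∉ x.asHomogeneousIdeal := by
  classical
  by_contra hcon
  push Not at hcon
  apply hc
  rw [← DirectSum.sum_support_decompose 𝒜 c]
  exact Ideal.sum_mem _ fun i _ => hcon i

theorem exists_pos_notMem (x : ProjectiveSpectrum 𝒜) :
    ∃ (d : ℕ) (_ : 0 < d) (g : A) (_ : g ∈ 𝒜 d), g ∉ x.asHomogeneousIdeal := by
  by_contra hcon
  push Not at hcon
  apply x.not_irrelevant_le
  rw [HomogeneousIdeal.irrelevant_le]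
  intro i hi g hg
  exact hcon i hi g hg

/-- If `c • m = 0` with `m` homogeneous, then every homogeneous component of `c` kills `m`. -/
theorem component_smul_eq_zero {i : ℕ} {m : M} (hm : m ∈ ℳ i) {c : A} (hc : c • m = 0) (k : ℕ) :
    ((decompose 𝒜 c k : 𝒜 k) : A) • m = 0 := by
  classical
  have h1 : c • m = ∑ k' ∈ (decompose 𝒜 c).support, ((decompose 𝒜 c k' : 𝒜 k') : A) • m := by
    conv_lhs => rw [← DirectSum.sum_support_decompose 𝒜 c]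
    rw [Finset.sum_smul]
  have hmem : ∀ k' : ℕ, ((decompose 𝒜 c k' : 𝒜 k') : A) • m ∈ ℳ (k' + i) := fun k' =>
    SetLike.GradedSMul.smul_mem (A := 𝒜) (B := ℳ) (SetLike.coe_mem (decompose 𝒜 c k')) hm
  have h2 : ((decompose ℳ (c • m) (k + i) : ℳ (k + i)) : M) = ((decompose 𝒜 c k : 𝒜 k) : A) • m := by
    rw [h1, decompose_sum, DFinsupp.finsetSum_apply, AddSubmonoidClass.coe_finsetSum]
    by_cases hk : k ∈ (decompose 𝒜 c).support
    · rw [Finset.sum_eq_single k]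
      · rw [decompose_of_mem_same ℳ (hmem k)]
      · intro k' _ hk'
        rw [decompose_of_mem_ne ℳ (hmem k') (by omega)]
      · intro h; exact absurd hk h
    · have h0 : ((decompose 𝒜 c k : 𝒜 k) : A) = 0 := by
        rw [DFinsupp.notMem_support_iff] at hk
        rw [hk]; rfl
      rw [h0, zero_smul, Finset.sum_eq_zero]
      intro k' hk'
      have hne : k' ≠ k := fun h => hk (h ▸ hk')
      rw [decompose_of_mem_ne ℳ (hmem k') (by omega)]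
  rw [← h2, hc, decompose_zero]
  rfl

omit [SetLike.GradedSMul 𝒜 ℳ] [SetLike.GradedSMul 𝒜 ℳ₂] in
/-- A degree-preserving additive map commutes with taking components. -/
theorem map_decompose (u : M →ₗ[A] M₂) (hu : ∀ (i : ℕ) (m : M), m ∈ ℳ i → u m ∈ ℳ₂ i) (m : M) (i : ℕ) :
    u ((decompose ℳ m i : ℳ i) : M) = ((decompose ℳ₂ (u m) i : ℳ₂ i) : M₂) := by
  classical
  conv_rhs => rw [← sum_support_decompose ℳ m, map_sum, decompose_sum, DFinsupp.finsetSum_apply,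
    AddSubmonoidClass.coe_finsetSum]
  by_cases hi : i ∈ (decompose ℳ m).support
  · rw [Finset.sum_eq_single i]
    · rw [decompose_of_mem_same ℳ₂ (hu i _ (SetLike.coe_mem _))]
    · intro j _ hji
      rw [decompose_of_mem_ne ℳ₂ (hu j _ (SetLike.coe_mem _)) hji]
    · intro h; exact absurd hi h
  · have h0 : ((decompose ℳ m i : ℳ i) : M) = 0 := by
      rw [DFinsupp.notMem_support_iff] at hi
      rw [hi]; rfl
    rw [h0, map_zero, Finset.sum_eq_zero]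
    intro j hj
    have hji : j ≠ i := fun h => hi (h ▸ hj)
    rw [decompose_of_mem_ne ℳ₂ (hu j _ (SetLike.coe_mem _)) hji]

omit [DirectSum.Decomposition ℳ] [SetLike.GradedSMul 𝒜 ℳ] [AddSubgroupClass τ M] [SetLike τ M] in
theorem exists_smul_eq_zero_of_mk_eq_zero (x : ProjectiveSpectrum 𝒜) (m : M)
    (f : x.asHomogeneousIdeal.toIdeal.primeCompl) (h : LocalizedModule.mk m f = 0) :
    ∃ c : A, c ∉ x.asHomogeneousIdeal ∧ c • m = 0 := by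
  rw [← LocalizedModule.zero_mk (1 : x.asHomogeneousIdeal.toIdeal.primeCompl), LocalizedModule.mk_eq] at h
  obtain ⟨c, hc⟩ := h
  refine ⟨c.1, c.2, ?_⟩
  rw [smul_zero, smul_zero, one_smul] at hc
  exact hc

/-- A homogeneous `c ∉ x` killing the homogeneous `m`, if `m / f = 0` at `x`. -/
theorem exists_homogeneous_smul_eq_zero (x : ProjectiveSpectrum 𝒜) {i : ℕ} (m : M) (hm : m ∈ ℳ i)
    (f : x.asHomogeneousIdeal.toIdeal.primeCompl) (h : LocalizedModule.mk m f = 0) :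
    ∃ (k : ℕ) (c : A), c ∈ 𝒜 k ∧ c ∉ x.asHomogeneousIdeal ∧ c • m = 0 := by
  obtain ⟨c, hcx, hc⟩ := exists_smul_eq_zero_of_mk_eq_zero x m f h
  obtain ⟨k, hk⟩ := exists_component_notMem x c hcx
  exact ⟨k, _, SetLike.coe_mem _, hk, component_smul_eq_zero hm hc k⟩

variable (u : M →ₗ[A] M₂) (hu : ∀ (i : ℕ) (m : M), m ∈ ℳ i → u m ∈ ℳ₂ i)
  (v : M₂ →ₗ[A] M₃) (hv : ∀ (i : ℕ) (m : M₂), m ∈ ℳ₂ i → v m ∈ ℳ₃ i)

include hu hv in
/-- Local exactness of `M₁(n)~ → M₂(n)~ → M₃(n)~`. -/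
theorem exists_local_lift (hex : Function.Exact u v) (n : ℤ) (O : Opens (ProjectiveSpectrum.top 𝒜))
    (s : GrMod.sect 𝒜 ℳ₂ n (op O)) (hs : ∀ y : O, GrMod.locMap v y.1 (s.1 y).1 = 0) (x : O) :
    ∃ (O' : Opens (ProjectiveSpectrum.top 𝒜)) (hO' : O' ≤ O), x.1 ∈ O' ∧
      ∃ t : GrMod.sect 𝒜 ℳ n (op O'),
        ∀ y : O', GrMod.locMap u y.1 (t.1 y).1 = (s.1 ⟨y.1, hO' y.2⟩).1 := by
  obtain ⟨V, hxV, iV, i, j, m, f, nin, cond, w⟩ := s.2 x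
  have hVO : V ≤ O := iV.le
  have w' : ∀ y : V, (s.1 ⟨y.1, hVO y.2⟩).1 = LocalizedModule.mk (m : M₂) ⟨(f : A), nin y⟩ := fun y => w y
  rcases cond with hij | hm0
  · have h0 := hs x
    rw [show x = ⟨x.1, hVO hxV⟩ from rfl, w' ⟨x.1, hxV⟩, GrMod.locMap_mk] at h0
    obtain ⟨k, c, hck, hcx, hc⟩ := exists_homogeneous_smul_eq_zero (ℳ := ℳ₃) x.1 (v m) (hv i m m.2) _ h0
    have hvc : v (c • (m : M₂)) = 0 := by rw [map_smul, hc]
    obtain ⟨m₁, hm₁⟩ := (hex (c • (m : M₂))).mp hvc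
    have hcm : c • (m : M₂) ∈ ℳ₂ (k + i) := SetLike.GradedSMul.smul_mem (A := 𝒜) (B := ℳ₂) hck m.2
    have hu' : u ((decompose ℳ m₁ (k + i) : ℳ (k + i)) : M) = c • (m : M₂) := by
      rw [map_decompose u hu, hm₁, decompose_of_mem_same ℳ₂ hcm]
    have hcf : c * (f : A) ∈ 𝒜 (k + j) := SetLike.mul_mem_graded hck f.2
    have hnin : ∀ y : (V ⊓ ProjectiveSpectrum.basicOpen 𝒜 c : Opens (ProjectiveSpectrum.top 𝒜)),
        c * (f : A) ∉ y.1.asHomogeneousIdeal := fun y h =>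
      (y.1.isPrime.mem_or_mem h).elim y.2.2 (nin ⟨y.1, y.2.1⟩)
    refine ⟨V ⊓ ProjectiveSpectrum.basicOpen 𝒜 c, inf_le_left.trans hVO, ⟨hxV, hcx⟩,
      fracSect n (by push_cast; omega) (decompose ℳ m₁ (k + i)) ⟨c * (f : A), hcf⟩ _ hnin, fun y => ?_⟩
    rw [fracSect_val, GrMod.locMap_mk, hu', w' ⟨y.1, y.2.1⟩]
    exact LocalizedModule.mk_cancel_common_left ⟨c, y.2.2⟩ ⟨(f : A), nin ⟨y.1, y.2.1⟩⟩ (m : M₂)
  · refine ⟨V, hVO, hxV, 0, fun y => ?_⟩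
    rw [w' y, hm0, LocalizedModule.zero_mk]
    exact map_zero _

omit [DirectSum.Decomposition ℳ] in
theorem pow_smul_mem {d : ℕ} {g : A} (hg : g ∈ 𝒜 d) (N : ℕ) {i : ℕ} {m : M} (hm : m ∈ ℳ i) :
    g ^ N • m ∈ ℳ (N * d + i) := by
  have h1 : g ^ N ∈ 𝒜 (N • d) := SetLike.pow_mem_graded N hg
  have h2 := SetLike.GradedSMul.smul_mem (A := 𝒜) (B := ℳ) h1 hm
  rwa [smul_eq_mul, vadd_eq_add] at h2

omit [DirectSum.Decomposition ℳ] [SetLike.GradedSMul 𝒜 ℳ] [AddSubgroupClass τ M] [SetLike τ M] in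
theorem mk_eq_zero_of_smul_eq_zero (x : ProjectiveSpectrum 𝒜) (m : M)
    (f : x.asHomogeneousIdeal.toIdeal.primeCompl) (c : A) (hc : c ∉ x.asHomogeneousIdeal) (h : c • m = 0) :
    LocalizedModule.mk m f = 0 := by
  rw [← LocalizedModule.zero_mk (1 : x.asHomogeneousIdeal.toIdeal.primeCompl), LocalizedModule.mk_eq]
  refine ⟨⟨c, hc⟩, ?_⟩
  rw [smul_zero, smul_zero, one_smul]
  exact h

omit [DirectSum.Decomposition ℳ] in
/-- Under (TN) all sections of `M(n)~` vanish. -/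
theorem eq_zero_of_TN (hTN : ∃ n₀ : ℕ, ∀ k : ℕ, n₀ ≤ k → ∀ m ∈ ℳ k, m = 0) (n : ℤ)
    (O : Opens (ProjectiveSpectrum.top 𝒜)) (s : GrMod.sect 𝒜 ℳ n (op O)) : s = 0 := by
  obtain ⟨n₀, hn₀⟩ := hTN
  refine Subtype.ext (funext fun x => Subtype.ext ?_)
  obtain ⟨V, hxV, iV, i, j, m, f, nin, -, w⟩ := s.2 x
  have w' : (s.1 x).1 = LocalizedModule.mk (m : M) ⟨(f : A), nin ⟨x.1, hxV⟩⟩ := w ⟨x.1, hxV⟩
  obtain ⟨d, hd, g, hg, hgx⟩ := exists_pos_notMem x.1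
  have h1 : g ^ n₀ • (m : M) = 0 :=
    hn₀ (n₀ * d + i) (by nlinarith) _ (pow_smul_mem hg n₀ m.2)
  rw [w']
  exact mk_eq_zero_of_smul_eq_zero x.1 _ _ (g ^ n₀) (fun h => hgx (x.1.isPrime.mem_of_pow_mem _ h)) h1

include hu in
omit [DirectSum.Decomposition ℳ] in
/-- A (TN)-injective map induces an injective map on sections. -/
theorem eq_zero_of_locMap_eq_zero
    (hinj : ∃ n₀ : ℕ, ∀ k : ℕ, n₀ ≤ k → ∀ m ∈ ℳ k, u m = 0 → m = 0) (n : ℤ)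
    (O : Opens (ProjectiveSpectrum.top 𝒜)) (s : GrMod.sect 𝒜 ℳ n (op O))
    (hs : ∀ y : O, GrMod.locMap u y.1 (s.1 y).1 = 0) : s = 0 := by
  obtain ⟨n₀, hn₀⟩ := hinj
  refine Subtype.ext (funext fun x => Subtype.ext ?_)
  obtain ⟨V, hxV, iV, i, j, m, f, nin, -, w⟩ := s.2 x
  have w' : (s.1 x).1 = LocalizedModule.mk (m : M) ⟨(f : A), nin ⟨x.1, hxV⟩⟩ := w ⟨x.1, hxV⟩
  have h0 := hs x
  rw [w', GrMod.locMap_mk] at h0
  obtain ⟨k, c, hck, hcx, hc⟩ := exists_homogeneous_smul_eq_zero (ℳ := ℳ₂) x.1 (u m) (hu i m m.2) _ h0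
  obtain ⟨d, hd, g, hg, hgx⟩ := exists_pos_notMem x.1
  have hcm : c • (m : M) ∈ ℳ (k + i) := SetLike.GradedSMul.smul_mem (A := 𝒜) (B := ℳ) hck m.2
  have h1 : g ^ n₀ • c • (m : M) = 0 := by
    apply hn₀ (n₀ * d + (k + i)) (by nlinarith) _ (pow_smul_mem hg n₀ hcm)
    rw [map_smul, map_smul, hc, smul_zero]
  rw [w']
  refine mk_eq_zero_of_smul_eq_zero x.1 _ _ (g ^ n₀ * c) (fun h => ?_) (by rw [mul_smul]; exact h1)
  rcases x.1.isPrime.mem_or_mem h with h' | h'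
  · exact hgx (x.1.isPrime.mem_of_pow_mem _ h')
  · exact hcx h'

include hu in
omit [DirectSum.Decomposition ℳ] [DirectSum.Decomposition ℳ₂] in
/-- A (TN)-surjective map is locally surjective on sections. -/
theorem exists_local_preimage
    (hsurj : ∃ n₀ : ℕ, ∀ k : ℕ, n₀ ≤ k → ∀ m' ∈ ℳ₂ k, ∃ m ∈ ℳ k, u m = m') (n : ℤ)
    (O : Opens (ProjectiveSpectrum.top 𝒜)) (s : GrMod.sect 𝒜 ℳ₂ n (op O)) (x : O) :
    ∃ (O' : Opens (ProjectiveSpectrum.top 𝒜)) (hO' : O' ≤ O), x.1 ∈ O' ∧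
      ∃ t : GrMod.sect 𝒜 ℳ n (op O'),
        ∀ y : O', GrMod.locMap u y.1 (t.1 y).1 = (s.1 ⟨y.1, hO' y.2⟩).1 := by
  obtain ⟨n₀, hn₀⟩ := hsurj
  obtain ⟨V, hxV, iV, i, j, m, f, nin, cond, w⟩ := s.2 x
  have hVO : V ≤ O := iV.le
  have w' : ∀ y : V, (s.1 ⟨y.1, hVO y.2⟩).1 = LocalizedModule.mk (m : M₂) ⟨(f : A), nin y⟩ := fun y => w y
  rcases cond with hij | hm0
  · obtain ⟨d, hd, g, hg, hgx⟩ := exists_pos_notMem x.1
    obtain ⟨m₁, hm₁, hum₁⟩ := hn₀ (n₀ * d + i) (by nlinarith) _ (pow_smul_mem hg n₀ m.2)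
    have hgN : g ^ n₀ ∈ 𝒜 (n₀ * d) := by
      have := SetLike.pow_mem_graded n₀ hg
      rwa [smul_eq_mul] at this
    have hgf : g ^ n₀ * (f : A) ∈ 𝒜 (n₀ * d + j) := SetLike.mul_mem_graded hgN f.2
    have hnin : ∀ y : (V ⊓ ProjectiveSpectrum.basicOpen 𝒜 g : Opens (ProjectiveSpectrum.top 𝒜)),
        g ^ n₀ * (f : A) ∉ y.1.asHomogeneousIdeal := fun y h =>
      (y.1.isPrime.mem_or_mem h).elim (fun h' => y.2.2 (y.1.isPrime.mem_of_pow_mem _ h'))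
        (nin ⟨y.1, y.2.1⟩)
    have hgNy : ∀ y : (V ⊓ ProjectiveSpectrum.basicOpen 𝒜 g : Opens (ProjectiveSpectrum.top 𝒜)),
        g ^ n₀ ∉ y.1.asHomogeneousIdeal := fun y h => y.2.2 (y.1.isPrime.mem_of_pow_mem _ h)
    refine ⟨V ⊓ ProjectiveSpectrum.basicOpen 𝒜 g, inf_le_left.trans hVO, ⟨hxV, hgx⟩,
      fracSect n (by push_cast; omega) ⟨m₁, hm₁⟩ ⟨g ^ n₀ * (f : A), hgf⟩ _ hnin, fun y => ?_⟩
    rw [fracSect_val, GrMod.locMap_mk, w' ⟨y.1, y.2.1⟩]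
    change LocalizedModule.mk (u m₁) _ = _
    rw [hum₁]
    exact LocalizedModule.mk_cancel_common_left ⟨g ^ n₀, hgNy y⟩ ⟨(f : A), nin ⟨y.1, y.2.1⟩⟩ (m : M₂)
  · refine ⟨V, hVO, hxV, 0, fun y => ?_⟩
    rw [w' y, hm0, LocalizedModule.zero_mk]
    exact map_zero _

end Groth.Agent.Lib.Helper3.TildeExact
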