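import Groth.Agent.Lib.Helper3.RelTildeM
import Groth.Agent.Lib.Helper3.TildeExact
import Groth.Agent.Lib.Helper3.ModCrit
/-!
# Exactness properties of `ℳ ↦ (ℳ(n))~` on a relative Proj
-/
universe u
set_option linter.unusedSectionVars false
open CategoryTheory CategoryTheory.Limits AlgebraicGeometry Opposite TopologicalSpace
open AlgebraicGeometry.Scheme.AffineZariskiSite
open scoped HomogeneousIdeal
open Groth.Agent.Lib.Helper29

namespace Groth.Agent.Lib.Helper3.RelTilde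
open RelProj Groth.Agent.Lib.Helper3

variable {Y P : Scheme.{u}} {𝒮 : QCGrAlg Y} (p : P ⟶ Y)
  (chart : ∀ (U : Y.Opens) (hU : IsAffineOpen U), (((p ⁻¹ᵁ U : P.Opens) : Scheme.{u}) ≅ Proj (𝒮.deg U hU)))
  (hP : IsRelProj 𝒮 p chart) {ℳ 𝒩 : GrModule 𝒮} (n : ℤ)
  {F G' : P.Modules}
  (lam : ∀ (U : Y.Opens) (hU : IsAffineOpen U),
      F ⟶ (Scheme.Modules.pushforward (emb p chart U hU)).obj (GrMod.tilde (𝒮.deg U hU) (ℳ.deg U hU) n))
  (lam' : ∀ (U : Y.Opens) (hU : IsAffineOpen U),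
      G' ⟶ (Scheme.Modules.pushforward (emb p chart U hU)).obj (GrMod.tilde (𝒮.deg U hU) (𝒩.deg U hU) n))

/-- The family of opens lying over an affine open of the base. -/
def 𝓑 (W : P.Opens) : Prop := ∃ U : Y.AffineZariskiSite, W ≤ R p U

theorem 𝓑_down (W W' : P.Opens) (h : W' ≤ W) (hW : 𝓑 p W) : 𝓑 p W' := by
  obtain ⟨U, hU⟩ := hW
  exact ⟨U, h.trans hU⟩

theorem 𝓑_cov (w : P) : ∃ W, 𝓑 p W ∧ w ∈ W := by
  obtain ⟨U, hU, hw, -⟩ := exists_isAffineOpen_mem_and_subset (x := p.base w) (U := ⊤) trivial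
  exact ⟨R p ⟨U, hU⟩, ⟨⟨U, hU⟩, le_rfl⟩, hw⟩

/-- A section of `F` read in the chart over `U`. -/
noncomputable def sec (U : Y.AffineZariskiSite) (W : P.Opens) (s : Γ(F, W)) :
    GrMod.sect (𝒮.deg U.1 U.2) (ℳ.deg U.1 U.2) n (op (e p chart U ⁻¹ᵁ W)) :=
  (lam U.1 U.2).app W s

theorem sec_zero (U : Y.AffineZariskiSite) (W : P.Opens) : sec p chart n lam U W 0 = 0 :=
  map_zero ((lam U.1 U.2).app W).hom

variable {lam lam'}

theorem sec_injective (hF : IsRelTilde 𝒮 p chart ℳ n F lam) (U : Y.AffineZariskiSite) (W : P.Opens)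
    (hW : W ≤ R p U) : Function.Injective (sec p chart n lam U W) :=
  (hF.bijective U.1 U.2 W hW).1

theorem sec_surjective (hF : IsRelTilde 𝒮 p chart ℳ n F lam) (U : Y.AffineZariskiSite) (W : P.Opens)
    (hW : W ≤ R p U) : Function.Surjective (sec p chart n lam U W) :=
  (hF.bijective U.1 U.2 W hW).2

theorem sec_res (U : Y.AffineZariskiSite) {W W' : P.Opens} (h : W' ≤ W) (s : Γ(F, W))
    (y : (e p chart U ⁻¹ᵁ W' : (Proj (𝒮.deg U.1 U.2)).Opens)) :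
    ((sec p chart n lam U W' (QCoh.res F h s)).1 y).1 =
      ((sec p chart n lam U W s).1 ⟨y.1, (e p chart U).preimage_mono h y.2⟩).1 := by
  have := QCoh.app_res (lam U.1 U.2) h s
  exact congrArg (fun t : GrMod.sect (𝒮.deg U.1 U.2) (ℳ.deg U.1 U.2) n (op (e p chart U ⁻¹ᵁ W')) =>
    (t.1 y).1) this

variable (u : ℳ.mod ⟶ 𝒩.mod) (hu : IsGrModHom u) (ut : F ⟶ G')

theorem sec_map
    (hut : ∀ (U : Y.Opens) (hU : IsAffineOpen U), ut ≫ lam' U hU =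
      lam U hU ≫ (Scheme.Modules.pushforward (emb p chart U hU)).map
        (GrMod.map (𝒮.deg U hU)
          (show ℳ.mod.val.obj (op U) →ₗ[𝒮.presheaf.obj (op U)] 𝒩.mod.val.obj (op U) from (u.val.app (op U)).hom)
          (hu U hU) n))
    (U : Y.AffineZariskiSite) (W : P.Opens) (s : Γ(F, W))
    (y : (e p chart U ⁻¹ᵁ W : (Proj (𝒮.deg U.1 U.2)).Opens)) :
    ((sec p chart n lam' U W (ut.app W s)).1 y).1 =
      GrMod.locMap (uU u U) y.1 ((sec p chart n lam U W s).1 y).1 := by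
  have h1 := congrArg (fun m => m.app W s) (hut U.1 U.2)
  simp only [Scheme.Modules.Hom.comp_app, ConcreteCategory.comp_apply] at h1
  exact congrArg (fun t : GrMod.sect (𝒮.deg U.1 U.2) (𝒩.deg U.1 U.2) n (op (e p chart U ⁻¹ᵁ W)) =>
    (t.1 y).1) h1

theorem exists_lift_of_chart (hF : IsRelTilde 𝒮 p chart ℳ n F lam) (hG : IsRelTilde 𝒮 p chart 𝒩 n G' lam')
    (hut : ∀ (U : Y.Opens) (hU : IsAffineOpen U), ut ≫ lam' U hU =
      lam U hU ≫ (Scheme.Modules.pushforward (emb p chart U hU)).map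
        (GrMod.map (𝒮.deg U hU)
          (show ℳ.mod.val.obj (op U) →ₗ[𝒮.presheaf.obj (op U)] 𝒩.mod.val.obj (op U) from (u.val.app (op U)).hom)
          (hu U hU) n))
    (U : Y.AffineZariskiSite) (W : P.Opens) (hW : W ≤ R p U) (s' : Γ(G', W)) (x : P)
    (O' : (Proj (𝒮.deg U.1 U.2)).Opens) (hO' : O' ≤ e p chart U ⁻¹ᵁ W)
    (y₀ : Proj (𝒮.deg U.1 U.2)) (hy₀ : y₀ ∈ O') (hxy : (e p chart U).base y₀ = x)
    (t : GrMod.sect (𝒮.deg U.1 U.2) (ℳ.deg U.1 U.2) n (op O'))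
    (ht : ∀ y : O', GrMod.locMap (uU u U) y.1 (t.1 y).1 =
      ((sec p chart n lam' U W s').1 ⟨y.1, hO' y.2⟩).1) :
    ∃ (W' : P.Opens) (hW' : W' ≤ W), x ∈ W' ∧ ∃ τ₁ : Γ(F, W'), ut.app W' τ₁ = QCoh.res G' hW' s' := by
  have hW' : e p chart U ''ᵁ O' ≤ W :=
    ((e p chart U).image_mono hO').trans ((e p chart U).image_preimage_le W)
  have hle : e p chart U ⁻¹ᵁ (e p chart U ''ᵁ O') ≤ O' := ((e p chart U).preimage_image_eq O').le
  obtain ⟨τ₁, hτ₁⟩ := sec_surjective p chart n hF U _ (hW'.trans hW)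
    (GrMod.res (𝒮.deg U.1 U.2) (ℳ.deg U.1 U.2) n (homOfLE hle).op t)
  refine ⟨e p chart U ''ᵁ O', hW', ⟨y₀, hy₀, hxy⟩, τ₁, ?_⟩
  apply sec_injective p chart n hG U _ (hW'.trans hW)
  refine Subtype.ext (funext fun y => Subtype.ext ?_)
  exact (sec_map p chart n u hu ut hut U _ τ₁ y).trans
    ((congrArg (fun t : GrMod.sect (𝒮.deg U.1 U.2) (ℳ.deg U.1 U.2) n
        (op (e p chart U ⁻¹ᵁ (e p chart U ''ᵁ O'))) => GrMod.locMap (uU u U) y.1 (t.1 y).1) hτ₁).trans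
      ((ht ⟨y.1, hle y.2⟩).trans (sec_res p chart n U hW' s' y).symm))

theorem isZero_of_TN (hF : IsRelTilde 𝒮 p chart ℳ n F lam) (hTN : ℳ.IsTN) : IsZero F := by
  apply ModGlue.isZero_of_local F (𝓑 p) (𝓑_down p) (𝓑_cov p)
  rintro W ⟨U, hW⟩ s
  apply sec_injective p chart n hF U W hW
  refine Eq.trans ?_ (sec_zero p chart n lam U W).symm
  obtain ⟨n₀, hn₀⟩ := hTN
  exact TildeExact.eq_zero_of_TN ⟨n₀, fun k hk m hm => hn₀ U.1 U.2 k hk m hm⟩ n _ _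

theorem mono_of_TN_injective (hF : IsRelTilde 𝒮 p chart ℳ n F lam)
    (hut : ∀ (U : Y.Opens) (hU : IsAffineOpen U), ut ≫ lam' U hU =
      lam U hU ≫ (Scheme.Modules.pushforward (emb p chart U hU)).map
        (GrMod.map (𝒮.deg U hU)
          (show ℳ.mod.val.obj (op U) →ₗ[𝒮.presheaf.obj (op U)] 𝒩.mod.val.obj (op U) from (u.val.app (op U)).hom)
          (hu U hU) n))
    (hinj : ∃ n₀ : ℕ, ∀ (U : Y.Opens) (hU : IsAffineOpen U) (k : ℕ), n₀ ≤ k →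
      ∀ m ∈ ℳ.deg U hU k, (u.val.app (op U)).hom m = 0 → m = 0) : Mono ut := by
  apply ModGlue.mono_of_local ut (𝓑 p) (𝓑_down p) (𝓑_cov p)
  rintro W ⟨U, hW⟩ s hs
  apply sec_injective p chart n hF U W hW
  refine Eq.trans ?_ (sec_zero p chart n lam U W).symm
  obtain ⟨n₀, hn₀⟩ := hinj
  apply TildeExact.eq_zero_of_locMap_eq_zero (uU u U) (hu U.1 U.2)
    ⟨n₀, fun k hk m hm => hn₀ U.1 U.2 k hk m hm⟩ n _ _
  intro y
  exact (sec_map p chart n u hu ut hut U W s y).symm.trans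
    (congrArg (fun t : GrMod.sect (𝒮.deg U.1 U.2) (𝒩.deg U.1 U.2) n (op (e p chart U ⁻¹ᵁ W)) => (t.1 y).1)
      ((congrArg (sec p chart n lam' U W) hs).trans (sec_zero p chart n lam' U W)))

theorem epi_of_TN_surjective (hF : IsRelTilde 𝒮 p chart ℳ n F lam) (hG : IsRelTilde 𝒮 p chart 𝒩 n G' lam')
    (hut : ∀ (U : Y.Opens) (hU : IsAffineOpen U), ut ≫ lam' U hU =
      lam U hU ≫ (Scheme.Modules.pushforward (emb p chart U hU)).map
        (GrMod.map (𝒮.deg U hU)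
          (show ℳ.mod.val.obj (op U) →ₗ[𝒮.presheaf.obj (op U)] 𝒩.mod.val.obj (op U) from (u.val.app (op U)).hom)
          (hu U hU) n))
    (hsurj : ∃ n₀ : ℕ, ∀ (U : Y.Opens) (hU : IsAffineOpen U) (k : ℕ), n₀ ≤ k →
      ∀ m' ∈ 𝒩.deg U hU k, ∃ m ∈ ℳ.deg U hU k, (u.val.app (op U)).hom m = m') : Epi ut := by
  apply ModGlue.epi_of_local ut (𝓑 p) (𝓑_down p) (𝓑_cov p)
  rintro W ⟨U, hW⟩ s' x hx
  obtain ⟨y₀, hy₀⟩ := exists_of_mem_R p chart U x (hW hx)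
  have hy₀W : y₀ ∈ e p chart U ⁻¹ᵁ W := by
    change (e p chart U).base y₀ ∈ W
    rw [hy₀]; exact hx
  obtain ⟨n₀, hn₀⟩ := hsurj
  obtain ⟨O', hO', hy₀O', t, ht⟩ := TildeExact.exists_local_preimage (uU u U) (hu U.1 U.2)
    ⟨n₀, fun k hk m hm => hn₀ U.1 U.2 k hk m hm⟩ n _ (sec p chart n lam' U W s') ⟨y₀, hy₀W⟩
  exact exists_lift_of_chart p chart n u hu ut hF hG hut U W hW s' x O' hO' y₀ hy₀O' hy₀ t ht

variable {𝒬 : GrModule 𝒮} {H : P.Modules}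
  {lam'' : ∀ (U : Y.Opens) (hU : IsAffineOpen U),
      H ⟶ (Scheme.Modules.pushforward (emb p chart U hU)).obj (GrMod.tilde (𝒮.deg U hU) (𝒬.deg U hU) n)}
  (v : 𝒩.mod ⟶ 𝒬.mod) (hv : IsGrModHom v) (vt : G' ⟶ H)

theorem exact_of_exact (hF : IsRelTilde 𝒮 p chart ℳ n F lam) (hG : IsRelTilde 𝒮 p chart 𝒩 n G' lam')
    (hut : ∀ (U : Y.Opens) (hU : IsAffineOpen U), ut ≫ lam' U hU =
      lam U hU ≫ (Scheme.Modules.pushforward (emb p chart U hU)).map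
        (GrMod.map (𝒮.deg U hU)
          (show ℳ.mod.val.obj (op U) →ₗ[𝒮.presheaf.obj (op U)] 𝒩.mod.val.obj (op U) from (u.val.app (op U)).hom)
          (hu U hU) n))
    (hvt : ∀ (U : Y.Opens) (hU : IsAffineOpen U), vt ≫ lam'' U hU =
      lam' U hU ≫ (Scheme.Modules.pushforward (emb p chart U hU)).map
        (GrMod.map (𝒮.deg U hU)
          (show 𝒩.mod.val.obj (op U) →ₗ[𝒮.presheaf.obj (op U)] 𝒬.mod.val.obj (op U) from (v.val.app (op U)).hom)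
          (hv U hU) n))
    (hex : ∀ (U : Y.Opens) (hU : IsAffineOpen U), Function.Exact (u.val.app (op U)).hom (v.val.app (op U)).hom)
    (w : ut ≫ vt = 0) : (ShortComplex.mk ut vt w).Exact := by
  apply ModGlue.exact_of_local _ (𝓑 p) (𝓑_down p) (𝓑_cov p)
  rintro W ⟨U, hW⟩ s hs x hx
  obtain ⟨y₀, hy₀⟩ := exists_of_mem_R p chart U x (hW hx)
  have hy₀W : y₀ ∈ e p chart U ⁻¹ᵁ W := by
    change (e p chart U).base y₀ ∈ W
    rw [hy₀]; exact hx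
  have hs' : ∀ y : (e p chart U ⁻¹ᵁ W : (Proj (𝒮.deg U.1 U.2)).Opens),
      GrMod.locMap (uU v U) y.1 ((sec p chart n lam' U W s).1 y).1 = 0 := by
    intro y
    have hs0 : vt.app W s = 0 := hs
    exact (sec_map p chart n v hv vt hvt U W s y).symm.trans
      (congrArg (fun t : GrMod.sect (𝒮.deg U.1 U.2) (𝒬.deg U.1 U.2) n (op (e p chart U ⁻¹ᵁ W)) => (t.1 y).1)
        ((congrArg (sec p chart n lam'' U W) hs0).trans (sec_zero p chart n lam'' U W)))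
  obtain ⟨O', hO', hy₀O', t, ht⟩ := TildeExact.exists_local_lift (uU u U) (hu U.1 U.2) (uU v U) (hv U.1 U.2)
    (hex U.1 U.2) n _ (sec p chart n lam' U W s) hs' ⟨y₀, hy₀W⟩
  exact exists_lift_of_chart p chart n u hu ut hF hG hut U W hW s x O' hO' y₀ hy₀O' hy₀ t ht

end Groth.Agent.Lib.Helper3.RelTilde
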