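import Groth.Agent.Lib.Helper3.TFGen
import Groth.Agent.Lib.Helper3.RelTensor
import Groth.Agent.Lib.Helper29.QCohGen
/-!
# Finite type of `ℳ~` on a relative Proj under condition (TF)
-/
set_option autoImplicit false
set_option linter.unusedSectionVars false
universe u
open CategoryTheory CategoryTheory.Limits AlgebraicGeometry Opposite TopologicalSpace DirectSum
open AlgebraicGeometry.Scheme.AffineZariskiSite
open scoped HomogeneousIdeal
open Groth.Agent.Lib.Helper29 Groth.Agent.Lib.Helper29.QCoh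

namespace Groth.Agent.Lib.Helper3.RelGlued
open RelProj Groth.Agent.Lib.Helper3
open Groth.Agent.Lib.Helper3.RelTilde (e comap_mem range_e e_mem_R)

variable {Y P : Scheme.{u}} {𝒮 : QCGrAlg Y} (p : P ⟶ Y)
  (chart : ∀ (U : Y.Opens) (hU : IsAffineOpen U), (((p ⁻¹ᵁ U : P.Opens) : Scheme.{u}) ≅ Proj (𝒮.deg U hU)))

theorem module_finite_stdOpen (ℳ : GrModule 𝒮) {F : P.Modules}
    {lam : ∀ (U : Y.Opens) (hU : IsAffineOpen U),
      F ⟶ (Scheme.Modules.pushforward (emb p chart U hU)).obj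
        (GrMod.tilde (𝒮.deg U hU) (ℳ.deg U hU) 0)}
    (hF : IsRelTilde 𝒮 p chart ℳ 0 F lam) (n₀ : ℕ)
    (V : Y.AffineZariskiSite)
    (hfg : (Submodule.span (𝒮.presheaf.obj (op V.1))
      (⋃ k ∈ Set.Ici n₀, (ℳ.deg V.1 V.2 k : Set (ℳ.mod.val.obj (op V.1))))).FG)
    (g : 𝒮.deg V.1 V.2 1) :
    Module.Finite Γ(P, stdOpen p chart V g) Γ(F, stdOpen p chart V g) := by
  have h1 : Module.Finite Γ(Proj (𝒮.deg V.1 V.2), e p chart V ⁻¹ᵁ stdOpen p chart V g)
      Γ(GrMod.tilde (𝒮.deg V.1 V.2) (ℳ.deg V.1 V.2) 0, e p chart V ⁻¹ᵁ stdOpen p chart V g) :=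
    TFGen.tilde_sections_finite (𝒮.deg V.1 V.2) (ℳ.deg V.1 V.2) n₀ hfg g _
      (preimage_stdOpen p chart V g)
  have hiso : IsIso ((e p chart V).app (stdOpen p chart V g)) :=
    Scheme.Hom.isIso_app (e p chart V) (stdOpen p chart V g) (stdOpen_le_range p chart V g)
  have hρ : Function.Surjective ((e p chart V).app (stdOpen p chart V g)).hom :=
    ((ConcreteCategory.isIso_iff_bijective _).mp hiso).2
  have hbij : Function.Bijective ((lam V.1 V.2).app (stdOpen p chart V g)) :=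
    hF.bijective V.1 V.2 (stdOpen p chart V g) (stdOpen_le p chart V g)
  exact TFGen.finite_of_semilinear_bijective
    (N' := Γ(GrMod.tilde (𝒮.deg V.1 V.2) (ℳ.deg V.1 V.2) 0, e p chart V ⁻¹ᵁ stdOpen p chart V g))
    ((e p chart V).app (stdOpen p chart V g)).hom hρ
    ((lam V.1 V.2).app (stdOpen p chart V g)).hom hbij
    (fun r n => Scheme.Modules.Hom.app_smul (lam V.1 V.2) r n) h1

theorem isFiniteType_relTilde (hgen : 𝒮.IsGenDegOne) (ℳ : GrModule 𝒮) (hTF : ℳ.IsTF) {F : P.Modules}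
    {lam : ∀ (U : Y.Opens) (hU : IsAffineOpen U),
      F ⟶ (Scheme.Modules.pushforward (emb p chart U hU)).obj
        (GrMod.tilde (𝒮.deg U hU) (ℳ.deg U hU) 0)}
    (hF : IsRelTilde 𝒮 p chart ℳ 0 F lam) : F.IsFiniteType := by
  have hqc : F.IsQuasicoherent := isQuasicoherent_relTilde p chart ℳ 0 hF
  obtain ⟨n₀, hn₀⟩ := hTF
  let U : (Σ V : Y.AffineZariskiSite, 𝒮.deg V.1 V.2 1) → P.Opens :=
    fun i => stdOpen p chart i.1 i.2
  have hcov : IsOpenCover U := by
    rw [IsOpenCover, eq_top_iff]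
    intro x _
    obtain ⟨i, hi⟩ := exists_stdOpen_mem p chart hgen x
    exact Opens.mem_iSup.mpr ⟨i, hi⟩
  have haff : ∀ i, IsAffineOpen (U i) := fun i => isAffineOpen_stdOpen p chart one_pos i.1 i.2
  have hfin : ∀ i, Module.Finite Γ(P, U i) Γ(F, U i) := fun i =>
    module_finite_stdOpen p chart ℳ hF n₀ i.1 (hn₀ i.1.1 i.1.2) i.2
  exact isFiniteType_of_module_finite F U hcov haff hfin

end Groth.Agent.Lib.Helper3.RelGlued
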