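import Groth.Agent.Lib.Helper3.TildeLoc
import Groth.Agent.Lib.Helper3.ModGlue
import Groth.Agent.Lib.Helper3.RelProjExist
/-!
# The module `(ℳ(n))~` on a relative Proj, as a limit of the direct images of the chart modules
-/
universe u
set_option linter.unusedSectionVars false
open CategoryTheory CategoryTheory.Limits AlgebraicGeometry Opposite TopologicalSpace
open AlgebraicGeometry.Scheme.AffineZariskiSite
open scoped HomogeneousIdeal
open Groth.Agent.Lib.Helper29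

namespace Groth.Agent.Lib.Helper3.RelTilde
open RelProj Groth.Agent.Lib.Helper3

variable {Y P : Scheme.{u}} {𝒮 : QCGrAlg Y} (p : P ⟶ Y)
  (chart : ∀ (U : Y.Opens) (hU : IsAffineOpen U), (((p ⁻¹ᵁ U : P.Opens) : Scheme.{u}) ≅ Proj (𝒮.deg U hU)))
  (hP : IsRelProj 𝒮 p chart) (ℳ : GrModule 𝒮) (n : ℤ)

/-- the chart immersion -/
noncomputable abbrev e (U : Y.AffineZariskiSite) : Proj (𝒮.deg U.1 U.2) ⟶ P := emb p chart U.1 U.2

theorem range_e (U : Y.AffineZariskiSite) :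
    Set.range (e p chart U).base = ((p ⁻¹ᵁ U.1 : P.Opens) : Set P) := by
  unfold e emb
  have hs : Function.Surjective (chart U.1 U.2).inv.base := (chart U.1 U.2).inv.homeomorph.surjective
  rw [Scheme.Hom.comp_base, TopCat.coe_comp, Set.range_comp, Set.range_eq_univ.mpr hs, Set.image_univ,
    Scheme.Opens.range_ι]

variable (𝒮) in
/-- restriction of the algebra -/
noncomputable abbrev ψ {U V : Y.AffineZariskiSite} (h : V ≤ U) : 𝒮.deg U.1 U.2 →+*ᵍ 𝒮.deg V.1 V.2 :=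
  𝒮.res U.2 V.2 (toOpens_mono h)

/-- restriction of the module -/
noncomputable abbrev vv {U V : Y.AffineZariskiSite} (h : V ≤ U) :
    ℳ.mod.val.obj (op U.1) →ₛₗ[(ψ 𝒮 h).toRingHom] ℳ.mod.val.obj (op V.1) :=
  ℳ.res U.2 V.2 (toOpens_mono h)

theorem hvv {U V : Y.AffineZariskiSite} (h : V ≤ U) (i : ℕ) (m : ℳ.mod.val.obj (op U.1))
    (hm : m ∈ ℳ.deg U.1 U.2 i) : vv ℳ h m ∈ ℳ.deg V.1 V.2 i :=
  ℳ.res_mem U.2 V.2 (toOpens_mono h) i m hm

variable (𝒮) in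
/-- the map of Proj's -/
noncomputable abbrev φ {U V : Y.AffineZariskiSite} (h : V ≤ U) :
    Proj (𝒮.deg V.1 V.2) ⟶ Proj (𝒮.deg U.1 U.2) :=
  Proj.map (ψ 𝒮 h) (RelProjExist.irr 𝒮 h)

include hP in
theorem φ_e {U V : Y.AffineZariskiSite} (h : V ≤ U) : φ 𝒮 h ≫ e p chart U = e p chart V := by
  obtain ⟨f, hf⟩ := h
  obtain rfl : U.basicOpen f = V := Subtype.ext hf
  exact map_res_emb hP U.1 U.2 f

/-- the chart module -/
noncomputable abbrev T (U : Y.AffineZariskiSite) : (Proj (𝒮.deg U.1 U.2)).Modules :=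
  GrMod.tilde (𝒮.deg U.1 U.2) (ℳ.deg U.1 U.2) n

/-- its direct image on `P` -/
noncomputable abbrev G (U : Y.AffineZariskiSite) : P.Modules :=
  (Scheme.Modules.pushforward (e p chart U)).obj (T ℳ n U)

/-- the transition morphism -/
noncomputable def κ {U V : Y.AffineZariskiSite} (h : V ≤ U) : G p chart ℳ n U ⟶ G p chart ℳ n V :=
  (Scheme.Modules.pushforward (e p chart U)).map
      (GrMod.comap (ψ 𝒮 h) (RelProjExist.irr 𝒮 h) (vv ℳ h) (hvv ℳ h) n) ≫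
    (Scheme.Modules.pushforwardComp (φ 𝒮 h) (e p chart U)).hom.app (T ℳ n V) ≫
      (Scheme.Modules.pushforwardCongr (φ_e p chart hP h)).hom.app (T ℳ n V)

include hP in
theorem comap_mem {U V : Y.AffineZariskiSite} (h : V ≤ U) (W : P.Opens)
    (y : ProjectiveSpectrum (𝒮.deg V.1 V.2)) (hy : (e p chart V).base y ∈ W) :
    (e p chart U).base (ProjectiveSpectrum.comap (ψ 𝒮 h) (RelProjExist.irr 𝒮 h) y) ∈ W := by
  have := congrArg (fun m => m.base y) (φ_e p chart hP h)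
  simp only [Scheme.Hom.comp_base, TopCat.hom_comp, ContinuousMap.comp_apply] at this
  change (e p chart U).base ((φ 𝒮 h).base y) ∈ W
  rw [this]; exact hy

theorem κ_val {U V : Y.AffineZariskiSite} (h : V ≤ U) (W : P.Opens) (s : Γ(G p chart ℳ n U, W))
    (y : ProjectiveSpectrum (𝒮.deg V.1 V.2)) (hy : (e p chart V).base y ∈ W) :
    GrMod.val (V := e p chart V ⁻¹ᵁ W) ((κ p chart hP ℳ n h).app W s) ⟨y, hy⟩ =
      GrMod.locModMap (ψ 𝒮 h) (RelProjExist.irr 𝒮 h) (vv ℳ h) y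
        (GrMod.val (V := e p chart U ⁻¹ᵁ W) s ⟨_, comap_mem p chart hP h W y hy⟩) := rfl

attribute [irreducible] κ

theorem sec_ext {U : Y.AffineZariskiSite} {W : P.Opens} (s₁ s₂ : Γ(G p chart ℳ n U, W))
    (h : ∀ (y : ProjectiveSpectrum (𝒮.deg U.1 U.2)) (hy : (e p chart U).base y ∈ W),
      GrMod.val (V := e p chart U ⁻¹ᵁ W) s₁ ⟨y, hy⟩ = GrMod.val (V := e p chart U ⁻¹ᵁ W) s₂ ⟨y, hy⟩) :
    s₁ = s₂ :=
  Subtype.ext (funext fun y => Subtype.ext (h y.1 y.2))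

theorem ψ_comp {U V V' : Y.AffineZariskiSite} (h₁ : V ≤ U) (h₂ : V' ≤ V)
    (a : 𝒮.presheaf.obj (op U.1)) : ψ 𝒮 (h₂.trans h₁) a = ψ 𝒮 h₂ (ψ 𝒮 h₁ a) :=
  (congrArg (fun g => g a) (RelProjExist.res_comp 𝒮 U.2 V.2 V'.2 (toOpens_mono h₁) (toOpens_mono h₂))).symm

theorem ψ_self (U : Y.AffineZariskiSite) (a : 𝒮.presheaf.obj (op U.1)) : ψ 𝒮 (le_refl U) a = a :=
  congrArg (fun g => g a) (RelProjExist.res_self 𝒮 U.1 U.2)

theorem vv_comp {U V V' : Y.AffineZariskiSite} (h₁ : V ≤ U) (h₂ : V' ≤ V)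
    (m : ℳ.mod.val.obj (op U.1)) : vv ℳ (h₂.trans h₁) m = vv ℳ h₂ (vv ℳ h₁ m) := by
  change (ℳ.mod.val.map (homOfLE (toOpens_mono (h₂.trans h₁))).op).hom m =
    (ℳ.mod.val.map (homOfLE (toOpens_mono h₂)).op).hom ((ℳ.mod.val.map (homOfLE (toOpens_mono h₁)).op).hom m)
  exact PresheafOfModules.map_comp_apply ℳ.mod.val (homOfLE (toOpens_mono h₁)).op
    (homOfLE (toOpens_mono h₂)).op m

theorem vv_self (U : Y.AffineZariskiSite) (m : ℳ.mod.val.obj (op U.1)) : vv ℳ (le_refl U) m = m := by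
  change (ℳ.mod.val.map (𝟙 (op U.1))).hom m = m
  rw [PresheafOfModules.map_id]
  rfl

theorem κ_self (U : Y.AffineZariskiSite) : κ p chart hP ℳ n (le_refl U) = 𝟙 _ := by
  apply Scheme.Modules.hom_ext
  intro W
  apply ConcreteCategory.hom_ext
  intro s
  apply sec_ext
  intro y hy
  rw [κ_val]
  exact TildeLoc.locModMap_id n (ψ 𝒮 (le_refl U)) (RelProjExist.irr 𝒮 (le_refl U)) (vv ℳ (le_refl U))
    (ψ_self U) (vv_self ℳ U) (e p chart U ⁻¹ᵁ W)
    (show GrMod.sect (𝒮.deg U.1 U.2) (ℳ.deg U.1 U.2) n (op (e p chart U ⁻¹ᵁ W)) from s).1 y _ hy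

theorem κ_comp {U V V' : Y.AffineZariskiSite} (h₁ : V ≤ U) (h₂ : V' ≤ V) :
    κ p chart hP ℳ n h₁ ≫ κ p chart hP ℳ n h₂ = κ p chart hP ℳ n (h₂.trans h₁) := by
  apply Scheme.Modules.hom_ext
  intro W
  apply ConcreteCategory.hom_ext
  intro s
  apply sec_ext
  intro y hy
  rw [κ_val]
  change GrMod.val (V := e p chart V' ⁻¹ᵁ W)
    ((κ p chart hP ℳ n h₂).app W ((κ p chart hP ℳ n h₁).app W s)) ⟨y, hy⟩ = _
  rw [κ_val, κ_val]
  exact TildeLoc.locModMap_comp (RelProjExist.irr 𝒮 h₁) n (ψ 𝒮 h₂) (RelProjExist.irr 𝒮 h₂) (vv ℳ h₂)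
    (ψ 𝒮 (h₂.trans h₁)) (RelProjExist.irr 𝒮 (h₂.trans h₁)) (vv ℳ (h₂.trans h₁))
    (ψ_comp h₁ h₂) (vv_comp ℳ h₁ h₂) (e p chart U ⁻¹ᵁ W)
    (show GrMod.sect (𝒮.deg U.1 U.2) (ℳ.deg U.1 U.2) n (op (e p chart U ⁻¹ᵁ W)) from s).1 y _ _

theorem str_res (U : Y.Opens) (f : Γ(Y, U)) :
    (𝒮.str.app (op (Y.basicOpen f))).hom ((Y.presheaf.map (homOfLE (Y.basicOpen_le f)).op).hom f) =
      (𝒮.presheaf.map (homOfLE (Y.basicOpen_le f)).op).hom ((𝒮.str.app (op U)).hom f) :=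
  congr($(𝒮.str.naturality (homOfLE (Y.basicOpen_le f)).op) f)

theorem isLocModAt_res (hℳ : Coh.IsQCoh ((AMod.toOS 𝒮.toQCAlg).obj ℳ.mod)) (U : Y.Opens)
    (hU : IsAffineOpen U) (f : Γ(Y, U)) :
    TildeLoc.IsLocModAt (𝒮.res hU (hU.basicOpen f) (Y.basicOpen_le f))
      (ℳ.res hU (hU.basicOpen f) (Y.basicOpen_le f)) ((𝒮.str.app (op U)).hom f) := by
  have hq : ((AMod.toOS 𝒮.toQCAlg).obj ℳ.mod).IsQuasicoherent := hℳ
  constructor
  · intro n'
    obtain ⟨k, m, hkm⟩ := QCoh.exists_pow_smul_eq_res ((AMod.toOS 𝒮.toQCAlg).obj ℳ.mod) hU f n'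
    refine ⟨m, k, ?_⟩
    refine Eq.trans ?_ hkm
    rw [QCGrAlg.res_apply, ← str_res, ← map_pow]
    rfl
  · intro m hm
    obtain ⟨k, hk⟩ := QCoh.exists_pow_smul_eq_zero ((AMod.toOS 𝒮.toQCAlg).obj ℳ.mod) hU f m hm
    refine ⟨k, ?_⟩
    refine Eq.trans ?_ hk
    rw [← map_pow]
    rfl

theorem res_bijective_of_eq {X : Scheme.{u}} (M : X.Modules) {O O' : X.Opens} (h : O' ≤ O) (e : O' = O) :
    Function.Bijective (QCoh.res M h) := by
  have : homOfLE h = eqToHom e := Subsingleton.elim _ _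
  have hiso : IsIso (M.presheaf.map (homOfLE h).op) := by rw [this]; infer_instance
  exact ConcreteCategory.bijective_of_isIso (M.presheaf.map (homOfLE h).op)

/-- The open of `P` over which the `U`-th module lives. -/
def R (U : Y.AffineZariskiSite) : P.Opens := p ⁻¹ᵁ U.1

theorem e_mem_R (U : Y.AffineZariskiSite) (y : Proj (𝒮.deg U.1 U.2)) : (e p chart U).base y ∈ R p U := by
  have : (e p chart U).base y ∈ Set.range (e p chart U).base := ⟨y, rfl⟩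
  rw [range_e] at this
  exact this

theorem exists_of_mem_R (U : Y.AffineZariskiSite) (w : P) (hw : w ∈ R p U) :
    ∃ y : Proj (𝒮.deg U.1 U.2), (e p chart U).base y = w := by
  have : w ∈ Set.range (e p chart U).base := by rw [range_e]; exact hw
  exact this

include hP in
theorem exists_comap_eq {U V : Y.AffineZariskiSite} (h : V ≤ U) (W : P.Opens) (hW : W ≤ R p V)
    (x : ProjectiveSpectrum (𝒮.deg U.1 U.2)) (hx : (e p chart U).base x ∈ W) :
    ∃ y : ProjectiveSpectrum (𝒮.deg V.1 V.2), (e p chart V).base y ∈ W ∧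
      ProjectiveSpectrum.comap (ψ 𝒮 h) (RelProjExist.irr 𝒮 h) y = x := by
  obtain ⟨y, hy⟩ := exists_of_mem_R p chart V _ (hW hx)
  refine ⟨y, hy ▸ hx, ?_⟩
  apply (e p chart U).isOpenEmbedding.injective
  rw [← hy]
  have := congrArg (fun m => m.base y) (φ_e p chart hP h)
  simp only [Scheme.Hom.comp_base, TopCat.hom_comp, ContinuousMap.comp_apply] at this
  exact this



end Groth.Agent.Lib.Helper3.RelTilde
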