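import Groth.Agent.Lib.Helper3.RelTildeU
/-!
# Functoriality of `(ℳ(n))~` on a relative Proj in the graded module `ℳ`
-/
universe u
set_option linter.unusedSectionVars false
open CategoryTheory CategoryTheory.Limits AlgebraicGeometry Opposite TopologicalSpace
open AlgebraicGeometry.Scheme.AffineZariskiSite
open scoped HomogeneousIdeal
open Groth.Agent.Lib.Helper29

namespace Groth.Agent.Lib.Helper3.RelTilde
open RelProj Groth.Agent.Lib.Helper3

section ring

variable {A σ : Type u} [CommRing A] [SetLike σ A] [AddSubgroupClass σ A] {𝒜 : ℕ → σ} [GradedRing 𝒜]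
variable {B σ' : Type u} [CommRing B] [SetLike σ' B] [AddSubgroupClass σ' B] {ℬ : ℕ → σ'} [GradedRing ℬ]
variable {M M₂ : Type u} [AddCommGroup M] [Module A M] [AddCommGroup M₂] [Module A M₂]
variable {N N₂ : Type u} [AddCommGroup N] [Module B N] [AddCommGroup N₂] [Module B N₂]
variable (ψ : 𝒜 →+*ᵍ ℬ) (hψ : ℬ₊ ≤ (𝒜₊).map ψ) (v : M →ₛₗ[ψ.toRingHom] N) (v₂ : M₂ →ₛₗ[ψ.toRingHom] N₂)
  (uA : M →ₗ[A] M₂) (uB : N →ₗ[B] N₂)

theorem locMap_locModMap (hcomm : ∀ m, uB (v m) = v₂ (uA m)) (y : ProjectiveSpectrum ℬ)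
    (q : GrMod.LocMod 𝒜 (M := M) (ProjectiveSpectrum.comap ψ hψ y)) :
    GrMod.locMap uB y (GrMod.locModMap ψ hψ v y q) =
      GrMod.locModMap ψ hψ v₂ y (GrMod.locMap uA (ProjectiveSpectrum.comap ψ hψ y) q) := by
  induction q using LocalizedModule.induction_on with
  | h m s =>
    rw [GrMod.locModMap_mk, GrMod.locMap_mk, GrMod.locMap_mk, GrMod.locModMap_mk, hcomm]

end ring

variable {Y P : Scheme.{u}} {𝒮 : QCGrAlg Y} (p : P ⟶ Y)
  (chart : ∀ (U : Y.Opens) (hU : IsAffineOpen U), (((p ⁻¹ᵁ U : P.Opens) : Scheme.{u}) ≅ Proj (𝒮.deg U hU)))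
  (hP : IsRelProj 𝒮 p chart) {ℳ 𝒩 : GrModule 𝒮} (u : ℳ.mod ⟶ 𝒩.mod) (hu : IsGrModHom u) (n : ℤ)

/-- the linear map over an affine open -/
noncomputable abbrev uU (U : Y.AffineZariskiSite) :
    ℳ.mod.val.obj (op U.1) →ₗ[𝒮.presheaf.obj (op U.1)] 𝒩.mod.val.obj (op U.1) :=
  (u.val.app (op U.1)).hom

theorem uU_vv {U V : Y.AffineZariskiSite} (h : V ≤ U) (m : ℳ.mod.val.obj (op U.1)) :
    uU u V (vv ℳ h m) = vv 𝒩 h (uU u U m) :=
  PresheafOfModules.naturality_apply u.val (homOfLE (toOpens_mono h)).op m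

/-- the chartwise morphism, in the form of the statements -/
noncomputable def τ' (U : Y.Opens) (hU : IsAffineOpen U) :
    (Scheme.Modules.pushforward (emb p chart U hU)).obj (GrMod.tilde (𝒮.deg U hU) (ℳ.deg U hU) n) ⟶
      (Scheme.Modules.pushforward (emb p chart U hU)).obj (GrMod.tilde (𝒮.deg U hU) (𝒩.deg U hU) n) :=
  (Scheme.Modules.pushforward (emb p chart U hU)).map
      (GrMod.map (𝒮.deg U hU)
        (show ℳ.mod.val.obj (op U) →ₗ[𝒮.presheaf.obj (op U)] 𝒩.mod.val.obj (op U) from (u.val.app (op U)).hom)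
        (hu U hU) n)

theorem τ'_eq (U : Y.Opens) (hU : IsAffineOpen U) :
    τ' p chart u hu n U hU = (Scheme.Modules.pushforward (emb p chart U hU)).map
      (GrMod.map (𝒮.deg U hU)
        (show ℳ.mod.val.obj (op U) →ₗ[𝒮.presheaf.obj (op U)] 𝒩.mod.val.obj (op U) from (u.val.app (op U)).hom)
        (hu U hU) n) := rfl

/-- the chartwise morphism -/
noncomputable def τ (U : Y.AffineZariskiSite) : G p chart ℳ n U ⟶ G p chart 𝒩 n U :=
  τ' p chart u hu n U.1 U.2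

theorem τ_val (U : Y.AffineZariskiSite) (W : P.Opens) (s : Γ(G p chart ℳ n U, W))
    (y : ProjectiveSpectrum (𝒮.deg U.1 U.2)) (hy : (e p chart U).base y ∈ W) :
    GrMod.val (V := e p chart U ⁻¹ᵁ W) ((τ p chart u hu n U).app W s) ⟨y, hy⟩ =
      GrMod.locMap (uU u U) y (GrMod.val (V := e p chart U ⁻¹ᵁ W) s ⟨y, hy⟩) := rfl

theorem τ_eq (U : Y.Opens) (hU : IsAffineOpen U) :
    τ p chart u hu n ⟨U, hU⟩ = τ' p chart u hu n U hU := rfl

attribute [irreducible] τ' τ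

theorem κ_τ {U V : Y.AffineZariskiSite} (h : V ≤ U) :
    κ p chart hP ℳ n h ≫ τ p chart u hu n V = τ p chart u hu n U ≫ κ p chart hP 𝒩 n h := by
  apply Scheme.Modules.hom_ext
  intro W
  apply ConcreteCategory.hom_ext
  intro s
  rw [Scheme.Modules.Hom.comp_app, ConcreteCategory.comp_apply, Scheme.Modules.Hom.comp_app,
    ConcreteCategory.comp_apply]
  apply sec_ext p chart 𝒩 n (U := V)
  intro y hy
  rw [τ_val, κ_val, κ_val, τ_val]
  exact locMap_locModMap (ψ 𝒮 h) (RelProjExist.irr 𝒮 h) (vv ℳ h) (vv 𝒩 h) (uU u U) (uU u V)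
    (uU_vv u h) y _

/-- `τ` on the opposite index category. -/
noncomputable def τop (j : (Y.AffineZariskiSite)ᵒᵖ) :
    (D p chart hP ℳ n).obj j ⟶ (D p chart hP 𝒩 n).obj j := τ p chart u hu n j.unop

theorem τop_nat_le {U V : Y.AffineZariskiSite} (h : V ≤ U) :
    (D p chart hP ℳ n).map (homOfLE h).op ≫ τop p chart hP u hu n (op V) =
      τop p chart hP u hu n (op U) ≫ (D p chart hP 𝒩 n).map (homOfLE h).op := by
  have h1 : cmp (κ p chart hP ℳ n h) (τ p chart u hu n V) =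
      cmp (τ p chart u hu n U) (κ p chart hP 𝒩 n h) := by
    rw [cmp_def, cmp_def]; exact κ_τ p chart hP u hu n h
  have h2 : cmp ((D p chart hP ℳ n).map (homOfLE h).op) (τop p chart hP u hu n (op V)) =
      cmp (τop p chart hP u hu n (op U)) ((D p chart hP 𝒩 n).map (homOfLE h).op) := h1
  rw [cmp_def, cmp_def] at h2
  exact h2

theorem τop_nat {j j' : (Y.AffineZariskiSite)ᵒᵖ} (f : j ⟶ j') :
    (D p chart hP ℳ n).map f ≫ τop p chart hP u hu n j' =
      τop p chart hP u hu n j ≫ (D p chart hP 𝒩 n).map f := by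
  obtain ⟨U⟩ := j
  obtain ⟨V⟩ := j'
  have hVU : V ≤ U := f.unop.le
  have hf : f = (homOfLE hVU).op := Subsingleton.elim _ _
  rw [hf]
  exact τop_nat_le p chart hP u hu n hVU

/-- The natural transformation of systems induced by `u`. -/
noncomputable def τN : D p chart hP ℳ n ⟶ D p chart hP 𝒩 n where
  app := τop p chart hP u hu n
  naturality := fun _ _ f => τop_nat p chart hP u hu n f

/-- The morphism `(ℳ(n))~ ⟶ (𝒩(n))~` induced by `u`. -/
noncomputable def tildeMap : relTilde p chart hP ℳ n ⟶ relTilde p chart hP 𝒩 n :=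
  limMap (τN p chart hP u hu n)

theorem tildeMap_lam (U : Y.Opens) (hU : IsAffineOpen U) :
    tildeMap p chart hP u hu n ≫ RelTilde.lam p chart hP 𝒩 n U hU =
      RelTilde.lam p chart hP ℳ n U hU ≫ (Scheme.Modules.pushforward (emb p chart U hU)).map
        (GrMod.map (𝒮.deg U hU)
          (show ℳ.mod.val.obj (op U) →ₗ[𝒮.presheaf.obj (op U)] 𝒩.mod.val.obj (op U) from (u.val.app (op U)).hom)
          (hu U hU) n) := by
  have h1 : cmp (tildeMap p chart hP u hu n) (limit.π (D p chart hP 𝒩 n) (op ⟨U, hU⟩)) =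
      cmp (limit.π (D p chart hP ℳ n) (op ⟨U, hU⟩)) ((τN p chart hP u hu n).app (op ⟨U, hU⟩)) := by
    rw [cmp_def, cmp_def]; exact limMap_π _ _
  have h2 : cmp (tildeMap p chart hP u hu n) (RelTilde.lam p chart hP 𝒩 n U hU) =
      cmp (RelTilde.lam p chart hP ℳ n U hU) (τ p chart u hu n ⟨U, hU⟩) := h1
  rw [cmp_def, cmp_def, τ_eq, τ'_eq] at h2
  exact h2

variable {F G' : P.Modules}
  {lam : ∀ (U : Y.Opens) (hU : IsAffineOpen U),
      F ⟶ (Scheme.Modules.pushforward (emb p chart U hU)).obj (GrMod.tilde (𝒮.deg U hU) (ℳ.deg U hU) n)}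
  {lam' : ∀ (U : Y.Opens) (hU : IsAffineOpen U),
      G' ⟶ (Scheme.Modules.pushforward (emb p chart U hU)).obj (GrMod.tilde (𝒮.deg U hU) (𝒩.deg U hU) n)}

/-- The induced morphism between arbitrary models. -/
noncomputable def mapOf (h𝒩 : Coh.IsQCoh ((AMod.toOS 𝒮.toQCAlg).obj 𝒩.mod))
    (hF : IsRelTilde 𝒮 p chart ℳ n F lam) (hG : IsRelTilde 𝒮 p chart 𝒩 n G' lam') : F ⟶ G' :=
  have : IsIso (lift p chart hP 𝒩 n hG) := isIso_lift p chart hP 𝒩 n h𝒩 hG
  lift p chart hP ℳ n hF ≫ tildeMap p chart hP u hu n ≫ inv (lift p chart hP 𝒩 n hG)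

theorem mapOf_comp_lift (h𝒩 : Coh.IsQCoh ((AMod.toOS 𝒮.toQCAlg).obj 𝒩.mod))
    (hF : IsRelTilde 𝒮 p chart ℳ n F lam) (hG : IsRelTilde 𝒮 p chart 𝒩 n G' lam') :
    mapOf p chart hP u hu n h𝒩 hF hG ≫ lift p chart hP 𝒩 n hG =
      lift p chart hP ℳ n hF ≫ tildeMap p chart hP u hu n := by
  have : IsIso (lift p chart hP 𝒩 n hG) := isIso_lift p chart hP 𝒩 n h𝒩 hG
  unfold mapOf
  rw [Category.assoc, Category.assoc, IsIso.inv_hom_id, Category.comp_id]

theorem comp_lift_eq_iff (ut : F ⟶ G')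
    (hF : IsRelTilde 𝒮 p chart ℳ n F lam) (hG : IsRelTilde 𝒮 p chart 𝒩 n G' lam') :
    (∀ (U : Y.Opens) (hU : IsAffineOpen U), ut ≫ lam' U hU =
      lam U hU ≫ (Scheme.Modules.pushforward (emb p chart U hU)).map
        (GrMod.map (𝒮.deg U hU)
          (show ℳ.mod.val.obj (op U) →ₗ[𝒮.presheaf.obj (op U)] 𝒩.mod.val.obj (op U) from (u.val.app (op U)).hom)
          (hu U hU) n)) ↔
      ut ≫ lift p chart hP 𝒩 n hG = lift p chart hP ℳ n hF ≫ tildeMap p chart hP u hu n := by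
  constructor
  · intro h
    apply hom_ext_lam
    intro U hU
    rw [Category.assoc, lift_lam p chart hP 𝒩 n hG U hU, h U hU, Category.assoc, tildeMap_lam,
      ← Category.assoc, lift_lam p chart hP ℳ n hF U hU]
  · intro h U hU
    rw [← lift_lam p chart hP 𝒩 n hG U hU, ← Category.assoc, h, Category.assoc, tildeMap_lam,
      ← Category.assoc, lift_lam p chart hP ℳ n hF U hU]

include hP in
theorem existsUnique_map (h𝒩 : Coh.IsQCoh ((AMod.toOS 𝒮.toQCAlg).obj 𝒩.mod))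
    (hF : IsRelTilde 𝒮 p chart ℳ n F lam) (hG : IsRelTilde 𝒮 p chart 𝒩 n G' lam') :
    ∃! ut : F ⟶ G', ∀ (U : Y.Opens) (hU : IsAffineOpen U), ut ≫ lam' U hU =
      lam U hU ≫ (Scheme.Modules.pushforward (emb p chart U hU)).map
        (GrMod.map (𝒮.deg U hU)
          (show ℳ.mod.val.obj (op U) →ₗ[𝒮.presheaf.obj (op U)] 𝒩.mod.val.obj (op U) from (u.val.app (op U)).hom)
          (hu U hU) n) := by
  have hi : IsIso (lift p chart hP 𝒩 n hG) := isIso_lift p chart hP 𝒩 n h𝒩 hG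
  refine ⟨mapOf p chart hP u hu n h𝒩 hF hG, ?_, ?_⟩
  · exact (comp_lift_eq_iff p chart hP u hu n _ hF hG).mpr (mapOf_comp_lift p chart hP u hu n h𝒩 hF hG)
  · intro ut hut
    have h1 := (comp_lift_eq_iff p chart hP u hu n ut hF hG).mp hut
    have h2 := mapOf_comp_lift p chart hP u hu n h𝒩 hF hG
    exact (cancel_mono (lift p chart hP 𝒩 n hG)).mp (h1.trans h2.symm)

end Groth.Agent.Lib.Helper3.RelTilde
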