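import Groth.Agent.Lib.Helper3.RelTildeU
/-!
# Sections of `(ℳ(n))~` on a relative Proj as compatible families
-/
universe u
set_option linter.unusedSectionVars false
open CategoryTheory CategoryTheory.Limits AlgebraicGeometry Opposite TopologicalSpace
open AlgebraicGeometry.Scheme.AffineZariskiSite
open scoped HomogeneousIdeal
open Groth.Agent.Lib.Helper29

namespace Groth.Agent.Lib.Helper3.RelTilde
open RelProj Groth.Agent.Lib.Helper3

variable {Y P : Scheme.{u}} {𝒮 : QCGrAlg Y} (p : P ⟶ Y)
  (chart : ∀ (U : Y.Opens) (hU : IsAffineOpen U), (((p ⁻¹ᵁ U : P.Opens) : Scheme.{u}) ≅ Proj (𝒮.deg U hU)))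
  (hP : IsRelProj 𝒮 p chart) (ℳ : GrModule 𝒮) (n : ℤ)
  {F : P.Modules}
  {lam : ∀ (U : Y.Opens) (hU : IsAffineOpen U),
      F ⟶ (Scheme.Modules.pushforward (emb p chart U hU)).obj
        (GrMod.tilde (𝒮.deg U hU) (ℳ.deg U hU) n)}

/-- A compatible family of sections of the chart modules over `W` is a section of the limit. -/
theorem exists_section_limit (W : P.Opens) (τ : ∀ U : Y.AffineZariskiSite, Γ(G p chart ℳ n U, W))
    (hτ : ∀ (U V : Y.AffineZariskiSite) (h : V ≤ U), (κ p chart hP ℳ n h).app W (τ U) = τ V) :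
    ∃ s : Γ(relTilde p chart hP ℳ n, W), ∀ U : Y.AffineZariskiSite,
      (limit.π (D p chart hP ℳ n) (op U)).app W s = τ U := by
  have hlim : IsLimit ((ModGlue.secF P W).mapCone (limit.cone (D p chart hP ℳ n))) :=
    isLimitOfPreserves _ (limit.isLimit _)
  let e := Types.isLimitEquivSections hlim
  have he : ∀ (x : Γ(limit (D p chart hP ℳ n), W)) (i : Y.AffineZariskiSite),
      (e x).1 (op i) = (limit.π (D p chart hP ℳ n) (op i)).app W x := fun x i => rfl
  refine ⟨e.symm ⟨fun j => τ j.unop, ?_⟩, fun U => ?_⟩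
  · intro x y f
    induction x using Opposite.rec with
    | op i =>
      induction y using Opposite.rec with
      | op j =>
        have hf : f = (homOfLE f.unop.le).op := Subsingleton.elim _ _
        rw [hf]
        exact hτ i j f.unop.le
  · rw [← he, Equiv.apply_symm_apply]

/-- A compatible family of sections of the chart modules over `W` is a section of `(ℳ(n))~`. -/
theorem exists_section (hℳ : Coh.IsQCoh ((AMod.toOS 𝒮.toQCAlg).obj ℳ.mod))
    (hF : IsRelTilde 𝒮 p chart ℳ n F lam) (W : P.Opens)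
    (τ : ∀ U : Y.AffineZariskiSite, Γ(G p chart ℳ n U, W))
    (hτ : ∀ (U V : Y.AffineZariskiSite) (h : V ≤ U), (κ p chart hP ℳ n h).app W (τ U) = τ V) :
    ∃ s : Γ(F, W), ∀ U : Y.AffineZariskiSite, (lam U.1 U.2).app W s = τ U := by
  obtain ⟨s₀, hs₀⟩ := exists_section_limit p chart hP ℳ n W τ hτ
  have hiso := isIso_lift p chart hP ℳ n hℳ hF
  have hb : Function.Bijective ((lift p chart hP ℳ n hF).app W) :=
    ConcreteCategory.bijective_of_isIso ((lift p chart hP ℳ n hF).app W)
  obtain ⟨s, hs⟩ := hb.2 s₀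
  refine ⟨s, fun U => ?_⟩
  have := congrArg (fun m => m.app W s) (lift_π p chart hP ℳ n hF (op U))
  simp only [Scheme.Modules.Hom.comp_app, ConcreteCategory.comp_apply] at this
  rw [← hs₀ U, ← hs]
  exact this.symm

/-- Sections of `(ℳ(n))~` are determined by their chart components. -/
theorem section_ext (hF : IsRelTilde 𝒮 p chart ℳ n F lam) (W : P.Opens) (s t : Γ(F, W))
    (h : ∀ U : Y.AffineZariskiSite, (lam U.1 U.2).app W s = (lam U.1 U.2).app W t) : s = t := by
  apply ModGlue.ext_of_cover F (fun U : Y.AffineZariskiSite => W ⊓ R p U) W (fun _ => inf_le_left)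
  · intro w hw
    obtain ⟨U, hU, hwU, -⟩ := exists_isAffineOpen_mem_and_subset (x := p.base w) (U := ⊤) trivial
    exact Opens.mem_iSup.mpr ⟨⟨U, hU⟩, hw, hwU⟩
  · intro U
    apply (hF.bijective U.1 U.2 _ inf_le_right).1
    exact (QCoh.app_res (lam U.1 U.2) inf_le_left s).trans
      ((congrArg _ (h U)).trans (QCoh.app_res (lam U.1 U.2) inf_le_left t).symm)

/-- The sectionwise compatibility of the identifications with the transition maps. -/
theorem κ_lam (hF : IsRelTilde 𝒮 p chart ℳ n F lam) {U V : Y.AffineZariskiSite} (h : V ≤ U)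
    (W : P.Opens) (s : Γ(F, W)) :
    (κ p chart hP ℳ n h).app W ((lam U.1 U.2).app W s) = (lam V.1 V.2).app W s := by
  have := congrArg (fun m => m.app W s) (lamD_w_le p chart hP ℳ n hF h)
  simp only [Scheme.Modules.Hom.comp_app, ConcreteCategory.comp_apply] at this
  exact this

end Groth.Agent.Lib.Helper3.RelTilde
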