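import Groth.Agent.Lib.Helper3.TNAlg
import Groth.Agent.Lib.Helper3.RelTensor
/-!
# (TN) from vanishing of `ℳ~` on a relative Proj under (TF)
-/
set_option autoImplicit false
set_option linter.unusedSectionVars false
universe u
open CategoryTheory CategoryTheory.Limits AlgebraicGeometry Opposite TopologicalSpace DirectSum
open AlgebraicGeometry.Scheme.AffineZariskiSite
open scoped HomogeneousIdeal
open Groth.Agent.Lib.Helper29 Groth.Agent.Lib.Helper29.QCoh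

namespace Groth.Agent.Lib.Helper3.RelGlued
open RelProj Groth.Agent.Lib.Helper3
open Groth.Agent.Lib.Helper3.RelTilde (e comap_mem range_e e_mem_R)

theorem section_eq_zero_of_isZero {X : Scheme.{u}} {F : X.Modules} (h0 : IsZero F) (W : X.Opens)
    (s : Γ(F, W)) : s = 0 := by
  have h1 : (𝟙 F : F ⟶ F) = 0 := h0.eq_of_src _ _
  have h2 : (Scheme.Modules.Hom.app (𝟙 F) W) s = (Scheme.Modules.Hom.app (0 : F ⟶ F) W) s := by
    rw [h1]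
  exact h2

variable {Y P : Scheme.{u}} {𝒮 : QCGrAlg Y} (p : P ⟶ Y)
  (chart : ∀ (U : Y.Opens) (hU : IsAffineOpen U), (((p ⁻¹ᵁ U : P.Opens) : Scheme.{u}) ≅ Proj (𝒮.deg U hU)))

theorem exists_pow_smul_eq_zero_of_isZero (ℳ : GrModule 𝒮) {F : P.Modules}
    {lam : ∀ (U : Y.Opens) (hU : IsAffineOpen U),
      F ⟶ (Scheme.Modules.pushforward (emb p chart U hU)).obj
        (GrMod.tilde (𝒮.deg U hU) (ℳ.deg U hU) 0)}
    (hF : IsRelTilde 𝒮 p chart ℳ 0 F lam) (h0 : IsZero F)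
    (V : Y.AffineZariskiSite) (g : 𝒮.deg V.1 V.2 1) {k : ℕ} (m : ℳ.mod.val.obj (op V.1))
    (hm : m ∈ ℳ.deg V.1 V.2 k) : ∃ N : ℕ, g.1 ^ N • m = 0 := by
  have hbij : Function.Bijective ((lam V.1 V.2).app (stdOpen p chart V g)) :=
    hF.bijective V.1 V.2 (stdOpen p chart V g) (stdOpen_le p chart V g)
  have hz : ∀ σ' : Γ(GrMod.tilde (𝒮.deg V.1 V.2) (ℳ.deg V.1 V.2) 0,
      e p chart V ⁻¹ᵁ stdOpen p chart V g), σ' = 0 := by
    intro σ'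
    obtain ⟨s, hs⟩ := hbij.2 σ'
    rw [section_eq_zero_of_isZero h0 _ s, map_zero] at hs
    exact hs.symm
  exact TNAlg.exists_pow_smul_eq_zero_of_sections_eq_zero (𝒮.deg V.1 V.2) (ℳ.deg V.1 V.2) g _
    (preimage_stdOpen p chart V g) hz m hm

theorem exists_bound_affine (hgen : 𝒮.IsGenDegOne) (hft : 𝒮.IsFTDeg 1) (ℳ : GrModule 𝒮)
    {F : P.Modules}
    {lam : ∀ (U : Y.Opens) (hU : IsAffineOpen U),
      F ⟶ (Scheme.Modules.pushforward (emb p chart U hU)).obj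
        (GrMod.tilde (𝒮.deg U hU) (ℳ.deg U hU) 0)}
    (hF : IsRelTilde 𝒮 p chart ℳ 0 F lam) (h0 : IsZero F) (n₀ : ℕ)
    (V : Y.AffineZariskiSite)
    (hfg : (Submodule.span (𝒮.presheaf.obj (op V.1))
      (⋃ k ∈ Set.Ici n₀, (ℳ.deg V.1 V.2 k : Set (ℳ.mod.val.obj (op V.1))))).FG) :
    ∃ D : ℕ, ∀ k : ℕ, D ≤ k → ∀ m ∈ ℳ.deg V.1 V.2 k, m = 0 := by
  obtain ⟨T', hT'1, hT'2⟩ := hft V.1 V.2
  refine TNAlg.exists_bound (𝒮.deg V.1 V.2) (ℳ.deg V.1 V.2) (hgen V.1 V.2) T' ?_ n₀ hfg ?_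
  · intro x hx
    obtain ⟨c, hc⟩ := hT'2 x hx
    rw [hc]
    exact Ideal.sum_mem _ fun t ht => Ideal.mul_mem_left _ _ (Ideal.subset_span ht)
  · intro f hf k m hm
    exact exists_pow_smul_eq_zero_of_isZero p chart ℳ hF h0 V ⟨f, hT'1 hf⟩ m hm

section Local
variable {Y : Scheme.{u}} {𝒮 : QCGrAlg Y} (ℳ : GrModule 𝒮)

/-- A degree bound over an affine open passes to its basic opens. -/
theorem bound_basicOpen (hℳ : Coh.IsQCoh ((AMod.toOS 𝒮.toQCAlg).obj ℳ.mod)) (U : Y.Opens)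
    (hU : IsAffineOpen U) (h : Γ(Y, U)) (k : ℕ) (hD : ∀ m ∈ ℳ.deg U hU k, m = 0) :
    ∀ m ∈ ℳ.deg (Y.basicOpen h) (hU.basicOpen h) k, m = 0 := by
  intro m' hm'
  have hloc := RelTilde.isLocModAt_res ℳ hℳ U hU h
  obtain ⟨μ, hμ, j, hj⟩ := TildeLoc.IsLocModAt.surj_hom
    (fun i m hm => ℳ.res_mem hU (hU.basicOpen h) (Y.basicOpen_le h) i m hm)
    (𝒮.str_mem U hU h) hloc hm'
  rw [hD μ hμ, map_zero] at hj
  have hu : IsUnit ((𝒮.res hU (hU.basicOpen h) (Y.basicOpen_le h)) ((𝒮.str.app (op U)).hom h)) := by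
    rw [QCGrAlg.res_apply, ← RelTilde.str_res]
    exact (RingedSpace.isUnit_res_basicOpen _ h).map _
  exact ((hu.pow j).smul_eq_zero).1 hj

/-- Over a quasi-compact base, chartwise degree bounds give (TN). -/
theorem isTN_of_local [CompactSpace Y] (hℳ : Coh.IsQCoh ((AMod.toOS 𝒮.toQCAlg).obj ℳ.mod))
    (hloc : ∀ (U : Y.Opens) (hU : IsAffineOpen U), ∃ D : ℕ, ∀ k : ℕ, D ≤ k →
      ∀ m ∈ ℳ.deg U hU k, m = 0) : ℳ.IsTN := by
  classical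
  choose D hD using hloc
  obtain ⟨t, ht⟩ := isCompact_univ.elim_finite_subcover
    (fun U : Y.affineOpens => ((U : Y.Opens) : Set Y)) (fun U => U.1.2)
    (by
      intro x _
      obtain ⟨U, hU, hx, -⟩ := exists_isAffineOpen_mem_and_subset (x := x) (U := ⊤) trivial
      exact Set.mem_iUnion.2 ⟨⟨U, hU⟩, hx⟩)
  refine ⟨t.sup (fun U => D U.1 U.2), fun V hV k hk m hm => ?_⟩
  have hx : ∀ x : V, ∃ (U : Y.affineOpens) (_ : U ∈ t) (h : Γ(Y, U.1)),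
      Y.basicOpen h ≤ V ∧ x.1 ∈ Y.basicOpen h := by
    intro x
    have hxu := ht (Set.mem_univ x.1)
    simp only [Set.mem_iUnion] at hxu
    obtain ⟨U, hUt, hxU⟩ := hxu
    obtain ⟨h, h1, h2⟩ := U.2.exists_basicOpen_le x hxU
    exact ⟨U, hUt, h, h1, h2⟩
  choose U hUt h hle hmem using hx
  have hcov : V ≤ ⨆ x : V, Y.basicOpen (h x) := by
    intro y hy
    exact Opens.mem_iSup.2 ⟨⟨y, hy⟩, hmem ⟨y, hy⟩⟩
  refine ModGlue.ext_of_cover ((AMod.toOS 𝒮.toQCAlg).obj ℳ.mod) (fun x : V => Y.basicOpen (h x)) V hle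
    hcov (show Γ((AMod.toOS 𝒮.toQCAlg).obj ℳ.mod, V) from m) 0 ?_
  intro x
  rw [map_zero]
  have h1 : (ℳ.mod.val.map (homOfLE (hle x)).op).hom m ∈
      ℳ.deg (Y.basicOpen (h x)) ((U x).2.basicOpen (h x)) k := ℳ.map_mem hV _ (hle x) hm
  exact bound_basicOpen ℳ hℳ (U x).1 (U x).2 (h x) k
    (hD (U x).1 (U x).2 k (le_trans (Finset.le_sup (f := fun U : Y.affineOpens => D U.1 U.2) (hUt x)) hk))
    _ h1

end Local

section Final
variable {Y P : Scheme.{u}} {𝒮 : QCGrAlg Y} (p : P ⟶ Y)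
  (chart : ∀ (U : Y.Opens) (hU : IsAffineOpen U), (((p ⁻¹ᵁ U : P.Opens) : Scheme.{u}) ≅ Proj (𝒮.deg U hU)))

theorem isTN_of_isZero_relTilde [CompactSpace Y] (hgen : 𝒮.IsGenDegOne) (hft : 𝒮.IsFTDeg 1)
    (ℳ : GrModule 𝒮) (hℳ : Coh.IsQCoh ((AMod.toOS 𝒮.toQCAlg).obj ℳ.mod)) (hTF : ℳ.IsTF)
    {F : P.Modules}
    {lam : ∀ (U : Y.Opens) (hU : IsAffineOpen U),
      F ⟶ (Scheme.Modules.pushforward (emb p chart U hU)).obj
        (GrMod.tilde (𝒮.deg U hU) (ℳ.deg U hU) 0)}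
    (hF : IsRelTilde 𝒮 p chart ℳ 0 F lam) (h0 : IsZero F) : ℳ.IsTN := by
  obtain ⟨n₀, hn₀⟩ := hTF
  exact isTN_of_local ℳ hℳ fun U hU =>
    exists_bound_affine p chart hgen hft ℳ hF h0 n₀ ⟨U, hU⟩ (hn₀ U hU)

end Final

end Groth.Agent.Lib.Helper3.RelGlued
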