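import Groth.Agent.Lib.Helper3.RelTwistBCb
set_option autoImplicit false
set_option linter.unusedSectionVars false
universe u
open CategoryTheory CategoryTheory.Limits AlgebraicGeometry Opposite TopologicalSpace
open AlgebraicGeometry.Scheme.AffineZariskiSite
open TensorProduct
open scoped HomogeneousIdeal
open Groth.Agent.Lib.Helper29

namespace Groth.Agent.Lib.Helper3.RelTwistQ
open RelProj RelSpec Groth.Agent.Lib.Helper3 Groth.Agent.Lib.Helper3.RelTilde Groth.Agent.Lib.Helper3.RelTwist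
open Groth.Agent.Lib.Helper3.RelGlued Groth.Agent.Lib.Helper3.TwistBC
open Groth.Agent.Lib.Helper3.TildeQC Groth.Agent.Lib.Helper3.TwistTriv

section Four
variable {S S' : Scheme.{u}} {g : S' ⟶ S} {𝒮 : QCGrAlg S} {𝒮' : QCGrAlg S'} (u : QGrHom g 𝒮 𝒮')
  (hu : IsQBaseChange u.toQHom)
  (hirr : ∀ (U : S.Opens) (hU : IsAffineOpen U) (U' : S'.Opens) (hU' : IsAffineOpen U')
    (hle : U' ≤ g ⁻¹ᵁ U), (𝒮'.deg U' hU')₊ ≤ ((𝒮.deg U hU)₊).map (u.gradedAt U hU U' hU' hle))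
  {P P' : Scheme.{u}} {p : P ⟶ S} {p' : P' ⟶ S'}
  {chart : ∀ (U : S.Opens) (hU : IsAffineOpen U), (((p ⁻¹ᵁ U : P.Opens) : Scheme.{u}) ≅ Proj (𝒮.deg U hU))}
  {chart' : ∀ (U' : S'.Opens) (hU' : IsAffineOpen U'), (((p' ⁻¹ᵁ U' : P'.Opens) : Scheme.{u}) ≅ Proj (𝒮'.deg U' hU'))}
  (hP : IsRelProj 𝒮 p chart) (hP' : IsRelProj 𝒮' p' chart')
  (h : P' ⟶ P)
  (hh : ∀ (U : S.Opens) (hU : IsAffineOpen U) (U' : S'.Opens) (hU' : IsAffineOpen U')
    (hle : U' ≤ g ⁻¹ᵁ U), emb p' chart' U' hU' ≫ h =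
      Proj.map (u.gradedAt U hU U' hU' hle) (hirr U hU U' hU' hle) ≫ emb p chart U hU)
  (n : ℤ)
  {LA : P.Modules}
  {lamA : ∀ (U : S.Opens) (hU : IsAffineOpen U),
      LA ⟶ (Scheme.Modules.pushforward (emb p chart U hU)).obj (GrTwist.twist (𝒮.deg U hU) n)}
  (hLA : IsRelTwist 𝒮 p chart n LA lamA)
  {LB : P'.Modules}
  {lamB : ∀ (U' : S'.Opens) (hU' : IsAffineOpen U'),
      LB ⟶ (Scheme.Modules.pushforward (emb p' chart' U' hU')).obj (GrTwist.twist (𝒮'.deg U' hU') n)}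
  (hLB : IsRelTwist 𝒮' p' chart' n LB lamB)

include hu in
/-- The adjoint `h^* O_P(n) ⟶ O_{P'}(n)` of the comparison map over a change of base is an
isomorphism when `𝒮' = g^* 𝒮` (no generation hypothesis). -/
theorem isIso_adjunct_θ_of_isQBaseChange :
    IsIso (((Scheme.Modules.pullbackPushforwardAdjunction h).homEquiv LA LB).symm
      (θ u hirr hP hP' h hh n hLA hLB)) := by
  haveI := isQuasicoherent_relTwist p chart n hLA
  haveI := isQuasicoherent_relTwist p' chart' n hLB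
  refine isIso_adjunct_of_bijective h (θ u hirr hP hP' h hh n hLA hLB)
    (ι := Σ c : Pair g, {q : Σ d : ℕ, 𝒮.deg c.U.1 c.U.2 d // 0 < q.1})
    (fun i => stdOpen p' chart' i.1.U' (ug u i.1 i.2.1.2)) (fun i => stdOpen p chart i.1.U i.2.1.2)
    (fun i => isAffineOpen_stdOpen p' chart' i.2.2 i.1.U' _)
    (fun i => isAffineOpen_stdOpen p chart i.2.2 i.1.U _)
    (fun i => stdOpen_le_preimage u hirr h hh i.1 i.2.1.2) ?_ ?_
  · intro x
    obtain ⟨V, hV, hxV, -⟩ := exists_isAffineOpen_mem_and_subset (x := g.base (p'.base x)) (U := ⊤) trivial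
    obtain ⟨V', hV', hxV', hle⟩ := exists_isAffineOpen_mem_and_subset (x := p'.base x) (U := g ⁻¹ᵁ V) hxV
    let c : Pair g := ⟨⟨V, hV⟩, ⟨V', hV'⟩, hle⟩
    obtain ⟨y, hy⟩ := exists_of_mem_R p' chart' c.U' x hxV'
    obtain ⟨m, hm, f, hf⟩ := exists_pos_mem_basicOpen (𝒮.deg V hV)
      (ProjectiveSpectrum.comap (uc u c) (hirr V hV V' hV' hle) y)
    refine ⟨⟨c, ⟨⟨m, f⟩, hm⟩⟩, ?_⟩
    change x ∈ stdOpen p' chart' c.U' (ug u c f)
    rw [← hy]
    exact (mem_stdOpen p' chart' c.U' (ug u c f) y).mpr hf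
  · intro i
    exact bijective_secMap_stdOpen u hu hirr hP hP' h hh n hLA hLB i.2.2 i.1 i.2.1.2

include hu hirr hP hP' hh hLA hLB in
theorem nonempty_iso_pullback_of_isQBaseChange' :
    Nonempty ((Scheme.Modules.pullback h).obj LA ≅ LB) := by
  have := isIso_adjunct_θ_of_isQBaseChange u hu hirr hP hP' h hh n hLA hLB
  exact ⟨asIso (((Scheme.Modules.pullbackPushforwardAdjunction h).homEquiv LA LB).symm
      (θ u hirr hP hP' h hh n hLA hLB))⟩

end Four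

end Groth.Agent.Lib.Helper3.RelTwistQ
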