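import Groth.Agent.Lib.Helper3.TwistBCW
import Groth.Agent.Lib.Helper3.RelTwistQIso
import Groth.Agent.Lib.Helper3.RelStrFun
set_option autoImplicit false
set_option linter.unusedSectionVars false
universe u
open CategoryTheory CategoryTheory.Limits AlgebraicGeometry Opposite TopologicalSpace
open AlgebraicGeometry.Scheme.AffineZariskiSite
open scoped HomogeneousIdeal
open Groth.Agent.Lib.Helper29

namespace Groth.Agent.Lib.Helper3.RelTwistQ
open RelProj RelSpec Groth.Agent.Lib.Helper3 Groth.Agent.Lib.Helper3.RelTilde Groth.Agent.Lib.Helper3.RelTwist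
open Groth.Agent.Lib.Helper3.RelGlued Groth.Agent.Lib.Helper3.TwistBC
open Groth.Agent.Lib.Helper3.TildeQC Groth.Agent.Lib.Helper3.TwistTriv

section One
variable {Y P : Scheme.{u}} {𝒮 : QCGrAlg Y} (p : P ⟶ Y)
  (chart : ∀ (U : Y.Opens) (hU : IsAffineOpen U), (((p ⁻¹ᵁ U : P.Opens) : Scheme.{u}) ≅ Proj (𝒮.deg U hU)))
  (hP : IsRelProj 𝒮 p chart)

include hP in
/-- the structure morphism on functions over a standard open, read in the chart -/
theorem ofun_e_app_appLE {d : ℕ} (V : Y.AffineZariskiSite) (a : 𝒮.deg V.1 V.2 d) (r : Γ(Y, V.1))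
    (y : ↥(e p chart V ⁻¹ᵁ stdOpen p chart V a)) :
    ofun (𝒮.deg V.1 V.2) ((e p chart V).app (stdOpen p chart V a)
      ((p.appLE V.1 (stdOpen p chart V a) (stdOpen_le p chart V a)).hom r)) y =
      Localization.mk ((𝒮.str.app (op V.1)).hom r) ⟨1, one_not_mem y.1⟩ := by
  have hnat := (e p chart V).naturality (homOfLE (stdOpen_le p chart V a)).op
  have h1 := congr($hnat (p.app V.1 r))
  have h2 : (e p chart V).app (stdOpen p chart V a)
      ((p.appLE V.1 (stdOpen p chart V a) (stdOpen_le p chart V a)).hom r) =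
      (e p chart V).app (stdOpen p chart V a)
        (P.presheaf.map (homOfLE (stdOpen_le p chart V a)).op (p.app V.1 r)) := rfl
  rw [h2]
  refine (congrArg (fun t => ofun (𝒮.deg V.1 V.2) t y) h1).trans ?_
  exact ofun_emb_app_p_app p chart hP V.1 V.2 r ⟨y.1, e_mem_R p chart V y.1⟩

end One

section Two
variable {S S' : Scheme.{u}} {g : S' ⟶ S} {𝒮 : QCGrAlg S} {𝒮' : QCGrAlg S'} (u : QGrHom g 𝒮 𝒮')
  (hu : IsQBaseChange u.toQHom)
  (hirr : ∀ (U : S.Opens) (hU : IsAffineOpen U) (U' : S'.Opens) (hU' : IsAffineOpen U')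
    (hle : U' ≤ g ⁻¹ᵁ U), (𝒮'.deg U' hU')₊ ≤ ((𝒮.deg U hU)₊).map (u.gradedAt U hU U' hU' hle))
  {P P' : Scheme.{u}} {p : P ⟶ S} {p' : P' ⟶ S'}
  {chart : ∀ (U : S.Opens) (hU : IsAffineOpen U), (((p ⁻¹ᵁ U : P.Opens) : Scheme.{u}) ≅ Proj (𝒮.deg U hU))}
  {chart' : ∀ (U' : S'.Opens) (hU' : IsAffineOpen U'), (((p' ⁻¹ᵁ U' : P'.Opens) : Scheme.{u}) ≅ Proj (𝒮'.deg U' hU'))}
  (hP : IsRelProj 𝒮 p chart) (hP' : IsRelProj 𝒮' p' chart')
  (h : P' ⟶ P)
  (hh : ∀ (U : S.Opens) (hU : IsAffineOpen U) (U' : S'.Opens) (hU' : IsAffineOpen U')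
    (hle : U' ≤ g ⁻¹ᵁ U), emb p' chart' U' hU' ≫ h =
      Proj.map (u.gradedAt U hU U' hU' hle) (hirr U hU U' hU' hle) ≫ emb p chart U hU)

include hh in
theorem stdOpen_le_preimage {d : ℕ} (c : Pair g) (a : 𝒮.deg c.U.1 c.U.2 d) :
    stdOpen p' chart' c.U' (ug u c a) ≤ h ⁻¹ᵁ stdOpen p chart c.U a := by
  intro x hx
  have hxR : x ∈ R p' c.U' := stdOpen_le p' chart' c.U' (ug u c a) hx
  obtain ⟨y, rfl⟩ := exists_of_mem_R p' chart' c.U' x hxR
  have hy : (ug u c a).1 ∉ y.asHomogeneousIdeal := (mem_stdOpen p' chart' c.U' (ug u c a) y).mp hx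
  have h1 := congrArg (fun m => m.base y) (pmQ_e u hirr h hh c)
  simp only [Scheme.Hom.comp_base, TopCat.hom_comp, ContinuousMap.comp_apply] at h1
  change h.base ((e p' chart' c.U').base y) ∈ stdOpen p chart c.U a
  rw [← h1]
  exact (mem_stdOpen p chart c.U a _).mpr hy

theorem appLE_congr_hom {X Y : Scheme.{u}} {k₁ k₂ : X ⟶ Y} (hk : k₁ = k₂) (U : Y.Opens) (V : X.Opens)
    (e₁ : V ≤ k₁ ⁻¹ᵁ U) (e₂ : V ≤ k₂ ⁻¹ᵁ U) : k₁.appLE U V e₁ = k₂.appLE U V e₂ := by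
  subst hk; rfl

include hu hP hP' hh in
/-- **The rings of functions on the standard opens form a pushout square.** -/
theorem isPushout_stdOpen {d : ℕ} (hd : 0 < d) (c : Pair g) (a : 𝒮.deg c.U.1 c.U.2 d) :
    IsPushout (g.appLE c.U.1 c.U'.1 c.hle)
      (p.appLE c.U.1 (stdOpen p chart c.U a) (stdOpen_le p chart c.U a))
      (p'.appLE c.U'.1 (stdOpen p' chart' c.U' (ug u c a)) (stdOpen_le p' chart' c.U' (ug u c a)))
      (h.appLE (stdOpen p chart c.U a) (stdOpen p' chart' c.U' (ug u c a))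
        (stdOpen_le_preimage u hirr h hh c a)) := by
  let i1 : Algebra Γ(S, c.U.1) Γ(S', c.U'.1) := (g.appLE c.U.1 c.U'.1 c.hle).hom.toAlgebra
  let i2 : Algebra Γ(S, c.U.1) (𝒮.presheaf.obj (op c.U.1)) := (𝒮.str.app (op c.U.1)).hom.toAlgebra
  let i3 : Algebra Γ(S', c.U'.1) (𝒮'.presheaf.obj (op c.U'.1)) := (𝒮'.str.app (op c.U'.1)).hom.toAlgebra
  let i4 : Algebra (𝒮.presheaf.obj (op c.U.1)) (𝒮'.presheaf.obj (op c.U'.1)) :=
    (u.appLE c.U.1 c.U'.1 c.hle).hom.toAlgebra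
  let i5 : Algebra Γ(S, c.U.1) (𝒮'.presheaf.obj (op c.U'.1)) :=
    ((algebraMap Γ(S', c.U'.1) (𝒮'.presheaf.obj (op c.U'.1))).comp (algebraMap Γ(S, c.U.1) Γ(S', c.U'.1))).toAlgebra
  have t1 : IsScalarTower Γ(S, c.U.1) Γ(S', c.U'.1) (𝒮'.presheaf.obj (op c.U'.1)) := .of_algebraMap_eq' rfl
  have t2 : IsScalarTower Γ(S, c.U.1) (𝒮.presheaf.obj (op c.U.1)) (𝒮'.presheaf.obj (op c.U'.1)) :=
    .of_algebraMap_eq' (congrArg CommRingCat.Hom.hom (u.toQHom.str_appLE c.U.1 c.U'.1 c.hle)).symm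
  have hpo : Algebra.IsPushout Γ(S, c.U.1) Γ(S', c.U'.1) (𝒮.presheaf.obj (op c.U.1)) (𝒮'.presheaf.obj (op c.U'.1)) :=
    CommRingCat.isPushout_iff_isPushout.mp (hu c.U.1 c.U.2 c.U'.1 c.U'.2 c.hle)
  have hW : e p chart c.U ⁻¹ᵁ stdOpen p chart c.U a = Proj.basicOpen (𝒮.deg c.U.1 c.U.2) a.1 :=
    preimage_stdOpen p chart c.U a
  have hW' : e p' chart' c.U' ⁻¹ᵁ stdOpen p' chart' c.U' (ug u c a) =
      Proj.basicOpen (𝒮'.deg c.U'.1 c.U'.2) ((uc u c) a.1) :=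
    preimage_stdOpen p' chart' c.U' (ug u c a)
  have e' : e p' chart' c.U' ⁻¹ᵁ stdOpen p' chart' c.U' (ug u c a) ≤
      Proj.map (uc u c) (hirr c.U.1 c.U.2 c.U'.1 c.U'.2 c.hle) ⁻¹ᵁ
        (e p chart c.U ⁻¹ᵁ stdOpen p chart c.U a) := fun y hy =>
    comap_memQ u hirr h hh c (stdOpen p chart c.U a) y (stdOpen_le_preimage u hirr h hh c a hy)
  have habs := isPushout_sectionsW (𝒮.deg c.U.1 c.U.2) (𝒮'.deg c.U'.1 c.U'.2)
    (𝒮.strZero c.U.1 c.U.2).hom (fun r => rfl) (𝒮'.strZero c.U'.1 c.U'.2).hom (fun r => rfl)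
    (uc u c) (fun a => rfl) (hirr c.U.1 c.U.2 c.U'.1 c.U'.2 c.hle) hd a.2 _ hW _ hW' e'
  haveI : IsIso ((e p chart c.U).app (stdOpen p chart c.U a)) :=
    Scheme.Hom.isIso_app _ _ (stdOpen_le_range p chart c.U a)
  haveI : IsIso ((e p' chart' c.U').app (stdOpen p' chart' c.U' (ug u c a))) :=
    Scheme.Hom.isIso_app _ _ (stdOpen_le_range p' chart' c.U' (ug u c a))
  refine habs.of_iso (Iso.refl _) (Iso.refl _) (asIso ((e p chart c.U).app (stdOpen p chart c.U a))).symm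
    (asIso ((e p' chart' c.U').app (stdOpen p' chart' c.U' (ug u c a)))).symm ?_ ?_ ?_ ?_
  · exact (Category.comp_id _).trans (Category.id_comp _).symm
  · rw [Iso.refl_hom, Category.id_comp, Iso.symm_hom, asIso_inv, IsIso.comp_inv_eq]
    ext r
    apply TildeQC.ofun_ext
    intro y
    refine Eq.trans ?_ (ofun_e_app_appLE p chart hP c.U a r y).symm
    change ofun _ (rhoS (𝒮.deg c.U.1 c.U.2) (𝒮.strZero c.U.1 c.U.2).hom a.1 r) ⟨y.1, _⟩ = _
    rw [rhoS_eq_mkO, ofun_mkO]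
    rfl
  · rw [Iso.refl_hom, Category.id_comp, Iso.symm_hom, asIso_inv, IsIso.comp_inv_eq]
    ext r
    apply TildeQC.ofun_ext
    intro y
    refine Eq.trans ?_ (ofun_e_app_appLE p' chart' hP' c.U' (ug u c a) r y).symm
    change ofun _ (rhoS (𝒮'.deg c.U'.1 c.U'.2) (𝒮'.strZero c.U'.1 c.U'.2).hom ((uc u c) a.1) r) ⟨y.1, _⟩ = _
    rw [rhoS_eq_mkO, ofun_mkO]
    rfl
  · rw [Iso.symm_hom, asIso_inv, Iso.symm_hom, asIso_inv, IsIso.comp_inv_eq, Category.assoc,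
      IsIso.eq_inv_comp]
    rw [Scheme.Hom.app_eq_appLE, Scheme.Hom.app_eq_appLE, Scheme.Hom.appLE_comp_appLE,
      Scheme.Hom.appLE_comp_appLE]
    exact appLE_congr_hom (pmQ_e u hirr h hh c) _ _ _ _

end Two

end Groth.Agent.Lib.Helper3.RelTwistQ
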