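import Groth.Agent.Lib.Helper3.RelTwistBCa
set_option autoImplicit false
set_option linter.unusedSectionVars false
universe u
open CategoryTheory CategoryTheory.Limits AlgebraicGeometry Opposite TopologicalSpace
open AlgebraicGeometry.Scheme.AffineZariskiSite
open TensorProduct
open scoped HomogeneousIdeal
open Groth.Agent.Lib.Helper29

namespace Groth.Agent.Lib.Helper3.RelTwistQ
open RelProj RelSpec Groth.Agent.Lib.Helper3 Groth.Agent.Lib.Helper3.RelTilde Groth.Agent.Lib.Helper3.RelTwist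
open Groth.Agent.Lib.Helper3.RelGlued Groth.Agent.Lib.Helper3.TwistBC
open Groth.Agent.Lib.Helper3.TildeQC Groth.Agent.Lib.Helper3.TwistTriv

section One
variable {Y P : Scheme.{u}} {𝒮 : QCGrAlg Y} (p : P ⟶ Y)
  (chart : ∀ (U : Y.Opens) (hU : IsAffineOpen U), (((p ⁻¹ᵁ U : P.Opens) : Scheme.{u}) ≅ Proj (𝒮.deg U hU)))
  (hP : IsRelProj 𝒮 p chart)

include hP in
theorem e_app_appLE_eq {d : ℕ} (V : Y.AffineZariskiSite) (a : 𝒮.deg V.1 V.2 d) (r : Γ(Y, V.1)) :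
    (e p chart V).app (stdOpen p chart V a)
      ((p.appLE V.1 (stdOpen p chart V a) (stdOpen_le p chart V a)).hom r) =
    (Proj (𝒮.deg V.1 V.2)).presheaf.map (homOfLE (le_of_eq (preimage_stdOpen p chart V a))).op
      (rhoS (𝒮.deg V.1 V.2) (𝒮.strZero V.1 V.2).hom a.1 r) := by
  apply TildeQC.ofun_ext
  intro y
  refine (ofun_e_app_appLE p chart hP V a r y).trans ?_
  symm
  change ofun _ (rhoS (𝒮.deg V.1 V.2) (𝒮.strZero V.1 V.2).hom a.1 r) ⟨y.1, _⟩ = _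
  rw [rhoS_eq_mkO, ofun_mkO]
  rfl

end One

section Three
variable {S S' : Scheme.{u}} {g : S' ⟶ S} {𝒮 : QCGrAlg S} {𝒮' : QCGrAlg S'} (u : QGrHom g 𝒮 𝒮')
  (hu : IsQBaseChange u.toQHom)
  (hirr : ∀ (U : S.Opens) (hU : IsAffineOpen U) (U' : S'.Opens) (hU' : IsAffineOpen U')
    (hle : U' ≤ g ⁻¹ᵁ U), (𝒮'.deg U' hU')₊ ≤ ((𝒮.deg U hU)₊).map (u.gradedAt U hU U' hU' hle))
  {P P' : Scheme.{u}} {p : P ⟶ S} {p' : P' ⟶ S'}
  {chart : ∀ (U : S.Opens) (hU : IsAffineOpen U), (((p ⁻¹ᵁ U : P.Opens) : Scheme.{u}) ≅ Proj (𝒮.deg U hU))}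
  {chart' : ∀ (U' : S'.Opens) (hU' : IsAffineOpen U'), (((p' ⁻¹ᵁ U' : P'.Opens) : Scheme.{u}) ≅ Proj (𝒮'.deg U' hU'))}
  (hP : IsRelProj 𝒮 p chart) (hP' : IsRelProj 𝒮' p' chart')
  (h : P' ⟶ P)
  (hh : ∀ (U : S.Opens) (hU : IsAffineOpen U) (U' : S'.Opens) (hU' : IsAffineOpen U')
    (hle : U' ≤ g ⁻¹ᵁ U), emb p' chart' U' hU' ≫ h =
      Proj.map (u.gradedAt U hU U' hU' hle) (hirr U hU U' hU' hle) ≫ emb p chart U hU)
  (n : ℤ)
  {LA : P.Modules}
  {lamA : ∀ (U : S.Opens) (hU : IsAffineOpen U),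
      LA ⟶ (Scheme.Modules.pushforward (emb p chart U hU)).obj (GrTwist.twist (𝒮.deg U hU) n)}
  (hLA : IsRelTwist 𝒮 p chart n LA lamA)
  {LB : P'.Modules}
  {lamB : ∀ (U' : S'.Opens) (hU' : IsAffineOpen U'),
      LB ⟶ (Scheme.Modules.pushforward (emb p' chart' U' hU')).obj (GrTwist.twist (𝒮'.deg U' hU') n)}
  (hLB : IsRelTwist 𝒮' p' chart' n LB lamB)

include hu in
/-- **Sections of the relative twisting sheaves over standard opens commute with base change.** -/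
theorem bijective_secMap_stdOpen {d : ℕ} (hd : 0 < d) (c : Pair g) (a : 𝒮.deg c.U.1 c.U.2 d) :
    letI := (h.appLE (stdOpen p chart c.U a) (stdOpen p' chart' c.U' (ug u c a)) (stdOpen_le_preimage u hirr h hh c a)).hom.toAlgebra
    letI := Module.compHom Γ(LB, (stdOpen p' chart' c.U' (ug u c a))) (h.appLE (stdOpen p chart c.U a) (stdOpen p' chart' c.U' (ug u c a)) (stdOpen_le_preimage u hirr h hh c a)).hom
    letI := isScalarTower_compHom (U := (stdOpen p' chart' c.U' (ug u c a))) (V := (stdOpen p chart c.U a)) h (N := LB) (stdOpen_le_preimage u hirr h hh c a)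
    Function.Bijective ((secMap (U := (stdOpen p' chart' c.U' (ug u c a))) (V := (stdOpen p chart c.U a)) h (θ u hirr hP hP' h hh n hLA hLB) (stdOpen_le_preimage u hirr h hh c a)).liftBaseChange
      (P'.presheaf.obj (op (stdOpen p' chart' c.U' (ug u c a))))) := by
  -- the coefficient rings
  let i1 : Algebra Γ(S, c.U.1) Γ(S', c.U'.1) := (g.appLE c.U.1 c.U'.1 c.hle).hom.toAlgebra
  let i2 : Algebra Γ(S, c.U.1) (𝒮.presheaf.obj (op c.U.1)) := (𝒮.str.app (op c.U.1)).hom.toAlgebra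
  let i3 : Algebra Γ(S', c.U'.1) (𝒮'.presheaf.obj (op c.U'.1)) := (𝒮'.str.app (op c.U'.1)).hom.toAlgebra
  let i4 : Algebra (𝒮.presheaf.obj (op c.U.1)) (𝒮'.presheaf.obj (op c.U'.1)) :=
    (u.appLE c.U.1 c.U'.1 c.hle).hom.toAlgebra
  let i5 : Algebra Γ(S, c.U.1) (𝒮'.presheaf.obj (op c.U'.1)) :=
    ((algebraMap Γ(S', c.U'.1) (𝒮'.presheaf.obj (op c.U'.1))).comp (algebraMap Γ(S, c.U.1) Γ(S', c.U'.1))).toAlgebra
  have t1 : IsScalarTower Γ(S, c.U.1) Γ(S', c.U'.1) (𝒮'.presheaf.obj (op c.U'.1)) := .of_algebraMap_eq' rfl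
  have t2 : IsScalarTower Γ(S, c.U.1) (𝒮.presheaf.obj (op c.U.1)) (𝒮'.presheaf.obj (op c.U'.1)) :=
    .of_algebraMap_eq' (congrArg CommRingCat.Hom.hom (u.toQHom.str_appLE c.U.1 c.U'.1 c.hle)).symm
  have hpo : Algebra.IsPushout Γ(S, c.U.1) Γ(S', c.U'.1) (𝒮.presheaf.obj (op c.U.1)) (𝒮'.presheaf.obj (op c.U'.1)) :=
    CommRingCat.isPushout_iff_isPushout.mp (hu c.U.1 c.U.2 c.U'.1 c.U'.2 c.hle)
  have hψa : (uc u c) a.1 ∈ (𝒮'.deg c.U'.1 c.U'.2) d := (uc u c).map_mem a.2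
  have hW : e p chart c.U ⁻¹ᵁ (stdOpen p chart c.U a) = Proj.basicOpen (𝒮.deg c.U.1 c.U.2) a.1 :=
    preimage_stdOpen p chart c.U a
  have hW' : e p' chart' c.U' ⁻¹ᵁ (stdOpen p' chart' c.U' (ug u c a)) = Proj.basicOpen (𝒮'.deg c.U'.1 c.U'.2) ((uc u c) a.1) :=
    preimage_stdOpen p' chart' c.U' (ug u c a)
  -- the rings of functions
  letI iSS : Algebra Γ(P, (stdOpen p chart c.U a)) Γ(P', (stdOpen p' chart' c.U' (ug u c a))) := (h.appLE (stdOpen p chart c.U a) (stdOpen p' chart' c.U' (ug u c a)) (stdOpen_le_preimage u hirr h hh c a)).hom.toAlgebra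
  letI mSN : Module Γ(P, (stdOpen p chart c.U a)) Γ(LB, (stdOpen p' chart' c.U' (ug u c a))) := Module.compHom _ (h.appLE (stdOpen p chart c.U a) (stdOpen p' chart' c.U' (ug u c a)) (stdOpen_le_preimage u hirr h hh c a)).hom
  letI tSN : IsScalarTower Γ(P, (stdOpen p chart c.U a)) Γ(P', (stdOpen p' chart' c.U' (ug u c a))) Γ(LB, (stdOpen p' chart' c.U' (ug u c a))) :=
    isScalarTower_compHom (U := (stdOpen p' chart' c.U' (ug u c a))) (V := (stdOpen p chart c.U a)) h (N := LB) (stdOpen_le_preimage u hirr h hh c a)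
  letI iRS : Algebra Γ(S, c.U.1) Γ(P, (stdOpen p chart c.U a)) := (p.appLE c.U.1 (stdOpen p chart c.U a) (stdOpen_le p chart c.U a)).hom.toAlgebra
  letI iRS' : Algebra Γ(S', c.U'.1) Γ(P', (stdOpen p' chart' c.U' (ug u c a))) := (p'.appLE c.U'.1 (stdOpen p' chart' c.U' (ug u c a)) (stdOpen_le p' chart' c.U' (ug u c a))).hom.toAlgebra
  letI iRS'' : Algebra Γ(S, c.U.1) Γ(P', (stdOpen p' chart' c.U' (ug u c a))) :=
    ((p'.appLE c.U'.1 (stdOpen p' chart' c.U' (ug u c a)) (stdOpen_le p' chart' c.U' (ug u c a))).hom.comp (algebraMap Γ(S, c.U.1) Γ(S', c.U'.1))).toAlgebra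
  haveI t1' : IsScalarTower Γ(S, c.U.1) Γ(S', c.U'.1) Γ(P', (stdOpen p' chart' c.U' (ug u c a))) := .of_algebraMap_eq' rfl
  have hpoS := isPushout_stdOpen u hu hirr hP hP' h hh hd c a
  have key : ∀ r : Γ(S, c.U.1), (h.appLE (stdOpen p chart c.U a) (stdOpen p' chart' c.U' (ug u c a)) (stdOpen_le_preimage u hirr h hh c a)).hom ((p.appLE c.U.1 (stdOpen p chart c.U a) (stdOpen_le p chart c.U a)).hom r) =
      (p'.appLE c.U'.1 (stdOpen p' chart' c.U' (ug u c a)) (stdOpen_le p' chart' c.U' (ug u c a))).hom (algebraMap Γ(S, c.U.1) Γ(S', c.U'.1) r) := by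
    intro r
    exact (congr($(hpoS.w) r)).symm
  haveI t2' : IsScalarTower Γ(S, c.U.1) Γ(P, (stdOpen p chart c.U a)) Γ(P', (stdOpen p' chart' c.U' (ug u c a))) :=
    .of_algebraMap_eq fun r => (key r).symm
  letI mRM : Module Γ(S, c.U.1) Γ(LA, (stdOpen p chart c.U a)) := Module.compHom _ (p.appLE c.U.1 (stdOpen p chart c.U a) (stdOpen_le p chart c.U a)).hom
  letI mRN' : Module Γ(S', c.U'.1) Γ(LB, (stdOpen p' chart' c.U' (ug u c a))) := Module.compHom _ (p'.appLE c.U'.1 (stdOpen p' chart' c.U' (ug u c a)) (stdOpen_le p' chart' c.U' (ug u c a))).hom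
  letI mRN : Module Γ(S, c.U.1) Γ(LB, (stdOpen p' chart' c.U' (ug u c a))) :=
    Module.compHom _ ((p'.appLE c.U'.1 (stdOpen p' chart' c.U' (ug u c a)) (stdOpen_le p' chart' c.U' (ug u c a))).hom.comp (algebraMap Γ(S, c.U.1) Γ(S', c.U'.1)))
  haveI t3 : IsScalarTower Γ(S, c.U.1) Γ(S', c.U'.1) Γ(LB, (stdOpen p' chart' c.U' (ug u c a))) :=
    .of_algebraMap_smul fun _ _ => rfl
  haveI t4 : IsScalarTower Γ(S, c.U.1) Γ(P, (stdOpen p chart c.U a)) Γ(LA, (stdOpen p chart c.U a)) :=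
    .of_algebraMap_smul fun _ _ => rfl
  haveI t5 : IsScalarTower Γ(S', c.U'.1) Γ(P', (stdOpen p' chart' c.U' (ug u c a))) Γ(LB, (stdOpen p' chart' c.U' (ug u c a))) :=
    .of_algebraMap_smul fun _ _ => rfl
  -- the chart identifications on sections
  let bA : Γ(LA, (stdOpen p chart c.U a)) ≃+ Γ(GrTwist.twist (𝒮.deg c.U.1 c.U.2) n, e p chart c.U ⁻¹ᵁ (stdOpen p chart c.U a)) :=
    AddEquiv.ofBijective ((lamA c.U.1 c.U.2).app (stdOpen p chart c.U a)).hom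
      (hLA.bijective c.U.1 c.U.2 (stdOpen p chart c.U a) (stdOpen_le p chart c.U a))
  let bB : Γ(LB, (stdOpen p' chart' c.U' (ug u c a))) ≃+ Γ(GrTwist.twist (𝒮'.deg c.U'.1 c.U'.2) n, e p' chart' c.U' ⁻¹ᵁ (stdOpen p' chart' c.U' (ug u c a))) :=
    AddEquiv.ofBijective ((lamB c.U'.1 c.U'.2).app (stdOpen p' chart' c.U' (ug u c a))).hom
      (hLB.bijective c.U'.1 c.U'.2 (stdOpen p' chart' c.U' (ug u c a)) (stdOpen_le p' chart' c.U' (ug u c a)))
  have hbA : ∀ m, bA m = (lamA c.U.1 c.U.2).app (stdOpen p chart c.U a) m := fun m => rfl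
  have hbB : ∀ m, bB m = (lamB c.U'.1 c.U'.2).app (stdOpen p' chart' c.U' (ug u c a)) m := fun m => rfl
  -- the L-families
  let L : ℕ → (𝒮.presheaf.obj (op c.U.1)) →ₗ[Γ(S, c.U.1)] Γ(LA, (stdOpen p chart c.U a)) := fun k =>
    { toFun := fun x => bA.symm (QCoh.res (GrTwist.twist (𝒮.deg c.U.1 c.U.2) n) (le_of_eq hW) (Lsec (𝒮.deg c.U.1 c.U.2) hd a.2 n k x))
      map_add' := fun x y => by rw [Lsec_add, map_add, map_add]
      map_smul' := fun r x => by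
        apply bA.injective
        rw [AddEquiv.apply_symm_apply, RingHom.id_apply]
        change _ = bA ((p.appLE c.U.1 (stdOpen p chart c.U a) (stdOpen_le p chart c.U a)).hom r • bA.symm _)
        rw [hbA, QCoh.app_smul', ← hbA, AddEquiv.apply_symm_apply,
          Lsec_smul (𝒮.deg c.U.1 c.U.2) (𝒮.strZero c.U.1 c.U.2).hom (fun _ => rfl) hd a.2 n k r x, QCoh.res_smul]
        exact congrArg (fun t => t • QCoh.res (GrTwist.twist (𝒮.deg c.U.1 c.U.2) n) (le_of_eq hW) (Lsec (𝒮.deg c.U.1 c.U.2) hd a.2 n k x))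
          (e_app_appLE_eq p chart hP c.U a r).symm }
  let L' : ℕ → (𝒮'.presheaf.obj (op c.U'.1)) →ₗ[Γ(S', c.U'.1)] Γ(LB, (stdOpen p' chart' c.U' (ug u c a))) := fun k =>
    { toFun := fun x => bB.symm (QCoh.res (GrTwist.twist (𝒮'.deg c.U'.1 c.U'.2) n) (le_of_eq hW') (Lsec (𝒮'.deg c.U'.1 c.U'.2) hd hψa n k x))
      map_add' := fun x y => by rw [Lsec_add, map_add, map_add]
      map_smul' := fun r x => by
        apply bB.injective
        rw [AddEquiv.apply_symm_apply, RingHom.id_apply]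
        change _ = bB ((p'.appLE c.U'.1 (stdOpen p' chart' c.U' (ug u c a)) (stdOpen_le p' chart' c.U' (ug u c a))).hom r • bB.symm _)
        rw [hbB, QCoh.app_smul', ← hbB, AddEquiv.apply_symm_apply,
          Lsec_smul (𝒮'.deg c.U'.1 c.U'.2) (𝒮'.strZero c.U'.1 c.U'.2).hom (fun _ => rfl) hd hψa n k r x, QCoh.res_smul]
        exact congrArg (fun t => t • QCoh.res (GrTwist.twist (𝒮'.deg c.U'.1 c.U'.2) n) (le_of_eq hW') (Lsec (𝒮'.deg c.U'.1 c.U'.2) hd hψa n k x))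
          (e_app_appLE_eq p' chart' hP' c.U' (ug u c a) r).symm }
  let v : Γ(LA, (stdOpen p chart c.U a)) →ₗ[Γ(S, c.U.1)] Γ(LB, (stdOpen p' chart' c.U' (ug u c a))) :=
    { toFun := secFun h (θ u hirr hP hP' h hh n hLA hLB) (stdOpen_le_preimage u hirr h hh c a)
      map_add' := map_add _
      map_smul' := fun r m => by
        change secFun h (θ u hirr hP hP' h hh n hLA hLB) (stdOpen_le_preimage u hirr h hh c a) ((p.appLE c.U.1 (stdOpen p chart c.U a) (stdOpen_le p chart c.U a)).hom r • m) =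
          (p'.appLE c.U'.1 (stdOpen p' chart' c.U' (ug u c a)) (stdOpen_le p' chart' c.U' (ug u c a))).hom (algebraMap Γ(S, c.U.1) Γ(S', c.U'.1) r) • secFun h (θ u hirr hP hP' h hh n hLA hLB) (stdOpen_le_preimage u hirr h hh c a) m
        rw [secFun_smul, key] }
  have hLk : ∀ k x, bA (L k x) = QCoh.res (GrTwist.twist (𝒮.deg c.U.1 c.U.2) n) (le_of_eq hW) (Lsec (𝒮.deg c.U.1 c.U.2) hd a.2 n k x) :=
    fun k x => AddEquiv.apply_symm_apply bA _
  have hLk' : ∀ k x, bB (L' k x) = QCoh.res (GrTwist.twist (𝒮'.deg c.U'.1 c.U'.2) n) (le_of_eq hW') (Lsec (𝒮'.deg c.U'.1 c.U'.2) hd hψa n k x) :=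
    fun k x => AddEquiv.apply_symm_apply bB _
  have hΦ : Function.Bijective (v.liftBaseChange Γ(S', c.U'.1)) := by
    refine bijective_liftBaseChange (𝒮.deg c.U.1 c.U.2) (𝒮'.deg c.U'.1 c.U'.2) (𝒮'.strZero c.U'.1 c.U'.2).hom (fun _ => rfl) (uc u c)
      (fun _ => rfl) a.2 (n0 n d) L L' v ?_ ?_ ?_ ?_ ?_
    · intro k m x
      apply bA.injective
      rw [hLk, hLk, Lsec_mul_pow]
    · intro x
      obtain ⟨k, y, hy, hxy⟩ := exists_eq_res_Lsec (𝒮.deg c.U.1 c.U.2) hd a.2 n _ hW (bA x)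
      exact ⟨k, y, hy, bA.injective (hxy.trans (hLk k y).symm)⟩
    · intro x
      obtain ⟨k, y, hy, hxy⟩ := exists_eq_res_Lsec (𝒮'.deg c.U'.1 c.U'.2) hd hψa n _ hW' (bB x)
      exact ⟨k, y, hy, bB.injective (hxy.trans (hLk' k y).symm)⟩
    · intro k b hb h0
      have h1 := hLk' k b
      rw [h0, map_zero] at h1
      exact exists_mul_pow_eq_zero_of_res (𝒮'.deg c.U'.1 c.U'.2) hd hψa n _ hW' k b hb h1.symm
    · intro k x
      apply bB.injective
      rw [hLk']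
      change (lamB c.U'.1 c.U'.2).app (stdOpen p' chart' c.U' (ug u c a)) (QCoh.res LB (stdOpen_le_preimage u hirr h hh c a) ((θ u hirr hP hP' h hh n hLA hLB).app (stdOpen p chart c.U a) (L k x))) = _
      rw [QCoh.app_res]
      apply tfun_ext
      intro y
      have hy1 : (e p' chart' c.U').base y.1 ∈ h ⁻¹ᵁ (stdOpen p chart c.U a) := (stdOpen_le_preimage u hirr h hh c a) y.2
      have h1 := θ_val u hirr hP hP' h hh n hLA hLB c (stdOpen p chart c.U a) (L k x) y.1 hy1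
      have h2 : (lamA c.U.1 c.U.2).app (stdOpen p chart c.U a) (L k x) =
          QCoh.res (GrTwist.twist (𝒮.deg c.U.1 c.U.2) n) (le_of_eq hW) (Lsec (𝒮.deg c.U.1 c.U.2) hd a.2 n k x) := hLk k x
      rw [h2] at h1
      refine h1.trans ?_
      have hy2 : y.1 ∈ Proj.basicOpen (𝒮'.deg c.U'.1 c.U'.2) ((uc u c) a.1) := hW' ▸ y.2
      exact locMap_tfun_Lsec (uc u c) (hirr c.U.1 c.U.2 c.U'.1 c.U'.2 c.hle) hd a.2 n k x y.1 hy2
  have hspan : Submodule.span Γ(S', c.U'.1) (Set.range (algebraMap Γ(P, (stdOpen p chart c.U a)) Γ(P', (stdOpen p' chart' c.U' (ug u c a))))) = ⊤ :=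
    span_eq_top_of_isPushout (CommRingCat.isPushout_iff_isPushout.mp hpoS)
  exact bijective_liftBaseChange_of_span v
    (secMap (U := (stdOpen p' chart' c.U' (ug u c a))) (V := (stdOpen p chart c.U a)) h (θ u hirr hP hP' h hh n hLA hLB) (stdOpen_le_preimage u hirr h hh c a)) (fun m => rfl) hspan hΦ

end Three

end Groth.Agent.Lib.Helper3.RelTwistQ
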