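import Groth.Agent.Lib.Helper3.TwistFin
import Groth.Agent.Lib.Helper3.RelTildeFT
/-!
# `O_P(n)` is of finite type on the relative Proj of a finite-type graded algebra
-/
set_option autoImplicit false
set_option linter.unusedSectionVars false
universe u
open CategoryTheory CategoryTheory.Limits AlgebraicGeometry Opposite TopologicalSpace DirectSum
open AlgebraicGeometry.Scheme.AffineZariskiSite
open scoped HomogeneousIdeal
open Groth.Agent.Lib.Helper29 Groth.Agent.Lib.Helper29.QCoh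

namespace Groth.Agent.Lib.Helper3.RelGlued
open RelProj Groth.Agent.Lib.Helper3
open Groth.Agent.Lib.Helper3.RelTilde (e comap_mem range_e e_mem_R)

section Alg
variable {A σ : Type u} [CommRing A] [SetLike σ A] [AddSubgroupClass σ A] (𝒜 : ℕ → σ) [GradedRing 𝒜]

theorem finiteType_zero_of_finiteType {R : Type u} [CommRing R] (φ : R →+* A)
    (hφ0 : ∀ r, φ r ∈ 𝒜 0) (hφ : φ.FiniteType) : Algebra.FiniteType (𝒜 0) A := by
  let φ0 : R →+* 𝒜 0 :=
    { toFun := fun r => ⟨φ r, hφ0 r⟩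
      map_one' := Subtype.ext (map_one _)
      map_mul' := fun a b => Subtype.ext (map_mul _ a b)
      map_zero' := Subtype.ext (map_zero _)
      map_add' := fun a b => Subtype.ext (map_add _ a b) }
  let _ : Algebra R A := φ.toAlgebra
  let _ : Algebra R (𝒜 0) := φ0.toAlgebra
  have : IsScalarTower R (𝒜 0) A := IsScalarTower.of_algebraMap_eq fun r => rfl
  have hft : Algebra.FiniteType R A := hφ
  exact Algebra.FiniteType.of_restrictScalars_finiteType R (𝒜 0) A

end Alg

variable {Y P : Scheme.{u}} {𝒮 : QCGrAlg Y} (p : P ⟶ Y)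
  (chart : ∀ (U : Y.Opens) (hU : IsAffineOpen U), (((p ⁻¹ᵁ U : P.Opens) : Scheme.{u}) ≅ Proj (𝒮.deg U hU)))

theorem module_finite_stdOpen_twist
    (hft : ∀ (U : Y.Opens) (_ : IsAffineOpen U), (𝒮.str.app (op U)).hom.FiniteType) (n : ℤ)
    {L : P.Modules}
    {lam : ∀ (U : Y.Opens) (hU : IsAffineOpen U),
      L ⟶ (Scheme.Modules.pushforward (emb p chart U hU)).obj (GrTwist.twist (𝒮.deg U hU) n)}
    (hL : IsRelTwist 𝒮 p chart n L lam) (V : Y.AffineZariskiSite) {d : ℕ} (hd : 0 < d)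
    (g : 𝒮.deg V.1 V.2 d) :
    Module.Finite Γ(P, stdOpen p chart V g) Γ(L, stdOpen p chart V g) := by
  have hft0 : Algebra.FiniteType (𝒮.deg V.1 V.2 0) (𝒮.presheaf.obj (op V.1)) :=
    finiteType_zero_of_finiteType (𝒮.deg V.1 V.2) (𝒮.str.app (op V.1)).hom (𝒮.str_mem V.1 V.2)
      (hft V.1 V.2)
  have h1 : Module.Finite Γ(Proj (𝒮.deg V.1 V.2), e p chart V ⁻¹ᵁ stdOpen p chart V g)
      Γ(GrTwist.twist (𝒮.deg V.1 V.2) n, e p chart V ⁻¹ᵁ stdOpen p chart V g) :=
    TwistFin.twist_sections_finite (𝒮.deg V.1 V.2) n hd g _ (preimage_stdOpen p chart V g)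
  have hiso : IsIso ((e p chart V).app (stdOpen p chart V g)) :=
    Scheme.Hom.isIso_app (e p chart V) (stdOpen p chart V g) (stdOpen_le_range p chart V g)
  have hρ : Function.Surjective ((e p chart V).app (stdOpen p chart V g)).hom :=
    ((ConcreteCategory.isIso_iff_bijective _).mp hiso).2
  have hbij : Function.Bijective ((lam V.1 V.2).app (stdOpen p chart V g)) :=
    hL.bijective V.1 V.2 (stdOpen p chart V g) (stdOpen_le p chart V g)
  exact TFGen.finite_of_semilinear_bijective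
    (N' := Γ(GrTwist.twist (𝒮.deg V.1 V.2) n, e p chart V ⁻¹ᵁ stdOpen p chart V g))
    ((e p chart V).app (stdOpen p chart V g)).hom hρ
    ((lam V.1 V.2).app (stdOpen p chart V g)).hom hbij
    (fun r n' => Scheme.Modules.Hom.app_smul (lam V.1 V.2) r n') h1

/-- `O_P(n)` is of finite type on the relative Proj of a graded algebra of finite type. -/
theorem isFiniteType_relTwist
    (hft : ∀ (U : Y.Opens) (_ : IsAffineOpen U), (𝒮.str.app (op U)).hom.FiniteType) (n : ℤ)
    {L : P.Modules}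
    {lam : ∀ (U : Y.Opens) (hU : IsAffineOpen U),
      L ⟶ (Scheme.Modules.pushforward (emb p chart U hU)).obj (GrTwist.twist (𝒮.deg U hU) n)}
    (hL : IsRelTwist 𝒮 p chart n L lam) : L.IsFiniteType := by
  have hqc : L.IsQuasicoherent := isQuasicoherent_relTwist p chart n hL
  let U : (Σ V : Y.AffineZariskiSite, Σ d : {d : ℕ // 0 < d}, 𝒮.deg V.1 V.2 d.1) → P.Opens :=
    fun i => stdOpen p chart i.1 i.2.2
  have hcov : IsOpenCover U := by
    rw [IsOpenCover, eq_top_iff]
    intro x _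
    obtain ⟨V, hV, hxV, -⟩ := exists_isAffineOpen_mem_and_subset (x := p.base x) (U := ⊤) trivial
    obtain ⟨y, hy⟩ := RelTilde.exists_of_mem_R p chart ⟨V, hV⟩ x hxV
    obtain ⟨m, hm, f, hf⟩ := TildeQC.exists_pos_mem_basicOpen (𝒮.deg V hV) y
    refine Opens.mem_iSup.mpr ⟨⟨⟨V, hV⟩, ⟨m, hm⟩, f⟩, ?_⟩
    change x ∈ stdOpen p chart ⟨V, hV⟩ f
    rw [← hy]
    exact (mem_stdOpen p chart ⟨V, hV⟩ f y).mpr hf
  have haff : ∀ i, IsAffineOpen (U i) := fun i => isAffineOpen_stdOpen p chart i.2.1.2 i.1 i.2.2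
  have hfin : ∀ i, Module.Finite Γ(P, U i) Γ(L, U i) := fun i =>
    module_finite_stdOpen_twist p chart hft n hL i.1 i.2.1.2 i.2.2
  exact isFiniteType_of_module_finite L U hcov haff hfin

end Groth.Agent.Lib.Helper3.RelGlued
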