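import Groth.Agent.Lib.Helper3.RelTwistF
import Groth.Agent.Lib.Helper3.ChartInv
/-!
# `X_f` as the non-vanishing locus of the section `f` of `O_P(d)`
-/
universe u
set_option linter.unusedSectionVars false
open CategoryTheory CategoryTheory.Limits AlgebraicGeometry Opposite TopologicalSpace
open AlgebraicGeometry.Scheme.AffineZariskiSite
open scoped HomogeneousIdeal
open Groth.Agent.Lib.Helper29 Groth.Agent.Lib.Helper29.QCoh

namespace Groth.Agent.Lib.Helper3.RelTwist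
open RelProj Groth.Agent.Lib.Helper3 Groth.Agent.Lib.Helper3.RelTilde

variable {Y P : Scheme.{u}} {𝒮 : QCGrAlg Y} {p : P ⟶ Y}
  {chart : ∀ (U : Y.Opens) (hU : IsAffineOpen U), (((p ⁻¹ᵁ U : P.Opens) : Scheme.{u}) ≅ Proj (𝒮.deg U hU))}
  (hP : IsRelProj 𝒮 p chart)

section GenLocus
variable {m : ℤ} {L : P.Modules}
  {lam : ∀ (U : Y.Opens) (hU : IsAffineOpen U),
      L ⟶ (Scheme.Modules.pushforward (emb p chart U hU)).obj (GrTwist.twist (𝒮.deg U hU) m)}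
  (s : unitM P ⟶ L) (f : 𝒮.presheaf.obj (op ⊤))
  (hs : ∀ (U : Y.Opens) (hU : IsAffineOpen U) (y : Proj (𝒮.deg U hU)),
      GrTwist.val (V := emb p chart U hU ⁻¹ᵁ ⊤)
        ((lam U hU).app ⊤ (s.app ⊤ (show Γ(Coh.structureModule P, ⊤) from (1 : Γ(P, ⊤))))) ⟨y, Set.mem_univ _⟩ =
        Localization.mk ((𝒮.presheaf.map (homOfLE le_top).op).hom f) 1)

include hs in
theorem lam_sval_val (U : Y.AffineZariskiSite) (W : P.Opens) (y : ProjectiveSpectrum (𝒮.deg U.1 U.2))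
    (hy : (e p chart U).base y ∈ W) :
    GrTwist.val (V := e p chart U ⁻¹ᵁ W) ((lam U.1 U.2).app W (sval s W)) ⟨y, hy⟩ =
      Localization.mk (fU f U) 1 := by
  rw [← res_sval s (le_top : W ≤ ⊤), app_res]
  exact hs U.1 U.2 y

theorem pf_smul {P' Q : Scheme.{u}} (j : Q ⟶ P') (T : Q.Modules) (W : P'.Opens) (r : Γ(P', W))
    (t : Γ((Scheme.Modules.pushforward j).obj T, W)) :
    r • t = (show Γ(T, j ⁻¹ᵁ W) from (j.app W r) • (show Γ(T, j ⁻¹ᵁ W) from t)) := rfl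

variable {d : ℕ}
  (hf : ∀ (U : Y.Opens) (hU : IsAffineOpen U), (𝒮.presheaf.map (homOfLE le_top).op).hom f ∈ 𝒮.deg U hU d)
  (Xf : P.Opens)
  (hXf : ∀ (U : Y.Opens) (hU : IsAffineOpen U),
      Xf ⊓ p ⁻¹ᵁ U =
        (p ⁻¹ᵁ U).ι ''ᵁ ((chart U hU).hom ⁻¹ᵁ
          Proj.basicOpen (𝒮.deg U hU) ((𝒮.presheaf.map (homOfLE le_top).op).hom f)))

include hP hs hf hXf in
theorem Xf_le_genLocus (hm : m = 1 * (d : ℤ)) (hL : IsRelTwist 𝒮 p chart m L lam) :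
    Xf ≤ CohB1.genLocus L s := by
  subst hm
  intro x hx
  obtain ⟨V, hV, hxV, -⟩ := exists_isAffineOpen_mem_and_subset (x := p.base x) (U := ⊤) trivial
  let U : Y.AffineZariskiSite := ⟨V, hV⟩
  obtain ⟨y, hy⟩ := exists_of_mem_R p chart U x hxV
  have hs₀ : ∀ U : Y.AffineZariskiSite, (lam U.1 U.2).app Xf (sval s Xf) = τ f hf Xf hXf 1 U := by
    intro U
    apply sec_ext p chart (1 * (d : ℤ))
    intro y hy
    rw [lam_sval_val s f hs U Xf y hy, τ_val]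
    apply mk_congr
    · simp
    · simp
  have hT := isTriv_res f hf Xf hXf 1 hL (sval s Xf) hs₀ U
  have hxU' : x ∈ e p chart U ''ᵁ Proj.basicOpen (𝒮.deg U.1 U.2) (fU f U) := by
    refine ⟨y, ?_, hy⟩
    have : y ∈ e p chart U ⁻¹ᵁ Xf := by
      change (e p chart U).base y ∈ Xf
      rw [hy]; exact hx
    rw [preimage_Xf f Xf hXf U] at this
    exact this
  have ha : sval s (e p chart U ''ᵁ Proj.basicOpen (𝒮.deg U.1 U.2) (fU f U)) =
      (1 : Γ(P, e p chart U ''ᵁ Proj.basicOpen (𝒮.deg U.1 U.2) (fU f U))) •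
        QCoh.res L (image_le_Xf f Xf hXf U) (sval s Xf) := by
    rw [one_smul, res_sval]
  refine (mem_genLocus_iff_of_isTriv s hT 1 ha x hxU').mpr ?_
  rw [Scheme.basicOpen_of_isUnit _ isUnit_one]
  exact hxU'

include hs hXf in
theorem genLocus_le_Xf (hgen : 𝒮.IsGenDegOne) (hm : m = (d : ℤ)) (hL : IsRelTwist 𝒮 p chart m L lam) :
    CohB1.genLocus L s ≤ Xf := by
  intro x hx
  obtain ⟨U₀, hxU₀, hbij⟩ := (mem_genLocus_iff s x).mp hx
  obtain ⟨V, hV, hxV, -⟩ := exists_isAffineOpen_mem_and_subset (x := p.base x) (U := ⊤) trivial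
  let U : Y.AffineZariskiSite := ⟨V, hV⟩
  obtain ⟨y, hy⟩ := exists_of_mem_R p chart U x hxV
  by_contra hxf
  have hfy : fU f U ∈ y.asHomogeneousIdeal := by
    by_contra hfy
    apply hxf
    have : y ∈ e p chart U ⁻¹ᵁ Xf := by rw [preimage_Xf f Xf hXf U]; exact hfy
    rw [← hy]; exact this
  obtain ⟨g, hg⟩ := ChartInv.exists_deg_one_notMem (𝒮.deg U.1 U.2) (hgen U.1 U.2) y
  let D : (Proj (𝒮.deg U.1 U.2)).Opens := Proj.basicOpen (𝒮.deg U.1 U.2) g.1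
  let W : P.Opens := U₀ ⊓ e p chart U ''ᵁ D
  have hxW : x ∈ W := ⟨hxU₀, y, hg, hy⟩
  have hWle : W ≤ p ⁻¹ᵁ U.1 := by
    intro w hw
    obtain ⟨z, -, hz⟩ := hw.2
    rw [← hz]
    exact e_mem_R p chart U z
  have hb := hL.bijective U.1 U.2 W hWle
  have hWD : e p chart U ⁻¹ᵁ W ≤ D := by
    intro z hz
    obtain ⟨z', hz', hzz'⟩ := hz.2
    have : z' = z := (e p chart U).isOpenEmbedding.injective hzz'
    rw [← this]; exact hz'
  let t : Γ(G p chart m U, W) :=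
    TwistTriv.eSec m g d 0 (by rw [hm]; push_cast; ring) (e p chart U ⁻¹ᵁ W) hWD
  obtain ⟨t', ht'⟩ := hb.2 t
  obtain ⟨r, hr⟩ := (hbij W inf_le_left).2 t'
  have h1 : s.app W r = fromUnit r • sval s W := app_eq_smul_sval s W (fromUnit r)
  have hyW : (e p chart U).base y ∈ W := by rw [hy]; exact hxW
  have h2 : GrTwist.val (V := e p chart U ⁻¹ᵁ W) t ⟨y, hyW⟩ =
      TildeQC.ofun (𝒮.deg U.1 U.2) ((e p chart U).app W (fromUnit r)) ⟨y, hyW⟩ *
        GrTwist.val (V := e p chart U ⁻¹ᵁ W) ((lam U.1 U.2).app W (sval s W)) ⟨y, hyW⟩ := by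
    rw [← ht', ← hr, h1, Scheme.Modules.Hom.app_smul]
    exact TwistTriv.tfun_smul (𝒮.deg U.1 U.2) _ _ ⟨y, hyW⟩
  rw [lam_sval_val s f hs U W y hyW] at h2
  have h3 : GrTwist.val (V := e p chart U ⁻¹ᵁ W) t ⟨y, hyW⟩ =
      Localization.mk (g.1 ^ d) ⟨g.1 ^ 0, TildeQC.pow_not_mem_of_not_mem hg 0⟩ := rfl
  rw [h3] at h2
  have hu : IsUnit (Localization.mk (g.1 ^ d) ⟨g.1 ^ 0, TildeQC.pow_not_mem_of_not_mem hg 0⟩ :
      GrTwist.Loc (𝒮.deg U.1 U.2) y) :=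
    (TildeQC.isUnit_mk_iff y _ _ _).mpr (TildeQC.pow_not_mem_of_not_mem hg d)
  rw [h2] at hu
  have hu2 := isUnit_of_mul_isUnit_right hu
  have : (Localization.mk (fU f U) 1 : GrTwist.Loc (𝒮.deg U.1 U.2) y) =
      Localization.mk (fU f U) ⟨1, TildeQC.one_not_mem y⟩ := rfl
  rw [this, TildeQC.isUnit_mk_iff] at hu2
  exact hu2 hfy

include hP hs hf hXf in
/-- `X_f` is the locus where the section `f` of `O_P(d)` generates. -/
theorem Xf_eq_genLocus (hgen : 𝒮.IsGenDegOne) (hm : m = (d : ℤ)) (hL : IsRelTwist 𝒮 p chart m L lam) :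
    Xf = CohB1.genLocus L s :=
  le_antisymm (Xf_le_genLocus hP s f hs hf Xf hXf (hm.trans (one_mul _).symm) hL)
    (genLocus_le_Xf s f hs Xf hXf hgen hm hL)

end GenLocus
end Groth.Agent.Lib.Helper3.RelTwist
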