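import Groth.Agent.Lib.Helper3.RelTwistMap
import Groth.Agent.Lib.Helper3.QProj
/-!
# The comparison map `O_P(n) ⟶ h_* O_{P'}(n)` for `h = Proj(u)` over a change of base
-/
set_option autoImplicit false
set_option linter.unusedSectionVars false
universe u
open CategoryTheory CategoryTheory.Limits AlgebraicGeometry Opposite TopologicalSpace
open AlgebraicGeometry.Scheme.AffineZariskiSite
open scoped HomogeneousIdeal
open Groth.Agent.Lib.Helper29

namespace Groth.Agent.Lib.Helper3.RelTwistQ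
open RelProj Groth.Agent.Lib.Helper3 Groth.Agent.Lib.Helper3.RelTilde Groth.Agent.Lib.Helper3.RelTwist

variable {S S' : Scheme.{u}} (g : S' ⟶ S)

/-- Pairs of affine opens `U' ⊆ g⁻¹(U)`. -/
structure Pair where
  U : S.AffineZariskiSite
  U' : S'.AffineZariskiSite
  hle : U'.1 ≤ g ⁻¹ᵁ U.1

instance : Preorder (Pair g) where
  le c₁ c := c₁.U ≤ c.U ∧ c₁.U' ≤ c.U'
  le_refl c := ⟨le_refl _, le_refl _⟩
  le_trans _ _ _ h₁ h₂ := ⟨h₁.1.trans h₂.1, h₁.2.trans h₂.2⟩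

variable {g}

theorem Pair.snd_mono : Monotone (fun c : Pair g => c.U') := fun _ _ h => h.2

/-- The second projection, as a functor. -/
noncomputable def sndF : (Pair g)ᵒᵖ ⥤ (S'.AffineZariskiSite)ᵒᵖ := (Pair.snd_mono (g := g)).functor.op

variable {𝒮' : QCGrAlg S'} {P' : Scheme.{u}} (p' : P' ⟶ S')
  (chart' : ∀ (U' : S'.Opens) (hU' : IsAffineOpen U'), (((p' ⁻¹ᵁ U' : P'.Opens) : Scheme.{u}) ≅ Proj (𝒮'.deg U' hU')))
  (hP' : IsRelProj 𝒮' p' chart') (n : ℤ)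

variable (g) in
/-- The system of chart modules indexed by pairs. -/
noncomputable def DQ : (Pair g)ᵒᵖ ⥤ P'.Modules := sndF (g := g) ⋙ D p' chart' hP' n

variable (g) in
/-- The supports. -/
def RQ (c : Pair g) : P'.Opens := R p' c.U'

theorem DQ_map {c₁ c : Pair g} (h : c₁ ≤ c) :
    (DQ g p' chart' hP' n).map (homOfLE h).op = (D p' chart' hP' n).map (homOfLE h.2).op := rfl

theorem hypQ : ModGlue.Hyp (DQ g p' chart' hP' n) (RQ g p') where
  mono := fun {c c₁} h => p'.preimage_mono (toOpens_mono h.2)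
  dir := by
    intro c c₂ w hw hw₂
    obtain ⟨a, a₂, haa, hwa, -⟩ := QProj.exists_common_basicOpen c.U.2 c₂.U.2 ⊤
      (g.base (p'.base w)) (c.hle hw) (c₂.hle hw₂) trivial
    obtain ⟨b, b₂, hbb, hwb, hbN⟩ := QProj.exists_common_basicOpen c.U'.2 c₂.U'.2
      (g ⁻¹ᵁ (S.basicOpen a)) (p'.base w) hw hw₂ hwa
    refine ⟨⟨c.U.basicOpen a, c.U'.basicOpen b, hbN⟩, ⟨c.U.basicOpen_le a, c.U'.basicOpen_le b⟩,
      ⟨⟨a₂, haa.symm⟩, ⟨b₂, hbb.symm⟩⟩, hwb⟩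
  supp := fun c W => supp' p' chart' n c.U' W
  bij := fun {c c₁} h W hW => bij' p' chart' hP' n h.2 W hW

end Groth.Agent.Lib.Helper3.RelTwistQ

open CategoryTheory CategoryTheory.Limits AlgebraicGeometry Opposite TopologicalSpace
open AlgebraicGeometry.Scheme.AffineZariskiSite
open scoped HomogeneousIdeal
open Groth.Agent.Lib.Helper29

namespace Groth.Agent.Lib.Helper3.RelTwistQ
open RelProj Groth.Agent.Lib.Helper3 Groth.Agent.Lib.Helper3.RelTilde Groth.Agent.Lib.Helper3.RelTwist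

variable {S S' : Scheme.{u}} (g : S' ⟶ S)
  {𝒮' : QCGrAlg S'} {P' : Scheme.{u}} (p' : P' ⟶ S')
  (chart' : ∀ (U' : S'.Opens) (hU' : IsAffineOpen U'), (((p' ⁻¹ᵁ U' : P'.Opens) : Scheme.{u}) ≅ Proj (𝒮'.deg U' hU')))
  (hP' : IsRelProj 𝒮' p' chart') (n : ℤ)
  {LB : P'.Modules}
  {lamB : ∀ (U' : S'.Opens) (hU' : IsAffineOpen U'),
      LB ⟶ (Scheme.Modules.pushforward (emb p' chart' U' hU')).obj (GrTwist.twist (𝒮'.deg U' hU') n)}
  (hLB : IsRelTwist 𝒮' p' chart' n LB lamB)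

/-- The cone over the system indexed by pairs given by `(LB, lamB)`. -/
noncomputable def coneQ : Cone (DQ g p' chart' hP' n) where
  pt := LB
  π :=
    { app := fun j => lamD p' chart' hP' n LB lamB ((sndF (g := g)).obj j)
      naturality := fun j j' f => by
        have := lamD_w p' chart' hP' n hLB ((sndF (g := g)).map f)
        exact (Category.id_comp _).trans this.symm }

/-- The comparison morphism to the limit over pairs. -/
noncomputable def liftQ : LB ⟶ limit (DQ g p' chart' hP' n) :=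
  limit.lift (DQ g p' chart' hP' n) (coneQ g p' chart' hP' n hLB)

theorem liftQ_π (c : Pair g) :
    liftQ g p' chart' hP' n hLB ≫ limit.π (DQ g p' chart' hP' n) (op c) =
      lamD p' chart' hP' n LB lamB (op c.U') :=
  limit.lift_π (coneQ g p' chart' hP' n hLB) (op c)

theorem liftQ_app_bijective (c : Pair g) (W : P'.Opens) (hW : W ≤ R p' c.U') :
    Function.Bijective ((liftQ g p' chart' hP' n hLB).app W) := by
  have h1 : Function.Bijective ((limit.π (DQ g p' chart' hP' n) (op c)).app W) :=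
    ModGlue.bijective_of_isLimit (hypQ p' chart' hP' n) _ (limit.isLimit _) c W hW
  have h2 : Function.Bijective ((lamD p' chart' hP' n LB lamB (op c.U')).app W) :=
    hLB.bijective c.U'.1 c.U'.2 W hW
  have h3 : ∀ s, (limit.π (DQ g p' chart' hP' n) (op c)).app W
      ((liftQ g p' chart' hP' n hLB).app W s) = (lamD p' chart' hP' n LB lamB (op c.U')).app W s := by
    intro s
    have := congrArg (fun m => m.app W s) (liftQ_π g p' chart' hP' n hLB c)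
    simp only [Scheme.Modules.Hom.comp_app, ConcreteCategory.comp_apply] at this
    exact this
  refine (Function.Bijective.of_comp_iff' h1 _).mp ?_
  have h4 : ((limit.π (DQ g p' chart' hP' n) (op c)).app W ∘
      (liftQ g p' chart' hP' n hLB).app W : Γ(LB, W) → _) =
      (lamD p' chart' hP' n LB lamB (op c.U')).app W := funext fun s => h3 s
  rw [h4]
  exact h2

theorem isIso_liftQ : IsIso (liftQ g p' chart' hP' n hLB) := by
  apply ModGlue.isIso_of_bijective_on_basis _ (fun W => ∃ c : Pair g, W ≤ R p' c.U')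
  · rintro W W' h ⟨c, hc⟩
    exact ⟨c, h.trans hc⟩
  · intro w
    obtain ⟨U, hU, hw, -⟩ := exists_isAffineOpen_mem_and_subset (x := g.base (p'.base w)) (U := ⊤) trivial
    obtain ⟨U', hU', hw', hle⟩ := exists_isAffineOpen_mem_and_subset (x := p'.base w) (U := g ⁻¹ᵁ U) hw
    exact ⟨R p' ⟨U', hU'⟩, ⟨⟨⟨U, hU⟩, ⟨U', hU'⟩, hle⟩, le_rfl⟩, hw'⟩
  · rintro W ⟨c, hc⟩
    exact liftQ_app_bijective g p' chart' hP' n hLB c W hc

end Groth.Agent.Lib.Helper3.RelTwistQ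

open CategoryTheory CategoryTheory.Limits AlgebraicGeometry Opposite TopologicalSpace
open AlgebraicGeometry.Scheme.AffineZariskiSite
open scoped HomogeneousIdeal
open Groth.Agent.Lib.Helper29

namespace Groth.Agent.Lib.Helper3.RelTwistQ
open RelProj Groth.Agent.Lib.Helper3 Groth.Agent.Lib.Helper3.RelTilde Groth.Agent.Lib.Helper3.RelTwist

variable {S S' : Scheme.{u}} {g : S' ⟶ S} {𝒮 : QCGrAlg S} {𝒮' : QCGrAlg S'} (u : QGrHom g 𝒮 𝒮')
  (hirr : ∀ (U : S.Opens) (hU : IsAffineOpen U) (U' : S'.Opens) (hU' : IsAffineOpen U')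
    (hle : U' ≤ g ⁻¹ᵁ U), (𝒮'.deg U' hU')₊ ≤ ((𝒮.deg U hU)₊).map (u.gradedAt U hU U' hU' hle))
  {P P' : Scheme.{u}} {p : P ⟶ S} {p' : P' ⟶ S'}
  {chart : ∀ (U : S.Opens) (hU : IsAffineOpen U), (((p ⁻¹ᵁ U : P.Opens) : Scheme.{u}) ≅ Proj (𝒮.deg U hU))}
  {chart' : ∀ (U' : S'.Opens) (hU' : IsAffineOpen U'), (((p' ⁻¹ᵁ U' : P'.Opens) : Scheme.{u}) ≅ Proj (𝒮'.deg U' hU'))}
  (hP : IsRelProj 𝒮 p chart) (hP' : IsRelProj 𝒮' p' chart')
  (h : P' ⟶ P)
  (hh : ∀ (U : S.Opens) (hU : IsAffineOpen U) (U' : S'.Opens) (hU' : IsAffineOpen U')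
    (hle : U' ≤ g ⁻¹ᵁ U), emb p' chart' U' hU' ≫ h =
      Proj.map (u.gradedAt U hU U' hU' hle) (hirr U hU U' hU' hle) ≫ emb p chart U hU)
  (n : ℤ)

/-- the graded homomorphism over a pair -/
noncomputable abbrev uc (c : Pair g) : 𝒮.deg c.U.1 c.U.2 →+*ᵍ 𝒮'.deg c.U'.1 c.U'.2 :=
  u.gradedAt c.U.1 c.U.2 c.U'.1 c.U'.2 c.hle

/-- the chart map of Proj's -/
noncomputable abbrev pmQ (c : Pair g) : Proj (𝒮'.deg c.U'.1 c.U'.2) ⟶ Proj (𝒮.deg c.U.1 c.U.2) :=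
  Proj.map (uc u c) (hirr c.U.1 c.U.2 c.U'.1 c.U'.2 c.hle)

include hh in
theorem pmQ_e (c : Pair g) : pmQ u hirr c ≫ e p chart c.U = e p' chart' c.U' ≫ h :=
  (hh c.U.1 c.U.2 c.U'.1 c.U'.2 c.hle).symm

/-- the chart comparison morphism -/
noncomputable def cQ (c : Pair g) :
    G p chart n c.U ⟶ (Scheme.Modules.pushforward h).obj (G p' chart' n c.U') :=
  (Scheme.Modules.pushforward (e p chart c.U)).map
      (GrTwist.comap (uc u c) (hirr c.U.1 c.U.2 c.U'.1 c.U'.2 c.hle) n) ≫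
    (Scheme.Modules.pushforwardComp (pmQ u hirr c) (e p chart c.U)).hom.app (T 𝒮' n c.U') ≫
      (Scheme.Modules.pushforwardCongr (pmQ_e u hirr h hh c)).hom.app (T 𝒮' n c.U') ≫
        (Scheme.Modules.pushforwardComp (e p' chart' c.U') h).inv.app (T 𝒮' n c.U')

include hh in
theorem comap_memQ (c : Pair g) (W : P.Opens)
    (y : ProjectiveSpectrum (𝒮'.deg c.U'.1 c.U'.2)) (hy : (e p' chart' c.U').base y ∈ h ⁻¹ᵁ W) :
    (e p chart c.U).base (ProjectiveSpectrum.comap (uc u c) (hirr c.U.1 c.U.2 c.U'.1 c.U'.2 c.hle) y) ∈ W := by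
  have := congrArg (fun m => m.base y) (pmQ_e u hirr h hh c)
  simp only [Scheme.Hom.comp_base, TopCat.hom_comp, ContinuousMap.comp_apply] at this
  change (e p chart c.U).base ((pmQ u hirr c).base y) ∈ W
  rw [this]; exact hy

theorem cQ_val (c : Pair g) (W : P.Opens) (s : Γ(G p chart n c.U, W))
    (y : ProjectiveSpectrum (𝒮'.deg c.U'.1 c.U'.2)) (hy : (e p' chart' c.U').base y ∈ h ⁻¹ᵁ W) :
    GrTwist.val (V := e p' chart' c.U' ⁻¹ᵁ (h ⁻¹ᵁ W)) ((cQ u hirr h hh n c).app W s) ⟨y, hy⟩ =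
      GrTwist.locMap (uc u c) (hirr c.U.1 c.U.2 c.U'.1 c.U'.2 c.hle) y
        (GrTwist.val (V := e p chart c.U ⁻¹ᵁ W) s ⟨_, comap_memQ u hirr h hh c W y hy⟩) := rfl

attribute [irreducible] cQ

end Groth.Agent.Lib.Helper3.RelTwistQ

open CategoryTheory CategoryTheory.Limits AlgebraicGeometry Opposite TopologicalSpace
open AlgebraicGeometry.Scheme.AffineZariskiSite
open scoped HomogeneousIdeal
open Groth.Agent.Lib.Helper29

namespace Groth.Agent.Lib.Helper3.RelTwistQ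
open RelProj Groth.Agent.Lib.Helper3 Groth.Agent.Lib.Helper3.RelTilde Groth.Agent.Lib.Helper3.RelTwist

variable {S S' : Scheme.{u}} {g : S' ⟶ S} {𝒮 : QCGrAlg S} {𝒮' : QCGrAlg S'} (u : QGrHom g 𝒮 𝒮')
  (hirr : ∀ (U : S.Opens) (hU : IsAffineOpen U) (U' : S'.Opens) (hU' : IsAffineOpen U')
    (hle : U' ≤ g ⁻¹ᵁ U), (𝒮'.deg U' hU')₊ ≤ ((𝒮.deg U hU)₊).map (u.gradedAt U hU U' hU' hle))
  {P P' : Scheme.{u}} {p : P ⟶ S} {p' : P' ⟶ S'}
  {chart : ∀ (U : S.Opens) (hU : IsAffineOpen U), (((p ⁻¹ᵁ U : P.Opens) : Scheme.{u}) ≅ Proj (𝒮.deg U hU))}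
  {chart' : ∀ (U' : S'.Opens) (hU' : IsAffineOpen U'), (((p' ⁻¹ᵁ U' : P'.Opens) : Scheme.{u}) ≅ Proj (𝒮'.deg U' hU'))}
  (hP : IsRelProj 𝒮 p chart) (hP' : IsRelProj 𝒮' p' chart')
  (h : P' ⟶ P)
  (hh : ∀ (U : S.Opens) (hU : IsAffineOpen U) (U' : S'.Opens) (hU' : IsAffineOpen U')
    (hle : U' ≤ g ⁻¹ᵁ U), emb p' chart' U' hU' ≫ h =
      Proj.map (u.gradedAt U hU U' hU' hle) (hirr U hU U' hU' hle) ≫ emb p chart U hU)
  (n : ℤ)

/-- the diagonal homomorphism `𝒮(U) → 𝒮'(U'₁)` -/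
noncomputable abbrev χQ {c₁ c : Pair g} (hc : c₁ ≤ c) : 𝒮.deg c.U.1 c.U.2 →+*ᵍ 𝒮'.deg c₁.U'.1 c₁.U'.2 :=
  (ψ 𝒮' hc.2).comp (uc u c)

include hirr in
theorem hχQ {c₁ c : Pair g} (hc : c₁ ≤ c) :
    (𝒮'.deg c₁.U'.1 c₁.U'.2)₊ ≤ ((𝒮.deg c.U.1 c.U.2)₊).map (χQ u hc) := by
  intro x hx
  have hx1 : x ∈ Ideal.map (ψ 𝒮' hc.2) ((𝒮'.deg c.U'.1 c.U'.2)₊).toIdeal :=
    RelProjExist.irr 𝒮' hc.2 hx
  have h1 : Ideal.map (ψ 𝒮' hc.2) ((𝒮'.deg c.U'.1 c.U'.2)₊).toIdeal ≤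
      Ideal.map (ψ 𝒮' hc.2) (Ideal.map (uc u c) ((𝒮.deg c.U.1 c.U.2)₊).toIdeal) :=
    Ideal.map_mono (hirr c.U.1 c.U.2 c.U'.1 c.U'.2 c.hle)
  have hx2 := h1 hx1
  have h2 : Ideal.map (ψ 𝒮' hc.2) (Ideal.map (uc u c) ((𝒮.deg c.U.1 c.U.2)₊).toIdeal) ≤
      Ideal.map (χQ u hc) ((𝒮.deg c.U.1 c.U.2)₊).toIdeal :=
    Ideal.map_le_iff_le_comap.mpr (Ideal.map_le_iff_le_comap.mpr fun a ha =>
      Ideal.mem_map_of_mem (χQ u hc) ha)
  exact h2 hx2

theorem χQ_eq {c₁ c : Pair g} (hc : c₁ ≤ c) (a : 𝒮.presheaf.obj (op c.U.1)) :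
    χQ u hc a = uc u c₁ (ψ 𝒮 hc.1 a) := by
  have h1 := congrArg (fun k => k a) (QProj.res_comp_gradedAt u c.U.2 c.U'.2 c₁.U'.2 c.hle
    (toOpens_mono hc.2))
  have h2 := congrArg (fun k => k a) (QProj.gradedAt_comp_res u c.U.2 c₁.U.2 c₁.U'.2
    (toOpens_mono hc.1) c₁.hle)
  exact h1.trans h2.symm

/-- the system of direct images on `P` -/
noncomputable abbrev DHQ : (Pair g)ᵒᵖ ⥤ P.Modules :=
  DQ g p' chart' hP' n ⋙ Scheme.Modules.pushforward h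

/-- the chart comparison, indexed by the opposite category -/
noncomputable def copQ (j : (Pair g)ᵒᵖ) :
    (D p chart hP n).obj (op j.unop.U) ⟶ (DHQ hP' h n).obj j :=
  cQ u hirr h hh n j.unop

theorem copQ_val (c : Pair g) (W : P.Opens) (s : Γ(G p chart n c.U, W))
    (y : ProjectiveSpectrum (𝒮'.deg c.U'.1 c.U'.2)) (hy : (e p' chart' c.U').base y ∈ h ⁻¹ᵁ W) :
    GrTwist.val (V := e p' chart' c.U' ⁻¹ᵁ (h ⁻¹ᵁ W))
        ((copQ u hirr hP hP' h hh n (op c)).app W s) ⟨y, hy⟩ =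
      GrTwist.locMap (uc u c) (hirr c.U.1 c.U.2 c.U'.1 c.U'.2 c.hle) y
        (GrTwist.val (V := e p chart c.U ⁻¹ᵁ W) s ⟨_, comap_memQ u hirr h hh c W y hy⟩) :=
  cQ_val u hirr h hh n c W s y hy

theorem copQ_natural_le {c₁ c : Pair g} (hc : c₁ ≤ c) :
    cmp (copQ u hirr hP hP' h hh n (op c)) ((DHQ hP' h n).map (homOfLE hc).op) =
      cmp ((D p chart hP n).map (homOfLE hc.1).op) (copQ u hirr hP hP' h hh n (op c₁)) := by
  rw [cmp_def, cmp_def]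
  apply Scheme.Modules.hom_ext
  intro W
  apply ConcreteCategory.hom_ext
  intro s
  apply sec_ext p' chart' n (U := c₁.U') (W := h ⁻¹ᵁ W)
  intro y hy
  rw [Scheme.Modules.Hom.comp_app, Scheme.Modules.Hom.comp_app, ConcreteCategory.comp_apply,
    ConcreteCategory.comp_apply, copQ_val]
  change GrTwist.val (V := e p' chart' c₁.U' ⁻¹ᵁ (h ⁻¹ᵁ W))
    (((D p' chart' hP' n).map (homOfLE hc.2).op).app (h ⁻¹ᵁ W)
      ((copQ u hirr hP hP' h hh n (op c)).app W s)) ⟨y, hy⟩ = _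
  rw [RelTwist.D_map_val, copQ_val, RelTwist.D_map_val]
  have h1 := TwistLoc.locMap_comp (hirr c.U.1 c.U.2 c.U'.1 c.U'.2 c.hle) n (ψ 𝒮' hc.2)
    (RelProjExist.irr 𝒮' hc.2)
    (χQ u hc) (hχQ u hirr hc) (fun a => rfl) (e p chart c.U ⁻¹ᵁ W)
    (show GrTwist.sectN (𝒜 := 𝒮.deg c.U.1 c.U.2) n (op (e p chart c.U ⁻¹ᵁ W)) from s).1 y
  have h2 := TwistLoc.locMap_comp (RelProjExist.irr 𝒮 hc.1) n (uc u c₁)
    (hirr c₁.U.1 c₁.U.2 c₁.U'.1 c₁.U'.2 c₁.hle)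
    (χQ u hc) (hχQ u hirr hc) (χQ_eq u hc) (e p chart c.U ⁻¹ᵁ W)
    (show GrTwist.sectN (𝒜 := 𝒮.deg c.U.1 c.U.2) n (op (e p chart c.U ⁻¹ᵁ W)) from s).1 y
  have hmem : ProjectiveSpectrum.comap (χQ u hc) (hχQ u hirr hc) y ∈ e p chart c.U ⁻¹ᵁ W := by
    have hpt : ProjectiveSpectrum.comap (χQ u hc) (hχQ u hirr hc) y =
        ProjectiveSpectrum.comap (uc u c) (hirr c.U.1 c.U.2 c.U'.1 c.U'.2 c.hle)
          (ProjectiveSpectrum.comap (ψ 𝒮' hc.2) (RelProjExist.irr 𝒮' hc.2) y) := by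
      apply ProjectiveSpectrum.ext
      apply HomogeneousIdeal.toIdeal_injective
      ext a
      rfl
    rw [hpt]
    exact comap_memQ u hirr h hh c W _ (comap_mem p' chart' hP' hc.2 (h ⁻¹ᵁ W) y hy)
  exact (h1 _ hmem).trans (h2 _ hmem).symm

end Groth.Agent.Lib.Helper3.RelTwistQ

open CategoryTheory CategoryTheory.Limits AlgebraicGeometry Opposite TopologicalSpace
open AlgebraicGeometry.Scheme.AffineZariskiSite
open scoped HomogeneousIdeal
open Groth.Agent.Lib.Helper29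

namespace Groth.Agent.Lib.Helper3.RelTwistQ
open RelProj Groth.Agent.Lib.Helper3 Groth.Agent.Lib.Helper3.RelTilde Groth.Agent.Lib.Helper3.RelTwist

variable {S S' : Scheme.{u}} {g : S' ⟶ S} {𝒮 : QCGrAlg S} {𝒮' : QCGrAlg S'} (u : QGrHom g 𝒮 𝒮')
  (hirr : ∀ (U : S.Opens) (hU : IsAffineOpen U) (U' : S'.Opens) (hU' : IsAffineOpen U')
    (hle : U' ≤ g ⁻¹ᵁ U), (𝒮'.deg U' hU')₊ ≤ ((𝒮.deg U hU)₊).map (u.gradedAt U hU U' hU' hle))
  {P P' : Scheme.{u}} {p : P ⟶ S} {p' : P' ⟶ S'}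
  {chart : ∀ (U : S.Opens) (hU : IsAffineOpen U), (((p ⁻¹ᵁ U : P.Opens) : Scheme.{u}) ≅ Proj (𝒮.deg U hU))}
  {chart' : ∀ (U' : S'.Opens) (hU' : IsAffineOpen U'), (((p' ⁻¹ᵁ U' : P'.Opens) : Scheme.{u}) ≅ Proj (𝒮'.deg U' hU'))}
  (hP : IsRelProj 𝒮 p chart) (hP' : IsRelProj 𝒮' p' chart')
  (h : P' ⟶ P)
  (hh : ∀ (U : S.Opens) (hU : IsAffineOpen U) (U' : S'.Opens) (hU' : IsAffineOpen U')
    (hle : U' ≤ g ⁻¹ᵁ U), emb p' chart' U' hU' ≫ h =
      Proj.map (u.gradedAt U hU U' hU' hle) (hirr U hU U' hU' hle) ≫ emb p chart U hU)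
  (n : ℤ)
  {LA : P.Modules}
  {lamA : ∀ (U : S.Opens) (hU : IsAffineOpen U),
      LA ⟶ (Scheme.Modules.pushforward (emb p chart U hU)).obj (GrTwist.twist (𝒮.deg U hU) n)}
  (hLA : IsRelTwist 𝒮 p chart n LA lamA)
  {LB : P'.Modules}
  {lamB : ∀ (U' : S'.Opens) (hU' : IsAffineOpen U'),
      LB ⟶ (Scheme.Modules.pushforward (emb p' chart' U' hU')).obj (GrTwist.twist (𝒮'.deg U' hU') n)}
  (hLB : IsRelTwist 𝒮' p' chart' n LB lamB)

theorem copQ_natural {j j' : (Pair g)ᵒᵖ} (f : j ⟶ j') :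
    cmp (copQ u hirr hP hP' h hh n j) ((DHQ hP' h n).map f) =
      cmp ((D p chart hP n).map (homOfLE f.unop.le.1).op) (copQ u hirr hP hP' h hh n j') := by
  obtain ⟨c⟩ := j
  obtain ⟨c₁⟩ := j'
  have hc : c₁ ≤ c := f.unop.le
  have hf : f = (homOfLE hc).op := Subsingleton.elim _ _
  rw [hf]
  exact copQ_natural_le u hirr hP hP' h hh n hc

/-- the legs of the cone -/
noncomputable def legQ (j : (Pair g)ᵒᵖ) : LA ⟶ (DHQ hP' h n).obj j :=
  cmp (lamD p chart hP n LA lamA (op j.unop.U)) (copQ u hirr hP hP' h hh n j)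

theorem legQ_def (j : (Pair g)ᵒᵖ) :
    legQ u hirr hP hP' h hh n (lamA := lamA) j =
      cmp (lamD p chart hP n LA lamA (op j.unop.U)) (copQ u hirr hP hP' h hh n j) := rfl

include hLA in
theorem legQ_w {j j' : (Pair g)ᵒᵖ} (f : j ⟶ j') :
    legQ u hirr hP hP' h hh n (lamA := lamA) j ≫ (DHQ hP' h n).map f =
      legQ u hirr hP hP' h hh n (lamA := lamA) j' := by
  have e2 : cmp (lamD p chart hP n LA lamA (op j.unop.U))
      ((D p chart hP n).map (homOfLE f.unop.le.1).op) =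
      lamD p chart hP n LA lamA (op j'.unop.U) := by
    rw [cmp_def]
    exact lamD_w p chart hP n hLA (homOfLE f.unop.le.1).op
  rw [← cmp_def, legQ_def, legQ_def, RelTwistMap.cmp_assoc, copQ_natural u hirr hP hP' h hh n f,
    ← RelTwistMap.cmp_assoc, e2]

/-- the cone over the system of direct images with apex `LA` -/
noncomputable def coneHQ : Cone (DHQ (g := g) hP' h n) where
  pt := LA
  π :=
    { app := legQ u hirr hP hP' h hh n (lamA := lamA)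
      naturality := fun j j' f => by
        rw [legQ_w u hirr hP hP' h hh n hLA f]
        exact Category.id_comp _ }

/-- the comparison map to the direct image of the limit -/
noncomputable def θ₀ : LA ⟶ (Scheme.Modules.pushforward h).obj (limit (DQ g p' chart' hP' n)) :=
  (isLimitOfPreserves (Scheme.Modules.pushforward h) (limit.isLimit (DQ g p' chart' hP' n))).lift
    (coneHQ u hirr hP hP' h hh n hLA)

theorem θ₀_π (j : (Pair g)ᵒᵖ) :
    θ₀ u hirr hP hP' h hh n hLA ≫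
      (Scheme.Modules.pushforward h).map (limit.π (DQ g p' chart' hP' n) j) =
      legQ u hirr hP hP' h hh n (lamA := lamA) j :=
  (isLimitOfPreserves (Scheme.Modules.pushforward h) (limit.isLimit (DQ g p' chart' hP' n))).fac
    (coneHQ u hirr hP hP' h hh n hLA) j

/-- the comparison map `O_P(n) ⟶ h_* O_{P'}(n)` over a change of base -/
noncomputable def θ : LA ⟶ (Scheme.Modules.pushforward h).obj LB :=
  have := isIso_liftQ g p' chart' hP' n hLB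
  θ₀ u hirr hP hP' h hh n hLA ≫
    (Scheme.Modules.pushforward h).map (inv (liftQ g p' chart' hP' n hLB))

theorem θ_lam (c : Pair g) :
    θ u hirr hP hP' h hh n hLA hLB ≫ (Scheme.Modules.pushforward h).map (lamB c.U'.1 c.U'.2) =
      legQ u hirr hP hP' h hh n (lamA := lamA) (op c) := by
  have := isIso_liftQ g p' chart' hP' n hLB
  have h1 : inv (liftQ g p' chart' hP' n hLB) ≫ lamB c.U'.1 c.U'.2 =
      limit.π (DQ g p' chart' hP' n) (op c) := by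
    rw [IsIso.inv_comp_eq]
    exact (liftQ_π g p' chart' hP' n hLB c).symm
  unfold θ
  rw [Category.assoc, ← Functor.map_comp, h1]
  exact θ₀_π u hirr hP hP' h hh n hLA (op c)

theorem θ_val (c : Pair g) (W : P.Opens) (s : Γ(LA, W))
    (y : ProjectiveSpectrum (𝒮'.deg c.U'.1 c.U'.2))
    (hy : (e p' chart' c.U').base y ∈ h ⁻¹ᵁ W) :
    GrTwist.val (V := e p' chart' c.U' ⁻¹ᵁ (h ⁻¹ᵁ W))
      ((lamB c.U'.1 c.U'.2).app (h ⁻¹ᵁ W) ((θ u hirr hP hP' h hh n hLA hLB).app W s)) ⟨y, hy⟩ =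
      GrTwist.locMap (uc u c) (hirr c.U.1 c.U.2 c.U'.1 c.U'.2 c.hle) y
        (GrTwist.val (V := e p chart c.U ⁻¹ᵁ W) ((lamA c.U.1 c.U.2).app W s)
          ⟨_, comap_memQ u hirr h hh c W y hy⟩) := by
  have h1 := congrArg (fun m => m.app W s) (θ_lam u hirr hP hP' h hh n hLA hLB c)
  simp only [Scheme.Modules.Hom.comp_app, ConcreteCategory.comp_apply] at h1
  have h2 : (lamB c.U'.1 c.U'.2).app (h ⁻¹ᵁ W) ((θ u hirr hP hP' h hh n hLA hLB).app W s) =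
      (cQ u hirr h hh n c).app W ((lamA c.U.1 c.U.2).app W s) := h1
  rw [h2, cQ_val]

end Groth.Agent.Lib.Helper3.RelTwistQ
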