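import Groth.Agent.Lib.Helper3.VAF16
/-!
# Restriction of quasi-coherent (graded) algebras to an open subscheme
-/
set_option autoImplicit false
set_option linter.unusedSectionVars false
universe u
open CategoryTheory CategoryTheory.Limits AlgebraicGeometry Opposite TopologicalSpace
open scoped HomogeneousIdeal

namespace Groth.Agent.Lib.Helper3.Restr
open RelProj RelSpec

variable {S : Scheme.{u}}

theorem appIso_inv_apply (W : S.Opens) (V : (W : Scheme.{u}).Opens) (r : Γ((W : Scheme.{u}), V)) :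
    (W.ι.appIso V).inv r = r := by
  rw [Scheme.Opens.ι_appIso]; rfl

theorem ι_image_basicOpen' (W : S.Opens) (V : (W : Scheme.{u}).Opens) (r : Γ((W : Scheme.{u}), V)) :
    W.ι ''ᵁ ((W : Scheme.{u}).basicOpen r) = S.basicOpen (show Γ(S, W.ι ''ᵁ V) from r) := by
  rw [Scheme.image_basicOpen, appIso_inv_apply]

theorem isLocAway_of_eq (A : TopCat.Presheaf CommRingCat.{u} S.carrier) {U V V' : S.Opens} (h : V = V')
    (hVU : V ≤ U) (x : A.obj (op U))
    (H : letI := (A.map (homOfLE hVU).op).hom.toAlgebra; IsLocalization.Away x (A.obj (op V))) :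
    letI := (A.map (homOfLE (h ▸ hVU : V' ≤ U)).op).hom.toAlgebra; IsLocalization.Away x (A.obj (op V')) := by
  subst h; exact H

/-- restriction of a quasi-coherent algebra to an open subscheme -/
noncomputable def qcAlg (A : QCAlg S) (W : S.Opens) : QCAlg (W : Scheme.{u}) where
  presheaf := W.ι.opensFunctor.op ⋙ A.presheaf
  isSheaf := TopCat.Presheaf.isSheaf_of_isOpenEmbedding W.ι.isOpenEmbedding A.isSheaf
  str := Functor.whiskerLeft W.ι.opensFunctor.op A.str
  isQC V hV r := by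
    have h := A.isQC (W.ι ''ᵁ V) (hV.image_of_isOpenImmersion W.ι) r
    exact isLocAway_of_eq A.presheaf (ι_image_basicOpen' W V r).symm _ _ h

theorem qcAlg_presheaf_obj (A : QCAlg S) (W : S.Opens) (V : (W : Scheme.{u}).Opens) :
    (qcAlg A W).presheaf.obj (op V) = A.presheaf.obj (op (W.ι ''ᵁ V)) := rfl

theorem qcAlg_str_app (A : QCAlg S) (W : S.Opens) (V : (W : Scheme.{u}).Opens) :
    (qcAlg A W).str.app (op V) = A.str.app (op (W.ι ''ᵁ V)) := rfl

theorem qcAlg_map (A : QCAlg S) (W : S.Opens) {V V' : (W : Scheme.{u}).Opens} (h : V' ≤ V) :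
    (qcAlg A W).presheaf.map (homOfLE h).op = A.presheaf.map (homOfLE (W.ι.image_mono h)).op := rfl

/-- restriction of a quasi-coherent graded algebra to an open subscheme -/
noncomputable def grAlg (𝒮 : QCGrAlg S) (W : S.Opens) : QCGrAlg (W : Scheme.{u}) where
  toQCAlg := qcAlg 𝒮.toQCAlg W
  deg V hV := 𝒮.deg (W.ι ''ᵁ V) (hV.image_of_isOpenImmersion W.ι)
  graded V hV := 𝒮.graded (W.ι ''ᵁ V) (hV.image_of_isOpenImmersion W.ι)
  map_mem hU hV i _ _ hx := 𝒮.map_mem (hU.image_of_isOpenImmersion W.ι) (hV.image_of_isOpenImmersion W.ι)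
    (W.ι.image_mono i) hx
  str_mem V hV r := 𝒮.str_mem (W.ι ''ᵁ V) (hV.image_of_isOpenImmersion W.ι) r

theorem grAlg_deg (𝒮 : QCGrAlg S) (W : S.Opens) (V : (W : Scheme.{u}).Opens) (hV : IsAffineOpen V) (n : ℕ) :
    (grAlg 𝒮 W).deg V hV n = 𝒮.deg (W.ι ''ᵁ V) (hV.image_of_isOpenImmersion W.ι) n := rfl

theorem grAlg_toQCAlg (𝒮 : QCGrAlg S) (W : S.Opens) : (grAlg 𝒮 W).toQCAlg = qcAlg 𝒮.toQCAlg W := rfl

end Groth.Agent.Lib.Helper3.Restr
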