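import Groth.Agent.Lib.Helper3.RestrAlg
/-!
# Module maps from sectionwise data; restriction of a module map into an algebra to an open subscheme
-/
set_option autoImplicit false
set_option linter.unusedSectionVars false
universe u
open CategoryTheory CategoryTheory.Limits AlgebraicGeometry Opposite TopologicalSpace
open scoped HomogeneousIdeal
open Groth.Agent.Lib.Helper29.QCoh

namespace Groth.Agent.Lib.Helper3.Restr
open RelProj RelSpec Groth.Agent.Lib.Helper3

variable {S : Scheme.{u}}

/-- Sectionwise data for a morphism of modules. -/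
structure SecHomData (E N : S.Modules) where
  t : ∀ (U : S.Opens), Γ(E, U) →+ Γ(N, U)
  res_t : ∀ {U V : S.Opens} (h : V ≤ U) (m : Γ(E, U)), res N h (t U m) = t V (res E h m)
  t_smul : ∀ (U : S.Opens) (r : Γ(S, U)) (m : Γ(E, U)), t U (r • m) = r • t U m

namespace SecHomData
variable {E N : S.Modules} (D : SecHomData E N)

noncomputable def presheafHom : E.presheaf ⟶ N.presheaf where
  app U := AddCommGrpCat.ofHom (D.t U.unop)
  naturality U V i := by
    ext m
    exact (D.res_t (leOfHom i.unop) m).symm

/-- The morphism of modules attached to sectionwise data. -/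
noncomputable def hom : E ⟶ N :=
  (⟨PresheafOfModules.homMk D.presheafHom (fun W r m => D.t_smul W.unop r m)⟩ :
    SheafOfModules.Hom (R := S.ringCatSheaf) E N)

theorem hom_app (U : S.Opens) (m : Γ(E, U)) : D.hom.app U m = D.t U m := rfl

end SecHomData

section restrJ
variable {E : S.Modules} {A : QCAlg S} (j : E ⟶ A.toModule) (W : S.Opens)

theorem restrict_smul (V : (W : Scheme.{u}).Opens) (r : Γ((W : Scheme.{u}), V)) (m : Γ(E.restrict W.ι, V)) :
    (r • m : Γ(E.restrict W.ι, V)) =
      (show Γ(E.restrict W.ι, V) from ((show Γ(S, W.ι ''ᵁ V) from r) • (show Γ(E, W.ι ''ᵁ V) from m))) := by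
  change (show Γ(E.restrict W.ι, V) from (((W.ι.appIso V).inv r) • (show Γ(E, W.ι ''ᵁ V) from m))) = _
  rw [appIso_inv_apply]

/-- restriction of a module map into a quasi-coherent algebra to an open subscheme -/
noncomputable def restrJ : E.restrict W.ι ⟶ (qcAlg A W).toModule :=
  SecHomData.hom
    { t := fun V => ((j.app (W.ι ''ᵁ V)).hom : Γ(E, W.ι ''ᵁ V) →+ Γ(A.toModule, W.ι ''ᵁ V))
      res_t := fun {V V'} h m => (app_res j (W.ι.image_mono h) m).symm
      t_smul := fun V r m => by
        rw [restrict_smul]
        exact j.app_smul (show Γ(S, W.ι ''ᵁ V) from r) (show Γ(E, W.ι ''ᵁ V) from m) }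

theorem restrJ_app (V : (W : Scheme.{u}).Opens) (m : Γ(E.restrict W.ι, V)) :
    (restrJ j W).app V m = j.app (W.ι ''ᵁ V) m := rfl

end restrJ

end Groth.Agent.Lib.Helper3.Restr
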