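import Groth.Agent.Lib.Helper3.SymAffCrit
/-!
# Restriction of graded `q`-morphisms over an open of the base; transport of `X_f`, (iii)
-/
set_option autoImplicit false
set_option linter.unusedSectionVars false
universe u
open CategoryTheory CategoryTheory.Limits AlgebraicGeometry Opposite TopologicalSpace
open scoped HomogeneousIdeal
open Groth.Agent.Lib.Helper29.QCoh

namespace Groth.Agent.Lib.Helper3.Restr
open RelProj RelSpec Groth.Agent.Lib.Helper3 Groth.Agent.Lib.Helper3.SymLine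

variable {X Y : Scheme.{u}} (q : X ⟶ Y) (W : Y.Opens)

theorem hpre (V : (W : Scheme.{u}).Opens) :
    (q ⁻¹ᵁ W).ι ''ᵁ ((q ∣_ W) ⁻¹ᵁ V) = q ⁻¹ᵁ (W.ι ''ᵁ V) := image_morphismRestrict_preimage q W V

theorem le_of_le {V : (W : Scheme.{u}).Opens} {V' : ((q ⁻¹ᵁ W : X.Opens) : Scheme.{u}).Opens}
    (hle : V' ≤ (q ∣_ W) ⁻¹ᵁ V) : (q ⁻¹ᵁ W).ι ''ᵁ V' ≤ q ⁻¹ᵁ (W.ι ''ᵁ V) :=
  ((q ⁻¹ᵁ W).ι.image_mono hle).trans (hpre q W V).le

section qhom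
variable {𝒜 : QCGrAlg Y} {𝒮L : QCGrAlg X} (u : QGrHom q 𝒜 𝒮L)

theorem morphismRestrict_app_apply (V : (W : Scheme.{u}).Opens) (r : Γ((W : Scheme.{u}), V)) :
    (X.presheaf.map (homOfLE (hpre q W V).ge).op).hom (((q ∣_ W).app V).hom r) =
      (q.app (W.ι ''ᵁ V)).hom (show Γ(Y, W.ι ''ᵁ V) from r) := by
  rw [morphismRestrict_app]
  change (X.presheaf.map (eqToHom (hpre q W V)).op ≫ X.presheaf.map (homOfLE (hpre q W V).ge).op).hom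
    ((q.app (W.ι ''ᵁ V)).hom r) = _
  rw [← Functor.map_comp]
  have : (eqToHom (hpre q W V)).op ≫ (homOfLE (hpre q W V).ge).op = 𝟙 _ := Subsingleton.elim _ _
  rw [this, X.presheaf.map_id]
  rfl

/-- the restriction of a graded `q`-morphism over an open of the base -/
noncomputable def qgrHom : QGrHom (q ∣_ W) (grAlg 𝒜 W) (grAlg 𝒮L (q ⁻¹ᵁ W)) where
  app V := u.appLE (W.ι ''ᵁ V) ((q ⁻¹ᵁ W).ι ''ᵁ ((q ∣_ W) ⁻¹ᵁ V)) (hpre q W V).le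
  naturality {U V} i := by
    change u.appLE (W.ι ''ᵁ U) ((q ⁻¹ᵁ W).ι ''ᵁ ((q ∣_ W) ⁻¹ᵁ U)) (hpre q W U).le ≫
        𝒮L.presheaf.map (homOfLE ((q ⁻¹ᵁ W).ι.image_mono ((q ∣_ W).preimage_mono i))).op =
      𝒜.presheaf.map (homOfLE (W.ι.image_mono i)).op ≫
        u.appLE (W.ι ''ᵁ V) ((q ⁻¹ᵁ W).ι ''ᵁ ((q ∣_ W) ⁻¹ᵁ V)) (hpre q W V).le
    rw [u.toQHom.appLE_map, u.toQHom.map_appLE]
  str_app V := by
    change 𝒜.str.app (op (W.ι ''ᵁ V)) ≫ u.app (W.ι ''ᵁ V) ≫ 𝒮L.presheaf.map (homOfLE (hpre q W V).le).op =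
      (q ∣_ W).app V ≫ 𝒮L.str.app (op ((q ⁻¹ᵁ W).ι ''ᵁ ((q ∣_ W) ⁻¹ᵁ V)))
    rw [← Category.assoc, u.str_app, Category.assoc, morphismRestrict_app]
    have h1 := 𝒮L.str.naturality (homOfLE (hpre q W V).le).op
    have h2 : homOfLE (hpre q W V).le = eqToHom (hpre q W V) := Subsingleton.elim _ _
    rw [h2] at h1
    exact (congrArg (fun k => q.app (W.ι ''ᵁ V) ≫ k) h1.symm).trans (Category.assoc _ _ _).symm
  map_mem V hV V' hV' hle d x hx := by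
    have h := u.map_mem (W.ι ''ᵁ V) (hV.image_of_isOpenImmersion W.ι) ((q ⁻¹ᵁ W).ι ''ᵁ V')
      (hV'.image_of_isOpenImmersion (q ⁻¹ᵁ W).ι) (le_of_le q W hle) hx
    have e : 𝒮L.presheaf.map (homOfLE (le_of_le q W hle)).op =
        𝒮L.presheaf.map (homOfLE (hpre q W V).le).op ≫
          𝒮L.presheaf.map (homOfLE ((q ⁻¹ᵁ W).ι.image_mono hle)).op := by
      rw [← Functor.map_comp]; rfl
    rw [e] at h
    exact h

theorem qgrHom_appLE (V : (W : Scheme.{u}).Opens) (V' : ((q ⁻¹ᵁ W : X.Opens) : Scheme.{u}).Opens)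
    (hle : V' ≤ (q ∣_ W) ⁻¹ᵁ V) :
    (qgrHom q W u).appLE V V' hle = u.appLE (W.ι ''ᵁ V) ((q ⁻¹ᵁ W).ι ''ᵁ V') (le_of_le q W hle) := by
  change u.appLE (W.ι ''ᵁ V) ((q ⁻¹ᵁ W).ι ''ᵁ ((q ∣_ W) ⁻¹ᵁ V)) (hpre q W V).le ≫
    𝒮L.presheaf.map (homOfLE ((q ⁻¹ᵁ W).ι.image_mono hle)).op = _
  rw [u.toQHom.appLE_map]

end qhom

end Groth.Agent.Lib.Helper3.Restr
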