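import Groth.Agent.Lib.Helper3.RestrQHom
/-!
# Restriction of the canonical data `(jE, u)` over an open of the base; transport of `X_f`, (iii)
-/
set_option autoImplicit false
set_option linter.unusedSectionVars false
universe u
open CategoryTheory CategoryTheory.Limits AlgebraicGeometry Opposite TopologicalSpace
open scoped HomogeneousIdeal
open Groth.Agent.Lib.Helper29.QCoh

namespace Groth.Agent.Lib.Helper3.Restr
open RelProj RelSpec Groth.Agent.Lib.Helper3 Groth.Agent.Lib.Helper3.SymLine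

variable {X Y : Scheme.{u}} (q : X ⟶ Y) (W : Y.Opens)

section jE
variable {L : X.Modules} {𝒜 : QCAlg Y} (jE : (Scheme.Modules.pushforward q).obj L ⟶ 𝒜.toModule)

/-- the underlying additive map of the restricted `jE` -/
noncomputable def jEt (V : (W : Scheme.{u}).Opens) :
    Γ((Scheme.Modules.pushforward (q ∣_ W)).obj (L.restrict (q ⁻¹ᵁ W).ι), V) →+ Γ((qcAlg 𝒜 W).toModule, V) :=
  AddMonoidHom.comp
    ((jE.app (W.ι ''ᵁ V)).hom : Γ((Scheme.Modules.pushforward q).obj L, W.ι ''ᵁ V) →+ Γ(𝒜.toModule, W.ι ''ᵁ V))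
    (res L (hpre q W V).ge)

theorem jEt_apply (V : (W : Scheme.{u}).Opens)
    (m : Γ((Scheme.Modules.pushforward (q ∣_ W)).obj (L.restrict (q ⁻¹ᵁ W).ι), V)) :
    jEt q W jE V m = jE.app (W.ι ''ᵁ V) (res L (hpre q W V).ge (show Γ(L, (q ⁻¹ᵁ W).ι ''ᵁ ((q ∣_ W) ⁻¹ᵁ V)) from m)) := rfl

/-- restriction of `jE : q_*L ⟶ 𝒜` over an open of the base -/
noncomputable def restrJE :
    (Scheme.Modules.pushforward (q ∣_ W)).obj (L.restrict (q ⁻¹ᵁ W).ι) ⟶ (qcAlg 𝒜 W).toModule :=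
  SecHomData.hom
    { t := jEt q W jE
      res_t := fun {V V'} h m => by
        rw [jEt_apply, jEt_apply]
        have h1 := app_res jE (W.ι.image_mono h)
          (res L (hpre q W V).ge (show Γ(L, (q ⁻¹ᵁ W).ι ''ᵁ ((q ∣_ W) ⁻¹ᵁ V)) from m))
        refine h1.symm.trans ?_
        congr 1
        exact (res_res L _ (q.preimage_mono (W.ι.image_mono h)) _).trans
          (res_res L ((q ⁻¹ᵁ W).ι.image_mono ((q ∣_ W).preimage_mono h)) (hpre q W V').ge _).symm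
      t_smul := fun V r m => by
        rw [jEt_apply, jEt_apply]
        have h0 : (show Γ(L, (q ⁻¹ᵁ W).ι ''ᵁ ((q ∣_ W) ⁻¹ᵁ V)) from (r • m)) =
            (show Γ(X, (q ⁻¹ᵁ W).ι ''ᵁ ((q ∣_ W) ⁻¹ᵁ V)) from ((q ∣_ W).app V).hom r) •
              (show Γ(L, (q ⁻¹ᵁ W).ι ''ᵁ ((q ∣_ W) ⁻¹ᵁ V)) from m) :=
          restrict_smul (q ⁻¹ᵁ W) ((q ∣_ W) ⁻¹ᵁ V) (((q ∣_ W).app V).hom r) m
        rw [h0, res_smul]
        have h1 := morphismRestrict_app_apply q W V r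
        erw [h1]
        exact jE.app_smul (show Γ(Y, W.ι ''ᵁ V) from r) _ }

theorem restrJE_app (V : (W : Scheme.{u}).Opens)
    (m : Γ((Scheme.Modules.pushforward (q ∣_ W)).obj (L.restrict (q ⁻¹ᵁ W).ι), V)) :
    (restrJE q W jE).app V m =
      jE.app (W.ι ''ᵁ V) (res L (hpre q W V).ge (show Γ(L, (q ⁻¹ᵁ W).ι ''ᵁ ((q ∣_ W) ⁻¹ᵁ V)) from m)) := rfl

end jE

section compat
variable {L : X.Modules} {𝒜 : QCGrAlg Y} {𝒮L : QCGrAlg X}
  (jE : (Scheme.Modules.pushforward q).obj L ⟶ 𝒜.toModule) (jL : L ⟶ 𝒮L.toModule) (u : QGrHom q 𝒜 𝒮L)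

theorem hu_restr
    (hu : ∀ (U : Y.Opens) (_ : IsAffineOpen U) (x : Γ((Scheme.Modules.pushforward q).obj L, U)),
      (u.app U).hom ((jE.app U) x) = (jL.app (q ⁻¹ᵁ U)) x)
    (V : (W : Scheme.{u}).Opens) (hV : IsAffineOpen V)
    (x : Γ((Scheme.Modules.pushforward (q ∣_ W)).obj (L.restrict (q ⁻¹ᵁ W).ι), V)) :
    ((qgrHom q W u).app V).hom ((restrJE q W (𝒜 := 𝒜.toQCAlg) jE).app V x) =
      ((restrJ jL (q ⁻¹ᵁ W)).app ((q ∣_ W) ⁻¹ᵁ V)) x := by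
  rw [restrJE_app]
  change (𝒮L.presheaf.map (homOfLE (hpre q W V).le).op).hom ((u.app (W.ι ''ᵁ V)).hom _) = _
  rw [hu (W.ι ''ᵁ V) (hV.image_of_isOpenImmersion W.ι)]
  have h1 := app_res jL (hpre q W V).le
    (res L (hpre q W V).ge (show Γ(L, (q ⁻¹ᵁ W).ι ''ᵁ ((q ∣_ W) ⁻¹ᵁ V)) from x))
  refine h1.symm.trans ?_
  rw [res_res, res_self]
  rfl

end compat

end Groth.Agent.Lib.Helper3.Restr
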