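import Groth.Agent.Lib.Helper3.RestrQHom2
/-!
# Transport of `X_f`, goodness and condition (iii) along restriction over an open of the base
-/
set_option autoImplicit false
set_option linter.unusedSectionVars false
universe u
open CategoryTheory CategoryTheory.Limits AlgebraicGeometry Opposite TopologicalSpace
open scoped HomogeneousIdeal
open Groth.Agent.Lib.Helper29.QCoh

namespace Groth.Agent.Lib.Helper3.Restr
open RelProj RelSpec Groth.Agent.Lib.Helper3 Groth.Agent.Lib.Helper3.SymLine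

variable {X Y : Scheme.{u}} (q : X ⟶ Y) (W : Y.Opens)
variable {𝒜 : QCGrAlg Y} {𝒮L : QCGrAlg X} (u : QGrHom q 𝒜 𝒮L)

theorem good_restr_iff (V : (W : Scheme.{u}).Opens) (V' : ((q ⁻¹ᵁ W : X.Opens) : Scheme.{u}).Opens)
    (hV' : IsAffineOpen V') (hle : V' ≤ (q ∣_ W) ⁻¹ᵁ V) (d : ℕ) (f : 𝒜.presheaf.obj (op (W.ι ''ᵁ V))) :
    Good (qgrHom q W u) V V' hV' hle d f ↔
      Good u (W.ι ''ᵁ V) ((q ⁻¹ᵁ W).ι ''ᵁ V') (hV'.image_of_isOpenImmersion (q ⁻¹ᵁ W).ι) (le_of_le q W hle) d f := by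
  unfold Good
  rw [qgrHom_appLE]
  rfl

theorem Xf_restr (V : (W : Scheme.{u}).Opens) (d : ℕ) (f : 𝒜.presheaf.obj (op (W.ι ''ᵁ V))) :
    Xf u (W.ι ''ᵁ V) d f = (q ⁻¹ᵁ W).ι ''ᵁ (Xf (qgrHom q W u) V d f) := by
  ext x
  constructor
  · intro hx
    obtain ⟨V'', hV'', hle'', hxV'', hg⟩ := (mem_Xf_iff u (W.ι ''ᵁ V) d f x).mp hx
    have hrange : V'' ≤ (q ⁻¹ᵁ W).ι.opensRange := by
      rw [Scheme.Opens.opensRange_ι]
      exact hle''.trans (q.preimage_mono (W.ι.image_le_opensRange V |>.trans (by rw [Scheme.Opens.opensRange_ι])))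
    have himg : (q ⁻¹ᵁ W).ι ''ᵁ ((q ⁻¹ᵁ W).ι ⁻¹ᵁ V'') = V'' := by
      rw [(q ⁻¹ᵁ W).ι.image_preimage_eq_opensRange_inf, inf_eq_right.mpr hrange]
    have hV' : IsAffineOpen ((q ⁻¹ᵁ W).ι ⁻¹ᵁ V'') := hV''.preimage_of_isOpenImmersion _ hrange
    have hle : (q ⁻¹ᵁ W).ι ⁻¹ᵁ V'' ≤ (q ∣_ W) ⁻¹ᵁ V := by
      rw [← (q ⁻¹ᵁ W).ι.image_le_image_iff, himg, hpre]
      exact hle''
    obtain ⟨x', hx'⟩ : ∃ x', (q ⁻¹ᵁ W).ι.base x' = x := hrange hxV''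
    refine ⟨x', ?_, hx'⟩
    refine (mem_Xf_iff (qgrHom q W u) V d f x').mpr ⟨_, hV', hle, ?_, ?_⟩
    · change (q ⁻¹ᵁ W).ι.base x' ∈ V''
      rw [hx']; exact hxV''
    · rw [good_restr_iff]
      have key : ∀ (T : X.Opens) (hT : T = V'') (hT' : IsAffineOpen T) (hle' : T ≤ q ⁻¹ᵁ (W.ι ''ᵁ V)),
          Good u (W.ι ''ᵁ V) T hT' hle' d f := by
        intro T hT hT' hle'
        subst hT
        exact hg
      exact key _ himg _ _
  · rintro ⟨x', hx', rfl⟩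
    obtain ⟨V', hV', hle, hxV', hg⟩ := (mem_Xf_iff (qgrHom q W u) V d f x').mp hx'
    exact (mem_Xf_iff u (W.ι ''ᵁ V) d f _).mpr ⟨_, hV'.image_of_isOpenImmersion (q ⁻¹ᵁ W).ι, le_of_le q W hle,
      ⟨x', hxV', rfl⟩, (good_restr_iff q W u V V' hV' hle d f).mp hg⟩

theorem condIII_restr (V : (W : Scheme.{u}).Opens) (hV : IsAffineOpen V) (d : ℕ)
    (f : 𝒜.presheaf.obj (op (W.ι ''ᵁ V))) (H : CondIII (qgrHom q W u) V hV d f) :
    CondIII u (W.ι ''ᵁ V) (hV.image_of_isOpenImmersion W.ι) d f := by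
  rw [condIII_iff]
  refine (condIIIOn_congr u _ _ d f (Xf_restr q W u V d f) _
    (le_of_le q W (Xf_le (qgrHom q W u) V d f))).mpr ?_
  intro t
  obtain ⟨m, hm, s', hs', h⟩ := H t
  refine ⟨m, hm, s', hs', ?_⟩
  rw [qgrHom_appLE] at h
  exact h

end Groth.Agent.Lib.Helper3.Restr
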