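import Mathlib

/-!
# Right resolutions by a class of objects

Let `I` be a class of objects of an abelian category such that every object embeds into an object
of `I`.  Every cochain complex `K` indexed by `ℕ` admits a degreewise monomorphic quasi-isomorphism
`K ⟶ L` with all `L.X n` in `I` (`exists_resolution_nat`).
-/

set_option autoImplicit false
set_option linter.style.haveILetI false
set_option linter.unusedSectionVars false

open CategoryTheory Limits HomologicalComplex

namespace Groth.Agent.Lib.Helper3.RightRes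

universe u v

variable {A : Type u} [Category.{v} A] [Abelian A]

section Abstract

/-- criterion for a morphism of complexes to be a quasi-isomorphism in one degree, in terms of a
model `Q` of the opcycles of the target -/
theorem quasiIsoAt_of_data {ι : Type*} {c : ComplexShape ι} {K L : HomologicalComplex A c}
    (φ : K ⟶ L) (i j k : ι) (hi : c.prev j = i) (hk : c.next j = k)
    {Q : A} (π : L.X j ⟶ Q) (θ : K.opcycles j ⟶ Q) (ι' : Q ⟶ L.X k)
    (comm : φ.f j ≫ π = K.pOpcycles j ≫ θ) [Mono θ] (dπ : L.d i j ≫ π = 0)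
    (exπ : ∀ ⦃T : A⦄ (y : T ⟶ L.X j), y ≫ π = 0 →
      ∃ (T' : A) (p : T' ⟶ T) (_ : Epi p) (y₁ : T' ⟶ L.X i), p ≫ y = y₁ ≫ L.d i j)
    (fac : L.d j k = π ≫ ι')
    (exι : ∀ ⦃T : A⦄ (y : T ⟶ Q), y ≫ ι' = 0 →
      ∃ (T' : A) (p : T' ⟶ T) (_ : Epi p) (c : T' ⟶ K.opcycles j),
        c ≫ θ = p ≫ y ∧ c ≫ K.fromOpcycles j k = 0) :
    QuasiIsoAt φ j := by
  rw [quasiIsoAt_iff_isIso_homologyMap]
  haveI : Mono (homologyMap φ j) := by
    rw [mono_homologyMap_iff_up_to_refinements φ i j k hi hk]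
    intro T x₂ _ y₁ hy
    have h0 : (x₂ ≫ K.pOpcycles j) ≫ θ = 0 := by
      rw [Category.assoc, ← comm, ← Category.assoc, hy, Category.assoc, dπ, comp_zero]
    have h1 : x₂ ≫ K.pOpcycles j = 0 := zero_of_comp_mono θ h0
    exact (K.comp_pOpcycles_eq_zero_iff_up_to_refinements x₂ i hi).mp h1
  haveI : Epi (homologyMap φ j) := by
    rw [epi_homologyMap_iff_up_to_refinements φ i j k hi hk]
    intro T y₂ hy₂
    have h0 : (y₂ ≫ π) ≫ ι' = 0 := by rw [Category.assoc, ← fac, hy₂]
    obtain ⟨T₁, p₁, _, c, hc1, hc2⟩ := exι _ h0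
    obtain ⟨T₂, p₂, _, x₂, hx₂⟩ := surjective_up_to_refinements_of_epi (K.pOpcycles j) c
    have hx₂d : x₂ ≫ K.d j k = 0 := by
      rw [← K.p_fromOpcycles j k, ← Category.assoc, ← hx₂, Category.assoc, hc2, comp_zero]
    have h1 : (p₂ ≫ p₁ ≫ y₂ - x₂ ≫ φ.f j) ≫ π = 0 := by
      have e1 : x₂ ≫ φ.f j ≫ π = p₂ ≫ p₁ ≫ y₂ ≫ π := by
        rw [comm, ← Category.assoc, ← hx₂, Category.assoc, hc1]
      rw [Preadditive.sub_comp, Category.assoc, Category.assoc, Category.assoc, e1, sub_self]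
    obtain ⟨T₃, p₃, _, y₁, hy₁⟩ := exπ _ h1
    refine ⟨T₃, p₃ ≫ p₂ ≫ p₁, inferInstance, p₃ ≫ x₂,
      by rw [Category.assoc, hx₂d, comp_zero], y₁, ?_⟩
    rw [← hy₁, Preadditive.comp_sub]
    simp
  exact isIso_of_mono_of_epi _

end Abstract

section Construction

variable (I : A → Prop) (hI : ∀ X : A, ∃ (Y : A) (ι : X ⟶ Y), I Y ∧ Mono ι)

/-- chosen embedding into an object of the class -/
noncomputable def J (X : A) : A := (hI X).choose

noncomputable def jι (X : A) : X ⟶ J I hI X := (hI X).choose_spec.choose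

theorem J_mem (X : A) : I (J I hI X) := (hI X).choose_spec.choose_spec.1

instance (X : A) : Mono (jι I hI X) := (hI X).choose_spec.choose_spec.2

variable (K : CochainComplex A ℕ)

/-- the data at stage `k` of the inductive construction -/
structure Stage (k : ℕ) where
  L : A
  Q : A
  π : L ⟶ Q
  θ : K.opcycles k ⟶ Q
  α : K.X k ⟶ L
  comm : α ≫ π = K.pOpcycles k ≫ θ
  hL : I L
  mono_θ : Mono θ
  mono_α : Mono α
  epi_π : Epi π

attribute [instance] Stage.mono_θ Stage.mono_α Stage.epi_π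

variable {I K}

/-- stage zero -/
noncomputable def stage0 : Stage I K 0 where
  L := J I hI (K.X 0)
  Q := J I hI (K.X 0)
  π := 𝟙 _
  θ := K.descOpcycles (jι I hI (K.X 0)) 0 (by simp) (by simp)
  α := jι I hI (K.X 0)
  comm := by simp
  hL := J_mem I hI _
  mono_θ := by
    have h : K.pOpcycles 0 ≫ K.descOpcycles (jι I hI (K.X 0)) 0 (by simp) (by simp) =
      jι I hI (K.X 0) := K.p_descOpcycles _ _ _ _
    have h2 : K.descOpcycles (jι I hI (K.X 0)) 0 (by simp) (by simp) =
        inv (K.pOpcycles 0) ≫ jι I hI (K.X 0) := by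
      rw [← cancel_epi (K.pOpcycles 0), h, IsIso.hom_inv_id_assoc]
    rw [h2]
    infer_instance
  mono_α := inferInstance
  epi_π := inferInstance

theorem stage0_π ⦃T : A⦄ (y : T ⟶ (stage0 (K := K) hI).L) (hy : y ≫ (stage0 (K := K) hI).π = 0) :
    y = 0 := by
  change y ≫ 𝟙 _ = 0 at hy
  rwa [Category.comp_id] at hy

section Step

variable {k : ℕ} (s : Stage I K k)

/-- the pushout used in the inductive step -/
noncomputable abbrev stepP : A := pushout s.θ (K.fromOpcycles k (k + 1))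

noncomputable abbrev stepι : s.Q ⟶ J I hI (stepP s) :=
  pushout.inl s.θ (K.fromOpcycles k (k + 1)) ≫ jι I hI (stepP s)

noncomputable abbrev stepα : K.X (k + 1) ⟶ J I hI (stepP s) :=
  pushout.inr s.θ (K.fromOpcycles k (k + 1)) ≫ jι I hI (stepP s)

theorem step_d_α : K.d k (k + 1) ≫ stepα hI s = s.α ≫ s.π ≫ stepι hI s := by
  rw [← Category.assoc s.α, s.comm, Category.assoc, ← K.p_fromOpcycles k (k + 1), Category.assoc]
  congr 1
  dsimp only [stepα, stepι]
  rw [← Category.assoc, ← Category.assoc, pushout.condition]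

set_option backward.isDefEq.respectTransparency false in
theorem step_exι ⦃T : A⦄ (y : T ⟶ s.Q) (hy : y ≫ stepι hI s = 0) :
    ∃ (T' : A) (p : T' ⟶ T) (_ : Epi p) (c : T' ⟶ K.opcycles k),
      c ≫ s.θ = p ≫ y ∧ c ≫ K.fromOpcycles k (k + 1) = 0 := by
  have hy' : y ≫ pushout.inl s.θ (K.fromOpcycles k (k + 1)) = 0 := by
    apply zero_of_comp_mono (jι I hI (stepP s))
    rw [Category.assoc]
    exact hy
  have hpo : IsPushout s.θ (K.fromOpcycles k (k + 1)) (pushout.inl _ _) (pushout.inr _ _) :=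
    IsPushout.of_hasPushout _ _
  obtain ⟨T', p, hp, c, hc⟩ := hpo.exact_shortComplex.exact_up_to_refinements (y ≫ biprod.inl)
    (by simp [hy'])
  refine ⟨T', p, hp, c, ?_, ?_⟩
  · have := hc =≫ biprod.fst
    simpa using this.symm
  · have := hc =≫ biprod.snd
    simpa using this.symm

theorem fromOpcycles_pOpcycles : K.fromOpcycles k (k + 1) ≫ K.pOpcycles (k + 1) = 0 := by
  rw [← cancel_epi (K.pOpcycles k), K.p_fromOpcycles_assoc, K.d_pOpcycles, comp_zero]

set_option backward.isDefEq.respectTransparency false in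
theorem step_mono_θ (h0 : K.d k (k + 1) ≫ stepα hI s ≫ cokernel.π (stepι hI s) = 0) :
    Mono (K.descOpcycles (stepα hI s ≫ cokernel.π (stepι hI s)) k (by simp) h0) := by
  rw [Preadditive.mono_iff_cancel_zero]
  intro T x hx
  obtain ⟨T₁, p₁, _, y, hy⟩ := surjective_up_to_refinements_of_epi (K.pOpcycles (k + 1)) x
  have h1 : (y ≫ stepα hI s) ≫ cokernel.π (stepι hI s) = 0 := by
    have := hy =≫ K.descOpcycles (stepα hI s ≫ cokernel.π (stepι hI s)) k (by simp) h0
    rw [Category.assoc, hx, comp_zero, Category.assoc, K.p_descOpcycles] at this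
    rw [Category.assoc]
    exact this.symm
  have hex : (ShortComplex.mk _ _ (cokernel.condition (stepι hI s))).Exact :=
    ShortComplex.exact_of_g_is_cokernel _ (cokernelIsCokernel _)
  obtain ⟨T₂, p₂, _, z, hz⟩ := hex.exact_up_to_refinements _ h1
  have hz' : p₂ ≫ y ≫ pushout.inr s.θ (K.fromOpcycles k (k + 1)) =
      z ≫ pushout.inl s.θ (K.fromOpcycles k (k + 1)) := by
    apply (cancel_mono (jι I hI (stepP s))).mp
    simpa [stepα, stepι] using hz
  have hpo : IsPushout s.θ (K.fromOpcycles k (k + 1)) (pushout.inl _ _) (pushout.inr _ _) :=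
    IsPushout.of_hasPushout _ _
  obtain ⟨T₃, p₃, _, c, hc⟩ := hpo.exact_shortComplex.exact_up_to_refinements
    (biprod.lift z (-(p₂ ≫ y))) (by simp [hz'])
  have hc2 : p₃ ≫ p₂ ≫ y = c ≫ K.fromOpcycles k (k + 1) := by
    have := hc =≫ biprod.snd
    simpa using this
  have h3 : (p₃ ≫ p₂ ≫ p₁) ≫ x = 0 := by
    have e : (p₃ ≫ p₂ ≫ p₁) ≫ x = (p₃ ≫ p₂ ≫ y) ≫ K.pOpcycles (k + 1) := by
      simp only [Category.assoc, hy]
    rw [e, hc2, Category.assoc, fromOpcycles_pOpcycles, comp_zero]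
  exact (cancel_epi _).mp (h3.trans comp_zero.symm)

theorem step_h0 : K.d k (k + 1) ≫ stepα hI s ≫ cokernel.π (stepι hI s) = 0 := by
  rw [← Category.assoc, step_d_α, Category.assoc, Category.assoc, cokernel.condition,
    comp_zero, comp_zero]

/-- the inductive step -/
noncomputable def step : Stage I K (k + 1) where
  L := J I hI (stepP s)
  Q := cokernel (stepι hI s)
  π := cokernel.π _
  θ := K.descOpcycles (stepα hI s ≫ cokernel.π (stepι hI s)) k (by simp) (step_h0 hI s)
  α := stepα hI s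
  comm := (K.p_descOpcycles _ _ _ _).symm
  hL := J_mem I hI _
  mono_θ := step_mono_θ hI s (step_h0 hI s)
  mono_α := by
    dsimp only [stepα]
    infer_instance
  epi_π := inferInstance

/-- the differential produced by the step -/
noncomputable def stepD : s.L ⟶ (step hI s).L := s.π ≫ stepι hI s

/-- the map from the model of the opcycles to the next term -/
noncomputable def stepι' : s.Q ⟶ (step hI s).L := stepι hI s

theorem stepD_eq : stepD hI s = s.π ≫ stepι' hI s := rfl

theorem stepD_π : stepD hI s ≫ (step hI s).π = 0 := by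
  change (s.π ≫ stepι hI s) ≫ cokernel.π (stepι hI s) = 0
  rw [Category.assoc, cokernel.condition, comp_zero]

theorem step_exact_π_aux ⦃T : A⦄ (y : T ⟶ J I hI (stepP s))
    (hy : y ≫ cokernel.π (stepι hI s) = 0) :
    ∃ (T' : A) (p : T' ⟶ T) (_ : Epi p) (y₁ : T' ⟶ s.L), p ≫ y = y₁ ≫ s.π ≫ stepι hI s := by
  have hex : (ShortComplex.mk _ _ (cokernel.condition (stepι hI s))).Exact :=
    ShortComplex.exact_of_g_is_cokernel _ (cokernelIsCokernel _)
  obtain ⟨T₁, p₁, _, z, hz⟩ := hex.exact_up_to_refinements y hy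
  obtain ⟨T₂, p₂, _, w, hw⟩ := surjective_up_to_refinements_of_epi s.π z
  refine ⟨T₂, p₂ ≫ p₁, inferInstance, w, ?_⟩
  rw [Category.assoc, hz, ← Category.assoc, hw, Category.assoc]

theorem step_exact_π ⦃T : A⦄ (y : T ⟶ (step hI s).L) (hy : y ≫ (step hI s).π = 0) :
    ∃ (T' : A) (p : T' ⟶ T) (_ : Epi p) (y₁ : T' ⟶ s.L), p ≫ y = y₁ ≫ stepD hI s :=
  step_exact_π_aux hI s y hy

theorem step_comm : s.α ≫ stepD hI s = K.d k (k + 1) ≫ (step hI s).α :=
  (step_d_α hI s).symm

theorem step_exι' ⦃T : A⦄ (y : T ⟶ s.Q) (hy : y ≫ stepι' hI s = 0) :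
    ∃ (T' : A) (p : T' ⟶ T) (_ : Epi p) (c : T' ⟶ K.opcycles k),
      c ≫ s.θ = p ≫ y ∧ c ≫ K.fromOpcycles k (k + 1) = 0 :=
  step_exι hI s y hy

end Step

variable (I K)

/-- all stages -/
noncomputable def stage : (k : ℕ) → Stage I K k
  | 0 => stage0 hI
  | k + 1 => step hI (stage k)

/-- the differentials -/
noncomputable def stageD (k : ℕ) : (stage I hI K k).L ⟶ (stage I hI K (k + 1)).L :=
  stepD hI (stage I hI K k)

/-- the maps from the models of the opcycles -/
noncomputable def stageι (k : ℕ) : (stage I hI K k).Q ⟶ (stage I hI K (k + 1)).L :=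
  stepι' hI (stage I hI K k)

theorem stageD_eq (k : ℕ) : stageD I hI K k = (stage I hI K k).π ≫ stageι I hI K k := rfl

theorem stageD_π (k : ℕ) : stageD I hI K k ≫ (stage I hI K (k + 1)).π = 0 :=
  stepD_π hI (stage I hI K k)

theorem stage_exact_π (k : ℕ) ⦃T : A⦄ (y : T ⟶ (stage I hI K (k + 1)).L)
    (hy : y ≫ (stage I hI K (k + 1)).π = 0) :
    ∃ (T' : A) (p : T' ⟶ T) (_ : Epi p) (y₁ : T' ⟶ (stage I hI K k).L),
      p ≫ y = y₁ ≫ stageD I hI K k :=
  step_exact_π hI (stage I hI K k) y hy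

theorem stage_comm (k : ℕ) :
    (stage I hI K k).α ≫ stageD I hI K k = K.d k (k + 1) ≫ (stage I hI K (k + 1)).α :=
  step_comm hI (stage I hI K k)

theorem stage_exι (k : ℕ) ⦃T : A⦄ (y : T ⟶ (stage I hI K k).Q) (hy : y ≫ stageι I hI K k = 0) :
    ∃ (T' : A) (p : T' ⟶ T) (_ : Epi p) (c : T' ⟶ K.opcycles k),
      c ≫ (stage I hI K k).θ = p ≫ y ∧ c ≫ K.fromOpcycles k (k + 1) = 0 :=
  step_exι' hI (stage I hI K k) y hy

theorem stage_zero_π ⦃T : A⦄ (y : T ⟶ (stage I hI K 0).L) (hy : y ≫ (stage I hI K 0).π = 0) :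
    y = 0 :=
  stage0_π hI y hy

/-- the resolution -/
noncomputable def resL : CochainComplex A ℕ :=
  CochainComplex.of (fun k => (stage I hI K k).L) (stageD I hI K)
    (fun k => by
      rw [stageD_eq I hI K (k + 1), ← Category.assoc, stageD_π, zero_comp])

theorem resL_d (k : ℕ) : (resL I hI K).d k (k + 1) = stageD I hI K k := by
  exact CochainComplex.of_d (fun k => (stage I hI K k).L) (stageD I hI K) k

/-- the resolution map -/
noncomputable def resα : K ⟶ resL I hI K where
  f k := (stage I hI K k).α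
  comm' := by
    rintro k _ rfl
    rw [resL_d]
    exact stage_comm I hI K k

theorem quasiIsoAt_resα (k : ℕ) : QuasiIsoAt (resα I hI K) k := by
  cases k with
  | zero =>
    refine quasiIsoAt_of_data (resα I hI K) 0 0 1 (by simp) (by simp)
      (Q := (stage I hI K 0).Q) (stage I hI K 0).π (stage I hI K 0).θ (stageι I hI K 0)
      (stage I hI K 0).comm ?_ ?_ ?_ ?_
    · have h : (resL I hI K).d 0 0 = 0 := (resL I hI K).shape 0 0 (by simp)
      rw [h]
      exact zero_comp
    · intro T y hy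
      have hy0 : y = 0 := stage_zero_π I hI K y hy
      refine ⟨T, 𝟙 T, inferInstance, 0, ?_⟩
      rw [hy0, comp_zero, zero_comp]
    · rw [resL_d]
      exact stageD_eq I hI K 0
    · exact stage_exι I hI K 0
  | succ k =>
    refine quasiIsoAt_of_data (resα I hI K) k (k + 1) (k + 2) (by simp) (by simp)
      (Q := (stage I hI K (k + 1)).Q) (stage I hI K (k + 1)).π (stage I hI K (k + 1)).θ
      (stageι I hI K (k + 1)) (stage I hI K (k + 1)).comm ?_ ?_ ?_ ?_
    · rw [resL_d]
      exact stageD_π I hI K k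
    · intro T y hy
      obtain ⟨T', p, hp, y₁, hy₁⟩ := stage_exact_π I hI K k y hy
      refine ⟨T', p, hp, y₁, ?_⟩
      rw [resL_d]
      exact hy₁
    · rw [resL_d]
      exact stageD_eq I hI K (k + 1)
    · exact stage_exι I hI K (k + 1)

include hI in
theorem exists_resolution_nat :
    ∃ (L : CochainComplex A ℕ) (α : K ⟶ L), (∀ n, I (L.X n)) ∧ (∀ n, Mono (α.f n)) ∧
      QuasiIso α :=
  ⟨resL I hI K, resα I hI K, fun n => (stage I hI K n).hL, fun n => (stage I hI K n).mono_α,
    ⟨fun n => quasiIsoAt_resα I hI K n⟩⟩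

end Construction

end Groth.Agent.Lib.Helper3.RightRes
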