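import Mathlib
import Groth.Agent.Lib.Helper3.RightRes

/-!
# Right resolutions by a class of objects, for bounded below complexes indexed by `ℤ`
-/

set_option autoImplicit false
set_option linter.style.haveILetI false
set_option linter.unusedSectionVars false

open CategoryTheory Limits HomologicalComplex ComplexShape

namespace Groth.Agent.Lib.Helper3.RightRes

universe u v

variable {A : Type u} [Category.{v} A] [Abelian A]

/-- replace the objects of a complex by isomorphic ones -/
theorem exists_transport {ι : Type*} {c : ComplexShape ι} (M : HomologicalComplex A c)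
    (Y : ι → A) (e : ∀ i, M.X i ≅ Y i) :
    ∃ (M' : HomologicalComplex A c) (_ : M ≅ M'), ∀ i, M'.X i = Y i := by
  let M' : HomologicalComplex A c :=
    { X := Y
      d := fun i j => (e i).inv ≫ M.d i j ≫ (e j).hom
      shape := fun i j h => by simp [M.shape i j h]
      d_comp_d' := fun i j k _ _ => by simp }
  exact ⟨M', HomologicalComplex.Hom.isoOfComponents e (fun i j _ => by simp [M']), fun _ => rfl⟩

theorem isIso_of_isZero {X Y : A} (f : X ⟶ Y) (hX : IsZero X) (hY : IsZero Y) : IsIso f :=
  ⟨0, hX.eq_of_src _ _, hY.eq_of_src _ _⟩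

theorem mono_of_isZero_src {X Y : A} (f : X ⟶ Y) (hX : IsZero X) : Mono f :=
  ⟨fun _ _ _ => hX.eq_of_tgt _ _⟩

variable (I : A → Prop) (hI0 : ∃ Z : A, IsZero Z ∧ I Z)
  (hI : ∀ X : A, ∃ (Y : A) (ι : X ⟶ Y), I Y ∧ Mono ι)

include hI0 hI

theorem exists_right_resolution (K : CochainComplex A ℤ) (a : ℤ) [K.IsStrictlyGE a] :
    ∃ (L : CochainComplex A ℤ) (α : K ⟶ L), L.IsStrictlyGE a ∧ (∀ n, I (L.X n)) ∧
      (∀ n, Mono (α.f n)) ∧ QuasiIso α := by
  classical
  obtain ⟨Z, hZ, hZI⟩ := hI0
  let e := embeddingUpIntGE a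
  obtain ⟨L', α', hL', hmono, hqi⟩ := exists_resolution_nat I hI (K.restriction e)
  -- the lifting condition
  have hlift : ∀ {M : CochainComplex A ℕ} (φ : K.restriction e ⟶ M), e.HasLift φ := by
    intro M φ j hj i' hij'
    by_cases hi' : i' < a
    · exact (K.isZero_of_isStrictlyGE a i' hi').eq_of_src _ _
    · exfalso
      have h1 : a + ((i' - a).toNat : ℤ) = i' := by
        rw [Int.toNat_of_nonneg (by omega)]
        omega
      exact hj.2 (i' - a).toNat (by
        change (up ℤ).Rel (a + ((i' - a).toNat : ℤ)) (e.f j)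
        rw [h1]
        exact hij')
  let ψ : K ⟶ L'.extend e := e.liftExtend α' (hlift α')
  let ι : K ⟶ (K.restriction e).extend e := e.liftExtend (𝟙 _) (hlift _)
  have hrange : ∀ n : ℤ, a ≤ n → e.f (n - a).toNat = n := by
    intro n hn
    change a + ((n - a).toNat : ℤ) = n
    rw [Int.toNat_of_nonneg (by omega)]
    omega
  have hnot : ∀ n : ℤ, ¬ a ≤ n → ∀ k, e.f k ≠ n := by
    intro n hn k hk
    apply hn
    rw [← hk]
    change a ≤ a + (k : ℤ)
    omega
  have hψmono : ∀ n, Mono (ψ.f n) := by
    intro n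
    by_cases hn : a ≤ n
    · exact (e.mono_liftExtend_f_iff α' (hlift α') (hrange n hn)).mpr (hmono _)
    · exact mono_of_isZero_src _ (K.isZero_of_isStrictlyGE a n (by omega))
  haveI hιiso : IsIso ι := by
    haveI : ∀ n, IsIso (ι.f n) := by
      intro n
      by_cases hn : a ≤ n
      · exact (e.isIso_liftExtend_f_iff (𝟙 _) (hlift _) (hrange n hn)).mpr inferInstance
      · exact isIso_of_isZero _ (K.isZero_of_isStrictlyGE a n (by omega))
          (isZero_extend_X _ e n (hnot n hn))
    exact HomologicalComplex.Hom.isIso_of_components ι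
  have hψ : ψ = ι ≫ extendMap α' e := by
    apply (e.homEquiv K L').injective
    apply Subtype.ext
    change e.homRestrict ψ = e.homRestrict (ι ≫ extendMap α' e)
    rw [e.homRestrict_comp_extendMap, e.homRestrict_liftExtend, e.homRestrict_liftExtend,
      Category.id_comp]
  haveI : QuasiIso (extendMap α' e) := (quasiIso_extendMap_iff α' e).mpr hqi
  haveI hψqi : QuasiIso ψ := by
    rw [hψ]
    infer_instance
  -- transport to the right objects
  let Y : ℤ → A := fun n => if a ≤ n then L'.X (n - a).toNat else Z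
  have e' : ∀ n, (L'.extend e).X n ≅ Y n := by
    intro n
    by_cases hn : a ≤ n
    · exact L'.extendXIso e (hrange n hn) ≪≫ eqToIso (by simp [Y, hn])
    · exact (isZero_extend_X _ e n (hnot n hn)).iso (by simpa [Y, hn] using hZ)
  obtain ⟨L, φ, hX⟩ := exists_transport (L'.extend e) Y e'
  haveI : CochainComplex.IsStrictlyGE L a := isStrictlySupported_of_iso φ e
  refine ⟨L, ψ ≫ φ.hom, inferInstance, ?_, ?_, inferInstance⟩
  · intro n
    rw [hX n]
    by_cases hn : a ≤ n
    · simpa [Y, hn] using hL' _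
    · simpa [Y, hn] using hZI
  · intro n
    haveI := hψmono n
    haveI : IsIso (φ.hom.f n) :=
      (inferInstance : IsIso ((HomologicalComplex.eval A (up ℤ) n).map φ.hom))
    rw [HomologicalComplex.comp_f]
    infer_instance

theorem exists_right_resolution_of_acyclic_below (K : CochainComplex A ℤ) (a : ℤ)
    (hK : ∀ n : ℤ, n < a → IsZero (K.homology n)) :
    ∃ (L : CochainComplex A ℤ) (α : K ⟶ L), L.IsStrictlyGE a ∧ (∀ n, I (L.X n)) ∧
      QuasiIso α := by
  haveI : K.IsGE a := by
    rw [CochainComplex.isGE_iff]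
    intro i hi
    rw [exactAt_iff_isZero_homology]
    exact hK i hi
  obtain ⟨L, β, h1, h2, -, h4⟩ := exists_right_resolution I hI0 hI (K.truncGE a) a
  exact ⟨L, K.πTruncGE a ≫ β, h1, h2, inferInstance⟩

end Groth.Agent.Lib.Helper3.RightRes
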