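import Mathlib
import Groth.Prelude.Def_SchFin2

/-!
# Base change (`IsBCAlong`) API for finite ringed posets

* `bijective_of_forall_lTensor_bijective`: descent of bijectivity along a faithfully flat finite
  product.
* `isBaseChange_of_forall`: descent of `IsBaseChange` along a faithfully flat finite product.
* `isBCAlong_congr`: transport of `IsBCAlong` along isomorphisms of the source ring and module.
-/

set_option autoImplicit false
set_option linter.style.haveILetI false

namespace Groth.Agent.Lib.Helper3.SchFinBC

open SchFin TensorProduct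

universe u

/-- Descent of bijectivity of a linear map along a finite family of modules whose product is
faithfully flat. -/
theorem bijective_of_forall_lTensor_bijective {Γ : Type*} [CommRing Γ] {ι : Type*} [Finite ι]
    (B : ι → Type*) [∀ i, AddCommGroup (B i)] [∀ i, Module Γ (B i)]
    (hff : Module.FaithfullyFlat Γ (∀ i, B i)) {N N' : Type*} [AddCommGroup N] [AddCommGroup N']
    [Module Γ N] [Module Γ N'] (θ : N →ₗ[Γ] N')
    (h : ∀ i, Function.Bijective (LinearMap.lTensor (B i) θ)) : Function.Bijective θ := by
  classical
  cases nonempty_fintype ι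
  rw [← Module.FaithfullyFlat.lTensor_bijective_iff_bijective Γ (∀ i, B i)]
  have key : ∀ t : (∀ i, B i) ⊗[Γ] N,
      TensorProduct.piLeft Γ N' B (LinearMap.lTensor (∀ i, B i) θ t) =
        fun i => LinearMap.lTensor (B i) θ (TensorProduct.piLeft Γ N B t i) := by
    intro t
    induction t using TensorProduct.induction_on with
    | zero => funext i; simp
    | tmul b n => funext i; simp
    | add s t hs ht =>
        rw [map_add, map_add, hs, ht, map_add]
        funext i
        simp
  have hb : Function.Bijective (fun (v : ∀ i, B i ⊗[Γ] N) (i : ι) =>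
      LinearMap.lTensor (B i) θ (v i)) := by
    constructor
    · intro v w hvw
      funext i
      exact (h i).1 (congrFun hvw i)
    · intro w
      choose v hv using fun i => (h i).2 (w i)
      exact ⟨v, funext hv⟩
  have : ⇑(LinearMap.lTensor (∀ i, B i) θ) =
      ⇑(TensorProduct.piLeft Γ N' B).symm ∘ (fun (v : ∀ i, B i ⊗[Γ] N) (i : ι) =>
        LinearMap.lTensor (B i) θ (v i)) ∘ ⇑(TensorProduct.piLeft Γ N B) := by
    funext t
    simp only [Function.comp_apply]
    rw [← key t, LinearEquiv.symm_apply_apply]
  rw [this]
  exact (TensorProduct.piLeft Γ N' B).symm.bijective.comp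
    (hb.comp (TensorProduct.piLeft Γ N B).bijective)


/-- Descent of `IsBaseChange` along a finite family of algebras whose product is faithfully
flat. -/
theorem isBaseChange_of_forall {R Γ : Type*} [CommRing R] [CommRing Γ] [Algebra R Γ]
    {ι : Type*} [Finite ι] (B : ι → Type*) [∀ i, CommRing (B i)] [∀ i, Algebra Γ (B i)]
    [∀ i, Algebra R (B i)] [∀ i, IsScalarTower R Γ (B i)]
    (hff : Module.FaithfullyFlat Γ (∀ i, B i))
    {M N : Type*} [AddCommGroup M] [AddCommGroup N] [Module R M] [Module R N] [Module Γ N]
    [IsScalarTower R Γ N] (f : M →ₗ[R] N)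
    (P : ι → Type*) [∀ i, AddCommGroup (P i)] [∀ i, Module (B i) (P i)] [∀ i, Module Γ (P i)]
    [∀ i, Module R (P i)] [∀ i, IsScalarTower Γ (B i) (P i)] [∀ i, IsScalarTower R (B i) (P i)]
    (ε : ∀ i, N →ₗ[Γ] P i) (hε : ∀ i, IsBaseChange (B i) (ε i))
    (εf : ∀ i, M →ₗ[R] P i) (hεf' : ∀ i m, εf i m = ε i (f m))
    (hεf : ∀ i, IsBaseChange (B i) (εf i)) : IsBaseChange Γ f := by
  let θ : Γ ⊗[R] M →ₗ[Γ] N := f.liftBaseChange Γ
  have hθ : Function.Bijective θ := by
    refine bijective_of_forall_lTensor_bijective B hff θ fun i => ?_
    have key : ∀ t : B i ⊗[Γ] (Γ ⊗[R] M),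
        (hε i).equiv (LinearMap.lTensor (B i) θ t) =
          (hεf i).equiv (TensorProduct.AlgebraTensorModule.cancelBaseChange R Γ (B i) (B i) M t) := by
      intro t
      induction t using TensorProduct.induction_on with
      | zero => simp
      | add s t hs ht => rw [map_add, map_add, map_add, map_add, hs, ht]
      | tmul b t =>
          induction t using TensorProduct.induction_on with
          | zero => simp
          | add s t hs ht => rw [TensorProduct.tmul_add, map_add, map_add, map_add, map_add, hs, ht]
          | tmul s m =>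
              rw [LinearMap.lTensor_tmul, IsBaseChange.equiv_tmul,
                TensorProduct.AlgebraTensorModule.cancelBaseChange_tmul, IsBaseChange.equiv_tmul,
                hεf']
              simp only [θ, LinearMap.liftBaseChange_tmul, map_smul]
              rw [smul_assoc, smul_comm]
    have : ⇑(LinearMap.lTensor (B i) θ) = ⇑(hε i).equiv.symm ∘ ⇑(hεf i).equiv ∘
        ⇑(TensorProduct.AlgebraTensorModule.cancelBaseChange R Γ (B i) (B i) M) := by
      funext t
      simp only [Function.comp_apply]
      rw [← key t, LinearEquiv.symm_apply_apply]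
    rw [this]
    exact (hε i).equiv.symm.bijective.comp ((hεf i).equiv.bijective.comp
      (TensorProduct.AlgebraTensorModule.cancelBaseChange R Γ (B i) (B i) M).bijective)
  refine IsBaseChange.of_equiv (LinearEquiv.ofBijective θ hθ) fun m => ?_
  simp [θ]


/-- Transport of `IsBCAlong` along a surjective ring map `σ : R' → R` and a bijective `σ`-semilinear
map `τ : M' → M`. -/
theorem isBCAlong_congr {R R' S : Type u} [CommRing R] [CommRing R'] [CommRing S]
    {M M' N : Type u} [AddCommGroup M] [AddCommGroup M'] [AddCommGroup N] [Module R M]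
    [Module R' M'] [Module S N] (g : R →+* S) (g' : R' →+* S) (f : M →ₛₗ[g] N)
    (f' : M' →ₛₗ[g'] N) (σ : R' →+* R) (hσ : Function.Surjective σ) (τ : M' →+ M)
    (hτ : Function.Bijective τ) (hτσ : ∀ r m, τ (r • m) = σ r • τ m)
    (hg : ∀ r, g (σ r) = g' r) (hf : ∀ m, f (τ m) = f' m) (h : IsBCAlong g f) :
    IsBCAlong g' f' := by
  unfold IsBCAlong at h ⊢
  letI a1 : Algebra R S := g.toAlgebra
  letI a2 : Module R N := Module.compHom N g
  haveI a3 : IsScalarTower R S N := IsScalarTower.of_algebraMap_smul fun _ _ => rfl
  letI b1 : Algebra R' S := g'.toAlgebra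
  letI b2 : Module R' N := Module.compHom N g'
  haveI b3 : IsScalarTower R' S N := IsScalarTower.of_algebraMap_smul fun _ _ => rfl
  let τe : M' ≃+ M := AddEquiv.ofBijective τ hτ
  have hτe : ∀ m, τ (τe.symm m) = m := fun m => τe.apply_symm_apply m
  have hτe' : ∀ m, τe.symm (τ m) = m := fun m => τe.symm_apply_apply m
  -- the two comparison maps
  let φ : S ⊗[R'] M' →+ S ⊗[R] M := TensorProduct.liftAddHom
    { toFun := fun s =>
        { toFun := fun m => s ⊗ₜ[R] τ m
          map_zero' := by rw [map_zero, TensorProduct.tmul_zero]
          map_add' := fun m m' => by rw [map_add, TensorProduct.tmul_add] }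
      map_zero' := by ext m; exact TensorProduct.zero_tmul _ _
      map_add' := fun s s' => by ext m; exact TensorProduct.add_tmul _ _ _ }
    (fun r s m => by
      change (r • s) ⊗ₜ[R] τ m = s ⊗ₜ[R] τ (r • m)
      rw [hτσ, TensorProduct.tmul_smul, TensorProduct.smul_tmul']
      congr 1
      change g' r * s = g (σ r) * s
      rw [hg])
  let ψ : S ⊗[R] M →+ S ⊗[R'] M' := TensorProduct.liftAddHom
    { toFun := fun s =>
        { toFun := fun m => s ⊗ₜ[R'] τe.symm m
          map_zero' := by rw [map_zero, TensorProduct.tmul_zero]
          map_add' := fun m m' => by rw [map_add, TensorProduct.tmul_add] }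
      map_zero' := by ext m; exact TensorProduct.zero_tmul _ _
      map_add' := fun s s' => by ext m; exact TensorProduct.add_tmul _ _ _ }
    (fun r s m => by
      change (r • s) ⊗ₜ[R'] τe.symm m = s ⊗ₜ[R'] τe.symm (r • m)
      obtain ⟨r', rfl⟩ := hσ r
      have : τe.symm (σ r' • m) = r' • τe.symm m := by
        apply τe.injective
        change τ (τe.symm _) = τ _
        rw [hτe, hτσ, hτe]
      rw [this, TensorProduct.tmul_smul, TensorProduct.smul_tmul']
      congr 1
      change g (σ r') * s = g' r' * s
      rw [hg])
  have hφψ : ∀ t, φ (ψ t) = t := by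
    intro t
    induction t using TensorProduct.induction_on with
    | zero => rw [map_zero, map_zero]
    | add s t hs ht => rw [map_add, map_add, hs, ht]
    | tmul s m =>
        change s ⊗ₜ[R] τ (τe.symm m) = _
        rw [hτe]
  have hψφ : ∀ t, ψ (φ t) = t := by
    intro t
    induction t using TensorProduct.induction_on with
    | zero => rw [map_zero, map_zero]
    | add s t hs ht => rw [map_add, map_add, hs, ht]
    | tmul s m =>
        change s ⊗ₜ[R'] τe.symm (τ m) = _
        rw [hτe']
  have hφ : Function.Bijective φ :=
    ⟨Function.LeftInverse.injective hψφ, Function.RightInverse.surjective hφψ⟩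
  let f'l : M' →ₗ[R'] N := { toFun := f', map_add' := f'.map_add, map_smul' := f'.map_smulₛₗ }
  let θ' : S ⊗[R'] M' →ₗ[S] N := f'l.liftBaseChange S
  have hθ' : ⇑θ' = ⇑h.equiv ∘ ⇑φ := by
    funext t
    induction t using TensorProduct.induction_on with
    | zero => simp
    | add s t hs ht =>
        rw [map_add, hs, ht]
        simp only [Function.comp_apply, map_add]
    | tmul s m =>
        simp only [Function.comp_apply, θ', LinearMap.liftBaseChange_tmul]
        change s • f' m = h.equiv (s ⊗ₜ[R] τ m)
        rw [IsBaseChange.equiv_tmul]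
        change s • f' m = s • f (τ m)
        rw [hf]
  have hbij : Function.Bijective θ' := by
    rw [hθ']
    exact h.equiv.bijective.comp hφ
  refine IsBaseChange.of_equiv (LinearEquiv.ofBijective θ' hbij) fun m => ?_
  simp [θ', f'l]


/-- A bijective semilinear map over a ring epimorphism is a base change. -/
theorem isBCAlong_of_epi_of_bijective {R S : Type u} [CommRing R] [CommRing S] (g : R →+* S)
    (hg : letI : Algebra R S := g.toAlgebra; Algebra.IsEpi R S)
    {M N : Type u} [AddCommGroup M] [AddCommGroup N] [Module R M] [Module S N]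
    (f : M →ₛₗ[g] N) (hf : Function.Bijective f) : IsBCAlong g f := by
  unfold IsBCAlong
  letI a1 : Algebra R S := g.toAlgebra
  letI a2 : Module R N := Module.compHom N g
  haveI a3 : IsScalarTower R S N := IsScalarTower.of_algebraMap_smul fun _ _ => rfl
  haveI : Algebra.IsEpi R S := hg
  let fE : M ≃+ N := AddEquiv.ofBijective f.toAddMonoidHom hf
  have hfE : ∀ m, fE m = f m := fun _ => rfl
  letI a4 : Module S M := fE.module S
  have hsmul : ∀ (s : S) (m : M), fE (s • m) = s • fE m := fun s m => by
    change fE (fE.symm (s • fE m)) = _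
    rw [AddEquiv.apply_symm_apply]
  haveI a5 : IsScalarTower R S M := by
    constructor
    intro r s m
    apply fE.injective
    rw [hsmul, hfE (r • s • m), LinearMap.map_smulₛₗ, ← hfE, hsmul, Algebra.smul_def, mul_smul]
    rfl
  let fS : M ≃ₗ[S] N := { fE with map_smul' := fun s m => hsmul s m }
  refine IsBaseChange.of_equiv ((TensorProduct.lid' R S M).trans fS) fun m => ?_
  rw [LinearEquiv.trans_apply, TensorProduct.lid'_apply_tmul, one_smul]
  rfl

/-- A bijective semilinear map over a surjective ring map is a base change. -/
theorem isBCAlong_of_bijective {R S : Type u} [CommRing R] [CommRing S] (g : R →+* S)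
    (hg : Function.Surjective g)
    {M N : Type u} [AddCommGroup M] [AddCommGroup N] [Module R M] [Module S N]
    (f : M →ₛₗ[g] N) (hf : Function.Bijective f) : IsBCAlong g f := by
  refine isBCAlong_of_epi_of_bijective g ?_ f hf
  letI a1 : Algebra R S := g.toAlgebra
  exact Algebra.isEpi_of_surjective_algebraMap R S hg

/-- A semilinear map to a trivial module whose source has trivial base change is a base
change. -/
theorem isBCAlong_of_subsingleton {R S : Type u} [CommRing R] [CommRing S] (g : R →+* S)
    {M N : Type u} [AddCommGroup M] [AddCommGroup N] [Module R M] [Module S N]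
    (f : M →ₛₗ[g] N) (hN : Subsingleton N)
    (hT : letI : Algebra R S := g.toAlgebra; Subsingleton (S ⊗[R] M)) : IsBCAlong g f := by
  unfold IsBCAlong
  letI a1 : Algebra R S := g.toAlgebra
  letI a2 : Module R N := Module.compHom N g
  haveI a3 : IsScalarTower R S N := IsScalarTower.of_algebraMap_smul fun _ _ => rfl
  haveI := hT
  let e : S ⊗[R] M ≃ₗ[S] N :=
    { toFun := fun _ => 0
      map_add' := fun _ _ => (add_zero 0).symm
      map_smul' := fun _ _ => (smul_zero _).symm
      invFun := fun _ => 0
      left_inv := fun _ => Subsingleton.elim _ _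
      right_inv := fun _ => Subsingleton.elim _ _ }
  exact IsBaseChange.of_equiv e fun m => Subsingleton.elim _ _

section Restrict

variable (X : RSpace.{u}) (U : Set X.pt)

/-- sections of the rings over `U` as global sections of the restricted space -/
def sectRingRestrict : X.sectRing U →+* (X.restrict U).sectRing Set.univ where
  toFun s := ⟨fun p => s.1 p.1, fun p p' h => s.2 p.1 p'.1 h⟩
  map_one' := rfl
  map_mul' _ _ := rfl
  map_zero' := rfl
  map_add' _ _ := rfl

lemma sectRingRestrict_surjective : Function.Surjective (sectRingRestrict X U) := by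
  intro t
  exact ⟨⟨fun p => t.1 ⟨p, trivial⟩, fun p p' h => t.2 ⟨p, trivial⟩ ⟨p', trivial⟩ h⟩, rfl⟩

lemma sectRingRestrict_injective : Function.Injective (sectRingRestrict X U) := by
  intro s s' h
  apply Subtype.ext
  funext p
  exact congrFun (congrArg Subtype.val h) ⟨p, trivial⟩

variable {X} (M : OMod X)

/-- sections of a module over `U` as global sections of the restricted module -/
def sectRestrict : M.sect U →+ (M.restrict U).sect Set.univ where
  toFun s := ⟨fun p => s.1 p.1, fun p p' h => s.2 p.1 p'.1 h⟩
  map_zero' := rfl
  map_add' _ _ := rfl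

lemma sectRestrict_bijective : Function.Bijective (sectRestrict U M) := by
  constructor
  · intro s s' h
    apply Subtype.ext
    funext p
    exact congrFun (congrArg Subtype.val h) ⟨p, trivial⟩
  · intro t
    exact ⟨⟨fun p => t.1 ⟨p, trivial⟩, fun p p' h => t.2 ⟨p, trivial⟩ ⟨p', trivial⟩ h⟩, rfl⟩

lemma isQcoh_restrict (hM : M.IsQcoh) : (M.restrict U).IsQcoh :=
  fun p q h => hM p.1 q.1 h

/-- The counit over an affine subset: evaluation of sections over `U` at a point of `U` is a base
change. -/
theorem isBCAlong_evalMod (hUa : (X.restrict U).IsAffine) (hM : M.IsQcoh) (q : U) :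
    IsBCAlong (X.evalRing U q) (M.evalMod U q) := by
  have h := hUa.2.2.1 (M.restrict U) (isQcoh_restrict U M hM) q
  exact isBCAlong_congr _ _ _ _ (sectRingRestrict X U) (sectRingRestrict_surjective X U)
    (sectRestrict U M) (sectRestrict_bijective U M) (fun _ _ => rfl) (fun _ => rfl)
    (fun _ => rfl) h

end Restrict

end Groth.Agent.Lib.Helper3.SchFinBC
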