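import Mathlib
import Groth.Prelude.Def_SchFin2

/-!
# Degree-zero cohomology of the standard complex over a set with a least element
-/

set_option autoImplicit false

namespace Groth.Agent.Lib.Helper3.SchFinH0

open SchFin TensorProduct

universe u

variable {X : RSpace.{u}} {U : Set X.pt} {R : Type u} [CommRing R] (φ : Coef X U R) (M : OMod X)

instance : Subsingleton (Fin (0 + 1)) := inferInstanceAs (Subsingleton (Fin 1))

/-- The chain of length zero at a point. -/
def pointChain (q : U) : Chain U 0 :=
  OrderEmbedding.ofMapLEIff (fun _ => q) (fun a b => by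
    simp [Subsingleton.elim a b])

@[simp] theorem pointChain_apply (q : U) (i : Fin 1) : pointChain q i = q := rfl

theorem chain_zero_eq (τ : Chain U 0) : τ = pointChain (τ (Fin.last 0)) := by
  ext i
  have : i = Fin.last 0 := Subsingleton.elim _ _
  rw [this]
  rfl

/-- The chain `a < b` of length one. -/
def pairChain (a b : U) (h : a < b) : Chain U 1 :=
  OrderEmbedding.ofStrictMono (fun i : Fin 2 => if i = 0 then a else b) (by
    intro i j hij
    fin_cases i <;> fin_cases j <;> simp_all)

theorem pairChain_zero (a b : U) (h : a < b) : pairChain a b h 0 = a := rfl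
theorem pairChain_one (a b : U) (h : a < b) : pairChain a b h 1 = b := rfl

variable {φ M}

/-- The cocycle condition in degree zero. -/
theorem cocycle_cond (c : Cochain φ M 0) (hc : c ∈ cocycles φ M 0) (σ : Chain U 1) :
    c.faceVal σ 0 = c.faceVal σ 1 := by
  have h : diff φ M 0 c = 0 := hc
  have h2 := congrFun h σ
  change (∑ j : Fin 2, ((-1 : ℤ) ^ (j : ℕ)) • c.faceVal σ j) = 0 at h2
  rw [Fin.sum_univ_two] at h2
  simp at h2
  exact sub_eq_zero.1 (by rw [sub_eq_add_neg]; exact h2)

section Least

variable (φ M) (m : U) (hm : ∀ q : U, m.1 ≤ q.1)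

/-- The constant cochain attached to an element of the module at the least point. -/
def constCochain (a : M.carrier m.1) : Cochain φ M 0 :=
  fun σ => M.res (hm (σ (Fin.last 0))) a

theorem constCochain_mem (a : M.carrier m.1) : constCochain φ M m hm a ∈ cocycles φ M 0 := by
  change diff φ M 0 _ = 0
  funext σ
  change (∑ j : Fin 2, ((-1 : ℤ) ^ (j : ℕ)) • (constCochain φ M m hm a).faceVal σ j) = 0
  have : ∀ j, (constCochain φ M m hm a).faceVal σ j = M.res (hm (σ (Fin.last 1))) a := by
    intro j
    unfold Cochain.faceVal constCochain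
    rw [M.res_comp]
  simp [this, Fin.sum_univ_two]

variable {φ M}

theorem transport_aux (c : Cochain φ M 0) (τ₀ τ₁ : Chain U 0) (p : X.pt)
    (h₀ : (τ₀ (Fin.last 0)).1 ≤ p) (h₁ : (τ₁ (Fin.last 0)).1 ≤ p) (τ₀' τ₁' : Chain U 0)
    (e₀ : τ₀ = τ₀') (e₁ : τ₁ = τ₁') (key : M.res h₀ (c τ₀) = M.res h₁ (c τ₁)) :
    M.res (e₀ ▸ h₀ : (τ₀' (Fin.last 0)).1 ≤ p) (c τ₀') =
      M.res (e₁ ▸ h₁ : (τ₁' (Fin.last 0)).1 ≤ p) (c τ₁') := by
  subst e₀ e₁
  exact key

/-- A degree-zero cocycle over a set with least element is determined by its value there. -/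
theorem eval_eq (c : Cochain φ M 0) (hc : c ∈ cocycles φ M 0) (τ : Chain U 0) :
    c τ = M.res (hm (τ (Fin.last 0))) (c (pointChain m)) := by
  by_cases h : τ (Fin.last 0) = m
  · obtain rfl : τ = pointChain m := by rw [chain_zero_eq τ, h]
    exact (M.res_self _ _).symm
  · have hlt : m < τ (Fin.last 0) := lt_of_le_of_ne (hm _) (Ne.symm h)
    have e0 : (pairChain m (τ (Fin.last 0)) hlt).face 0 = τ := by
      ext i
      have : i = Fin.last 0 := Subsingleton.elim _ _
      rw [this]
      rfl
    have e1 : (pairChain m (τ (Fin.last 0)) hlt).face 1 = pointChain m := by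
      ext i
      have : i = Fin.last 0 := Subsingleton.elim _ _
      rw [this]
      rfl
    have key := cocycle_cond c hc (pairChain m (τ (Fin.last 0)) hlt)
    unfold Cochain.faceVal at key
    have key2 := transport_aux c _ _ _ _ _ τ (pointChain m) e0 e1 key
    have h3 : ∀ (hh : (τ (Fin.last 0)).1 ≤ ((pairChain m (τ (Fin.last 0)) hlt) (Fin.last 1)).1),
        M.res hh (c τ) = c τ := fun hh => M.res_self _ _
    rw [h3] at key2
    exact key2

end Least

section Equiv

variable (φ M) (m : U) (hm : ∀ q : U, m.1 ≤ q.1)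

theorem constCochain_add (a b : M.carrier m.1) :
    constCochain φ M m hm (a + b) = constCochain φ M m hm a + constCochain φ M m hm b := by
  funext σ
  change M.res _ (a + b) = M.res _ a + M.res _ b
  rw [map_add]

theorem constCochain_smul (r : R) (a : M.carrier m.1) :
    constCochain φ M m hm (φ.map m r • a) = r • constCochain φ M m hm a := by
  funext σ
  change M.res (hm (σ (Fin.last 0))) (φ.map m r • a) =
    φ.map (σ (Fin.last 0)) r • M.res (hm (σ (Fin.last 0))) a
  rw [LinearMap.map_smulₛₗ, φ.compat m (σ (Fin.last 0)) (hm _)]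

theorem constCochain_pointChain (a : M.carrier m.1) :
    constCochain φ M m hm a (pointChain m) = a := M.res_self _ _

/-- The map from the module at the least point to `H⁰`. -/
noncomputable def toH0 : M.carrier m.1 →+ H φ M 0 where
  toFun a := H.mk φ M 0 ⟨constCochain φ M m hm a, constCochain_mem φ M m hm a⟩
  map_zero' := by
    have : (⟨constCochain φ M m hm 0, constCochain_mem φ M m hm 0⟩ : cocycles φ M 0) = 0 := by
      apply Subtype.ext
      funext σ
      change M.res _ 0 = 0
      rw [map_zero]
    rw [this, map_zero]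
  map_add' a b := by
    have : (⟨constCochain φ M m hm (a + b), constCochain_mem φ M m hm (a + b)⟩ : cocycles φ M 0) =
        ⟨constCochain φ M m hm a, constCochain_mem φ M m hm a⟩ +
          ⟨constCochain φ M m hm b, constCochain_mem φ M m hm b⟩ := by
      apply Subtype.ext
      exact constCochain_add φ M m hm a b
    rw [this, map_add]

theorem toH0_smul (r : R) (a : M.carrier m.1) :
    toH0 φ M m hm (φ.map m r • a) = r • toH0 φ M m hm a := by
  change H.mk φ M 0 _ = r • H.mk φ M 0 _
  rw [← map_smul]
  congr 1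
  apply Subtype.ext
  exact constCochain_smul φ M m hm r a

/-- Version of `toH0_smul` for the structure sheaf, with the product of the ring. -/
theorem toH0_str_mul (φ : Coef X U R) (m : U) (hm : ∀ q : U, m.1 ≤ q.1) (r : R)
    (a : X.ring m.1) :
    toH0 φ X.str m hm (φ.map m r * a) = r • toH0 φ X.str m hm a :=
  toH0_smul φ X.str m hm r a

theorem toH0_injective : Function.Injective (toH0 φ M m hm) := by
  rw [injective_iff_map_eq_zero]
  intro a ha
  have ha' : (Submodule.Quotient.mk
      (⟨constCochain φ M m hm a, constCochain_mem φ M m hm a⟩ : cocycles φ M 0) :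
      cocycles φ M 0 ⧸ ((cobdry φ M 0).comap (cocycles φ M 0).subtype)) = 0 := ha
  have h2 : constCochain φ M m hm a ∈ cobdry φ M 0 :=
    (Submodule.Quotient.mk_eq_zero ((cobdry φ M 0).comap (cocycles φ M 0).subtype)).1 ha'
  change constCochain φ M m hm a ∈ (⊥ : Submodule R _) at h2
  rw [Submodule.mem_bot] at h2
  have h3 := congrFun h2 (pointChain m)
  rw [constCochain_pointChain] at h3
  exact h3

theorem toH0_surjective : Function.Surjective (toH0 φ M m hm) := by
  intro z
  obtain ⟨⟨c, hc⟩, rfl⟩ := Submodule.mkQ_surjective _ z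
  refine ⟨c (pointChain m), ?_⟩
  change H.mk φ M 0 _ = _
  unfold H.mk
  congr 1
  apply Subtype.ext
  funext τ
  exact (eval_eq m hm c hc τ).symm

/-- `H⁰` over a set with a least element is the module at that element. -/
noncomputable def h0Equiv : M.carrier m.1 ≃+ H φ M 0 :=
  AddEquiv.ofBijective (toH0 φ M m hm) ⟨toH0_injective φ M m hm, toH0_surjective φ M m hm⟩

theorem h0Equiv_apply (a : M.carrier m.1) : h0Equiv φ M m hm a = toH0 φ M m hm a := rfl

end Equiv

section Naturality

variable {U' : Set X.pt} {R' : Type u} [CommRing R'] {φ' : Coef X U' R'} (M)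
  (s : Coef.Sub φ φ') (m : U) (hm : ∀ q : U, m.1 ≤ q.1) (m' : U') (hm' : ∀ q : U', m'.1 ≤ q.1)

theorem resH_toH0 (a : M.carrier m.1) :
    resH M s 0 (toH0 φ M m hm a) = toH0 φ' M m' hm' (M.res (hm ⟨m'.1, s.le m'.2⟩) a) := by
  change H.mk φ' M 0 _ = H.mk φ' M 0 _
  congr 1
  apply Subtype.ext
  funext τ
  change M.res _ a = M.res _ (M.res _ a)
  rw [M.res_comp]

end Naturality

end Groth.Agent.Lib.Helper3.SchFinH0
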