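import Mathlib
import Groth.Prelude.Def_SchFin2
import Groth.Agent.Lib.Helper3.SchFinH0

/-!
# Restriction maps of a schematic finite space are flat ring epimorphisms
-/

set_option autoImplicit false

namespace Groth.Agent.Lib.Helper3.SchFinEpi

open SchFin TensorProduct Groth.Agent.Lib.Helper3.SchFinH0 CategoryTheory

universe u

/-- Abstract form: a base change `S ⊗[R] M ≃ N` in which both `M` and `N` are identified with `S`
compatibly forces `R → S` to be an epimorphism. -/
theorem one_tmul_eq_tmul_one_of_isBaseChange {R S : Type*} [CommRing R] [CommRing S] [Algebra R S]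
    {M N : Type*} [AddCommGroup M] [AddCommGroup N] [Module R M] [Module S N] [Module R N]
    [IsScalarTower R S N] (f : M →ₗ[R] N) (hf : IsBaseChange S f)
    (ι : S →+ M) (hι : ∀ (r : R) (b : S), ι (algebraMap R S r * b) = r • ι b)
    (hιbij : Function.Bijective ι)
    (ι' : S →+ N) (hι' : ∀ s b : S, ι' (s * b) = s • ι' b) (hι'inj : Function.Injective ι')
    (hcomp : ∀ b, f (ι b) = ι' b) (b : S) :
    (1 : S) ⊗ₜ[R] b = b ⊗ₜ[R] (1 : S) := by
  let ιL : S →ₗ[R] M :=
    { toFun := ι
      map_add' := map_add ι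
      map_smul' := fun r b => by
        rw [RingHom.id_apply, Algebra.smul_def]
        exact hι r b }
  let ιE : S ≃ₗ[R] M := LinearEquiv.ofBijective ιL hιbij
  have h1 : hf.equiv ((1 : S) ⊗ₜ[R] ι b) = hf.equiv (b ⊗ₜ[R] ι 1) := by
    rw [IsBaseChange.equiv_tmul, IsBaseChange.equiv_tmul, one_smul, hcomp, hcomp, ← hι', mul_one]
  have h2 : (1 : S) ⊗ₜ[R] ι b = b ⊗ₜ[R] ι 1 := hf.equiv.injective h1
  have h3 : (LinearEquiv.lTensor S ιE) ((1 : S) ⊗ₜ[R] b) = (LinearEquiv.lTensor S ιE) (b ⊗ₜ[R] 1) := by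
    rw [LinearEquiv.lTensor_tmul, LinearEquiv.lTensor_tmul]
    exact h2
  exact (LinearEquiv.lTensor S ιE).injective h3

variable (X : RSpace.{u})

/-- In a schematic finite space, `1 ⊗ b = b ⊗ 1` in `𝒪_y ⊗[𝒪_x] 𝒪_y` for `x ≤ y`. -/
theorem one_tmul_eq_tmul_one (hX : X.IsSchematic) {x y : X.pt} (h : x ≤ y) (b : X.ring y) :
    letI : Algebra (X.ring x) (X.ring y) := (X.res h).toAlgebra
    (1 : X.ring y) ⊗ₜ[X.ring x] b = b ⊗ₜ[X.ring x] (1 : X.ring y) := by
  have hsch := (hX.2.2 0 x y h y y le_rfl).1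
  unfold IsBCAlong at hsch
  letI : Algebra (X.ring x) (X.ring y) := (X.res h).toAlgebra
  letI : Module (X.ring x)
      (H (Coef.ofLE y ((Hom.id X).wedge y y) ((Hom.id X).wedge_subset_up y y)) X.str 0) :=
    Module.compHom _ (X.res h)
  haveI : IsScalarTower (X.ring x) (X.ring y)
      (H (Coef.ofLE y ((Hom.id X).wedge y y) ((Hom.id X).wedge_subset_up y y)) X.str 0) :=
    IsScalarTower.of_algebraMap_smul fun _ _ => rfl
  -- the two sets and their least elements
  let m : (Hom.id X).wedge x y := ⟨y, ⟨h, le_rfl⟩⟩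
  have hm : ∀ q : (Hom.id X).wedge x y, m.1 ≤ q.1 := fun q => q.2.2
  let m' : (Hom.id X).wedge y y := ⟨y, ⟨le_rfl, le_rfl⟩⟩
  have hm' : ∀ q : (Hom.id X).wedge y y, m'.1 ≤ q.1 := fun q => q.2.2
  refine one_tmul_eq_tmul_one_of_isBaseChange _ hsch
    (toH0 (Coef.ofLE x ((Hom.id X).wedge x y) ((Hom.id X).wedge_subset_up x y)) X.str m hm)
    ?_ ⟨toH0_injective _ _ m hm, toH0_surjective _ _ m hm⟩
    (toH0 (Coef.ofLE y ((Hom.id X).wedge y y) ((Hom.id X).wedge_subset_up y y)) X.str m' hm')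
    ?_ (toH0_injective _ _ m' hm') ?_ b
  · intro r a
    exact toH0_str_mul (Coef.ofLE x ((Hom.id X).wedge x y) ((Hom.id X).wedge_subset_up x y))
      m hm r a
  · intro s a
    have := toH0_str_mul (Coef.ofLE y ((Hom.id X).wedge y y) ((Hom.id X).wedge_subset_up y y))
      m' hm' s a
    have e : ((Coef.ofLE y ((Hom.id X).wedge y y) ((Hom.id X).wedge_subset_up y y)).map m') s
        = s := X.res_self _ _
    rw [e] at this
    exact this
  · intro a
    have := resH_toH0 X.str ((Hom.id X).subSrc h y) m hm m' hm' a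
    refine this.trans ?_
    congr 1
    exact X.res_self _ _

/-- The restriction maps of a schematic finite space are epimorphisms (`Algebra.IsEpi`). -/
theorem isEpi_res (hX : X.IsSchematic) {x y : X.pt} (h : x ≤ y) :
    letI : Algebra (X.ring x) (X.ring y) := (X.res h).toAlgebra
    Algebra.IsEpi (X.ring x) (X.ring y) := by
  letI : Algebra (X.ring x) (X.ring y) := (X.res h).toAlgebra
  rw [Algebra.isEpi_iff_forall_one_tmul_eq]
  intro b
  exact one_tmul_eq_tmul_one X hX h b

/-- The restriction maps of a schematic finite space are epimorphisms of rings. -/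
theorem ringHom_ext_of_comp_res_eq (hX : X.IsSchematic) {x y : X.pt} (h : x ≤ y)
    {T : Type u} [CommRing T] (g₁ g₂ : X.ring y →+* T)
    (hg : g₁.comp (X.res h) = g₂.comp (X.res h)) : g₁ = g₂ := by
  letI : Algebra (X.ring x) (X.ring y) := (X.res h).toAlgebra
  have hepi : Algebra.IsEpi (X.ring x) (X.ring y) := isEpi_res X hX h
  have hcat := (CommRingCat.epi_iff_epi (R := X.ring x) (S := X.ring y)).2 hepi
  have h2 : CommRingCat.ofHom (algebraMap (X.ring x) (X.ring y)) ≫ CommRingCat.ofHom g₁ =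
      CommRingCat.ofHom (algebraMap (X.ring x) (X.ring y)) ≫ CommRingCat.ofHom g₂ := by
    rw [← CommRingCat.ofHom_comp, ← CommRingCat.ofHom_comp]
    congr 1
  have h3 := (CategoryTheory.cancel_epi _).1 h2
  exact congrArg CommRingCat.Hom.hom h3

/-- The restriction maps of a schematic finite space are flat. -/
theorem flat_res (hX : X.IsSchematic) {x y : X.pt} (h : x ≤ y) : (X.res h).Flat :=
  hX.1.2 x y h

end Groth.Agent.Lib.Helper3.SchFinEpi
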