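import Mathlib
import Groth.Prelude.Def_SchFin2
import Groth.Agent.Lib.Helper3.SchFinBC

/-!
# The category of étale covers of a finite ringed poset: basic constructions

* `isBCAlong_pi`: base change commutes with finite products.
* `piAlg`: finite products of algebras; `hasFiniteProducts`.
-/

set_option autoImplicit false
set_option linter.style.haveILetI false

namespace Groth.Agent.Lib.Helper3.SchFinFEt

open SchFin CategoryTheory CategoryTheory.Limits TensorProduct Groth.Agent.Lib.Helper3.SchFinBC

universe u

section Pi

variable {R S : Type u} [CommRing R] [CommRing S] (g : R →+* S) {J : Type}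
  (M N : J → Type u) [∀ j, AddCommGroup (M j)] [∀ j, AddCommGroup (N j)] [∀ j, Module R (M j)]
  [∀ j, Module S (N j)]

/-- product of semilinear maps -/
def piSemilinear (f : ∀ j, M j →ₛₗ[g] N j) : (∀ j, M j) →ₛₗ[g] (∀ j, N j) where
  toFun m j := f j (m j)
  map_add' m m' := funext fun j => (f j).map_add (m j) (m' j)
  map_smul' r m := funext fun j => (f j).map_smulₛₗ r (m j)

theorem isBCAlong_pi [Finite J] (f : ∀ j, M j →ₛₗ[g] N j) (h : ∀ j, IsBCAlong g (f j)) :
    IsBCAlong g (piSemilinear g M N f) := by
  classical
  cases nonempty_fintype J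
  unfold IsBCAlong at h ⊢
  letI a1 : Algebra R S := g.toAlgebra
  letI a2 : ∀ j, Module R (N j) := fun j => Module.compHom (N j) g
  haveI a3 : ∀ j, IsScalarTower R S (N j) := fun j => IsScalarTower.of_algebraMap_smul fun _ _ => rfl
  have hj : ∀ j, IsBaseChange S
      ({ toFun := f j
         map_add' := (f j).map_add
         map_smul' := (f j).map_smulₛₗ } : M j →ₗ[R] N j) := h
  let e : S ⊗[R] (∀ j, M j) ≃ₗ[S] ∀ j, N j :=
    (TensorProduct.piRight R S S M).trans (LinearEquiv.piCongrRight fun j => (hj j).equiv)
  refine IsBaseChange.of_equiv e fun m => ?_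
  funext j
  simp only [e, LinearEquiv.trans_apply, TensorProduct.piRight_apply,
    TensorProduct.piRightHom_tmul, LinearEquiv.piCongrRight_apply, IsBaseChange.equiv_tmul,
    one_smul]
  rfl

end Pi


variable {X : RSpace.{u}}

section Basic

/-- extensionality for morphisms of étale covers -/
theorem fet_hom_ext {A B : FEt X} (f g : A ⟶ B)
    (h : ∀ (p : X.pt) (x : A.obj.carrier p), f.hom.app p x = g.hom.app p x) : f = g := by
  apply ObjectProperty.hom_ext
  apply Alg.hom_ext
  intro p
  exact AlgHom.ext (h p)

theorem fet_comp_app {A B C : FEt X} (f : A ⟶ B) (g : B ⟶ C) (p : X.pt) (x : A.obj.carrier p) :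
    (f ≫ g).hom.app p x = g.hom.app p (f.hom.app p x) := rfl

theorem fet_id_app (A : FEt X) (p : X.pt) (x : A.obj.carrier p) :
    (𝟙 A : A ⟶ A).hom.app p x = x := rfl

end Basic

section PiAlg

variable {J : Type} (F : J → Alg X)

/-- the product of a family of algebras (pointwise product) -/
def piAlg : Alg X where
  carrier p := ∀ j, (F j).carrier p
  res h := Pi.ringHom fun j => ((F j).res h).comp (Pi.evalRingHom _ j)
  res_algebraMap h a := funext fun j => (F j).res_algebraMap h a
  res_self p b := funext fun j => (F j).res_self p (b j)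
  res_comp h h' b := funext fun j => (F j).res_comp h h' (b j)

theorem isQcoh_piAlg [Finite J] (hF : ∀ j, (F j).IsQcoh) : (piAlg F).IsQcoh := by
  intro p q h
  exact isBCAlong_pi (X.res h) (fun j => (F j).carrier p) (fun j => (F j).carrier q)
    (fun j => (F j).toMod.res h) (fun j => hF j p q h)

theorem isEtCover_piAlg [Finite J] (hF : ∀ j, (F j).IsEtCover) : (piAlg F).IsEtCover := by
  refine ⟨isQcoh_piAlg F fun j => (hF j).1, fun p => ?_⟩
  haveI : ∀ j, Module.Finite (X.ring p) ((F j).carrier p) := fun j => ((hF j).2 p).1
  haveI : ∀ j, Algebra.Etale (X.ring p) ((F j).carrier p) := fun j => ((hF j).2 p).2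
  exact ⟨inferInstanceAs (Module.Finite (X.ring p) (∀ j, (F j).carrier p)),
    inferInstanceAs (Algebra.Etale (X.ring p) (∀ j, (F j).carrier p))⟩

/-- projections from the product -/
def piProj (j : J) : piAlg F ⟶ F j where
  app p := Pi.evalAlgHom (X.ring p) (fun j => (F j).carrier p) j
  compat _ _ := rfl

/-- the morphism into the product given by a family of morphisms -/
def piLift {C : Alg X} (t : ∀ j, C ⟶ F j) : C ⟶ piAlg F where
  app p := Pi.algHom (X.ring p) (fun j => (F j).carrier p) fun j => (t j).app p
  compat h b := funext fun j => (t j).compat h b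

end PiAlg

section FiniteProducts

variable {J : Type} [Finite J] (F : J → FEt X)

/-- the product of a finite family of étale covers -/
def piFEt : FEt X := ⟨piAlg fun j => (F j).obj, isEtCover_piAlg _ fun j => (F j).property⟩

/-- the product fan -/
def piFan : Fan F := Fan.mk (piFEt F) fun j => ObjectProperty.homMk (piProj (fun j => (F j).obj) j)

/-- the product fan is a limit -/
def piFanIsLimit : IsLimit (piFan F) :=
  mkFanLimit (piFan F)
    (fun s => ObjectProperty.homMk (piLift (fun j => (F j).obj) fun j => (s.proj j).hom))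
    (fun s j => by
      apply fet_hom_ext
      intro p x
      rfl)
    (fun s m hm => by
      apply fet_hom_ext
      intro p x
      funext j
      have := congrArg (fun k => k.hom.app p x) (hm j)
      exact this)

theorem hasProduct_fet : HasProduct F := ⟨⟨⟨piFan F, piFanIsLimit F⟩⟩⟩

end FiniteProducts

theorem hasFiniteProducts_fet : HasFiniteProducts (FEt X) :=
  ⟨fun n => ⟨fun F => by
    haveI : HasLimit (Discrete.functor (F.obj ∘ Discrete.mk)) :=
      hasProduct_fet (F.obj ∘ Discrete.mk)
    exact hasLimit_of_iso (Discrete.natIsoFunctor (F := F)).symm⟩⟩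

end Groth.Agent.Lib.Helper3.SchFinFEt
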