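import Mathlib
import Groth.Prelude.Def_SchFin2
import Groth.Agent.Lib.Helper3.SchFinBC
import Groth.Agent.Lib.Helper3.SchFinFEt

/-!
# Quotients of algebras over a finite ringed poset by coherent families of ideals
-/

set_option autoImplicit false
set_option linter.style.haveILetI false

namespace Groth.Agent.Lib.Helper3.SchFinQuot

open SchFin CategoryTheory CategoryTheory.Limits TensorProduct Groth.Agent.Lib.Helper3.SchFinBC
  Groth.Agent.Lib.Helper3.SchFinFEt

universe u

/-- Base change passes to quotients when the kernel upstairs is generated by the image of the kernel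
downstairs. -/
theorem isBCAlong_of_surjective_quot {R S : Type u} [CommRing R] [CommRing S] (g : R →+* S)
    {M N Mq Nq : Type u} [AddCommGroup M] [AddCommGroup N] [AddCommGroup Mq] [AddCommGroup Nq]
    [Module R M] [Module S N] [Module R Mq] [Module S Nq]
    (f : M →ₛₗ[g] N) (h : IsBCAlong g f) (πM : M →ₗ[R] Mq) (hπM : Function.Surjective πM)
    (πN : N →ₗ[S] Nq) (hπN : Function.Surjective πN) (fq : Mq →ₛₗ[g] Nq)
    (hcomm : ∀ m, fq (πM m) = πN (f m))
    (hker : LinearMap.ker πN ≤ Submodule.span S (f '' (LinearMap.ker πM : Set M))) :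
    IsBCAlong g fq := by
  unfold IsBCAlong at h ⊢
  letI a1 : Algebra R S := g.toAlgebra
  letI a2 : Module R N := Module.compHom N g
  haveI a3 : IsScalarTower R S N := IsScalarTower.of_algebraMap_smul fun _ _ => rfl
  letI b2 : Module R Nq := Module.compHom Nq g
  haveI b3 : IsScalarTower R S Nq := IsScalarTower.of_algebraMap_smul fun _ _ => rfl
  let fql : Mq →ₗ[R] Nq := { toFun := fq, map_add' := fq.map_add, map_smul' := fq.map_smulₛₗ }
  let Θq : S ⊗[R] Mq →ₗ[S] Nq := fql.liftBaseChange S
  let L : S ⊗[R] M →ₗ[S] S ⊗[R] Mq := TensorProduct.AlgebraTensorModule.lTensor S S πM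
  have hL : Function.Surjective L := LinearMap.lTensor_surjective S hπM
  have hnat : ∀ t, Θq (L t) = πN (h.equiv t) := by
    intro t
    induction t using TensorProduct.induction_on with
    | zero => simp
    | add s t hs ht => rw [map_add, map_add, map_add, map_add, hs, ht]
    | tmul s m =>
        simp only [L, Θq, TensorProduct.AlgebraTensorModule.lTensor_tmul,
          LinearMap.liftBaseChange_tmul, IsBaseChange.equiv_tmul, map_smul, LinearMap.id_coe, id_eq]
        congr 1
        exact hcomm m
  have hbij : Function.Bijective Θq := by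
    constructor
    · rw [injective_iff_map_eq_zero]
      intro u hu
      obtain ⟨t, rfl⟩ := hL u
      rw [hnat] at hu
      have hmem : h.equiv t ∈ Submodule.span S (f '' (LinearMap.ker πM : Set M)) :=
        hker (LinearMap.mem_ker.2 hu)
      have key : ∀ n ∈ Submodule.span S (f '' (LinearMap.ker πM : Set M)),
          ∃ t' : S ⊗[R] M, L t' = 0 ∧ h.equiv t' = n := by
        intro n hn
        induction hn using Submodule.span_induction with
        | mem x hx =>
            obtain ⟨k, hk, rfl⟩ := hx
            refine ⟨1 ⊗ₜ k, ?_, ?_⟩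
            · simp only [L, TensorProduct.AlgebraTensorModule.lTensor_tmul, LinearMap.id_coe, id_eq]
              rw [LinearMap.mem_ker.1 hk, TensorProduct.tmul_zero]
            · rw [IsBaseChange.equiv_tmul, one_smul]
              rfl
        | zero => exact ⟨0, by simp, by simp⟩
        | add x y _ _ hx hy =>
            obtain ⟨tx, hx1, hx2⟩ := hx
            obtain ⟨ty, hy1, hy2⟩ := hy
            exact ⟨tx + ty, by rw [map_add, hx1, hy1, add_zero], by rw [map_add, hx2, hy2]⟩
        | smul s x _ hx =>
            obtain ⟨tx, hx1, hx2⟩ := hx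
            exact ⟨s • tx, by rw [map_smul, hx1, smul_zero], by rw [map_smul, hx2]⟩
      obtain ⟨t', ht'1, ht'2⟩ := key _ hmem
      have : t' = t := h.equiv.injective ht'2
      rw [← this, ht'1]
    · intro y
      obtain ⟨n, rfl⟩ := hπN y
      obtain ⟨t, rfl⟩ := h.equiv.surjective n
      exact ⟨L t, hnat t⟩
  refine IsBaseChange.of_equiv (LinearEquiv.ofBijective Θq hbij) fun m => ?_
  simp [Θq, fql]


/-- Kernels commute with flat base change: an element of the kernel upstairs lies in the span of the
image of the kernel downstairs. -/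
theorem mem_span_of_mem_ker {R S : Type u} [CommRing R] [CommRing S] (g : R →+* S) (hflat : g.Flat)
    {M N M' N' : Type u} [AddCommGroup M] [AddCommGroup N] [AddCommGroup M'] [AddCommGroup N']
    [Module R M] [Module R N] [Module S M'] [Module S N']
    (rM : M →ₛₗ[g] M') (hM : IsBCAlong g rM) (rN : N →ₛₗ[g] N') (hN : IsBCAlong g rN)
    (f : M →ₗ[R] N) (f' : M' →ₗ[S] N') (hcomm : ∀ m, f' (rM m) = rN (f m)) (y : M')
    (hy : f' y = 0) : y ∈ Submodule.span S (rM '' (LinearMap.ker f : Set M)) := by
  unfold IsBCAlong at hM hN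
  letI a1 : Algebra R S := g.toAlgebra
  letI a2 : Module R M' := Module.compHom M' g
  haveI a3 : IsScalarTower R S M' := IsScalarTower.of_algebraMap_smul fun _ _ => rfl
  letI b2 : Module R N' := Module.compHom N' g
  haveI b3 : IsScalarTower R S N' := IsScalarTower.of_algebraMap_smul fun _ _ => rfl
  haveI : Module.Flat R S := hflat
  have hnat : ∀ t : S ⊗[R] M, hN.equiv (TensorProduct.AlgebraTensorModule.lTensor S S f t) =
      f' (hM.equiv t) := by
    intro t
    induction t using TensorProduct.induction_on with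
    | zero => simp
    | add s t hs ht => rw [map_add, map_add, map_add, map_add, hs, ht]
    | tmul s m =>
        simp only [TensorProduct.AlgebraTensorModule.lTensor_tmul, IsBaseChange.equiv_tmul,
          map_smul, LinearMap.id_coe, id_eq]
        congr 1
        exact (hcomm m).symm
  have key : ∀ u : S ⊗[R] LinearMap.ker f,
      hM.equiv (TensorProduct.AlgebraTensorModule.lTensor S S (LinearMap.ker f).subtype u) ∈
        Submodule.span S (rM '' (LinearMap.ker f : Set M)) := by
    intro u
    induction u using TensorProduct.induction_on with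
    | zero => simp
    | add a b ha hb =>
        rw [map_add, map_add]
        exact Submodule.add_mem _ ha hb
    | tmul s k =>
        simp only [TensorProduct.AlgebraTensorModule.lTensor_tmul, IsBaseChange.equiv_tmul,
          LinearMap.id_coe, id_eq, Submodule.coe_subtype]
        exact Submodule.smul_mem _ _ (Submodule.subset_span ⟨k.1, k.2, rfl⟩)
  obtain ⟨t, rfl⟩ := hM.equiv.surjective y
  have ht : TensorProduct.AlgebraTensorModule.lTensor S S f t = 0 := by
    apply hN.equiv.injective
    rw [hnat, hy, map_zero]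
  have hker := Module.Flat.ker_lTensor_eq (R := R) S S f
  have ht' : t ∈ LinearMap.range
      (TensorProduct.AlgebraTensorModule.lTensor S S (LinearMap.ker f).subtype) := by
    rw [← hker]
    exact LinearMap.mem_ker.2 ht
  obtain ⟨u, rfl⟩ := ht'
  exact key u

variable {X : RSpace.{u}}

/-- A family of ideals of an algebra compatible with restriction. -/
structure IdealFam (A : Alg X) where
  /-- the ideal at a point -/
  I : ∀ p, Ideal (A.carrier p)
  le_comap : ∀ {p q : X.pt} (h : p ≤ q), I p ≤ (I q).comap (A.res h)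

variable (A : Alg X) (I : IdealFam A)

/-- the quotient algebra by a compatible family of ideals -/
def quotAlg : Alg X where
  carrier p := A.carrier p ⧸ I.I p
  res h := Ideal.quotientMap (I.I _) (A.res h) (I.le_comap h)
  res_algebraMap h a := by
    change Ideal.quotientMap _ _ _ (Ideal.Quotient.mk _ (algebraMap _ _ a)) =
      Ideal.Quotient.mk _ (algebraMap _ _ (X.res h a))
    rw [Ideal.quotientMap_mk, A.res_algebraMap]
  res_self p b := by
    obtain ⟨b, rfl⟩ := Ideal.Quotient.mk_surjective b
    rw [Ideal.quotientMap_mk, A.res_self]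
  res_comp h h' b := by
    obtain ⟨b, rfl⟩ := Ideal.Quotient.mk_surjective b
    rw [Ideal.quotientMap_mk, Ideal.quotientMap_mk, Ideal.quotientMap_mk, A.res_comp]

/-- the quotient morphism -/
def quotMk : A ⟶ quotAlg A I where
  app p := Ideal.Quotient.mkₐ (X.ring p) (I.I p)
  compat _ _ := rfl

theorem quotMk_surjective (p : X.pt) : Function.Surjective ((quotMk A I).app p) :=
  Ideal.Quotient.mk_surjective

theorem quotMk_ker (p : X.pt) (a : A.carrier p) : (quotMk A I).app p a = 0 ↔ a ∈ I.I p :=
  Ideal.Quotient.eq_zero_iff_mem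

variable {A I}

/-- morphisms out of the quotient -/
def quotLift {B : Alg X} (f : A ⟶ B) (hf : ∀ p, ∀ a ∈ I.I p, f.app p a = 0) : quotAlg A I ⟶ B where
  app p := Ideal.Quotient.liftₐ (I.I p) (f.app p) (hf p)
  compat h b := by
    obtain ⟨b, rfl⟩ := Ideal.Quotient.mk_surjective b
    exact f.compat h b

theorem quotLift_mk {B : Alg X} (f : A ⟶ B) (hf : ∀ p, ∀ a ∈ I.I p, f.app p a = 0) (p : X.pt)
    (a : A.carrier p) : (quotLift f hf).app p ((quotMk A I).app p a) = f.app p a := rfl

variable (A I)

theorem isQcoh_quotAlg (hA : A.IsQcoh)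
    (hext : ∀ {p q : X.pt} (h : p ≤ q), ∀ x ∈ I.I q,
      x ∈ Submodule.span (X.ring q) (A.res h '' (I.I p : Set (A.carrier p)))) :
    (quotAlg A I).IsQcoh := by
  intro p q h
  have hs1 : Function.Surjective (Ideal.Quotient.mkₐ (X.ring p) (I.I p)).toLinearMap :=
    Ideal.Quotient.mk_surjective
  have hs2 : Function.Surjective (Ideal.Quotient.mkₐ (X.ring q) (I.I q)).toLinearMap :=
    Ideal.Quotient.mk_surjective
  refine isBCAlong_of_surjective_quot (M := A.carrier p) (N := A.carrier q)
    (Mq := A.carrier p ⧸ I.I p) (Nq := A.carrier q ⧸ I.I q) (X.res h) (A.toMod.res h) (hA p q h)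
    (Ideal.Quotient.mkₐ (X.ring p) (I.I p)).toLinearMap hs1
    (Ideal.Quotient.mkₐ (X.ring q) (I.I q)).toLinearMap hs2
    ((quotAlg A I).toMod.res h) (fun m => rfl) ?_
  intro x hx
  have hx' : x ∈ I.I q := Ideal.Quotient.eq_zero_iff_mem.1 (LinearMap.mem_ker.1 hx)
  have := hext h x hx'
  refine Submodule.span_mono ?_ this
  rintro _ ⟨k, hk, rfl⟩
  exact ⟨k, LinearMap.mem_ker.2 (Ideal.Quotient.eq_zero_iff_mem.2 hk), rfl⟩

theorem isEtCover_quotAlg (hA : A.IsEtCover)
    (hext : ∀ {p q : X.pt} (h : p ≤ q), ∀ x ∈ I.I q,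
      x ∈ Submodule.span (X.ring q) (A.res h '' (I.I p : Set (A.carrier p))))
    (hidem : ∀ p, ∃ e : A.carrier p, IsIdempotentElem e ∧ I.I p = Ideal.span {e}) :
    (quotAlg A I).IsEtCover := by
  refine ⟨isQcoh_quotAlg A I hA.1 hext, fun p => ?_⟩
  haveI : Module.Finite (X.ring p) (A.carrier p) := (hA.2 p).1
  haveI : Algebra.Etale (X.ring p) (A.carrier p) := (hA.2 p).2
  refine ⟨Module.Finite.of_surjective (Ideal.Quotient.mkₐ (X.ring p) (I.I p)).toLinearMap
    Ideal.Quotient.mk_surjective, ?_⟩
  obtain ⟨e, he, hI⟩ := hidem p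
  haveI : IsLocalization.Away (1 - e) (A.carrier p ⧸ I.I p) :=
    IsLocalization.away_of_isIdempotentElem he.one_sub
      (by rw [Ideal.Quotient.algebraMap_eq, Ideal.mk_ker, hI, sub_sub_cancel])
      Ideal.Quotient.mk_surjective
  haveI : Algebra.Etale (A.carrier p) (A.carrier p ⧸ I.I p) :=
    Algebra.Etale.of_isLocalizationAway (1 - e)
  exact Algebra.Etale.comp (X.ring p) (A.carrier p) (A.carrier p ⧸ I.I p)


section Idem

/-- idempotents generating the same ideal are equal -/
theorem idem_eq_of_span_eq {R : Type*} [CommRing R] {e e' : R} (he : IsIdempotentElem e)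
    (he' : IsIdempotentElem e') (h : Ideal.span {e} = Ideal.span {e'}) : e = e' := by
  have h1 : e ∈ Ideal.span {e'} := h ▸ Ideal.subset_span rfl
  have h2 : e' ∈ Ideal.span {e} := h.symm ▸ Ideal.subset_span rfl
  obtain ⟨a, ha⟩ := Ideal.mem_span_singleton'.1 h1
  obtain ⟨b, hb⟩ := Ideal.mem_span_singleton'.1 h2
  have e1 : e * e' = e := by rw [← ha, mul_assoc, he'.eq]
  have e2 : e' * e = e' := by rw [← hb, mul_assoc, he.eq]
  rw [← e1, mul_comm, e2]

/-- A family of idempotents of an algebra compatible with restriction. -/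
structure IdemFam (A : Alg X) where
  /-- the idempotent at a point -/
  e : ∀ p, A.carrier p
  idem : ∀ p, IsIdempotentElem (e p)
  res_eq : ∀ {p q : X.pt} (h : p ≤ q), A.res h (e p) = e q

variable {A}

/-- the complementary family of idempotents -/
def IdemFam.compl (E : IdemFam A) : IdemFam A where
  e p := 1 - E.e p
  idem p := (E.idem p).one_sub
  res_eq h := by rw [map_sub, map_one, E.res_eq h]

/-- the family of principal ideals generated by a family of idempotents -/
def spanFam (E : IdemFam A) : IdealFam A where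
  I p := Ideal.span {E.e p}
  le_comap {p q} h a ha := by
    obtain ⟨b, rfl⟩ := Ideal.mem_span_singleton'.1 ha
    change A.res h (b * E.e p) ∈ Ideal.span {E.e q}
    rw [map_mul, E.res_eq h]
    exact Ideal.mul_mem_left _ _ (Ideal.subset_span rfl)

/-- every element upstairs is a combination of restrictions -/
theorem mem_span_res (hA : A.IsQcoh) {p q : X.pt} (h : p ≤ q) (a : A.carrier q) :
    a ∈ Submodule.span (X.ring q) (Set.range (A.res h)) := by
  have hb := hA p q h
  unfold IsBCAlong at hb
  letI a1 : Algebra (X.ring p) (X.ring q) := (X.res h).toAlgebra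
  letI a2 : Module (X.ring p) (A.toMod.carrier q) := Module.compHom _ (X.res h)
  haveI a3 : IsScalarTower (X.ring p) (X.ring q) (A.toMod.carrier q) :=
    IsScalarTower.of_algebraMap_smul fun _ _ => rfl
  refine hb.inductionOn a (fun a => a ∈ Submodule.span (X.ring q) (Set.range (A.res h)))
    (Submodule.zero_mem _) (fun m => Submodule.subset_span ⟨m, rfl⟩)
    (fun s n hn => Submodule.smul_mem _ s hn) (fun n n' hn hn' => Submodule.add_mem _ hn hn')

theorem spanFam_ext (hA : A.IsQcoh) (E : IdemFam A) {p q : X.pt} (h : p ≤ q) :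
    ∀ x ∈ (spanFam E).I q,
      x ∈ Submodule.span (X.ring q) (A.res h '' ((spanFam E).I p : Set (A.carrier p))) := by
  intro x hx
  obtain ⟨a, rfl⟩ := Ideal.mem_span_singleton'.1 hx
  clear hx
  have ha := mem_span_res hA h a
  induction ha using Submodule.span_induction with
  | mem y hy =>
      obtain ⟨b, rfl⟩ := hy
      refine Submodule.subset_span ⟨b * E.e p, Ideal.mul_mem_left _ _ (Ideal.subset_span rfl), ?_⟩
      rw [map_mul, E.res_eq h]
  | zero => rw [zero_mul]; exact Submodule.zero_mem _
  | add y z _ _ hy hz => rw [add_mul]; exact Submodule.add_mem _ hy hz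
  | smul s y _ hy => rw [smul_mul_assoc]; exact Submodule.smul_mem _ s hy

theorem isEtCover_quot_spanFam (hA : A.IsEtCover) (E : IdemFam A) :
    (quotAlg A (spanFam E)).IsEtCover :=
  isEtCover_quotAlg A (spanFam E) hA (fun h => spanFam_ext hA.1 E h)
    (fun p => ⟨E.e p, E.idem p, rfl⟩)

end Idem


section Ker

variable {A B : Alg X}

theorem mem_ker_span (hX : X.IsFinSp) (hA : A.IsQcoh) (hB : B.IsQcoh) (f : A ⟶ B) {p q : X.pt}
    (h : p ≤ q) (x : A.carrier q) (hx : f.app q x = 0) :
    x ∈ Submodule.span (X.ring q) (A.res h '' {a | f.app p a = 0}) := by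
  have := mem_span_of_mem_ker (X.res h) (hX.2 p q h) (A.toMod.res h) (hA p q h) (B.toMod.res h)
    (hB p q h) (f.app p).toLinearMap (f.app q).toLinearMap (fun m => (f.compat h m).symm) x hx
  refine Submodule.span_mono ?_ this
  rintro _ ⟨a, ha, rfl⟩
  exact ⟨a, LinearMap.mem_ker.1 ha, rfl⟩

/-- the family of idempotents generating the kernels of a morphism, when these exist pointwise -/
noncomputable def kerIdem (hX : X.IsFinSp) (hA : A.IsQcoh) (hB : B.IsQcoh) (f : A ⟶ B)
    (hgen : ∀ p, ∃ e : A.carrier p, IsIdempotentElem e ∧ RingHom.ker (f.app p) = Ideal.span {e}) :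
    IdemFam A where
  e p := Classical.choose (hgen p)
  idem p := (Classical.choose_spec (hgen p)).1
  res_eq {p q} h := by
    have hp := Classical.choose_spec (hgen p)
    have hq := Classical.choose_spec (hgen q)
    refine idem_eq_of_span_eq (hp.1.map (A.res h)) hq.1 ?_
    refine Eq.trans ?_ hq.2
    apply le_antisymm
    · rw [Ideal.span_le, Set.singleton_subset_iff]
      change f.app q (A.res h _) = 0
      rw [← f.compat]
      have : Classical.choose (hgen p) ∈ RingHom.ker (f.app p) :=
        hp.2.ge (Ideal.subset_span rfl)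
      rw [(RingHom.mem_ker).1 this, map_zero]
    · intro x hx
      have hx' := mem_ker_span hX hA hB f h x ((RingHom.mem_ker).1 hx)
      have hle : Submodule.span (X.ring q) (A.res h '' {a | f.app p a = 0}) ≤
          (Ideal.span {A.res h (Classical.choose (hgen p))}).restrictScalars (X.ring q) := by
        rw [Submodule.span_le]
        rintro _ ⟨a, ha, rfl⟩
        have ha' : a ∈ Ideal.span {Classical.choose (hgen p)} :=
          hp.2.le ((RingHom.mem_ker).2 ha)
        obtain ⟨b, rfl⟩ := Ideal.mem_span_singleton'.1 ha'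
        change A.res h (b * _) ∈ Ideal.span _
        rw [map_mul]
        exact Ideal.mul_mem_left _ _ (Ideal.subset_span rfl)
      exact hle hx'

theorem kerIdem_spec (hX : X.IsFinSp) (hA : A.IsQcoh) (hB : B.IsQcoh) (f : A ⟶ B)
    (hgen : ∀ p, ∃ e : A.carrier p, IsIdempotentElem e ∧ RingHom.ker (f.app p) = Ideal.span {e})
    (p : X.pt) : RingHom.ker (f.app p) = Ideal.span {(kerIdem hX hA hB f hgen).e p} :=
  (Classical.choose_spec (hgen p)).2

end Ker

end Groth.Agent.Lib.Helper3.SchFinQuot
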