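import Mathlib
import Groth.Prelude.Def_SchFin2
import Groth.Agent.Lib.Helper3.SchFinBC
import Groth.Agent.Lib.Helper3.SchFinFEt
import Groth.Agent.Lib.Helper3.SchFinQuot
import Groth.Agent.Lib.Helper3.ProjAnnihilator

/-!
# Direct factors and image factorisation in the category of étale covers
-/

set_option autoImplicit false
set_option linter.style.haveILetI false

namespace Groth.Agent.Lib.Helper3.SchFinFactor

open SchFin CategoryTheory CategoryTheory.Limits TensorProduct Groth.Agent.Lib.Helper3.SchFinBC
  Groth.Agent.Lib.Helper3.SchFinFEt Groth.Agent.Lib.Helper3.SchFinQuot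

universe u

/-- The kernel of a surjection of étale algebras is generated by an idempotent. -/
theorem exists_idem_ker_of_surjective {R A B : Type u} [CommRing R] [CommRing A] [CommRing B]
    [Algebra R A] [Algebra R B] [Algebra.Etale R A] [Algebra.Etale R B] (f : A →ₐ[R] B)
    (hf : Function.Surjective f) :
    ∃ e : A, IsIdempotentElem e ∧ RingHom.ker f = Ideal.span {e} := by
  letI := f.toAlgebra
  haveI : IsScalarTower R A B := .of_algebraMap_eq' f.comp_algebraMap.symm
  obtain ⟨e, he, hfe⟩ :=
    (Ideal.isIdempotentElem_iff_of_fg _ (Algebra.FinitePresentation.ker_fG_of_surjective f hf)).mp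
      ((Algebra.FormallyEtale.iff_of_surjective hf).mp (.of_restrictScalars (R := R)))
  exact ⟨e, he, hfe⟩

variable {X : RSpace.{u}}

/-- A binary fan of étale covers that is pointwise a product decomposition is a limit. -/
noncomputable def isLimitBinaryFanOfBijective {A B D : FEt X} (f : A ⟶ B) (π : A ⟶ D)
    (hbij : ∀ p, Function.Bijective
      (fun a : A.obj.carrier p => (f.hom.app p a, π.hom.app p a))) :
    IsLimit (BinaryFan.mk f π) := by
  let eA : ∀ p, A.obj.carrier p ≃ₐ[X.ring p] B.obj.carrier p × D.obj.carrier p := fun p =>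
    AlgEquiv.ofBijective ((f.hom.app p).prod (π.hom.app p)) (hbij p)
  have heA1 : ∀ p (x : B.obj.carrier p × D.obj.carrier p), f.hom.app p ((eA p).symm x) = x.1 := by
    intro p x
    have := (eA p).apply_symm_apply x
    exact congrArg Prod.fst this
  have heA2 : ∀ p (x : B.obj.carrier p × D.obj.carrier p), π.hom.app p ((eA p).symm x) = x.2 := by
    intro p x
    have := (eA p).apply_symm_apply x
    exact congrArg Prod.snd this
  refine BinaryFan.isLimitMk
    (fun s => ObjectProperty.homMk
      { app := fun p => (eA p).symm.toAlgHom.comp ((s.fst.hom.app p).prod (s.snd.hom.app p))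
        compat := fun {p q} h c => by
          apply (hbij q).1
          apply Prod.ext
          · change f.hom.app q (A.obj.res h ((eA p).symm _)) = f.hom.app q ((eA q).symm _)
            rw [← f.hom.compat, heA1, heA1]
            exact s.fst.hom.compat h c
          · change π.hom.app q (A.obj.res h ((eA p).symm _)) = π.hom.app q ((eA q).symm _)
            rw [← π.hom.compat, heA2, heA2]
            exact s.snd.hom.compat h c })
    (fun s => ?_) (fun s => ?_) (fun s m h1 h2 => ?_)
  · apply fet_hom_ext
    intro p c
    exact heA1 p _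
  · apply fet_hom_ext
    intro p c
    exact heA2 p _
  · apply fet_hom_ext
    intro p c
    apply (hbij p).1
    apply Prod.ext
    · change f.hom.app p (m.hom.app p c) = f.hom.app p ((eA p).symm _)
      rw [heA1]
      exact congrArg (fun k => k.hom.app p c) h1
    · change π.hom.app p (m.hom.app p c) = π.hom.app p ((eA p).symm _)
      rw [heA2]
      exact congrArg (fun k => k.hom.app p c) h2


/-- A pointwise surjective morphism of étale covers exhibits its target as a direct factor
(pointwise form). -/
theorem exists_prod_decomp (hX : X.IsSchematic) {A B : FEt X} (f : A ⟶ B)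
    (hf : ∀ p, Function.Surjective (f.hom.app p)) :
    ∃ (D : FEt X) (π : A ⟶ D), ∀ p, Function.Bijective
      (fun a : A.obj.carrier p => (f.hom.app p a, π.hom.app p a)) := by
  have hgen : ∀ p, ∃ e : A.obj.carrier p, IsIdempotentElem e ∧
      RingHom.ker (f.hom.app p) = Ideal.span {e} := fun p => by
    haveI := (A.property.2 p).2
    haveI := (B.property.2 p).2
    exact exists_idem_ker_of_surjective (f.hom.app p) (hf p)
  let E := kerIdem hX.1 A.property.1 B.property.1 f.hom hgen
  have hE := kerIdem_spec hX.1 A.property.1 B.property.1 f.hom hgen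
  let D : FEt X := ⟨quotAlg A.obj (spanFam E.compl), isEtCover_quot_spanFam A.property E.compl⟩
  let π : A ⟶ D := ObjectProperty.homMk (quotMk A.obj (spanFam E.compl))
  refine ⟨D, π, fun p => ⟨?_, ?_⟩⟩
  · intro a a' h
    have h1 : f.hom.app p (a - a') = 0 := by
      rw [map_sub, show f.hom.app p a = f.hom.app p a' from (Prod.ext_iff.1 h).1, sub_self]
    have h2 : (a - a') ∈ Ideal.span {1 - E.e p} := by
      refine (quotMk_ker A.obj (spanFam E.compl) p (a - a')).1 ?_
      rw [map_sub]
      exact sub_eq_zero.2 (Prod.ext_iff.1 h).2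
    have h1' : a - a' ∈ Ideal.span {E.e p} := (hE p).le (RingHom.mem_ker.2 h1)
    obtain ⟨b, hb⟩ := Ideal.mem_span_singleton'.1 h1'
    obtain ⟨c, hc⟩ := Ideal.mem_span_singleton'.1 h2
    have : a - a' = 0 := by
      calc a - a' = (a - a') * E.e p := by rw [← hb, mul_assoc, (E.idem p).eq]
        _ = c * ((1 - E.e p) * E.e p) := by rw [← hc]; ring
        _ = 0 := by rw [sub_mul, one_mul, (E.idem p).eq, sub_self, mul_zero]
    exact sub_eq_zero.1 this
  · rintro ⟨b, d⟩
    obtain ⟨a0, rfl⟩ := hf p b
    obtain ⟨d0, rfl⟩ := quotMk_surjective A.obj (spanFam E.compl) p d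
    refine ⟨(1 - E.e p) * a0 + E.e p * d0, Prod.ext ?_ ?_⟩
    · have he0 : f.hom.app p (E.e p) = 0 :=
        RingHom.mem_ker.1 ((hE p).ge (Ideal.subset_span rfl))
      change f.hom.app p ((1 - E.e p) * a0 + E.e p * d0) = f.hom.app p a0
      rw [map_add, map_mul, map_mul, map_sub, map_one, he0, sub_zero, one_mul, zero_mul, add_zero]
    · change (quotMk A.obj (spanFam E.compl)).app p _ = (quotMk A.obj (spanFam E.compl)).app p d0
      rw [← sub_eq_zero, ← map_sub, quotMk_ker]
      have : (1 - E.e p) * a0 + E.e p * d0 - d0 = (a0 - d0) * (1 - E.e p) := by ring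
      rw [this]
      exact Ideal.mul_mem_left _ _ (Ideal.subset_span rfl)


/-- A pointwise surjective morphism of étale covers exhibits its target as a direct factor. -/
theorem exists_isLimit_binaryFan (hX : X.IsSchematic) {A B : FEt X} (f : A ⟶ B)
    (hf : ∀ p, Function.Surjective (f.hom.app p)) :
    ∃ (D : FEt X) (π : A ⟶ D), Nonempty (IsLimit (BinaryFan.mk f π)) := by
  obtain ⟨D, π, h⟩ := exists_prod_decomp hX f hf
  exact ⟨D, π, ⟨isLimitBinaryFanOfBijective f π h⟩⟩

/-- The kernel of a map of finite étale algebras is generated by an idempotent. -/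
theorem exists_idem_ker {R A B : Type u} [CommRing R] [CommRing A] [CommRing B]
    [Algebra R A] [Algebra R B] [Algebra.Etale R A] [Algebra.Etale R B] [Module.Finite R B]
    (f : A →ₐ[R] B) : ∃ e : A, IsIdempotentElem e ∧ RingHom.ker f = Ideal.span {e} := by
  letI := f.toAlgebra
  haveI : IsScalarTower R A B := .of_algebraMap_eq' f.comp_algebraMap.symm
  haveI : Algebra.Etale A B := Algebra.Etale.of_restrictScalars R A B
  haveI : Module.Finite A B := Module.Finite.of_restrictScalars_finite R A B
  haveI : Module.FinitePresentation A B :=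
    Module.FinitePresentation.of_finite_of_finitePresentation A B
  haveI : Module.Projective A B := Module.Flat.projective_of_finitePresentation
  obtain ⟨e, he, hann⟩ := Groth.Agent.Lib.Helper3.ProjAnnihilator.exists_idem_annihilator A B
  refine ⟨e, he, ?_⟩
  rw [← hann]
  ext a
  rw [RingHom.mem_ker, Module.mem_annihilator]
  constructor
  · intro ha b
    rw [Algebra.smul_def]
    change f a * b = 0
    rw [ha, zero_mul]
  · intro ha
    have := ha 1
    rw [Algebra.smul_def, mul_one] at this
    exact this

/-- Image factorisation in the category of étale covers. -/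
theorem exists_factor (hX : X.IsSchematic) {A B : FEt X} (f : A ⟶ B) :
    ∃ (Q : FEt X) (g : A ⟶ Q) (h : Q ⟶ B), g ≫ h = f ∧
      (∀ p : X.pt, Function.Surjective (g.hom.app p)) ∧
      ∀ p : X.pt, Function.Injective (h.hom.app p) := by
  have hgen : ∀ p, ∃ e : A.obj.carrier p, IsIdempotentElem e ∧
      RingHom.ker (f.hom.app p) = Ideal.span {e} := fun p => by
    haveI := (A.property.2 p).2
    haveI := (B.property.2 p).2
    haveI := (B.property.2 p).1
    exact exists_idem_ker (f.hom.app p)
  let E := kerIdem hX.1 A.property.1 B.property.1 f.hom hgen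
  have hE := kerIdem_spec hX.1 A.property.1 B.property.1 f.hom hgen
  let Q : FEt X := ⟨quotAlg A.obj (spanFam E), isEtCover_quot_spanFam A.property E⟩
  let g : A ⟶ Q := ObjectProperty.homMk (quotMk A.obj (spanFam E))
  have hker : ∀ p, ∀ a ∈ (spanFam E).I p, f.hom.app p a = 0 := fun p a ha =>
    RingHom.mem_ker.1 ((hE p).ge ha)
  let h : Q ⟶ B := ObjectProperty.homMk (quotLift f.hom hker)
  refine ⟨Q, g, h, ?_, fun p => quotMk_surjective A.obj (spanFam E) p, fun p => ?_⟩
  · apply fet_hom_ext
    intro p a
    rfl
  · rw [injective_iff_map_eq_zero]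
    intro b hb
    obtain ⟨a, rfl⟩ := quotMk_surjective A.obj (spanFam E) p b
    change f.hom.app p a = 0 at hb
    exact (quotMk_ker A.obj (spanFam E) p a).2 ((hE p).le (RingHom.mem_ker.2 hb))


/-- A monomorphism of étale covers is injective at every point. -/
theorem injective_of_mono (hX : X.IsSchematic) {A B : FEt X} (f : A ⟶ B) [Mono f] (p : X.pt) :
    Function.Injective (f.hom.app p) := by
  obtain ⟨Q, g, h, hgh, hg, hh⟩ := exists_factor hX f
  haveI : Mono (g ≫ h) := by rw [hgh]; infer_instance
  haveI : Mono g := mono_of_mono g h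
  obtain ⟨D, π, hbij⟩ := exists_prod_decomp hX g hg
  -- the product of `A` and `D`
  let F : Bool → FEt X := fun b => cond b A D
  let C : FEt X := piFEt F
  let prA : C ⟶ A := ObjectProperty.homMk (piProj (fun b => (F b).obj) true)
  let prD : C ⟶ D := ObjectProperty.homMk (piProj (fun b => (F b).obj) false)
  let hlim := isLimitBinaryFanOfBijective g π hbij
  let v : C ⟶ A := hlim.lift (BinaryFan.mk (prA ≫ g) prD)
  have hv1 : v ≫ g = prA ≫ g := hlim.fac (BinaryFan.mk (prA ≫ g) prD) ⟨WalkingPair.left⟩
  have hv2 : v ≫ π = prD := hlim.fac (BinaryFan.mk (prA ≫ g) prD) ⟨WalkingPair.right⟩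
  have huv : v = prA := (cancel_mono g).1 hv1
  have hπ : prA ≫ π = prD := by rw [← huv]; exact hv2
  -- hence `D` is pointwise trivial
  have hD : ∀ (q : X.pt) (d : D.obj.carrier q), d = 0 := by
    intro q d
    let c : C.obj.carrier q := fun b => match b with
      | true => (0 : A.obj.carrier q)
      | false => d
    have := congrArg (fun k => k.hom.app q c) hπ
    change π.hom.app q 0 = d at this
    rw [map_zero] at this
    exact this.symm
  -- so `g` is injective, and so is `f`
  have hginj : Function.Injective (g.hom.app p) := by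
    intro a a' haa'
    apply (hbij p).1
    exact Prod.ext haa' ((hD p _).trans (hD p _).symm)
  intro a a' haa'
  apply hginj
  apply hh p
  have e1 : h.hom.app p (g.hom.app p a) = f.hom.app p a :=
    congrArg (fun k => k.hom.app p a) hgh
  have e2 : h.hom.app p (g.hom.app p a') = f.hom.app p a' :=
    congrArg (fun k => k.hom.app p a') hgh
  rw [e1, e2, haa']

end Groth.Agent.Lib.Helper3.SchFinFactor
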