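import Mathlib
import Groth.Prelude.Def_SchFin2
import Groth.Agent.Lib.Helper3.SchFinBC
import Groth.Agent.Lib.Helper3.SchFinFEt
import Groth.Agent.Lib.Helper3.SchFinQuot

/-!
# Tensor products of algebras over a finite ringed poset; pushouts of étale covers
-/

set_option autoImplicit false
set_option linter.style.haveILetI false

namespace Groth.Agent.Lib.Helper3.SchFinTensor

open SchFin CategoryTheory CategoryTheory.Limits TensorProduct Groth.Agent.Lib.Helper3.SchFinBC
  Groth.Agent.Lib.Helper3.SchFinFEt Groth.Agent.Lib.Helper3.SchFinQuot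

universe u

section RingMap

variable {R S A B A' B' : Type u} [CommRing R] [CommRing S] [CommRing A] [CommRing B]
  [CommRing A'] [CommRing B'] [Algebra R A] [Algebra R B] [Algebra S A'] [Algebra S B']
  (g : R →+* S) (α : A →+* A') (β : B →+* B')
  (hα : ∀ r, α (algebraMap R A r) = algebraMap S A' (g r))
  (hβ : ∀ r, β (algebraMap R B r) = algebraMap S B' (g r))

/-- the ring map `A ⊗[R] B → A' ⊗[S] B'` induced by compatible ring maps -/
noncomputable def tensorRingMap : A ⊗[R] B →+* A' ⊗[S] B' :=
  letI : Algebra R (A' ⊗[S] B') := ((algebraMap S (A' ⊗[S] B')).comp g).toAlgebra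
  (Algebra.TensorProduct.productMap
    ({ toRingHom := (Algebra.TensorProduct.includeLeft : A' →ₐ[S] A' ⊗[S] B').toRingHom.comp α
       commutes' := fun r => by
        change (α (algebraMap R A r)) ⊗ₜ[S] (1 : B') = algebraMap S (A' ⊗[S] B') (g r)
        rw [hα, Algebra.TensorProduct.algebraMap_apply] } : A →ₐ[R] A' ⊗[S] B')
    ({ toRingHom := (Algebra.TensorProduct.includeRight : B' →ₐ[S] A' ⊗[S] B').toRingHom.comp β
       commutes' := fun r => by
        change (1 : A') ⊗ₜ[S] (β (algebraMap R B r)) = algebraMap S (A' ⊗[S] B') (g r)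
        rw [hβ, Algebra.TensorProduct.algebraMap_apply, Algebra.algebraMap_eq_smul_one,
          Algebra.algebraMap_eq_smul_one, TensorProduct.smul_tmul] } :
      B →ₐ[R] A' ⊗[S] B')).toRingHom

theorem tensorRingMap_tmul (a : A) (b : B) :
    tensorRingMap g α β hα hβ (a ⊗ₜ b) = α a ⊗ₜ β b := by
  unfold tensorRingMap
  simp only [AlgHom.toRingHom_eq_coe, RingHom.coe_coe,
    Algebra.TensorProduct.productMap_apply_tmul]
  change (α a ⊗ₜ[S] (1 : B')) * ((1 : A') ⊗ₜ[S] β b) = _
  rw [Algebra.TensorProduct.tmul_mul_tmul, mul_one, one_mul]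

end RingMap

variable {X : RSpace.{u}}

/-- the tensor product of two algebras (pointwise tensor product over the rings) -/
@[reducible] noncomputable def tensorAlg (A B : Alg X) : Alg X where
  carrier p := A.carrier p ⊗[X.ring p] B.carrier p
  res h := tensorRingMap (X.res h) (A.res h) (B.res h) (A.res_algebraMap h) (B.res_algebraMap h)
  res_algebraMap h a := by
    rw [Algebra.TensorProduct.algebraMap_apply, tensorRingMap_tmul, A.res_algebraMap, map_one,
      Algebra.TensorProduct.algebraMap_apply]
  res_self p t := by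
    induction t using TensorProduct.induction_on with
    | zero => rw [map_zero]
    | tmul a b => rw [tensorRingMap_tmul, A.res_self, B.res_self]
    | add s t hs ht => rw [map_add, hs, ht]
  res_comp h h' t := by
    induction t using TensorProduct.induction_on with
    | zero => rw [map_zero, map_zero, map_zero]
    | tmul a b =>
        rw [tensorRingMap_tmul, tensorRingMap_tmul, tensorRingMap_tmul, A.res_comp, B.res_comp]
    | add s t hs ht => rw [map_add, map_add, map_add, hs, ht]

theorem tensorAlg_res_tmul (A B : Alg X) {p q : X.pt} (h : p ≤ q) (a : A.carrier p)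
    (b : B.carrier p) :
    (tensorAlg A B).res h (a ⊗ₜ b) = A.res h a ⊗ₜ B.res h b :=
  tensorRingMap_tmul _ _ _ (A.res_algebraMap h) (B.res_algebraMap h) a b

/-- left inclusion into the tensor product -/
noncomputable def tensorInl (A B : Alg X) : A ⟶ tensorAlg A B where
  app p := Algebra.TensorProduct.includeLeft
  compat h a := by
    change (tensorAlg A B).res h (a ⊗ₜ 1) = A.res h a ⊗ₜ 1
    rw [tensorAlg_res_tmul, map_one]

/-- right inclusion into the tensor product -/
noncomputable def tensorInr (A B : Alg X) : B ⟶ tensorAlg A B where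
  app p := Algebra.TensorProduct.includeRight
  compat h b := by
    change (tensorAlg A B).res h (1 ⊗ₜ b) = 1 ⊗ₜ B.res h b
    rw [tensorAlg_res_tmul, map_one]

/-- the morphism out of the tensor product induced by a pair of morphisms -/
noncomputable def tensorDesc {A B T : Alg X} (u : A ⟶ T) (v : B ⟶ T) : tensorAlg A B ⟶ T where
  app p := Algebra.TensorProduct.productMap (u.app p) (v.app p)
  compat h t := by
    induction t using TensorProduct.induction_on with
    | zero => rw [map_zero, map_zero, map_zero, map_zero]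
    | tmul a b =>
        rw [tensorAlg_res_tmul, Algebra.TensorProduct.productMap_apply_tmul,
          Algebra.TensorProduct.productMap_apply_tmul, map_mul, u.compat, v.compat]
    | add s t hs ht => rw [map_add, map_add, map_add, map_add, hs, ht]

theorem tensorDesc_tmul {A B T : Alg X} (u : A ⟶ T) (v : B ⟶ T) (p : X.pt) (a : A.carrier p)
    (b : B.carrier p) : (tensorDesc u v).app p (a ⊗ₜ b) = u.app p a * v.app p b :=
  Algebra.TensorProduct.productMap_apply_tmul _ _ a b


/-- base change commutes with tensor products (raw form) -/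
theorem exists_equiv_tensor {R S : Type u} [CommRing R] [CommRing S] [Algebra R S]
    {M N M' N' : Type u} [AddCommGroup M] [AddCommGroup N] [AddCommGroup M'] [AddCommGroup N']
    [Module R M] [Module R N] [Module R M'] [Module S M'] [IsScalarTower R S M']
    [Module R N'] [Module S N'] [IsScalarTower R S N']
    (fM : M →ₗ[R] M') (hM : IsBaseChange S fM) (fN : N →ₗ[R] N') (hN : IsBaseChange S fN) :
    ∃ e : S ⊗[R] (M ⊗[R] N) ≃ₗ[S] M' ⊗[S] N', ∀ m n, e (1 ⊗ₜ (m ⊗ₜ n)) = fM m ⊗ₜ fN n := by
  have h1 := isBaseChange_tensorProduct_map (R := R) (S := R) (P := N) S hM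
  refine ⟨h1.equiv.trans (hN.tensorEquiv M').symm, fun m n => ?_⟩
  rw [LinearEquiv.trans_apply, IsBaseChange.equiv_tmul, one_smul,
    TensorProduct.AlgebraTensorModule.map_tmul, LinearMap.id_apply, LinearEquiv.symm_apply_eq]
  simp only [IsBaseChange.tensorEquiv, LinearEquiv.trans_apply, LinearEquiv.lTensor_tmul]
  rw [hN.equiv_symm_apply n, TensorProduct.AlgebraTensorModule.cancelBaseChange_tmul, one_smul]

theorem isQcoh_tensorAlg (A B : Alg X) (hA : A.IsQcoh) (hB : B.IsQcoh) :
    (tensorAlg A B).IsQcoh := by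
  intro p q h
  have hA' := hA p q h
  have hB' := hB p q h
  unfold IsBCAlong at hA' hB' ⊢
  letI a1 : Algebra (X.ring p) (X.ring q) := (X.res h).toAlgebra
  letI a2 : Module (X.ring p) (A.carrier q) := Module.compHom _ (X.res h)
  haveI a3 : IsScalarTower (X.ring p) (X.ring q) (A.carrier q) :=
    IsScalarTower.of_algebraMap_smul fun _ _ => rfl
  letI b2 : Module (X.ring p) (B.carrier q) := Module.compHom _ (X.res h)
  haveI b3 : IsScalarTower (X.ring p) (X.ring q) (B.carrier q) :=
    IsScalarTower.of_algebraMap_smul fun _ _ => rfl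
  letI c2 : Module (X.ring p) ((tensorAlg A B).toMod.carrier q) := Module.compHom _ (X.res h)
  haveI c3 : IsScalarTower (X.ring p) (X.ring q) ((tensorAlg A B).toMod.carrier q) :=
    IsScalarTower.of_algebraMap_smul fun _ _ => rfl
  let fA : A.carrier p →ₗ[X.ring p] A.carrier q :=
    { toFun := A.toMod.res h
      map_add' := (A.toMod.res h).map_add
      map_smul' := (A.toMod.res h).map_smulₛₗ }
  let fB : B.carrier p →ₗ[X.ring p] B.carrier q :=
    { toFun := B.toMod.res h
      map_add' := (B.toMod.res h).map_add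
      map_smul' := (B.toMod.res h).map_smulₛₗ }
  have hfA : IsBaseChange (X.ring q) fA := hA'
  have hfB : IsBaseChange (X.ring q) fB := hB'
  obtain ⟨e, he⟩ := exists_equiv_tensor fA hfA fB hfB
  have key : ∀ t : A.carrier p ⊗[X.ring p] B.carrier p,
      e (1 ⊗ₜ t) = (tensorAlg A B).res h t := by
    intro t
    induction t using TensorProduct.induction_on with
    | zero => rw [TensorProduct.tmul_zero, map_zero, map_zero]
    | add s t hs ht => rw [TensorProduct.tmul_add, map_add, hs, ht, map_add]
    | tmul a b =>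
        rw [he, tensorAlg_res_tmul]
        rfl
  exact IsBaseChange.of_equiv e fun t => key t


theorem isEtCover_tensorAlg (A B : Alg X) (hA : A.IsEtCover) (hB : B.IsEtCover) :
    (tensorAlg A B).IsEtCover := by
  refine ⟨isQcoh_tensorAlg A B hA.1 hB.1, fun p => ?_⟩
  haveI := (hA.2 p).1
  haveI := (hA.2 p).2
  haveI := (hB.2 p).1
  haveI := (hB.2 p).2
  refine ⟨inferInstanceAs (Module.Finite (X.ring p) (A.carrier p ⊗[X.ring p] B.carrier p)), ?_⟩
  haveI : Algebra.Etale (A.carrier p) (A.carrier p ⊗[X.ring p] B.carrier p) := inferInstance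
  exact Algebra.Etale.comp (X.ring p) (A.carrier p) (A.carrier p ⊗[X.ring p] B.carrier p)

/-- The ideal of `A ⊗[R] B` generated by the `f c ⊗ 1 - 1 ⊗ g c` is generated by an idempotent when
`C` is étale over `R`. -/
theorem exists_idem_span_diag {R C A B : Type u} [CommRing R] [CommRing C] [CommRing A]
    [CommRing B] [Algebra R C] [Algebra R A] [Algebra R B] [Algebra.Etale R C]
    (f : C →ₐ[R] A) (g : C →ₐ[R] B) :
    ∃ e : A ⊗[R] B, IsIdempotentElem e ∧
      Ideal.span (Set.range fun c : C => f c ⊗ₜ[R] (1 : B) - (1 : A) ⊗ₜ[R] g c) =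
        Ideal.span {e} := by
  obtain ⟨ε, hε, hsp⟩ : ∃ ε, IsIdempotentElem ε ∧
      KaehlerDifferential.ideal R C = Ideal.span {ε} :=
    (Ideal.isIdempotentElem_iff_of_fg _ (KaehlerDifferential.ideal_fg R C)).mp <|
      (Ideal.cotangent_subsingleton_iff _).mp <| inferInstanceAs <| Subsingleton Ω[C⁄R]
  let φ : C ⊗[R] C →ₐ[R] A ⊗[R] B := Algebra.TensorProduct.map f g
  refine ⟨φ ε, hε.map φ, le_antisymm ?_ ?_⟩
  · rw [Ideal.span_le]
    rintro _ ⟨c, rfl⟩
    have h1 : (1 : C) ⊗ₜ[R] c - c ⊗ₜ[R] (1 : C) ∈ Ideal.span {ε} := by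
      rw [← hsp]
      exact KaehlerDifferential.one_smul_sub_smul_one_mem_ideal R c
    obtain ⟨u, hu⟩ := Ideal.mem_span_singleton'.1 h1
    have h2 : f c ⊗ₜ[R] (1 : B) - (1 : A) ⊗ₜ[R] g c = φ (-u) * φ ε := by
      rw [← map_mul, neg_mul, hu, neg_sub, map_sub]
      simp [φ]
    change f c ⊗ₜ[R] (1 : B) - (1 : A) ⊗ₜ[R] g c ∈ Ideal.span {φ ε}
    rw [h2]
    exact Ideal.mul_mem_left _ _ (Ideal.subset_span rfl)
  · rw [Ideal.span_le, Set.singleton_subset_iff]
    have hmem : ε ∈ Ideal.span (Set.range fun s : C => (1 : C) ⊗ₜ[R] s - s ⊗ₜ[R] (1 : C)) := by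
      rw [KaehlerDifferential.span_range_eq_ideal, hsp]
      exact Ideal.subset_span rfl
    have hmap := Ideal.mem_map_of_mem φ.toRingHom hmem
    rw [Ideal.map_span] at hmap
    refine (Ideal.span_le.2 ?_) hmap
    rintro _ ⟨_, ⟨c, rfl⟩, rfl⟩
    have : φ.toRingHom ((1 : C) ⊗ₜ[R] c - c ⊗ₜ[R] (1 : C)) =
        -(f c ⊗ₜ[R] (1 : B) - (1 : A) ⊗ₜ[R] g c) := by
      simp [φ]
    rw [this]
    exact (Ideal.neg_mem_iff _).2 (Ideal.subset_span ⟨c, rfl⟩)


/-- the ideal span of the image of an ideal is contained in the span over the ring of the point -/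
theorem ideal_span_le_span {D : Alg X} (hD : D.IsQcoh) {p q : X.pt} (h : p ≤ q)
    (J : Ideal (D.carrier p)) :
    ∀ x ∈ Ideal.span (D.res h '' (J : Set (D.carrier p))),
      x ∈ Submodule.span (X.ring q) (D.res h '' (J : Set (D.carrier p))) := by
  have hmul : ∀ (t0 : D.carrier p) (y : D.carrier q),
      y ∈ Submodule.span (X.ring q) (D.res h '' (J : Set (D.carrier p))) →
      D.res h t0 * y ∈ Submodule.span (X.ring q) (D.res h '' (J : Set (D.carrier p))) := by
    intro t0 y hy
    induction hy using Submodule.span_induction with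
    | mem y' hy' =>
        obtain ⟨y0, hy0, rfl⟩ := hy'
        refine Submodule.subset_span ⟨t0 * y0, J.mul_mem_left _ hy0, ?_⟩
        rw [map_mul]
    | zero => rw [mul_zero]; exact Submodule.zero_mem _
    | add y1 y2 _ _ h1 h2 => rw [mul_add]; exact Submodule.add_mem _ h1 h2
    | smul s y1 _ h1 => rw [mul_smul_comm]; exact Submodule.smul_mem _ s h1
  have hmul' : ∀ (t y : D.carrier q),
      y ∈ Submodule.span (X.ring q) (D.res h '' (J : Set (D.carrier p))) →
      t * y ∈ Submodule.span (X.ring q) (D.res h '' (J : Set (D.carrier p))) := by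
    intro t y hy
    have ht := mem_span_res hD h t
    induction ht using Submodule.span_induction with
    | mem t' ht' =>
        obtain ⟨t0, rfl⟩ := ht'
        exact hmul t0 y hy
    | zero => rw [zero_mul]; exact Submodule.zero_mem _
    | add t1 t2 _ _ h1 h2 => rw [add_mul]; exact Submodule.add_mem _ h1 h2
    | smul s t1 _ h1 => rw [smul_mul_assoc]; exact Submodule.smul_mem _ s h1
  intro x hx
  induction hx using Submodule.span_induction with
  | mem y hy => exact Submodule.subset_span hy
  | zero => exact Submodule.zero_mem _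
  | add y z _ _ hy hz => exact Submodule.add_mem _ hy hz
  | smul t y _ hy =>
      rw [smul_eq_mul]
      exact hmul' t y hy

section Pushout

variable {C A B : Alg X} (f : C ⟶ A) (g : C ⟶ B)

/-- the family of ideals of `A ⊗ B` generated by the `f c ⊗ 1 - 1 ⊗ g c` -/
noncomputable def diagFam : IdealFam (tensorAlg A B) where
  I p := Ideal.span (Set.range fun c : C.carrier p =>
    (f.app p c) ⊗ₜ[X.ring p] (1 : B.carrier p) - (1 : A.carrier p) ⊗ₜ[X.ring p] (g.app p c))
  le_comap {p q} h := by
    rw [Ideal.span_le]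
    rintro _ ⟨c, rfl⟩
    change (tensorAlg A B).res h _ ∈ Ideal.span _
    rw [map_sub, tensorAlg_res_tmul, tensorAlg_res_tmul, map_one, map_one, f.compat, g.compat]
    exact Ideal.subset_span ⟨C.res h c, rfl⟩

theorem diagFam_ext (hC : C.IsQcoh) (hA : A.IsQcoh) (hB : B.IsQcoh) {p q : X.pt} (h : p ≤ q) :
    ∀ x ∈ (diagFam f g).I q, x ∈ Submodule.span (X.ring q)
      ((tensorAlg A B).res h '' ((diagFam f g).I p : Set ((tensorAlg A B).carrier p))) := by
  intro x hx
  refine ideal_span_le_span (isQcoh_tensorAlg A B hA hB) h _ x ?_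
  revert x
  change (diagFam f g).I q ≤ Ideal.span _
  change Ideal.span _ ≤ Ideal.span _
  rw [Ideal.span_le]
  rintro _ ⟨c', rfl⟩
  have hc' := mem_span_res hC h c'
  induction hc' using Submodule.span_induction with
  | mem c'' hc'' =>
      obtain ⟨c, rfl⟩ := hc''
      refine Ideal.subset_span ⟨_, Ideal.subset_span ⟨c, rfl⟩, ?_⟩
      rw [map_sub, tensorAlg_res_tmul, tensorAlg_res_tmul, map_one, map_one, f.compat, g.compat]
  | zero =>
      simp only [map_zero, TensorProduct.zero_tmul, TensorProduct.tmul_zero, sub_self]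
      exact Ideal.zero_mem _
  | add c1 c2 _ _ h1 h2 =>
      have : (f.app q (c1 + c2)) ⊗ₜ[X.ring q] (1 : B.carrier q) -
          (1 : A.carrier q) ⊗ₜ[X.ring q] (g.app q (c1 + c2)) =
          ((f.app q c1) ⊗ₜ[X.ring q] (1 : B.carrier q) - (1 : A.carrier q) ⊗ₜ[X.ring q] (g.app q c1)) +
          ((f.app q c2) ⊗ₜ[X.ring q] (1 : B.carrier q) - (1 : A.carrier q) ⊗ₜ[X.ring q] (g.app q c2)) := by
        rw [map_add, map_add, TensorProduct.add_tmul, TensorProduct.tmul_add]
        abel
      show (f.app q (c1 + c2)) ⊗ₜ[X.ring q] (1 : B.carrier q) -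
          (1 : A.carrier q) ⊗ₜ[X.ring q] (g.app q (c1 + c2)) ∈ Ideal.span _
      rw [this]
      exact Ideal.add_mem _ h1 h2
  | smul s c1 _ h1 =>
      have : (f.app q (s • c1)) ⊗ₜ[X.ring q] (1 : B.carrier q) -
          (1 : A.carrier q) ⊗ₜ[X.ring q] (g.app q (s • c1)) =
          s • ((f.app q c1) ⊗ₜ[X.ring q] (1 : B.carrier q) -
            (1 : A.carrier q) ⊗ₜ[X.ring q] (g.app q c1)) := by
        rw [map_smul, map_smul, smul_sub, TensorProduct.smul_tmul', TensorProduct.tmul_smul]
      show (f.app q (s • c1)) ⊗ₜ[X.ring q] (1 : B.carrier q) -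
          (1 : A.carrier q) ⊗ₜ[X.ring q] (g.app q (s • c1)) ∈ Ideal.span _
      rw [this]
      exact Submodule.smul_of_tower_mem _ s h1

end Pushout


section FEtPushout

variable {C A B : FEt X} (f : C ⟶ A) (g : C ⟶ B)

/-- the pushout of two morphisms of étale covers -/
@[reducible] noncomputable def pushoutFEt : FEt X :=
  ⟨quotAlg (tensorAlg A.obj B.obj) (diagFam f.hom g.hom),
    isEtCover_quotAlg _ _ (isEtCover_tensorAlg _ _ A.property B.property)
      (fun h => diagFam_ext f.hom g.hom C.property.1 A.property.1 B.property.1 h)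
      (fun p => by
        haveI := (C.property.2 p).2
        exact exists_idem_span_diag (f.hom.app p) (g.hom.app p))⟩

/-- left inclusion into the pushout -/
noncomputable def pushoutInl : A ⟶ pushoutFEt f g :=
  ObjectProperty.homMk (tensorInl A.obj B.obj ≫ quotMk _ (diagFam f.hom g.hom))

/-- right inclusion into the pushout -/
noncomputable def pushoutInr : B ⟶ pushoutFEt f g :=
  ObjectProperty.homMk (tensorInr A.obj B.obj ≫ quotMk _ (diagFam f.hom g.hom))

theorem pushoutInl_app (p : X.pt) (a : A.obj.carrier p) :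
    (pushoutInl f g).hom.app p a =
      (quotMk _ (diagFam f.hom g.hom)).app p (a ⊗ₜ[X.ring p] (1 : B.obj.carrier p)) := rfl

theorem pushoutInr_app (p : X.pt) (b : B.obj.carrier p) :
    (pushoutInr f g).hom.app p b =
      (quotMk _ (diagFam f.hom g.hom)).app p ((1 : A.obj.carrier p) ⊗ₜ[X.ring p] b) := rfl

theorem pushout_condition : f ≫ pushoutInl f g = g ≫ pushoutInr f g := by
  apply fet_hom_ext
  intro p c
  change (quotMk _ (diagFam f.hom g.hom)).app p (f.hom.app p c ⊗ₜ[X.ring p] (1 : B.obj.carrier p)) =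
    (quotMk _ (diagFam f.hom g.hom)).app p ((1 : A.obj.carrier p) ⊗ₜ[X.ring p] g.hom.app p c)
  rw [← sub_eq_zero, ← map_sub, quotMk_ker]
  exact Ideal.subset_span ⟨c, rfl⟩

theorem tensorDesc_kills {T : FEt X} (u : A ⟶ T) (v : B ⟶ T) (huv : f ≫ u = g ≫ v) (p : X.pt) :
    ∀ a ∈ (diagFam f.hom g.hom).I p, (tensorDesc u.hom v.hom).app p a = 0 := by
  have hle : (diagFam f.hom g.hom).I p ≤ RingHom.ker ((tensorDesc u.hom v.hom).app p) := by
    change Ideal.span _ ≤ _
    rw [Ideal.span_le]
    rintro _ ⟨c, rfl⟩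
    change (tensorDesc u.hom v.hom).app p _ = 0
    rw [map_sub, tensorDesc_tmul, tensorDesc_tmul, map_one, map_one, mul_one, one_mul, sub_eq_zero]
    exact congrArg (fun k => k.hom.app p c) huv
  intro a ha
  exact RingHom.mem_ker.1 (hle ha)

/-- the pushout cocone is a colimit -/
noncomputable def pushoutIsColimit :
    IsColimit (PushoutCocone.mk (pushoutInl f g) (pushoutInr f g) (pushout_condition f g)) :=
  PushoutCocone.IsColimit.mk _
    (fun s => ObjectProperty.homMk (quotLift (tensorDesc s.inl.hom s.inr.hom)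
      (tensorDesc_kills f g s.inl s.inr s.condition)))
    (fun s => by
      apply fet_hom_ext
      intro p a
      change (tensorDesc s.inl.hom s.inr.hom).app p (a ⊗ₜ[X.ring p] (1 : B.obj.carrier p)) = _
      rw [tensorDesc_tmul, map_one, mul_one])
    (fun s => by
      apply fet_hom_ext
      intro p b
      change (tensorDesc s.inl.hom s.inr.hom).app p ((1 : A.obj.carrier p) ⊗ₜ[X.ring p] b) = _
      rw [tensorDesc_tmul, map_one, one_mul])
    (fun s m h1 h2 => by
      apply fet_hom_ext
      intro p x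
      obtain ⟨t, rfl⟩ := quotMk_surjective _ (diagFam f.hom g.hom) p x
      change m.hom.app p ((quotMk _ (diagFam f.hom g.hom)).app p t) =
        (tensorDesc s.inl.hom s.inr.hom).app p t
      induction t using TensorProduct.induction_on with
      | zero => rw [map_zero, map_zero, map_zero]
      | add t1 t2 ht1 ht2 => rw [map_add, map_add, map_add, ht1, ht2]
      | tmul a b =>
          have e : a ⊗ₜ[X.ring p] b =
              (a ⊗ₜ[X.ring p] (1 : B.obj.carrier p)) * ((1 : A.obj.carrier p) ⊗ₜ[X.ring p] b) := by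
            rw [Algebra.TensorProduct.tmul_mul_tmul, mul_one, one_mul]
          rw [e, map_mul, map_mul, map_mul, tensorDesc_tmul, tensorDesc_tmul, map_one, map_one,
            mul_one, one_mul]
          have e1 : m.hom.app p ((quotMk _ (diagFam f.hom g.hom)).app p
              (a ⊗ₜ[X.ring p] (1 : B.obj.carrier p))) = s.inl.hom.app p a :=
            congrArg (fun k => k.hom.app p a) h1
          have e2 : m.hom.app p ((quotMk _ (diagFam f.hom g.hom)).app p
              ((1 : A.obj.carrier p) ⊗ₜ[X.ring p] b)) = s.inr.hom.app p b :=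
            congrArg (fun k => k.hom.app p b) h2
          rw [e1, e2])

theorem hasPushouts_fet : HasPushouts (FEt X) := by
  haveI : ∀ {P Q R : FEt X} {f : P ⟶ Q} {g : P ⟶ R}, HasColimit (span f g) :=
    fun {P Q R f g} => ⟨⟨⟨_, pushoutIsColimit f g⟩⟩⟩
  exact hasPushouts_of_hasColimit_span (FEt X)

end FEtPushout

section Initial

/-- the structure algebra is an étale cover -/
theorem isEtCover_str (X : RSpace.{u}) : (Alg.str X).IsEtCover := by
  refine ⟨fun p q h => ?_, fun p => ⟨inferInstanceAs (Module.Finite (X.ring p) (X.ring p)),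
    inferInstanceAs (Algebra.Etale (X.ring p) (X.ring p))⟩⟩
  unfold IsBCAlong
  letI a1 : Algebra (X.ring p) (X.ring q) := (X.res h).toAlgebra
  letI a2 : Module (X.ring p) ((Alg.str X).toMod.carrier q) := Module.compHom _ (X.res h)
  haveI a3 : IsScalarTower (X.ring p) (X.ring q) ((Alg.str X).toMod.carrier q) :=
    IsScalarTower.of_algebraMap_smul fun _ _ => rfl
  exact IsBaseChange.linearMap (X.ring p) (X.ring q)


/-- the structure algebra as an étale cover -/
def strFEt (X : RSpace.{u}) : FEt X := ⟨Alg.str X, isEtCover_str X⟩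

/-- the unique morphism from the structure algebra -/
def strHom (A : Alg X) : Alg.str X ⟶ A where
  app p := Algebra.ofId (X.ring p) (A.carrier p)
  compat h a := A.res_algebraMap h a

theorem strHom_unique {A : Alg X} (m : Alg.str X ⟶ A) : m = strHom A := by
  apply Alg.hom_ext
  intro p
  apply AlgHom.ext
  intro a
  have := (m.app p).commutes a
  exact this

/-- the structure algebra is initial among étale covers -/
def strIsInitial (X : RSpace.{u}) : IsInitial (strFEt X) :=
  IsInitial.ofUniqueHom (fun A => ObjectProperty.homMk (strHom A.obj)) (fun A m => by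
    apply ObjectProperty.hom_ext
    exact strHom_unique m.hom)

theorem hasInitial_fet : HasInitial (FEt X) := (strIsInitial X).hasInitial

end Initial

end Groth.Agent.Lib.Helper3.SchFinTensor
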