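import Mathlib
import Groth.Prelude.Def_SchFin2
import Groth.Agent.Lib.Helper3.SchFinFEt
import Groth.Agent.Lib.Helper3.SchFinQuot
import Groth.Agent.Lib.Helper3.SchFinFactor
import Groth.Agent.Lib.Helper3.SchFinTensor

/-!
# The fibre functor at a geometric point of a finite ringed poset

* pure algebra: `homEquivSpec` (`Hom_R(A, Ω) ≃ Spec (Ω ⊗ A)` for `A` finite étale over `R` and `Ω`
  separably closed), `exists_algHom_extension` (extension of homs to `Ω` along integral injective maps);
* criteria for terminal objects / pullbacks / coproducts in `FintypeCat`;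
* `fibEquiv`, `fibMap_fibEquiv`;
* `preservesTerminal`, `preservesPullbacks`, `preservesFiniteCoproducts`, `preservesEpimorphisms`
  for `GeomPt.fibFunctor`.
-/

set_option autoImplicit false
set_option linter.style.haveILetI false
set_option linter.unusedSectionVars false

namespace Groth.Agent.Lib.Helper3.SchFinFib

open SchFin CategoryTheory CategoryTheory.Limits TensorProduct
  Groth.Agent.Lib.Helper3.SchFinFEt Groth.Agent.Lib.Helper3.SchFinQuot
  Groth.Agent.Lib.Helper3.SchFinFactor Groth.Agent.Lib.Helper3.SchFinTensor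

universe u

section Alg

variable (R : Type u) [CommRing R] (Ω : Type u) [Field Ω] [IsAlgClosed Ω] [Algebra R Ω]
  (A : Type u) [CommRing A] [Algebra R A] [Algebra.Etale R A]

/-- `R`-algebra maps from a finite étale algebra to an algebraically closed field are the points of the
geometric fibre. -/
noncomputable def homEquivSpec : (A →ₐ[R] Ω) ≃ PrimeSpectrum (Ω ⊗[R] A) :=
  (Algebra.TensorProduct.liftEquivRight R Ω A Ω).trans
    (Algebra.IsFiniteSplit.algHomEquivPrimeSpectrum Ω (Ω ⊗[R] A))

theorem homEquivSpec_asIdeal (f : A →ₐ[R] Ω) :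
    (homEquivSpec R Ω A f).asIdeal =
      RingHom.ker (Algebra.TensorProduct.lift (Algebra.ofId Ω Ω) f fun _ _ => .all _ _) := rfl

variable {A} {B : Type u} [CommRing B] [Algebra R B] [Algebra.Etale R B]

theorem comap_homEquivSpec (u : A →ₐ[R] B) (g : B →ₐ[R] Ω) :
    PrimeSpectrum.comap (Algebra.TensorProduct.map (AlgHom.id Ω Ω) u).toRingHom
      (homEquivSpec R Ω B g) = homEquivSpec R Ω A (g.comp u) := by
  apply PrimeSpectrum.ext
  rw [homEquivSpec_asIdeal]
  change Ideal.comap _ (homEquivSpec R Ω B g).asIdeal = _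
  rw [homEquivSpec_asIdeal]
  have : (Algebra.TensorProduct.lift (Algebra.ofId Ω Ω) (g.comp u) fun _ _ => .all _ _) =
      (Algebra.TensorProduct.lift (Algebra.ofId Ω Ω) g fun _ _ => .all _ _).comp
        (Algebra.TensorProduct.map (AlgHom.id Ω Ω) u) := by
    apply Algebra.TensorProduct.ext
    · ext
    · ext a
      simp
  rw [this]
  rfl

end Alg

/-- Extension of algebra maps to an algebraically closed field along an injective integral map. -/
theorem exists_algHom_extension {R A B Ω : Type u} [CommRing R] [CommRing A] [CommRing B] [Field Ω]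
    [IsAlgClosed Ω] [Algebra R A] [Algebra R B] [Algebra R Ω] [Module.Finite R B]
    (u : A →ₐ[R] B) (hu : Function.Injective u) (α : A →ₐ[R] Ω) :
    ∃ β : B →ₐ[R] Ω, β.comp u = α := by
  letI a1 : Algebra A B := u.toRingHom.toAlgebra
  haveI a2 : IsScalarTower R A B := IsScalarTower.of_algebraMap_eq fun r => (u.commutes r).symm
  haveI a3 : Algebra.IsIntegral R B := inferInstance
  haveI a4 : Algebra.IsIntegral A B := Algebra.IsIntegral.tower_top (R := R)
  let p : Ideal A := RingHom.ker (α : A →+* Ω)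
  haveI hp : p.IsPrime := RingHom.ker_isPrime _
  have hle : (⊥ : Ideal B).comap (algebraMap A B) ≤ p := by
    intro a ha
    have h0 : algebraMap A B a = 0 := ha
    have : a = 0 := hu (by rw [map_zero]; exact h0)
    rw [this]
    exact Ideal.zero_mem _
  obtain ⟨Q, -, hQp, hQ⟩ := Ideal.exists_ideal_over_prime_of_isIntegral p (⊥ : Ideal B) hle
  haveI : Q.LiesOver p := ⟨hQ.symm⟩
  letI a5 : Algebra (A ⧸ p) Ω := (RingHom.kerLift (α : A →+* Ω)).toAlgebra
  haveI a6 : FaithfulSMul (A ⧸ p) Ω :=
    (faithfulSMul_iff_algebraMap_injective _ _).2 (RingHom.kerLift_injective (α : A →+* Ω))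
  haveI d1 : IsDomain (A ⧸ p) := Ideal.Quotient.isDomain p
  haveI d2 : IsDomain (B ⧸ Q) := Ideal.Quotient.isDomain Q
  haveI t1 : Module.IsTorsionFree (A ⧸ p) (B ⧸ Q) :=
    Module.isTorsionFree_iff_algebraMap_injective.2 (FaithfulSMul.algebraMap_injective _ _)
  haveI t2 : Module.IsTorsionFree (A ⧸ p) Ω :=
    Module.isTorsionFree_iff_algebraMap_injective.2 (FaithfulSMul.algebraMap_injective _ _)
  haveI t3 : Algebra.IsAlgebraic (A ⧸ p) (B ⧸ Q) := Algebra.IsIntegral.isAlgebraic
  let β' : B ⧸ Q →ₐ[A ⧸ p] Ω := IsAlgClosed.lift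
  have hβ : ∀ a : A, β' (Ideal.Quotient.mk Q (u a)) = α a := by
    intro a
    have h1 : Ideal.Quotient.mk Q (u a) = algebraMap (A ⧸ p) (B ⧸ Q) (Ideal.Quotient.mk p a) := rfl
    rw [h1, β'.commutes]
    rfl
  refine ⟨{ toRingHom := β'.toRingHom.comp (Ideal.Quotient.mk Q), commutes' := fun r => ?_ }, ?_⟩
  · change β' (Ideal.Quotient.mk Q (algebraMap R B r)) = algebraMap R Ω r
    rw [← u.commutes r, hβ, α.commutes]
  · apply AlgHom.ext
    intro a
    exact hβ a


theorem bijective_sigma_spec {J : Type} [Finite J] (R Ω : Type u) [CommRing R] [CommRing Ω]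
    [Algebra R Ω] (A : J → Type u) [∀ j, CommRing (A j)] [∀ j, Algebra R (A j)] :
    Function.Bijective (fun p : Σ j, PrimeSpectrum (Ω ⊗[R] A j) =>
      PrimeSpectrum.comap
        (Algebra.TensorProduct.map (AlgHom.id Ω Ω) (Pi.evalAlgHom R A p.1)).toRingHom p.2) := by
  classical
  let _ : Fintype J := Fintype.ofFinite J
  let e : Ω ⊗[R] (∀ j, A j) ≃ₐ[Ω] ∀ j, Ω ⊗[R] A j := Algebra.TensorProduct.piRight R Ω Ω A
  have hcomp : ∀ j, (Pi.evalAlgHom Ω (fun j => Ω ⊗[R] A j) j).comp e.toAlgHom =
      Algebra.TensorProduct.map (AlgHom.id Ω Ω) (Pi.evalAlgHom R A j) := by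
    intro j
    apply Algebra.TensorProduct.ext
    · ext
    · ext a
      simp [e]
  have hfun : (fun p : Σ j, PrimeSpectrum (Ω ⊗[R] A j) =>
      PrimeSpectrum.comap
        (Algebra.TensorProduct.map (AlgHom.id Ω Ω) (Pi.evalAlgHom R A p.1)).toRingHom p.2) =
      (PrimeSpectrum.comap e.toAlgHom.toRingHom) ∘ PrimeSpectrum.sigmaToPi (fun j => Ω ⊗[R] A j) := by
    funext p
    obtain ⟨j, q⟩ := p
    change _ = PrimeSpectrum.comap e.toAlgHom.toRingHom (PrimeSpectrum.sigmaToPi _ ⟨j, q⟩)
    rw [PrimeSpectrum.sigmaToPi_apply, ← hcomp j]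
    rfl
  rw [hfun]
  refine Function.Bijective.comp ?_ (PrimeSpectrum.sigmaToPi_bijective _)
  exact (PrimeSpectrum.comapEquiv e.toRingEquiv).symm.bijective

section FinCrit

/-- terminal objects of `FintypeCat` -/
noncomputable def isTerminalOfUnique (T : FintypeCat.{u}) [Unique T] : IsTerminal T :=
  IsTerminal.ofUniqueHom (fun Y => FintypeCat.homMk (fun _ => default))
    (fun Y m => by
      apply FintypeCat.hom_ext
      intro y
      exact Subsingleton.elim _ _)

/-- pullback criterion in `FintypeCat` -/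
noncomputable def isLimitPullbackCone {A B C P : FintypeCat.{u}} (fst : P ⟶ A) (snd : P ⟶ B)
    (f : A ⟶ C) (g : B ⟶ C) (w : fst ≫ f = snd ≫ g)
    (h : ∀ (a : A) (b : B), f a = g b → ∃! p : P, fst p = a ∧ snd p = b) :
    IsLimit (PullbackCone.mk fst snd w) := by
  have hs : ∀ (s : PullbackCone f g) (t : s.pt), f (s.fst t) = g (s.snd t) := fun s t =>
    ConcreteCategory.congr_hom s.condition t
  refine PullbackCone.IsLimit.mk w
    (fun s => FintypeCat.homMk fun t => (h (s.fst t) (s.snd t) (hs s t)).choose) ?_ ?_ ?_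
  · intro s
    apply FintypeCat.hom_ext
    intro t
    exact (h (s.fst t) (s.snd t) (hs s t)).choose_spec.1.1
  · intro s
    apply FintypeCat.hom_ext
    intro t
    exact (h (s.fst t) (s.snd t) (hs s t)).choose_spec.1.2
  · intro s m h1 h2
    apply FintypeCat.hom_ext
    intro t
    exact (h (s.fst t) (s.snd t) (hs s t)).choose_spec.2 (m t)
      ⟨ConcreteCategory.congr_hom h1 t, ConcreteCategory.congr_hom h2 t⟩

/-- coproduct criterion in `FintypeCat` -/
noncomputable def isColimitCofan {J : Type} {f : J → FintypeCat.{u}} (P : FintypeCat.{u})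
    (ι : ∀ j, f j ⟶ P)
    (h : ∀ y : P, ∃! p : Σ j, (f j : Type u), ι p.1 p.2 = y) :
    IsColimit (Cofan.mk P ι) := by
  refine Cofan.IsColimit.mk _
    (fun s => FintypeCat.homMk fun y => s.inj (h y).choose.1 (h y).choose.2) ?_ ?_
  · intro s j
    apply FintypeCat.hom_ext
    intro z
    have h1 := (h (ι j z)).choose_spec.2 ⟨j, z⟩ rfl
    change s.inj (h (ι j z)).choose.1 (h (ι j z)).choose.2 = s.inj j z
    rw [← h1]
  · intro s m hm
    apply FintypeCat.hom_ext
    intro y
    have h1 := (h y).choose_spec.1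
    change m y = s.inj (h y).choose.1 (h y).choose.2
    rw [← hm]
    change m y = m (ι _ _)
    rw [h1]

end FinCrit

section Fib

variable {X : RSpace.{u}} {Ω : Type u} [Field Ω] [IsAlgClosed Ω] (ξ : GeomPt X Ω)

/-- the algebra structure on the field of a geometric point over the ring of its base point -/
@[reducible] def algΩ : Algebra (X.ring ξ.base) Ω := ξ.toField.toAlgebra

attribute [local instance] algΩ

/-- the fibre of an étale cover is the set of algebra maps from its stalk at the base point to `Ω` -/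
noncomputable def fibEquiv (A : Alg X) (hA : A.IsEtCover) :
    (A.carrier ξ.base →ₐ[X.ring ξ.base] Ω) ≃ ξ.Fib A :=
  haveI := (hA.2 ξ.base).2
  homEquivSpec (X.ring ξ.base) Ω (A.carrier ξ.base)

theorem fibMap_fibEquiv {A B : Alg X} (hA : A.IsEtCover) (hB : B.IsEtCover) (f : A ⟶ B)
    (g : B.carrier ξ.base →ₐ[X.ring ξ.base] Ω) :
    ξ.fibMap f (fibEquiv ξ B hB g) = fibEquiv ξ A hA (g.comp (f.app ξ.base)) := by
  haveI := (hA.2 ξ.base).2
  haveI := (hB.2 ξ.base).2
  exact comap_homEquivSpec (X.ring ξ.base) Ω (f.app ξ.base) g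

theorem fibFunctor_map_apply {A B : (FEt X)ᵒᵖ} (f : A ⟶ B) (y : ξ.Fib A.unop.obj) :
    (ξ.fibFunctor.map f : ξ.Fib A.unop.obj → ξ.Fib B.unop.obj) y = ξ.fibMap f.unop.hom y := rfl

/-- the fibre of the structure algebra is a point -/
@[instance_reducible] noncomputable def uniqueFibStr : Unique (ξ.Fib (Alg.str X)) :=
  letI : Unique (X.ring ξ.base →ₐ[X.ring ξ.base] Ω) :=
    ⟨⟨Algebra.ofId _ _⟩, fun f => AlgHom.ext fun r => f.commutes r⟩
  (fibEquiv ξ (Alg.str X) (isEtCover_str X)).symm.unique (β := X.ring ξ.base →ₐ[X.ring ξ.base] Ω)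

/-- the fibre functor preserves the terminal object -/
theorem preservesTerminal : PreservesLimitsOfShape (Discrete PEmpty.{1}) ξ.fibFunctor := by
  have hT : IsTerminal (Opposite.op (strFEt X)) := terminalOpOfInitial (strIsInitial X)
  haveI : PreservesLimit (Functor.empty.{0} (FEt X)ᵒᵖ) ξ.fibFunctor := by
    refine preservesLimit_of_preserves_limit_cone hT ?_
    refine (isLimitMapConeEmptyConeEquiv _ _).symm ?_
    haveI : Unique (ξ.fibFunctor.obj (Opposite.op (strFEt X))) := uniqueFibStr ξ
    exact isTerminalOfUnique _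
  exact preservesLimitsOfShape_pempty_of_preservesTerminal _

/-- the fibre functor preserves epimorphisms -/
theorem preservesEpimorphisms (hX : X.IsSchematic) : ξ.fibFunctor.PreservesEpimorphisms := by
  refine ⟨fun {A B} f hf => ?_⟩
  haveI : Mono f.unop := unop_mono_of_epi f
  have hinj : Function.Injective (f.unop.hom.app ξ.base) := injective_of_mono hX f.unop ξ.base
  apply ConcreteCategory.epi_of_surjective
  intro y
  obtain ⟨α, rfl⟩ := (fibEquiv ξ B.unop.obj B.unop.property).surjective y
  haveI : Module.Finite (X.ring ξ.base) (A.unop.obj.carrier ξ.base) := (A.unop.property.2 ξ.base).1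
  obtain ⟨β, hβ⟩ := exists_algHom_extension (f.unop.hom.app ξ.base) hinj α
  refine ⟨fibEquiv ξ A.unop.obj A.unop.property β, ?_⟩
  rw [fibFunctor_map_apply, fibMap_fibEquiv ξ B.unop.property A.unop.property, hβ]

theorem fib_pi_existsUnique {J : Type} [Finite J] (Z : J → FEt X) (y : ξ.Fib (piFEt Z).obj) :
    ∃! p : Σ j, ξ.Fib (Z j).obj, ξ.fibMap (piProj (fun j => (Z j).obj) p.1) p.2 = y :=
  (bijective_sigma_spec (X.ring ξ.base) Ω (fun j => (Z j).obj.carrier ξ.base)).existsUnique y

theorem preservesCoproduct {J : Type} [Finite J] (Z : J → FEt X) :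
    PreservesColimit (Discrete.functor fun j => Opposite.op (Z j)) ξ.fibFunctor := by
  refine preservesColimit_of_preserves_colimit_cocone (Fan.IsLimit.op (piFanIsLimit Z)) ?_
  refine (isColimitMapCoconeCofanMkEquiv _ _ _).symm ?_
  exact isColimitCofan _ _ (fun y => fib_pi_existsUnique ξ Z y)

/-- the fibre functor preserves finite coproducts -/
theorem preservesFiniteCoproducts : PreservesFiniteCoproducts ξ.fibFunctor := by
  refine ⟨fun n => ⟨fun {K} => ?_⟩⟩
  let Z : Fin n → FEt X := fun j => (K.obj ⟨j⟩).unop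
  haveI := preservesCoproduct ξ Z
  have iso : Discrete.functor (fun j => Opposite.op (Z j)) ≅ K :=
    Discrete.natIso (fun j => Iso.refl _)
  exact preservesColimit_of_iso_diagram ξ.fibFunctor iso

section Pushout

variable {C A B : FEt X} (f : C ⟶ A) (g : C ⟶ B)

theorem pushout_hom_existsUnique (p : X.pt) {K : Type u} [CommRing K] [Algebra (X.ring p) K]
    (α : A.obj.carrier p →ₐ[X.ring p] K) (β : B.obj.carrier p →ₐ[X.ring p] K)
    (hαβ : α.comp (f.hom.app p) = β.comp (g.hom.app p)) :
    ∃! π : (pushoutFEt f g).obj.carrier p →ₐ[X.ring p] K,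
      π.comp ((pushoutInl f g).hom.app p) = α ∧ π.comp ((pushoutInr f g).hom.app p) = β := by
  let L : A.obj.carrier p ⊗[X.ring p] B.obj.carrier p →ₐ[X.ring p] K :=
    Algebra.TensorProduct.lift α β (fun _ _ => .all _ _)
  have hL : ∀ a ∈ (diagFam f.hom g.hom).I p, L a = 0 := by
    have hle : (diagFam f.hom g.hom).I p ≤ RingHom.ker (L : _ →+* K) := by
      change Ideal.span _ ≤ _
      rw [Ideal.span_le]
      rintro _ ⟨c, rfl⟩
      change L _ = 0
      rw [map_sub, Algebra.TensorProduct.lift_tmul, Algebra.TensorProduct.lift_tmul, map_one,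
        map_one, mul_one, one_mul, sub_eq_zero]
      exact congrArg (fun k => k c) hαβ
    intro a ha
    exact RingHom.mem_ker.1 (hle ha)
  let π : (pushoutFEt f g).obj.carrier p →ₐ[X.ring p] K :=
    Ideal.Quotient.liftₐ ((diagFam f.hom g.hom).I p) L hL
  have hπ : ∀ t, π ((quotMk _ (diagFam f.hom g.hom)).app p t) = L t := fun t => rfl
  refine ⟨π, ⟨?_, ?_⟩, ?_⟩
  · apply AlgHom.ext
    intro a
    change π ((pushoutInl f g).hom.app p a) = α a
    rw [pushoutInl_app, hπ, Algebra.TensorProduct.lift_tmul, map_one, mul_one]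
  · apply AlgHom.ext
    intro b
    change π ((pushoutInr f g).hom.app p b) = β b
    rw [pushoutInr_app, hπ, Algebra.TensorProduct.lift_tmul, map_one, one_mul]
  · rintro π' ⟨h1, h2⟩
    apply AlgHom.ext
    intro x
    obtain ⟨t, rfl⟩ := quotMk_surjective _ (diagFam f.hom g.hom) p x
    rw [hπ]
    induction t using TensorProduct.induction_on with
    | zero => rw [map_zero, map_zero, map_zero]
    | add t1 t2 ht1 ht2 => rw [map_add, map_add, map_add, ht1, ht2]
    | tmul a b =>
        have e : a ⊗ₜ[X.ring p] b =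
            (a ⊗ₜ[X.ring p] (1 : B.obj.carrier p)) * ((1 : A.obj.carrier p) ⊗ₜ[X.ring p] b) := by
          rw [Algebra.TensorProduct.tmul_mul_tmul, mul_one, one_mul]
        have e1 : π' ((quotMk _ (diagFam f.hom g.hom)).app p
            (a ⊗ₜ[X.ring p] (1 : B.obj.carrier p))) = α a := congrArg (fun k => k a) h1
        have e2 : π' ((quotMk _ (diagFam f.hom g.hom)).app p
            ((1 : A.obj.carrier p) ⊗ₜ[X.ring p] b)) = β b := congrArg (fun k => k b) h2
        rw [Algebra.TensorProduct.lift_tmul, e, map_mul, map_mul, e1, e2]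

theorem fib_pushout_existsUnique (a : ξ.Fib A.obj) (b : ξ.Fib B.obj)
    (hab : ξ.fibMap f.hom a = ξ.fibMap g.hom b) :
    ∃! q : ξ.Fib (pushoutFEt f g).obj,
      ξ.fibMap (pushoutInl f g).hom q = a ∧ ξ.fibMap (pushoutInr f g).hom q = b := by
  obtain ⟨α, rfl⟩ := (fibEquiv ξ A.obj A.property).surjective a
  obtain ⟨β, rfl⟩ := (fibEquiv ξ B.obj B.property).surjective b
  rw [fibMap_fibEquiv ξ C.property A.property, fibMap_fibEquiv ξ C.property B.property] at hab
  have hαβ := (fibEquiv ξ C.obj C.property).injective hab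
  obtain ⟨π, ⟨h1, h2⟩, huniq⟩ := pushout_hom_existsUnique f g ξ.base α β hαβ
  refine ⟨fibEquiv ξ _ (pushoutFEt f g).property π, ⟨?_, ?_⟩, ?_⟩
  · rw [fibMap_fibEquiv ξ A.property (pushoutFEt f g).property, h1]
  · rw [fibMap_fibEquiv ξ B.property (pushoutFEt f g).property, h2]
  · rintro q ⟨hq1, hq2⟩
    obtain ⟨π', rfl⟩ := (fibEquiv ξ _ (pushoutFEt f g).property).surjective q
    rw [fibMap_fibEquiv ξ A.property (pushoutFEt f g).property] at hq1
    rw [fibMap_fibEquiv ξ B.property (pushoutFEt f g).property] at hq2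
    rw [huniq π' ⟨(fibEquiv ξ A.obj A.property).injective hq1,
      (fibEquiv ξ B.obj B.property).injective hq2⟩]

theorem pushout_op_condition :
    (pushoutInl f g).op ≫ f.op = (pushoutInr f g).op ≫ g.op := by
  rw [← op_comp, ← op_comp, pushout_condition]

/-- a pullback cone in the opposite category gives a pushout cocone -/
noncomputable def coconeOfCone (s : PullbackCone f.op g.op) : PushoutCocone f g :=
  PushoutCocone.mk s.fst.unop s.snd.unop (by
    have := congrArg Quiver.Hom.unop s.condition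
    simpa using this)

/-- the opposite of the pushout square is a pullback square in the opposite category -/
noncomputable def pushoutOpIsLimit :
    IsLimit (PullbackCone.mk (pushoutInl f g).op (pushoutInr f g).op (pushout_op_condition f g)) :=
  PullbackCone.IsLimit.mk _
    (fun s => ((pushoutIsColimit f g).desc (coconeOfCone f g s)).op)
    (fun s => by
      apply Quiver.Hom.unop_inj
      exact (pushoutIsColimit f g).fac (coconeOfCone f g s) WalkingSpan.left)
    (fun s => by
      apply Quiver.Hom.unop_inj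
      exact (pushoutIsColimit f g).fac (coconeOfCone f g s) WalkingSpan.right)
    (fun s m h1 h2 => by
      apply Quiver.Hom.unop_inj
      apply PushoutCocone.IsColimit.hom_ext (pushoutIsColimit f g)
      · have e := (pushoutIsColimit f g).fac (coconeOfCone f g s) WalkingSpan.left
        exact (congrArg Quiver.Hom.unop h1).trans e.symm
      · have e := (pushoutIsColimit f g).fac (coconeOfCone f g s) WalkingSpan.right
        exact (congrArg Quiver.Hom.unop h2).trans e.symm)

theorem preservesPullback : PreservesLimit (cospan f.op g.op) ξ.fibFunctor := by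
  refine preservesLimit_of_preserves_limit_cone (pushoutOpIsLimit f g) ?_
  refine (isLimitMapConePullbackConeEquiv ξ.fibFunctor (pushout_op_condition f g)).symm ?_
  exact isLimitPullbackCone _ _ _ _ _ (fun a b hab => fib_pushout_existsUnique ξ f g a b hab)

end Pushout

/-- the fibre functor preserves pullbacks -/
theorem preservesPullbacks : PreservesLimitsOfShape WalkingCospan ξ.fibFunctor := by
  refine ⟨fun {K} => ?_⟩
  haveI : PreservesLimit (cospan (K.map WalkingCospan.Hom.inl) (K.map WalkingCospan.Hom.inr))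
      ξ.fibFunctor :=
    preservesPullback ξ (K.map WalkingCospan.Hom.inl).unop (K.map WalkingCospan.Hom.inr).unop
  exact preservesLimit_of_iso_diagram ξ.fibFunctor (diagramIsoCospan K).symm

end Fib

end Groth.Agent.Lib.Helper3.SchFinFib
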