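import Mathlib
import Groth.Prelude.Def_SchFin2
import Groth.Agent.Lib.Helper3.SchFinBC
import Groth.Agent.Lib.Helper3.SchFinEpi
import Groth.Agent.Lib.Helper3.SchFinFEt
import Groth.Agent.Lib.Helper3.SchFinQuot
import Groth.Agent.Lib.Helper3.FixedDescent

/-!
# Fixed points of a finite family of endomorphisms of an étale cover

* `isBCAlong_ker`: kernels commute with flat base change (in `IsBCAlong` form);
* `fixedAlg A ρ`: the algebra of common fixed points (pointwise), `fixedIncl`, `fixedLift`;
* `isQcoh_fixedAlg`, `isEtCover_fixedAlg`;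
* `hasLimitsOfShape_singleObj`: limits of shape `SingleObj G` in `FEt X` for a finite group `G`
  (given local triviality of étale covers).
-/

set_option autoImplicit false
set_option linter.style.haveILetI false
set_option linter.unusedSectionVars false

namespace Groth.Agent.Lib.Helper3.SchFinInv

open SchFin CategoryTheory CategoryTheory.Limits TensorProduct Groth.Agent.Lib.Helper3.SchFinBC
  Groth.Agent.Lib.Helper3.SchFinFEt Groth.Agent.Lib.Helper3.SchFinQuot
  Groth.Agent.Lib.Helper3.IdemEq Groth.Agent.Lib.Helper3.FixedDescent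

universe u

/-- Kernels commute with flat base change. -/
theorem isBCAlong_ker {R S : Type u} [CommRing R] [CommRing S] (g : R →+* S) (hflat : g.Flat)
    {M N M' N' K K' : Type u} [AddCommGroup M] [AddCommGroup N] [AddCommGroup M']
    [AddCommGroup N'] [AddCommGroup K] [AddCommGroup K']
    [Module R M] [Module R N] [Module S M'] [Module S N'] [Module R K] [Module S K']
    (rM : M →ₛₗ[g] M') (hM : IsBCAlong g rM) (rN : N →ₛₗ[g] N') (hN : IsBCAlong g rN)
    (f : M →ₗ[R] N) (f' : M' →ₗ[S] N') (hcomm : ∀ m, f' (rM m) = rN (f m))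
    (ι : K →ₗ[R] M) (hι : Function.Injective ι) (hex : ∀ m, f m = 0 → ∃ k, ι k = m)
    (ι' : K' →ₗ[S] M') (hι' : Function.Injective ι') (hex' : ∀ k', f' (ι' k') = 0)
    (rK : K →ₛₗ[g] K') (hK : ∀ k, ι' (rK k) = rM (ι k)) : IsBCAlong g rK := by
  have hspan := mem_span_of_mem_ker g hflat rM hM rN hN f f' hcomm
  unfold IsBCAlong at hM ⊢
  letI a1 : Algebra R S := g.toAlgebra
  letI a2 : Module R M' := Module.compHom M' g
  haveI a3 : IsScalarTower R S M' := IsScalarTower.of_algebraMap_smul fun _ _ => rfl
  letI b2 : Module R K' := Module.compHom K' g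
  haveI b3 : IsScalarTower R S K' := IsScalarTower.of_algebraMap_smul fun _ _ => rfl
  haveI : Module.Flat R S := hflat
  let rKl : K →ₗ[R] K' := { toFun := rK, map_add' := rK.map_add, map_smul' := rK.map_smulₛₗ }
  let Θ : S ⊗[R] K →ₗ[S] K' := rKl.liftBaseChange S
  have hnat : ∀ t : S ⊗[R] K,
      ι' (Θ t) = hM.equiv (TensorProduct.AlgebraTensorModule.lTensor S S ι t) := by
    intro t
    induction t using TensorProduct.induction_on with
    | zero => simp
    | add s t hs ht => rw [map_add, map_add, map_add, map_add, hs, ht]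
    | tmul s k =>
        simp only [Θ, LinearMap.liftBaseChange_tmul, TensorProduct.AlgebraTensorModule.lTensor_tmul,
          IsBaseChange.equiv_tmul, map_smul, LinearMap.id_coe, id_eq]
        congr 1
        exact hK k
  have hbij : Function.Bijective Θ := by
    constructor
    · rw [injective_iff_map_eq_zero]
      intro t ht
      have h1 : hM.equiv (TensorProduct.AlgebraTensorModule.lTensor S S ι t) = 0 := by
        rw [← hnat, ht, map_zero]
      have h2 : TensorProduct.AlgebraTensorModule.lTensor S S ι t = 0 := by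
        apply hM.equiv.injective
        rw [h1, map_zero]
      have hinj : Function.Injective (TensorProduct.AlgebraTensorModule.lTensor S S ι) :=
        Module.Flat.lTensor_preserves_injective_linearMap ι hι
      exact hinj (by rw [h2, map_zero])
    · intro k'
      have hmem := hspan (ι' k') (hex' k')
      have key : ∀ y ∈ Submodule.span S (rM '' (LinearMap.ker f : Set M)),
          ∃ t : S ⊗[R] K, ι' (Θ t) = y := by
        intro y hy
        induction hy using Submodule.span_induction with
        | mem x hx =>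
            obtain ⟨m, hm, rfl⟩ := hx
            obtain ⟨k, rfl⟩ := hex m (LinearMap.mem_ker.1 hm)
            refine ⟨1 ⊗ₜ k, ?_⟩
            simp only [Θ, LinearMap.liftBaseChange_tmul, one_smul]
            exact hK k
        | zero => exact ⟨0, by simp⟩
        | add x y _ _ hx hy =>
            obtain ⟨tx, hx⟩ := hx
            obtain ⟨ty, hy⟩ := hy
            exact ⟨tx + ty, by rw [map_add, map_add, hx, hy]⟩
        | smul s x _ hx =>
            obtain ⟨tx, hx⟩ := hx
            exact ⟨s • tx, by rw [map_smul, map_smul, hx]⟩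
      obtain ⟨t, ht⟩ := key _ hmem
      exact ⟨t, hι' ht⟩
  refine IsBaseChange.of_equiv (LinearEquiv.ofBijective Θ hbij) fun m => ?_
  simp [Θ, rKl]

section PiU

variable {R S : Type u} [CommRing R] [CommRing S] (g : R →+* S) {J : Type u}
  (M N : J → Type u) [∀ j, AddCommGroup (M j)] [∀ j, AddCommGroup (N j)] [∀ j, Module R (M j)]
  [∀ j, Module S (N j)]

/-- product of semilinear maps (index type in the same universe) -/
def piSemilinearU (f : ∀ j, M j →ₛₗ[g] N j) : (∀ j, M j) →ₛₗ[g] (∀ j, N j) where
  toFun m j := f j (m j)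
  map_add' m m' := funext fun j => (f j).map_add (m j) (m' j)
  map_smul' r m := funext fun j => (f j).map_smulₛₗ r (m j)

theorem isBCAlong_piU [Finite J] (f : ∀ j, M j →ₛₗ[g] N j) (h : ∀ j, IsBCAlong g (f j)) :
    IsBCAlong g (piSemilinearU g M N f) := by
  classical
  cases nonempty_fintype J
  unfold IsBCAlong at h ⊢
  letI a1 : Algebra R S := g.toAlgebra
  letI a2 : ∀ j, Module R (N j) := fun j => Module.compHom (N j) g
  haveI a3 : ∀ j, IsScalarTower R S (N j) := fun j => IsScalarTower.of_algebraMap_smul fun _ _ => rfl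
  have hj : ∀ j, IsBaseChange S
      ({ toFun := f j
         map_add' := (f j).map_add
         map_smul' := (f j).map_smulₛₗ } : M j →ₗ[R] N j) := h
  let e : S ⊗[R] (∀ j, M j) ≃ₗ[S] ∀ j, N j :=
    (TensorProduct.piRight R S S M).trans (LinearEquiv.piCongrRight fun j => (hj j).equiv)
  refine IsBaseChange.of_equiv e fun m => ?_
  funext j
  simp only [e, LinearEquiv.trans_apply, TensorProduct.piRight_apply,
    TensorProduct.piRightHom_tmul, LinearEquiv.piCongrRight_apply, IsBaseChange.equiv_tmul,
    one_smul]
  rfl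

end PiU

variable {X : RSpace.{u}}

section FixedAlg

variable (A : Alg X) {G : Type u} (ρ : G → (A ⟶ A))

/-- the algebra of common fixed points of a family of endomorphisms (pointwise) -/
def fixedAlg : Alg X where
  carrier p := fixedSub (fun g => (ρ g).app p)
  res {p q} h := RingHom.codRestrict
    ((A.res h).comp (fixedSub (fun g => (ρ g).app p)).val.toRingHom)
    (fixedSub (fun g => (ρ g).app q))
    (fun x g => by
      change (ρ g).app q (A.res h x.1) = A.res h x.1
      rw [← (ρ g).compat h, x.2 g])
  res_algebraMap h a := Subtype.ext (A.res_algebraMap h a)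
  res_self p b := Subtype.ext (A.res_self p b.1)
  res_comp h h' b := Subtype.ext (A.res_comp h h' b.1)

/-- the inclusion of the fixed points -/
def fixedIncl : fixedAlg A ρ ⟶ A where
  app p := (fixedSub (fun g => (ρ g).app p)).val
  compat _ _ := rfl

theorem fixedIncl_injective (p : X.pt) : Function.Injective ((fixedIncl A ρ).app p) :=
  Subtype.val_injective

theorem fixedIncl_comp (g : G) : fixedIncl A ρ ≫ ρ g = fixedIncl A ρ := by
  apply Alg.hom_ext
  intro p
  apply AlgHom.ext
  intro x
  exact x.2 g

variable {A ρ}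

/-- morphisms into the fixed points -/
def fixedLift {C : Alg X} (f : C ⟶ A) (hf : ∀ g, f ≫ ρ g = f) : C ⟶ fixedAlg A ρ where
  app p := (f.app p).codRestrict (fixedSub (fun g => (ρ g).app p))
    (fun c g => congrArg (fun k => k.app p c) (hf g))
  compat h b := Subtype.ext (f.compat h b)

theorem fixedLift_incl {C : Alg X} (f : C ⟶ A) (hf : ∀ g, f ≫ ρ g = f) :
    fixedLift f hf ≫ fixedIncl A ρ = f := by
  apply Alg.hom_ext
  intro p
  apply AlgHom.ext
  intro x
  rfl

variable (A ρ)

theorem isQcoh_fixedAlg [Finite G] (hflat : ∀ {p q : X.pt} (h : p ≤ q), (X.res h).Flat)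
    (hA : A.IsQcoh) : (fixedAlg A ρ).IsQcoh := by
  intro p q h
  let f : A.carrier p →ₗ[X.ring p] (G → A.carrier p) :=
    LinearMap.pi fun g => ((ρ g).app p).toLinearMap - LinearMap.id
  let f' : A.carrier q →ₗ[X.ring q] (G → A.carrier q) :=
    LinearMap.pi fun g => ((ρ g).app q).toLinearMap - LinearMap.id
  refine isBCAlong_ker (X.res h) (hflat h) (A.toMod.res h) (hA p q h)
    (piSemilinearU (X.res h) (fun _ : G => A.carrier p) (fun _ : G => A.carrier q)
      fun _ => A.toMod.res h)
    (isBCAlong_piU (X.res h) _ _ _ fun _ => hA p q h) f f' ?_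
    (fixedSub (fun g => (ρ g).app p)).val.toLinearMap Subtype.val_injective ?_
    (fixedSub (fun g => (ρ g).app q)).val.toLinearMap Subtype.val_injective ?_
    ((fixedAlg A ρ).toMod.res h) (fun k => rfl)
  · have key : ∀ (m : A.carrier p) (g : G),
        (ρ g).app q (A.res h m) - A.res h m = A.res h ((ρ g).app p m - m) := by
      intro m g
      rw [map_sub, (ρ g).compat h]
    intro m
    funext g
    exact key m g
  · have key : ∀ m : A.carrier p, f m = 0 → ∀ g, (ρ g).app p m = m := by
      intro m hm g
      have := congrFun hm g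
      change (ρ g).app p m - m = 0 at this
      exact sub_eq_zero.1 this
    intro m hm
    exact ⟨⟨m, key m hm⟩, rfl⟩
  · intro k'
    funext g
    change (ρ g).app q k'.1 - k'.1 = 0
    rw [k'.2 g, sub_self]

theorem isEtCover_fixedAlg [Finite G] (hflat : ∀ {p q : X.pt} (h : p ≤ q), (X.res h).Flat)
    (hA : A.IsQcoh)
    (hsplit : ∀ p : X.pt, ∃ (T : Type u) (_ : CommRing T) (_ : Algebra (X.ring p) T)
      (_ : Module.FaithfullyFlat (X.ring p) T) (n : ℕ),
      Nonempty (T ⊗[X.ring p] A.carrier p ≃ₐ[T] (Fin n → T))) :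
    (fixedAlg A ρ).IsEtCover := by
  refine ⟨isQcoh_fixedAlg A ρ hflat hA, fun p => ?_⟩
  obtain ⟨T, _, _, _, n, ⟨e⟩⟩ := hsplit p
  exact finite_etale_fixedSub_of_split (fun g => (ρ g).app p) T e

end FixedAlg

section Limits

variable {G : Type u} [Group G] [Finite G] (K : SingleObj G ⥤ FEt X)

/-- the family of endomorphisms given by a diagram of shape `SingleObj G` -/
def actHom (g : G) : (K.obj (SingleObj.star G)).obj ⟶ (K.obj (SingleObj.star G)).obj :=
  (K.map (X := SingleObj.star G) (Y := SingleObj.star G) g).hom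

variable (hflat : ∀ {p q : X.pt} (h : p ≤ q), (X.res h).Flat)
  (hsplit : ∀ (A : FEt X) (p : X.pt), ∃ (T : Type u) (_ : CommRing T) (_ : Algebra (X.ring p) T)
      (_ : Module.FaithfullyFlat (X.ring p) T) (n : ℕ),
      Nonempty (T ⊗[X.ring p] A.obj.carrier p ≃ₐ[T] (Fin n → T)))

/-- the étale cover of fixed points -/
def fixedFEt : FEt X :=
  ⟨fixedAlg (K.obj (SingleObj.star G)).obj (actHom K),
    isEtCover_fixedAlg _ _ hflat (K.obj (SingleObj.star G)).property.1
      (hsplit (K.obj (SingleObj.star G)))⟩

/-- the cone of fixed points -/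
def fixedCone : Cone K where
  pt := fixedFEt K hflat hsplit
  π :=
    { app := fun _ => ObjectProperty.homMk (fixedIncl _ (actHom K))
      naturality := fun _ _ g => by
        apply ObjectProperty.hom_ext
        change fixedIncl _ (actHom K) = fixedIncl _ (actHom K) ≫ actHom K g
        rw [fixedIncl_comp] }

omit [Finite G] in
theorem cone_nat (s : Cone K) (g : G) :
    (s.π.app (SingleObj.star G)).hom ≫ actHom K g = (s.π.app (SingleObj.star G)).hom := by
  have := s.π.naturality (X := SingleObj.star G) (Y := SingleObj.star G) g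
  have h2 := congrArg (fun k => k.hom) this
  exact h2.symm

/-- the cone of fixed points is a limit cone -/
def fixedConeIsLimit : IsLimit (fixedCone K hflat hsplit) where
  lift s := ObjectProperty.homMk (fixedLift (s.π.app (SingleObj.star G)).hom (cone_nat K s))
  fac s j := by
    apply ObjectProperty.hom_ext
    exact fixedLift_incl (s.π.app (SingleObj.star G)).hom (cone_nat K s)
  uniq s m hm := by
    apply ObjectProperty.hom_ext
    apply Alg.hom_ext
    intro p
    apply AlgHom.ext
    intro x
    apply fixedIncl_injective _ (actHom K) p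
    have := congrArg (fun k => k.hom.app p x) (hm (SingleObj.star G))
    exact this

theorem hasLimitsOfShape_singleObj (G : Type u) [Group G] [Finite G]
    (hflat : ∀ {p q : X.pt} (h : p ≤ q), (X.res h).Flat)
    (hsplit : ∀ (A : FEt X) (p : X.pt), ∃ (T : Type u) (_ : CommRing T)
      (_ : Algebra (X.ring p) T) (_ : Module.FaithfullyFlat (X.ring p) T) (n : ℕ),
      Nonempty (T ⊗[X.ring p] A.obj.carrier p ≃ₐ[T] (Fin n → T))) :
    HasLimitsOfShape (SingleObj G) (FEt X) :=
  ⟨fun K => ⟨⟨⟨fixedCone K hflat hsplit, fixedConeIsLimit K hflat hsplit⟩⟩⟩⟩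

end Limits

end Groth.Agent.Lib.Helper3.SchFinInv
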