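import Mathlib
import Groth.Prelude.Def_SchFin2
import Groth.Agent.Lib.Helper3.SchFinFEt

/-!
# Rank arguments for étale covers of a finite ringed poset

* `surjective_of_injective_of_rank_eq`: an injective map of finite étale algebras of the same rank
  function is surjective;
* `isIso_of_bijective`: a morphism of étale covers which is bijective at every point is an isomorphism;
* `isIso_of_injective_of_rank_eq`.
-/

set_option autoImplicit false
set_option linter.style.haveILetI false
set_option linter.unusedSectionVars false

namespace Groth.Agent.Lib.Helper3.SchFinRank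

open SchFin CategoryTheory TensorProduct Groth.Agent.Lib.Helper3.SchFinFEt

universe u

theorem surjective_of_injective_of_rank_eq {R A B : Type u} [CommRing R] [CommRing A]
    [CommRing B] [Algebra R A] [Algebra R B] [Module.Finite R A] [Algebra.Etale R A]
    [Module.Finite R B] [Algebra.Etale R B] (u : A →ₐ[R] B) (hu : Function.Injective u)
    (hrank : ∀ P : PrimeSpectrum R,
      Module.rankAtStalk (R := R) A P = Module.rankAtStalk (R := R) B P) :
    Function.Surjective u := by
  letI a1 : Algebra A B := u.toRingHom.toAlgebra
  haveI a2 : IsScalarTower R A B := IsScalarTower.of_algebraMap_eq fun r => (u.commutes r).symm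
  haveI a3 : Algebra.Etale A B := Algebra.Etale.of_restrictScalars R A B
  haveI a4 : Module.Finite A B := Module.Finite.of_restrictScalars_finite R A B
  haveI a5 : Module.Flat A B := inferInstance
  have hsurj : Function.Surjective (PrimeSpectrum.comap (algebraMap A B)) :=
    (PrimeSpectrum.comap_surjective_iff_injective_of_finite (R := A) (S := B)).2 hu
  haveI a6 : Module.FaithfullyFlat A B := Module.FaithfullyFlat.of_comap_surjective hsurj
  -- injectivity after tensoring with any `R`-module
  have hinj : ∀ (K : Type u) [AddCommGroup K] [Module R K],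
      Function.Injective (LinearMap.rTensor K u.toLinearMap) := by
    intro K _ _
    have h1 : Function.Injective (TensorProduct.mk A B (A ⊗[R] K) 1) :=
      Module.FaithfullyFlat.tensorProduct_mk_injective (A := A) (B := B) (A ⊗[R] K)
    have h2 : ∀ x : A ⊗[R] K, LinearMap.rTensor K u.toLinearMap x =
        TensorProduct.AlgebraTensorModule.cancelBaseChange R A B B K
          (TensorProduct.mk A B (A ⊗[R] K) 1 x) := by
      intro x
      induction x using TensorProduct.induction_on with
      | zero => simp
      | add x y hx hy => rw [map_add, map_add, map_add, hx, hy]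
      | tmul a k =>
          rw [LinearMap.rTensor_tmul, TensorProduct.mk_apply,
            TensorProduct.AlgebraTensorModule.cancelBaseChange_tmul]
          congr 1
          rw [Algebra.smul_def, mul_one]
          rfl
    intro x y hxy
    rw [h2, h2] at hxy
    exact h1 ((TensorProduct.AlgebraTensorModule.cancelBaseChange R A B B K).injective hxy)
  -- the cokernel
  let N : Submodule R B := LinearMap.range u.toLinearMap
  suffices hN : N = ⊤ by
    intro b
    have : b ∈ N := hN ▸ Submodule.mem_top
    obtain ⟨a, ha⟩ := this
    exact ⟨a, ha⟩
  rw [← Submodule.Quotient.subsingleton_iff, ← Module.support_eq_empty_iff (R := R),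
    Set.eq_empty_iff_forall_notMem]
  intro P
  rw [Module.mem_support_iff_nontrivial_residueField_tensorProduct, not_nontrivial_iff_subsingleton]
  let K := P.asIdeal.ResidueField
  -- `K ⊗ u` is surjective by dimension count
  let uK : K ⊗[R] A →ₗ[K] K ⊗[R] B := TensorProduct.AlgebraTensorModule.lTensor K K u.toLinearMap
  have huK : Function.Injective uK := by
    have : Function.Injective (LinearMap.lTensor K u.toLinearMap) :=
      (LinearMap.lTensor_inj_iff_rTensor_inj _ _).2 (hinj K)
    exact this
  have hfin : Module.finrank K (K ⊗[R] A) = Module.finrank K (K ⊗[R] B) := by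
    have h1 := Module.rankAtStalk_eq (M := A) P
    have h2 := Module.rankAtStalk_eq (M := B) P
    rw [← h1, ← h2]
    exact hrank P
  have hsK : Function.Surjective uK :=
    (LinearMap.injective_iff_surjective_of_finrank_eq_finrank hfin).1 huK
  refine ⟨fun z w => ?_⟩
  have key : ∀ z : K ⊗[R] (B ⧸ N), z = 0 := by
    intro z
    obtain ⟨y, rfl⟩ := LinearMap.lTensor_surjective K (Submodule.mkQ_surjective N) z
    obtain ⟨x, rfl⟩ := hsK y
    change LinearMap.lTensor K N.mkQ (LinearMap.lTensor K u.toLinearMap x) = 0
    rw [← LinearMap.comp_apply, ← LinearMap.lTensor_comp]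
    have : N.mkQ ∘ₗ u.toLinearMap = 0 := by
      apply LinearMap.ext
      intro a
      exact (Submodule.Quotient.mk_eq_zero N).2 ⟨a, rfl⟩
    rw [this, LinearMap.lTensor_zero, LinearMap.zero_apply]
  rw [key z, key w]

variable {X : RSpace.{u}}

/-- A morphism of étale covers which is bijective at every point is an isomorphism. -/
theorem isIso_of_bijective {A B : FEt X} (f : A ⟶ B)
    (h : ∀ p, Function.Bijective (f.hom.app p)) : IsIso f := by
  let e : ∀ p, A.obj.carrier p ≃ₐ[X.ring p] B.obj.carrier p := fun p =>
    AlgEquiv.ofBijective (f.hom.app p) (h p)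
  have he : ∀ p b, f.hom.app p ((e p).symm b) = b := fun p b => (e p).apply_symm_apply b
  let g : B ⟶ A := ObjectProperty.homMk
    { app := fun p => (e p).symm.toAlgHom
      compat := fun {p q} hpq b => by
        apply (h q).1
        change f.hom.app q (A.obj.res hpq ((e p).symm b)) = f.hom.app q ((e q).symm (B.obj.res hpq b))
        rw [← f.hom.compat, he, he] }
  refine ⟨g, ?_, ?_⟩
  · apply fet_hom_ext
    intro p x
    exact (e p).symm_apply_apply x
  · apply fet_hom_ext
    intro p x
    exact (e p).apply_symm_apply x

/-- An injective morphism of étale covers with the same rank functions is an isomorphism. -/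
theorem isIso_of_injective_of_rank_eq {A B : FEt X} (f : A ⟶ B)
    (hf : ∀ p : X.pt, Function.Injective (f.hom.app p))
    (hdeg : ∀ (p : X.pt) (P : PrimeSpectrum (X.ring p)),
      Module.rankAtStalk (A.obj.carrier p) P = Module.rankAtStalk (B.obj.carrier p) P) :
    IsIso f := by
  refine isIso_of_bijective f fun p => ⟨hf p, ?_⟩
  haveI := (A.property.2 p).1
  haveI := (A.property.2 p).2
  haveI := (B.property.2 p).1
  haveI := (B.property.2 p).2
  exact surjective_of_injective_of_rank_eq (f.hom.app p) (hf p) (hdeg p)

end Groth.Agent.Lib.Helper3.SchFinRank
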