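import Mathlib

/-!
# Connectedness of the prime spectrum in terms of idempotents
-/

set_option autoImplicit false

namespace Groth.Agent.Lib.Helper3.SpecConnected

open PrimeSpectrum TopologicalSpace

theorem connectedSpace_iff {R : Type*} [CommRing R] :
    ConnectedSpace (PrimeSpectrum R) ↔
      Nontrivial R ∧ ∀ e : R, IsIdempotentElem e → e = 0 ∨ e = 1 := by
  constructor
  · intro h
    refine ⟨PrimeSpectrum.nonempty_iff_nontrivial.1 h.toNonempty, ?_⟩
    intro e he
    have hpre := preconnectedSpace_iff_clopen.1 h.toPreconnectedSpace
    set s : Clopens (PrimeSpectrum R) := isIdempotentElemEquivClopens ⟨e, he⟩ with hs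
    rcases hpre (s : Set (PrimeSpectrum R)) s.isClopen with h0 | h1
    · left
      have : s = ⊥ := by
        apply SetLike.coe_injective
        rw [h0]
        rfl
      have h2 : isIdempotentElemEquivClopens.symm s = ⟨(0 : R), .zero⟩ := by
        rw [this]
        exact isIdempotentElemEquivClopens_symm_bot
      rw [hs, OrderIso.symm_apply_apply] at h2
      exact congrArg Subtype.val h2
    · right
      have : s = ⊤ := by
        apply SetLike.coe_injective
        rw [h1]
        rfl
      have h2 : isIdempotentElemEquivClopens.symm s = ⟨(1 : R), .one⟩ := by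
        rw [this]
        exact isIdempotentElemEquivClopens_symm_top
      rw [hs, OrderIso.symm_apply_apply] at h2
      exact congrArg Subtype.val h2
  · rintro ⟨hnt, hid⟩
    haveI : Nonempty (PrimeSpectrum R) := PrimeSpectrum.nonempty_iff_nontrivial.2 hnt
    haveI : PreconnectedSpace (PrimeSpectrum R) := by
      rw [preconnectedSpace_iff_clopen]
      intro s hs
      set e := isIdempotentElemEquivClopens.symm (⟨s, hs⟩ : Clopens (PrimeSpectrum R)) with he
      have hs' : (⟨s, hs⟩ : Clopens (PrimeSpectrum R)) = isIdempotentElemEquivClopens e := by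
        rw [he, OrderIso.apply_symm_apply]
      rcases hid e.1 e.2 with h0 | h1
      · left
        have : e = ⟨(0 : R), .zero⟩ := Subtype.ext h0
        rw [this, ← isIdempotentElemEquivClopens_symm_bot, OrderIso.apply_symm_apply] at hs'
        exact congrArg (fun t : Clopens (PrimeSpectrum R) => (t : Set (PrimeSpectrum R))) hs'
      · right
        have : e = ⟨(1 : R), .one⟩ := Subtype.ext h1
        rw [this, ← isIdempotentElemEquivClopens_symm_top, OrderIso.apply_symm_apply] at hs'
        exact congrArg (fun t : Clopens (PrimeSpectrum R) => (t : Set (PrimeSpectrum R))) hs'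
    exact ⟨inferInstance⟩

end Groth.Agent.Lib.Helper3.SpecConnected
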