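import Mathlib
import Groth.Prelude.Def_SchFin2
import Groth.Agent.Lib.Helper3.SchFinFEt
import Groth.Agent.Lib.Helper3.SchFinFactor
import Groth.Agent.Lib.Helper3.SchFinFib
import Groth.Agent.Lib.Helper3.SchFinRank
import Groth.Agent.S15610

/-!
# The fibre functor at a geometric point of a well-connected space reflects isomorphisms

* `rank_const`: the rank of an étale cover over a well-connected space is constant;
* `card_spec_eq_finrank`, `card_fib_eq_rank`: the cardinality of the geometric fibre is the rank;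
* `reflectsIsomorphisms`.
-/

set_option autoImplicit false
set_option linter.style.haveILetI false
set_option linter.unusedSectionVars false

namespace Groth.Agent.Lib.Helper3.SchFinReflect

open SchFin CategoryTheory CategoryTheory.Limits TensorProduct
  Groth.Agent.Lib.Helper3.SchFinFEt Groth.Agent.Lib.Helper3.SchFinFactor
  Groth.Agent.Lib.Helper3.SchFinFib Groth.Agent.Lib.Helper3.SchFinRank

universe u

variable {X : RSpace.{u}}

/-- rank and base change along a restriction map, in `IsBCAlong` form -/
theorem rankAtStalk_of_isBCAlong {R S : Type u} [CommRing R] [CommRing S] (g : R →+* S)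
    {M N : Type u} [AddCommGroup M] [AddCommGroup N] [Module R M] [Module S N]
    [Module.Finite R M] [Module.Flat R M]
    (f : M →ₛₗ[g] N) (h : IsBCAlong g f) (P : PrimeSpectrum S) :
    Module.rankAtStalk N P = Module.rankAtStalk M (PrimeSpectrum.comap g P) := by
  unfold IsBCAlong at h
  letI a1 : Algebra R S := g.toAlgebra
  letI a2 : Module R N := Module.compHom N g
  haveI a3 : IsScalarTower R S N := IsScalarTower.of_algebraMap_smul fun _ _ => rfl
  exact Module.rankAtStalk_isBaseChange h P

theorem rank_const (hwc : X.IsWellConnected) (A : FEt X) :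
    ∃ n : ℕ, ∀ (p : X.pt) (P : PrimeSpectrum (X.ring p)),
      Module.rankAtStalk (A.obj.carrier p) P = n := by
  have htop : X.IsTopConnected := (Groth.Agent.S15610.aux X hwc.2).1 hwc.1
  obtain ⟨⟨p₀⟩, hconn⟩ := htop
  haveI hc : ∀ p, ConnectedSpace (PrimeSpectrum (X.ring p)) := hwc.2
  haveI i1 : ∀ p, Module.Finite (X.ring p) (A.obj.carrier p) := fun p => (A.property.2 p).1
  haveI i2 : ∀ p, Algebra.Etale (X.ring p) (A.obj.carrier p) := fun p => (A.property.2 p).2
  haveI i3 : ∀ p, Module.FinitePresentation (X.ring p) (A.obj.carrier p) := fun p =>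
    Module.FinitePresentation.of_finite_of_finitePresentation (X.ring p) (A.obj.carrier p)
  have hloc : ∀ p (P P' : PrimeSpectrum (X.ring p)),
      Module.rankAtStalk (A.obj.carrier p) P = Module.rankAtStalk (A.obj.carrier p) P' :=
    fun p P P' => (Module.isLocallyConstant_rankAtStalk
      (R := X.ring p) (M := A.obj.carrier p)).apply_eq_of_preconnectedSpace P P'
  have hbc : ∀ {p q : X.pt} (h : p ≤ q) (P' : PrimeSpectrum (X.ring q)),
      Module.rankAtStalk (A.obj.carrier q) P' =
        Module.rankAtStalk (A.obj.carrier p) (PrimeSpectrum.comap (X.res h) P') :=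
    fun {p q} h P' => by
      haveI j1 : Module.Finite (X.ring p) (A.obj.toMod.carrier p) := i1 p
      haveI j2 : Module.Flat (X.ring p) (A.obj.toMod.carrier p) :=
        (inferInstance : Module.Flat (X.ring p) (A.obj.carrier p))
      exact rankAtStalk_of_isBCAlong (X.res h) (A.obj.toMod.res h) (A.property.1 p q h) P'
  let P0 : ∀ p, PrimeSpectrum (X.ring p) := fun p => Classical.arbitrary _
  let n : X.pt → ℕ := fun p => Module.rankAtStalk (A.obj.carrier p) (P0 p)
  have hn : ∀ p q, p ≤ q → n p = n q := fun p q h => by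
    change _ = Module.rankAtStalk (A.obj.carrier q) (P0 q)
    rw [hbc h (P0 q)]
    exact hloc p _ _
  have hn' : ∀ p q, Relation.EqvGen (fun a b : X.pt => a ≤ b) p q → n p = n q := by
    intro p q hpq
    induction hpq with
    | rel a b h => exact hn a b h
    | refl a => rfl
    | symm a b _ ih => exact ih.symm
    | trans a b c _ _ ih1 ih2 => exact ih1.trans ih2
  refine ⟨n p₀, fun p P => ?_⟩
  rw [hloc p P (P0 p)]
  exact (hn' p₀ p (hconn p₀ p)).symm

/-- the number of points of a finite étale algebra over an algebraically closed field is its dimension -/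
theorem card_spec_eq_finrank (Ω E : Type u) [Field Ω] [IsAlgClosed Ω] [CommRing E] [Algebra Ω E]
    [Algebra.Etale Ω E] : Nat.card (PrimeSpectrum E) = Module.finrank Ω E := by
  obtain ⟨n, ⟨e⟩⟩ := Algebra.IsFiniteSplit.nonempty_algEquiv_fun Ω E
  have h1 : Nat.card (PrimeSpectrum E) = Nat.card (PrimeSpectrum (Fin n → Ω)) :=
    Nat.card_congr (PrimeSpectrum.comapEquiv e.toRingEquiv).toEquiv
  have h2 : Nat.card (Σ _ : Fin n, PrimeSpectrum Ω) = Nat.card (PrimeSpectrum (Fin n → Ω)) :=
    Nat.card_congr (Equiv.ofBijective _ (PrimeSpectrum.sigmaToPi_bijective (fun _ : Fin n => Ω)))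
  have h3 : Nat.card (Σ _ : Fin n, PrimeSpectrum Ω) = n := by
    rw [Nat.card_sigma]
    simp
  have h4 : Module.finrank Ω E = n := by
    rw [e.toLinearEquiv.finrank_eq]
    simp
  rw [h1, ← h2, h3, h4]

section Fib

variable {Ω : Type u} [Field Ω] [IsAlgClosed Ω] (ξ : GeomPt X Ω)

attribute [local instance] algΩ

/-- the prime of the ring of the base point under a geometric point -/
noncomputable def geomPrime : PrimeSpectrum (X.ring ξ.base) :=
  PrimeSpectrum.comap (algebraMap (X.ring ξ.base) Ω) ⟨⊥, Ideal.isPrime_bot⟩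

theorem card_fib_eq_rank (A : FEt X) :
    Nat.card (ξ.Fib A.obj) = Module.rankAtStalk (A.obj.carrier ξ.base) (geomPrime ξ) := by
  haveI := (A.property.2 ξ.base).1
  haveI := (A.property.2 ξ.base).2
  have h1 := Module.rankAtStalk_baseChange (R := X.ring ξ.base) (M := A.obj.carrier ξ.base)
    (S := Ω) ⟨⊥, Ideal.isPrime_bot⟩
  have h2 : Module.rankAtStalk (R := Ω) (Ω ⊗[X.ring ξ.base] A.obj.carrier ξ.base)
      ⟨⊥, Ideal.isPrime_bot⟩ = Module.finrank Ω (Ω ⊗[X.ring ξ.base] A.obj.carrier ξ.base) := by
    rw [Module.rankAtStalk_eq_finrank_of_free]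
    rfl
  change _ = Module.rankAtStalk (A.obj.carrier ξ.base)
    (PrimeSpectrum.comap (algebraMap (X.ring ξ.base) Ω) ⟨⊥, Ideal.isPrime_bot⟩)
  rw [← h1, h2]
  exact card_spec_eq_finrank Ω (Ω ⊗[X.ring ξ.base] A.obj.carrier ξ.base)

theorem fibMap_injective_of_surjective {A M : FEt X} (g : A ⟶ M)
    (hg : Function.Surjective (g.hom.app ξ.base)) : Function.Injective (ξ.fibMap g.hom) := by
  intro y₁ y₂ h
  obtain ⟨φ₁, rfl⟩ := (fibEquiv ξ M.obj M.property).surjective y₁
  obtain ⟨φ₂, rfl⟩ := (fibEquiv ξ M.obj M.property).surjective y₂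
  rw [fibMap_fibEquiv ξ A.property M.property, fibMap_fibEquiv ξ A.property M.property] at h
  have h' := (fibEquiv ξ A.obj A.property).injective h
  congr 1
  apply AlgHom.ext
  intro m
  obtain ⟨a, rfl⟩ := hg m
  exact congrArg (fun k => k a) h'

theorem fibMap_surjective_of_injective {M B : FEt X} (h : M ⟶ B)
    (hh : Function.Injective (h.hom.app ξ.base)) : Function.Surjective (ξ.fibMap h.hom) := by
  intro y
  obtain ⟨α, rfl⟩ := (fibEquiv ξ M.obj M.property).surjective y
  haveI : Module.Finite (X.ring ξ.base) (B.obj.carrier ξ.base) := (B.property.2 ξ.base).1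
  obtain ⟨β, hβ⟩ := exists_algHom_extension (h.hom.app ξ.base) hh α
  refine ⟨fibEquiv ξ B.obj B.property β, ?_⟩
  rw [fibMap_fibEquiv ξ M.property B.property, hβ]

theorem isEmpty_fib_of_decomp {A M D : FEt X} (g : A ⟶ M) (π : A ⟶ D)
    (hbij : Function.Bijective
      (fun a : A.obj.carrier ξ.base => (g.hom.app ξ.base a, π.hom.app ξ.base a)))
    (hsurj : Function.Surjective (ξ.fibMap g.hom)) : IsEmpty (ξ.Fib D.obj) := by
  refine ⟨fun y => ?_⟩
  obtain ⟨ψ, rfl⟩ := (fibEquiv ξ D.obj D.property).surjective y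
  obtain ⟨z, hz⟩ := hsurj (ξ.fibMap π.hom (fibEquiv ξ D.obj D.property ψ))
  obtain ⟨φ, rfl⟩ := (fibEquiv ξ M.obj M.property).surjective z
  rw [fibMap_fibEquiv ξ A.property M.property, fibMap_fibEquiv ξ A.property D.property] at hz
  have h' := (fibEquiv ξ A.obj A.property).injective hz
  obtain ⟨a, ha⟩ := hbij.2 (0, 1)
  have ha1 : g.hom.app ξ.base a = 0 := congrArg Prod.fst ha
  have ha2 : π.hom.app ξ.base a = 1 := congrArg Prod.snd ha
  have := congrArg (fun k => k a) h'
  change φ (g.hom.app ξ.base a) = ψ (π.hom.app ξ.base a) at this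
  rw [ha1, ha2, map_zero, map_one] at this
  exact zero_ne_one this

variable (hX : X.IsSchematic) (hwc : X.IsWellConnected)
include hX hwc

theorem isIso_of_fibMap_bijective {A B : FEt X} (u : A ⟶ B)
    (hbij : Function.Bijective (ξ.fibMap u.hom)) : IsIso u := by
  obtain ⟨M, g, h, hgh, hg, hh⟩ := exists_factor hX u
  have hcomp : ξ.fibMap u.hom = ξ.fibMap g.hom ∘ ξ.fibMap h.hom := by
    rw [← hgh]
    exact ξ.fibMap_comp g.hom h.hom
  have hg_inj := fibMap_injective_of_surjective ξ g (hg ξ.base)
  have hh_surj := fibMap_surjective_of_injective ξ h (hh ξ.base)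
  have hg_surj : Function.Surjective (ξ.fibMap g.hom) := by
    rw [hcomp] at hbij
    exact Function.Surjective.of_comp hbij.2
  have hh_inj : Function.Injective (ξ.fibMap h.hom) := by
    rw [hcomp] at hbij
    exact Function.Injective.of_comp hbij.1
  -- `g` is an isomorphism
  haveI hgiso : IsIso g := by
    obtain ⟨D, π, hD⟩ := exists_prod_decomp hX g hg
    haveI hemp := isEmpty_fib_of_decomp ξ g π (hD ξ.base) hg_surj
    have hcard : Nat.card (ξ.Fib D.obj) = 0 := Nat.card_of_isEmpty
    rw [card_fib_eq_rank] at hcard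
    obtain ⟨n, hn⟩ := rank_const hwc D
    have hn0 : n = 0 := by rw [← hn ξ.base (geomPrime ξ), hcard]
    have hsub : ∀ p, Subsingleton (D.obj.carrier p) := by
      intro p
      haveI := (D.property.2 p).1
      haveI := (D.property.2 p).2
      rw [← Module.rankAtStalk_eq_zero_iff_subsingleton (R := X.ring p)]
      funext P
      rw [hn p P, hn0]
      rfl
    refine isIso_of_bijective g fun p => ⟨?_, hg p⟩
    intro a a' haa'
    apply (hD p).1
    haveI := hsub p
    exact Prod.ext haa' (Subsingleton.elim _ _)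
  -- `h` is an isomorphism
  haveI hhiso : IsIso h := by
    obtain ⟨n, hn⟩ := rank_const hwc M
    obtain ⟨m, hm⟩ := rank_const hwc B
    have hcard : Nat.card (ξ.Fib B.obj) = Nat.card (ξ.Fib M.obj) :=
      Nat.card_congr (Equiv.ofBijective _ ⟨hh_inj, hh_surj⟩)
    rw [card_fib_eq_rank, card_fib_eq_rank, hn, hm] at hcard
    refine isIso_of_injective_of_rank_eq h hh fun p P => ?_
    rw [hn, hm, hcard]
  rw [← hgh]
  infer_instance

/-- the fibre functor at a geometric point of a well-connected space reflects isomorphisms -/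
theorem reflectsIsomorphisms : ξ.fibFunctor.ReflectsIsomorphisms := by
  refine ⟨fun {A B} f hf => ?_⟩
  have hbij : Function.Bijective (ξ.fibMap f.unop.hom) :=
    ConcreteCategory.bijective_of_isIso (ξ.fibFunctor.map f)
  haveI : IsIso f.unop := isIso_of_fibMap_bijective ξ hX hwc f.unop hbij
  exact (inferInstance : IsIso f.unop.op)

end Fib

end Groth.Agent.Lib.Helper3.SchFinReflect
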