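import Mathlib
import Groth.Prelude.Def_SchFin2
import Groth.Agent.Lib.Helper3.SchFinFEt
import Groth.Agent.Lib.Helper3.SchFinFactor
import Groth.Agent.Lib.Helper3.SchFinTensor
import Groth.Agent.Lib.Helper3.SchFinFib
import Groth.Agent.Lib.Helper3.SchFinInv
import Groth.Agent.Lib.Helper3.SchFinReflect
import Groth.Agent.Lib.Helper3.InvOrbit

/-!
# The Galois category of étale covers of a well-connected schematic finite space

* `isColimitOfOrbits`: criterion for colimits of shape `SingleObj G` in `FintypeCat`;
* `quotCocone`, `quotCoconeIsColimit`: quotients by finite groups in `(FEt X)ᵒᵖ`;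
* `preservesQuot`: the fibre functor preserves them;
* `preGaloisCategory`, `fiberFunctor`.
-/

set_option autoImplicit false
set_option linter.style.haveILetI false
set_option linter.unusedSectionVars false

namespace Groth.Agent.Lib.Helper3.SchFinGalois

open SchFin CategoryTheory CategoryTheory.Limits TensorProduct
  Groth.Agent.Lib.Helper3.SchFinFEt Groth.Agent.Lib.Helper3.SchFinFactor
  Groth.Agent.Lib.Helper3.SchFinTensor Groth.Agent.Lib.Helper3.SchFinFib
  Groth.Agent.Lib.Helper3.SchFinInv Groth.Agent.Lib.Helper3.SchFinReflect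
  Groth.Agent.Lib.Helper3.IdemEq Groth.Agent.Lib.Helper3.InvOrbit

universe u

/-- colimits of shape `SingleObj G` in `FintypeCat`: a cocone whose leg is surjective with the orbits as
fibres is a colimit -/
noncomputable def isColimitOfOrbits {G : Type u} [Group G] (L : SingleObj G ⥤ FintypeCat.{u})
    (c : Cocone L) (hsurj : Function.Surjective (c.ι.app (SingleObj.star G)))
    (horb : ∀ y y' : L.obj (SingleObj.star G),
      c.ι.app (SingleObj.star G) y = c.ι.app (SingleObj.star G) y' →
        ∃ g : G, L.map (X := SingleObj.star G) (Y := SingleObj.star G) g y = y') :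
    IsColimit c where
  desc s := FintypeCat.homMk fun z => s.ι.app (SingleObj.star G) (hsurj z).choose
  fac s j := by
    apply FintypeCat.hom_ext
    intro y
    change s.ι.app (SingleObj.star G) (hsurj (c.ι.app (SingleObj.star G) y)).choose =
      s.ι.app (SingleObj.star G) y
    have hspec := (hsurj (c.ι.app (SingleObj.star G) y)).choose_spec
    generalize (hsurj (c.ι.app (SingleObj.star G) y)).choose = y₀ at hspec ⊢
    obtain ⟨g, hg⟩ := horb y₀ y hspec
    have hnat := s.w (j := SingleObj.star G) (j' := SingleObj.star G) g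
    have := ConcreteCategory.congr_hom hnat y₀
    rw [← hg]
    exact this.symm
  uniq s m hm := by
    apply FintypeCat.hom_ext
    intro z
    have h1 := (hsurj z).choose_spec
    have h2 := ConcreteCategory.congr_hom (hm (SingleObj.star G)) (hsurj z).choose
    change m z = s.ι.app (SingleObj.star G) (hsurj z).choose
    rw [← h2]
    change m z = m (c.ι.app (SingleObj.star G) (hsurj z).choose)
    rw [h1]

variable {X : RSpace.{u}}

section Quot

variable {G : Type u} [Group G] [Finite G] (K : SingleObj G ⥤ (FEt X)ᵒᵖ)

/-- the family of endomorphisms given by a diagram of shape `SingleObj G` in the opposite category -/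
def actOp (g : G) : (K.obj (SingleObj.star G)).unop.obj ⟶ (K.obj (SingleObj.star G)).unop.obj :=
  (K.map (X := SingleObj.star G) (Y := SingleObj.star G) g).unop.hom

omit [Finite G] in
theorem actOp_one : actOp K 1 = 𝟙 _ := by
  have : K.map (X := SingleObj.star G) (Y := SingleObj.star G) (1 : G) = 𝟙 _ :=
    K.map_id (SingleObj.star G)
  unfold actOp
  rw [this]
  rfl

omit [Finite G] in
theorem actOp_mul (g h : G) : actOp K (g * h) = actOp K g ≫ actOp K h := by
  have : K.map (X := SingleObj.star G) (Y := SingleObj.star G) (g * h) =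
      K.map (X := SingleObj.star G) (Y := SingleObj.star G) h ≫
        K.map (X := SingleObj.star G) (Y := SingleObj.star G) g :=
    K.map_comp (X := SingleObj.star G) (Y := SingleObj.star G) (Z := SingleObj.star G) h g
  unfold actOp
  rw [this]
  rfl

variable (hflat : ∀ {p q : X.pt} (h : p ≤ q), (X.res h).Flat)
  (hsplit : ∀ (A : FEt X) (p : X.pt), ∃ (T : Type u) (_ : CommRing T) (_ : Algebra (X.ring p) T)
      (_ : Module.FaithfullyFlat (X.ring p) T) (n : ℕ),
      Nonempty (T ⊗[X.ring p] A.obj.carrier p ≃ₐ[T] (Fin n → T)))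

/-- the étale cover of fixed points -/
def quotFEt : FEt X :=
  ⟨fixedAlg (K.obj (SingleObj.star G)).unop.obj (actOp K),
    isEtCover_fixedAlg _ _ hflat (K.obj (SingleObj.star G)).unop.property.1
      (hsplit (K.obj (SingleObj.star G)).unop)⟩

/-- the inclusion of the fixed points -/
def quotIncl : quotFEt K hflat hsplit ⟶ (K.obj (SingleObj.star G)).unop :=
  ObjectProperty.homMk (fixedIncl _ (actOp K))

/-- the quotient cocone -/
def quotCocone : Cocone K where
  pt := Opposite.op (quotFEt K hflat hsplit)
  ι :=
    { app := fun _ => (quotIncl K hflat hsplit).op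
      naturality := fun _ _ g => by
        apply Quiver.Hom.unop_inj
        apply ObjectProperty.hom_ext
        change fixedIncl _ (actOp K) ≫ actOp K g = 𝟙 _ ≫ fixedIncl _ (actOp K)
        rw [fixedIncl_comp, Category.id_comp] }

omit [Finite G] in
theorem cocone_nat (s : Cocone K) (g : G) :
    (s.ι.app (SingleObj.star G)).unop.hom ≫ actOp K g = (s.ι.app (SingleObj.star G)).unop.hom := by
  have h := s.w (j := SingleObj.star G) (j' := SingleObj.star G) g
  have h2 := congrArg (fun k => k.unop.hom) h
  exact h2

/-- the quotient cocone is a colimit cocone -/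
def quotCoconeIsColimit : IsColimit (quotCocone K hflat hsplit) where
  desc s := (ObjectProperty.homMk
    (fixedLift (s.ι.app (SingleObj.star G)).unop.hom (cocone_nat K s)) :
      s.pt.unop ⟶ quotFEt K hflat hsplit).op
  fac s j := by
    apply Quiver.Hom.unop_inj
    apply ObjectProperty.hom_ext
    exact fixedLift_incl (s.ι.app (SingleObj.star G)).unop.hom (cocone_nat K s)
  uniq s m hm := by
    apply Quiver.Hom.unop_inj
    apply ObjectProperty.hom_ext
    apply Alg.hom_ext
    intro p
    apply AlgHom.ext
    intro x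
    apply fixedIncl_injective _ (actOp K) p
    have := congrArg (fun k => k.unop.hom.app p x) (hm (SingleObj.star G))
    exact this

variable {Ω : Type u} [Field Ω] [IsAlgClosed Ω] (ξ : GeomPt X Ω)

attribute [local instance] algΩ

theorem fib_orbit (y y' : ξ.Fib (K.obj (SingleObj.star G)).unop.obj)
    (h : ξ.fibMap (quotIncl K hflat hsplit).hom y = ξ.fibMap (quotIncl K hflat hsplit).hom y') :
    ∃ g : G, ξ.fibMap (actOp K g) y = y' := by
  obtain ⟨φ, rfl⟩ := (fibEquiv ξ _ (K.obj (SingleObj.star G)).unop.property).surjective y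
  obtain ⟨φ', rfl⟩ := (fibEquiv ξ _ (K.obj (SingleObj.star G)).unop.property).surjective y'
  rw [fibMap_fibEquiv ξ (quotFEt K hflat hsplit).property,
    fibMap_fibEquiv ξ (quotFEt K hflat hsplit).property] at h
  have h' := (fibEquiv ξ _ (quotFEt K hflat hsplit).property).injective h
  have hfix : ∀ a ∈ fixedSub (fun g => (actOp K g).app ξ.base), φ a = φ' a := by
    intro a ha
    exact congrArg (fun k => k ⟨a, ha⟩) h'
  obtain ⟨g, hg⟩ := exists_comp_eq_of_agree (fun g => (actOp K g).app ξ.base)
    (by rw [actOp_one]; rfl) (fun g h => by rw [actOp_mul]; rfl) φ φ' hfix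
  refine ⟨g, ?_⟩
  rw [fibMap_fibEquiv ξ (K.obj (SingleObj.star G)).unop.property
    (K.obj (SingleObj.star G)).unop.property, hg]

include hflat hsplit in
/-- the fibre functor preserves quotients by finite groups -/
theorem preservesQuot : PreservesColimit K ξ.fibFunctor := by
  refine preservesColimit_of_preserves_colimit_cocone (quotCoconeIsColimit K hflat hsplit) ?_
  refine isColimitOfOrbits (K ⋙ ξ.fibFunctor) _ ?_ ?_
  · exact fibMap_surjective_of_injective ξ (quotIncl K hflat hsplit)
      (fixedIncl_injective _ (actOp K) ξ.base)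
  · intro y y' h
    exact fib_orbit K hflat hsplit ξ y y' h

end Quot

section Galois

variable (hX : X.IsSchematic)
  (hsplit : ∀ (A : FEt X) (p : X.pt), ∃ (T : Type u) (_ : CommRing T) (_ : Algebra (X.ring p) T)
      (_ : Module.FaithfullyFlat (X.ring p) T) (n : ℕ),
      Nonempty (T ⊗[X.ring p] A.obj.carrier p ≃ₐ[T] (Fin n → T)))
  (hepi : ∀ (A B : FEt X) (f : A ⟶ B), Epi f → ∀ p : X.pt, Function.Surjective (f.hom.app p))

include hX hsplit hepi in
theorem preGaloisCategory : PreGaloisCategory (FEt X)ᵒᵖ := by
  haveI := hasInitial_fet (X := X)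
  haveI := hasPushouts_fet (X := X)
  haveI := hasFiniteProducts_fet (X := X)
  exact
    { hasTerminal := inferInstance
      hasPullbacks := inferInstance
      hasFiniteCoproducts := inferInstance
      hasQuotientsByFiniteGroups := fun G _ _ =>
        ⟨fun K => ⟨⟨⟨quotCocone K (fun h => Groth.Agent.Lib.Helper3.SchFinEpi.flat_res X hX h) hsplit,
          quotCoconeIsColimit K _ hsplit⟩⟩⟩⟩
      monoInducesIsoOnDirectSummand := fun {A B} i _ => by
        haveI : Epi i.unop := unop_epi_of_mono i
        obtain ⟨D, π, ⟨hlim⟩⟩ := exists_isLimit_binaryFan hX i.unop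
          (hepi _ _ i.unop inferInstance)
        exact ⟨Opposite.op D, π.op, ⟨BinaryFan.IsLimit.op hlim⟩⟩ }

variable (hwc : X.IsWellConnected) {Ω : Type u} [Field Ω] [IsAlgClosed Ω] (ξ : GeomPt X Ω)

include hX hsplit hepi hwc in
theorem fiberFunctor : ∃ h : PreGaloisCategory (FEt X)ᵒᵖ,
    @PreGaloisCategory.FiberFunctor (FEt X)ᵒᵖ _ h ξ.fibFunctor := by
  haveI hpre : PreGaloisCategory (FEt X)ᵒᵖ := preGaloisCategory hX hsplit hepi
  refine ⟨hpre, ?_⟩
  exact
    { preservesTerminalObjects := preservesTerminal ξ
      preservesPullbacks := preservesPullbacks ξ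
      preservesFiniteCoproducts := preservesFiniteCoproducts ξ
      preservesEpis := preservesEpimorphisms ξ hX
      preservesQuotientsByFiniteGroups := fun G _ _ =>
        ⟨fun {K} => preservesQuot K (fun h => Groth.Agent.Lib.Helper3.SchFinEpi.flat_res X hX h)
          hsplit ξ⟩
      reflectsIsos := reflectsIsomorphisms ξ hX hwc }

end Galois

end Groth.Agent.Lib.Helper3.SchFinGalois
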