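import Mathlib
import Groth.Prelude.Def_SchFin2
import Groth.Agent.Lib.Helper3.SchFinH0
import Groth.Agent.Lib.Helper3.FibreNontrivial

/-!
# Geometric points of finite ringed posets: the kernel does not lift above the base point
-/

set_option autoImplicit false
set_option linter.style.haveILetI false

namespace Groth.Agent.Lib.Helper3.SchFinGeomPt

open SchFin TensorProduct Groth.Agent.Lib.Helper3.SchFinH0

universe u

/-- `H⁰` over the empty set is trivial. -/
theorem subsingleton_H_of_isEmpty {X : RSpace.{u}} {U : Set X.pt} {R : Type u} [CommRing R]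
    (φ : Coef X U R) (M : OMod X) (hU : IsEmpty U) (n : ℕ) : Subsingleton (H φ M n) := by
  have h1 : IsEmpty (Chain U n) := ⟨fun σ => hU.false (σ 0)⟩
  have h2 : Subsingleton (Cochain φ M n) := by
    unfold Cochain
    infer_instance
  have h3 : Subsingleton (cocycles φ M n) := inferInstance
  unfold H
  infer_instance

variable {X : RSpace.{u}} {Ω : Type u} [Field Ω] [IsAlgClosed Ω] (ξ : GeomPt X Ω)

theorem comap_ne_ker_toField {x' : X.pt} (hx : ξ.base < x') (P : Ideal (X.ring x')) [P.IsPrime] :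
    P.comap (X.res hx.le) ≠ RingHom.ker ξ.toField := by
  intro hP
  have hsch := (ξ.isSchematic.2.2 0 PUnit.unit PUnit.unit le_rfl ξ.base x' hx.le).2
  unfold IsBCAlong at hsch
  -- notation
  let U : Set (RSpace.point Ω).pt := ξ.hom.wedge PUnit.unit ξ.base
  let U' : Set (RSpace.point Ω).pt := ξ.hom.wedge PUnit.unit x'
  let φ : Coef (RSpace.point Ω) U (X.ring ξ.base) :=
    Coef.ofHom ξ.hom ξ.base U (ξ.hom.wedge_subset_pre PUnit.unit ξ.base)
  let φ' : Coef (RSpace.point Ω) U' (X.ring x') :=
    Coef.ofHom ξ.hom x' U' (ξ.hom.wedge_subset_pre PUnit.unit x')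
  have hU' : IsEmpty U' := by
    constructor
    rintro ⟨q, hq1, hq2⟩
    have : x' ≤ ξ.base := hq2
    exact absurd (lt_of_lt_of_le hx this) (lt_irrefl _)
  have hN : Subsingleton (H φ' (RSpace.point Ω).str 0) :=
    subsingleton_H_of_isEmpty φ' _ hU' 0
  let m : U := ⟨PUnit.unit, ⟨le_rfl, le_rfl⟩⟩
  have hm : ∀ q : U, m.1 ≤ q.1 := fun q => le_refl _
  letI : Algebra (X.ring ξ.base) (X.ring x') := (X.res hx.le).toAlgebra
  letI : Module (X.ring ξ.base) (H φ' (RSpace.point Ω).str 0) := Module.compHom _ (X.res hx.le)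
  haveI : IsScalarTower (X.ring ξ.base) (X.ring x') (H φ' (RSpace.point Ω).str 0) :=
    IsScalarTower.of_algebraMap_smul fun _ _ => rfl
  -- the module structure on Ω through the coefficient map
  let φm : X.ring ξ.base →+* Ω := φ.map m
  letI : Module (X.ring ξ.base) Ω := Module.compHom Ω φm
  let ιL : Ω →ₗ[X.ring ξ.base] H φ (RSpace.point Ω).str 0 :=
    { toFun := toH0 φ (RSpace.point Ω).str m hm
      map_add' := map_add _
      map_smul' := fun r a => toH0_str_mul φ m hm r a }
  let ιE : Ω ≃ₗ[X.ring ξ.base] H φ (RSpace.point Ω).str 0 :=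
    LinearEquiv.ofBijective ιL ⟨toH0_injective φ _ m hm, toH0_surjective φ _ m hm⟩
  have hsub : Subsingleton (X.ring x' ⊗[X.ring ξ.base] Ω) := by
    have e1 := LinearEquiv.lTensor (X.ring x') ιE
    have e2 := hsch.equiv
    exact (e1.toEquiv.trans e2.toEquiv).subsingleton
  have hfun : ∀ r, φm r = ξ.toField r := fun r => congrArg ξ.toField (X.res_self _ r)
  have hker : RingHom.ker φm = RingHom.ker ξ.toField := by
    ext r
    rw [RingHom.mem_ker, RingHom.mem_ker, hfun]
  have hnt := Groth.Agent.Lib.Helper3.FibreNontrivial.nontrivial_tensor_of_comap_eq_ker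
    (X.res hx.le) φm P (hP.trans hker.symm)
  exact not_subsingleton _ hsub

end Groth.Agent.Lib.Helper3.SchFinGeomPt
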