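import Mathlib
import Groth.Prelude.Def_SchFin2
import Groth.Agent.Lib.Helper3.SchFinH0

/-!
# Degree-zero cohomology of the standard complex is the module of sections
-/

set_option autoImplicit false

namespace Groth.Agent.Lib.Helper3.SchFinH0Sect

open SchFin TensorProduct Groth.Agent.Lib.Helper3.SchFinH0

universe u

variable {X : RSpace.{u}} {U : Set X.pt} {R : Type u} [CommRing R] (φ : Coef X U R) (M : OMod X)

/-- The degree-zero cochain of a section. -/
def sectCochain (s : M.sect U) : Cochain φ M 0 := fun σ => s.1 (σ (Fin.last 0))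

theorem sectCochain_mem (s : M.sect U) : sectCochain φ M s ∈ cocycles φ M 0 := by
  change diff φ M 0 _ = 0
  funext σ
  change (∑ j : Fin 2, ((-1 : ℤ) ^ (j : ℕ)) • (sectCochain φ M s).faceVal σ j) = 0
  have : ∀ j, (sectCochain φ M s).faceVal σ j = s.1 (σ (Fin.last 1)) := by
    intro j
    unfold Cochain.faceVal sectCochain
    exact s.2 _ _ _
  simp [this, Fin.sum_univ_two]

/-- The map from sections over `U` to `H⁰` over `U`. -/
noncomputable def sectToH0 : M.sect U →+ H φ M 0 where
  toFun s := H.mk φ M 0 ⟨sectCochain φ M s, sectCochain_mem φ M s⟩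
  map_zero' := by
    have : (⟨sectCochain φ M 0, sectCochain_mem φ M 0⟩ : cocycles φ M 0) = 0 := by
      apply Subtype.ext
      funext σ
      rfl
    rw [this, map_zero]
  map_add' a b := by
    have : (⟨sectCochain φ M (a + b), sectCochain_mem φ M (a + b)⟩ : cocycles φ M 0) =
        ⟨sectCochain φ M a, sectCochain_mem φ M a⟩ +
          ⟨sectCochain φ M b, sectCochain_mem φ M b⟩ := by
      apply Subtype.ext
      funext σ
      rfl
    rw [this, map_add]

/-- The action of the coefficient ring on sections. -/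
def coefSmul (r : R) (s : M.sect U) : M.sect U :=
  ⟨fun q => φ.map q r • s.1 q, fun q q' h => by
    rw [LinearMap.map_smulₛₗ, φ.compat q q' h, s.2 q q' h]⟩

theorem sectToH0_smul (r : R) (s : M.sect U) :
    r • sectToH0 φ M s = sectToH0 φ M (coefSmul φ M r s) := by
  change r • H.mk φ M 0 _ = H.mk φ M 0 _
  rw [← map_smul]
  congr 1

theorem sectToH0_injective : Function.Injective (sectToH0 φ M) := by
  rw [injective_iff_map_eq_zero]
  intro a ha
  have ha' : (Submodule.Quotient.mk
      (⟨sectCochain φ M a, sectCochain_mem φ M a⟩ : cocycles φ M 0) :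
      cocycles φ M 0 ⧸ ((cobdry φ M 0).comap (cocycles φ M 0).subtype)) = 0 := ha
  have h2 : sectCochain φ M a ∈ cobdry φ M 0 :=
    (Submodule.Quotient.mk_eq_zero ((cobdry φ M 0).comap (cocycles φ M 0).subtype)).1 ha'
  change sectCochain φ M a ∈ (⊥ : Submodule R _) at h2
  rw [Submodule.mem_bot] at h2
  apply Subtype.ext
  funext q
  exact congrFun h2 (pointChain q)

variable {φ M} in
/-- compatibility of a degree-zero cocycle along `q ≤ q'`. -/
theorem cocycle_compat (c : Cochain φ M 0) (hc : c ∈ cocycles φ M 0) (q q' : U) (h : q.1 ≤ q'.1) :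
    M.res h (c (pointChain q)) = c (pointChain q') := by
  by_cases hq : q = q'
  · subst hq
    exact M.res_self _ _
  · have hlt : q < q' := lt_of_le_of_ne h hq
    have e0 : (pairChain q q' hlt).face 0 = pointChain q' := by
      ext i
      have : i = Fin.last 0 := Subsingleton.elim _ _
      rw [this]
      rfl
    have e1 : (pairChain q q' hlt).face 1 = pointChain q := by
      ext i
      have : i = Fin.last 0 := Subsingleton.elim _ _
      rw [this]
      rfl
    have key := cocycle_cond c hc (pairChain q q' hlt)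
    unfold Cochain.faceVal at key
    have key2 := transport_aux c _ _ _ _ _ (pointChain q') (pointChain q) e0 e1 key
    have h3 : ∀ (hh : ((pointChain q') (Fin.last 0)).1 ≤ ((pairChain q q' hlt) (Fin.last 1)).1),
        M.res hh (c (pointChain q')) = c (pointChain q') := fun hh => M.res_self _ _
    rw [h3] at key2
    exact key2.symm

theorem sectToH0_surjective : Function.Surjective (sectToH0 φ M) := by
  intro z
  obtain ⟨⟨c, hc⟩, rfl⟩ := Submodule.mkQ_surjective _ z
  refine ⟨⟨fun q => c (pointChain q), fun q q' h => cocycle_compat c hc q q' h⟩, ?_⟩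
  change H.mk φ M 0 _ = _
  unfold H.mk
  congr 1
  apply Subtype.ext
  funext τ
  obtain ⟨q, rfl⟩ : ∃ q, τ = pointChain q := ⟨_, chain_zero_eq τ⟩
  rfl

/-- `H⁰` over `U` is the module of sections over `U`. -/
noncomputable def sectEquivH0 : M.sect U ≃+ H φ M 0 :=
  AddEquiv.ofBijective (sectToH0 φ M) ⟨sectToH0_injective φ M, sectToH0_surjective φ M⟩

section Naturality

variable {U' : Set X.pt} {R' : Type u} [CommRing R'] {φ' : Coef X U' R'} (s : Coef.Sub φ φ')

/-- restriction of sections to a smaller subset -/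
def sectRes (h : U' ⊆ U) (t : M.sect U) : M.sect U' :=
  ⟨fun q => t.1 ⟨q.1, h q.2⟩, fun q q' hq => t.2 ⟨q.1, h q.2⟩ ⟨q'.1, h q'.2⟩ hq⟩

variable {φ}

theorem resH_sectToH0 (t : M.sect U) :
    resH M s 0 (sectToH0 φ M t) = sectToH0 φ' M (sectRes M s.le t) := by
  change H.mk φ' M 0 _ = H.mk φ' M 0 _
  congr 1

variable (φ)

theorem toH0_eq_sectToH0 (m : U) (hm : ∀ q : U, m.1 ≤ q.1) (a : M.carrier m.1) :
    toH0 φ M m hm a = sectToH0 φ M ⟨fun q => M.res (hm q) a, fun _ _ _ => M.res_comp _ _ a⟩ := by
  change H.mk φ M 0 _ = H.mk φ M 0 _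
  congr 1

end Naturality

end Groth.Agent.Lib.Helper3.SchFinH0Sect
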