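import Mathlib
import Groth.Prelude.Def_SchFin2
import Groth.Agent.Lib.Helper3.SchFinH0
import Groth.Agent.Lib.Helper3.SchFinH0Sect
import Groth.Agent.Lib.Helper3.TensorPrime

/-!
# Pairs (point, prime) in a schematic finite space

* `exists_tensor_iso`: for `s ≤ x, y` the ring map `𝒪_x ⊗[𝒪_s] 𝒪_y → Γ(U_x ∩ U_y)` is bijective.
* `pairRel_of_comap_eq_comap`: two primes over `x`, `y` with the same contraction to `s ≤ x, y` are
  related.
-/

set_option autoImplicit false
set_option linter.style.haveILetI false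

namespace Groth.Agent.Lib.Helper3.SchFinPair

open SchFin TensorProduct Groth.Agent.Lib.Helper3.SchFinH0 Groth.Agent.Lib.Helper3.SchFinH0Sect

universe u

/-- Abstract form: transport of a base-change isomorphism to a concrete additive map. -/
theorem bijective_of_isBaseChange {R S : Type*} [CommRing R] [CommRing S] [Algebra R S]
    {M N T G : Type*} [AddCommGroup M] [AddCommGroup N] [Module R M] [Module S N] [Module R N]
    [IsScalarTower R S N] [AddCommGroup T] [Module R T] [AddCommGroup G]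
    (f : M →ₗ[R] N) (hf : IsBaseChange S f)
    (ι : T →ₗ[R] M) (hι : Function.Bijective ι)
    (ι' : G →+ N) (hι' : Function.Bijective ι')
    (Θ : S ⊗[R] T →+ G) (hΘ : ∀ a b, ι' (Θ (a ⊗ₜ b)) = a • f (ι b)) : Function.Bijective Θ := by
  let ιE : T ≃ₗ[R] M := LinearEquiv.ofBijective ι hι
  have key : ⇑ι' ∘ ⇑Θ = ⇑hf.equiv ∘ ⇑(LinearEquiv.lTensor S ιE) := by
    funext t
    induction t using TensorProduct.induction_on with
    | zero => simp
    | add s t hs ht =>
        simp only [Function.comp_apply] at hs ht ⊢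
        rw [map_add, map_add, hs, ht, map_add, map_add]
    | tmul a b =>
        simp only [Function.comp_apply]
        rw [hΘ, LinearEquiv.lTensor_tmul, IsBaseChange.equiv_tmul]
        rfl
  have h1 : Function.Bijective (⇑ι' ∘ ⇑Θ) := by
    rw [key]
    exact hf.equiv.bijective.comp (LinearEquiv.lTensor S ιE).bijective
  exact (Function.Bijective.of_comp_iff' hι' _).1 h1

variable (X : RSpace.{u})

/-- sections of the rings as sections of the structure module -/
def sectRingToStr (U : Set X.pt) : X.sectRing U →+ X.str.sect U where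
  toFun s := ⟨s.1, s.2⟩
  map_zero' := rfl
  map_add' _ _ := rfl

lemma sectRingToStr_bijective (U : Set X.pt) : Function.Bijective (sectRingToStr X U) :=
  ⟨fun _ _ h => Subtype.ext (congrArg Subtype.val h), fun t => ⟨⟨t.1, t.2⟩, rfl⟩⟩

/-- For `s ≤ x, y` in a schematic finite space, `𝒪_x ⊗[𝒪_s] 𝒪_y ≅ Γ(U_x ∩ U_y)` as rings. -/
theorem exists_tensor_iso (hX : X.IsSchematic) {s x y : X.pt} (hx : s ≤ x) (hy : s ≤ y) :
    letI : Algebra (X.ring s) (X.ring x) := (X.res hx).toAlgebra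
    letI : Algebra (X.ring s) (X.ring y) := (X.res hy).toAlgebra
    ∃ Θ : X.ring x ⊗[X.ring s] X.ring y →+* X.sectRing (X.up x ∩ X.up y),
      Function.Bijective Θ ∧
      (∀ a, Θ (a ⊗ₜ 1) = X.resSect x (X.up x ∩ X.up y) Set.inter_subset_left a) ∧
      (∀ b, Θ (1 ⊗ₜ b) = X.resSect y (X.up x ∩ X.up y) Set.inter_subset_right b) := by
  letI a1 : Algebra (X.ring s) (X.ring x) := (X.res hx).toAlgebra
  letI a2 : Algebra (X.ring s) (X.ring y) := (X.res hy).toAlgebra
  have hsW : X.up x ∩ X.up y ⊆ X.up s := fun q hq => le_trans hx hq.1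
  letI a3 : Algebra (X.ring s) (X.sectRing (X.up x ∩ X.up y)) :=
    (X.resSect s (X.up x ∩ X.up y) hsW).toAlgebra
  let f₁ : X.ring x →ₐ[X.ring s] X.sectRing (X.up x ∩ X.up y) :=
    { X.resSect x (X.up x ∩ X.up y) Set.inter_subset_left with
      commutes' := fun r => Subtype.ext (funext fun q => X.res_comp _ _ r) }
  let f₂ : X.ring y →ₐ[X.ring s] X.sectRing (X.up x ∩ X.up y) :=
    { X.resSect y (X.up x ∩ X.up y) Set.inter_subset_right with
      commutes' := fun r => Subtype.ext (funext fun q => X.res_comp _ _ r) }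
  let Θ : X.ring x ⊗[X.ring s] X.ring y →ₐ[X.ring s] X.sectRing (X.up x ∩ X.up y) :=
    Algebra.TensorProduct.productMap f₁ f₂
  refine ⟨Θ.toRingHom, ?_, fun a => ?_, fun b => ?_⟩
  · -- bijectivity from the schematic condition in degree zero
    have hsch := (hX.2.2 0 s x hx y y le_rfl).1
    unfold IsBCAlong at hsch
    letI b1 : Module (X.ring s)
        (H (Coef.ofLE x ((Hom.id X).wedge x y) ((Hom.id X).wedge_subset_up x y)) X.str 0) :=
      Module.compHom _ (X.res hx)
    haveI b2 : IsScalarTower (X.ring s) (X.ring x)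
        (H (Coef.ofLE x ((Hom.id X).wedge x y) ((Hom.id X).wedge_subset_up x y)) X.str 0) :=
      IsScalarTower.of_algebraMap_smul fun _ _ => rfl
    let m : (Hom.id X).wedge s y := ⟨y, ⟨hy, le_rfl⟩⟩
    have hm : ∀ q : (Hom.id X).wedge s y, m.1 ≤ q.1 := fun q => q.2.2
    let φs := Coef.ofLE s ((Hom.id X).wedge s y) ((Hom.id X).wedge_subset_up s y)
    let φx := Coef.ofLE x ((Hom.id X).wedge x y) ((Hom.id X).wedge_subset_up x y)
    let ι : X.ring y →ₗ[X.ring s] H φs X.str 0 :=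
      { toFun := toH0 φs X.str m hm
        map_add' := map_add _
        map_smul' := fun r b => by
          rw [RingHom.id_apply, Algebra.smul_def]
          exact toH0_str_mul φs m hm r b }
    have hι : Function.Bijective ι := ⟨toH0_injective φs X.str m hm, toH0_surjective φs X.str m hm⟩
    let ι' : X.sectRing (X.up x ∩ X.up y) →+ H φx X.str 0 :=
      (sectToH0 φx X.str).comp (sectRingToStr X (X.up x ∩ X.up y))
    have hι'0 : Function.Bijective (sectToH0 φx X.str) :=
      ⟨sectToH0_injective φx X.str, sectToH0_surjective φx X.str⟩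
    have hι' : Function.Bijective ι' := Function.Bijective.comp hι'0 (sectRingToStr_bijective X _)
    refine bijective_of_isBaseChange _ hsch ι hι ι' hι' Θ.toRingHom.toAddMonoidHom ?_
    intro a b
    change sectToH0 φx X.str _ = a • resH X.str ((Hom.id X).subSrc hx y) 0 (toH0 φs X.str m hm b)
    rw [toH0_eq_sectToH0, resH_sectToH0, sectToH0_smul]
    congr 1
  · change Θ (a ⊗ₜ 1) = _
    simp only [Θ, Algebra.TensorProduct.productMap_apply_tmul, map_one, mul_one]
    rfl
  · change Θ (1 ⊗ₜ b) = _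
    simp only [Θ, Algebra.TensorProduct.productMap_apply_tmul, map_one, one_mul]
    rfl


/-- The faithful flatness hypothesis carried by the pair rows. -/
def FFHyp : Prop :=
  ∀ s a b : X.pt, s ≤ a → s ≤ b → (X.up a ∩ X.up b).Nonempty →
    Module.FaithfullyFlat (X.sectRing (X.up a ∩ X.up b)) ((q : ↥(X.up a ∩ X.up b)) → X.ring q.1)

/-- In a schematic finite space, primes over `x` and `y` with the same contraction to a common
lower point `s` are related. -/
theorem pairRel_of_comap_eq_comap (hX : X.IsSchematic) (hff : FFHyp X)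
    {s x y : X.pt} (hx : s ≤ x) (hy : s ≤ y) (P : PrimeSpectrum (X.ring x))
    (Q : PrimeSpectrum (X.ring y))
    (hPQ : PrimeSpectrum.comap (X.res hx) P = PrimeSpectrum.comap (X.res hy) Q) :
    X.PairRel ⟨x, P⟩ ⟨y, Q⟩ := by
  classical
  letI a1 : Algebra (X.ring s) (X.ring x) := (X.res hx).toAlgebra
  letI a2 : Algebra (X.ring s) (X.ring y) := (X.res hy).toAlgebra
  obtain ⟨Θ, hΘ, hΘl, hΘr⟩ := exists_tensor_iso X hX hx hy
  have hPQ' : P.asIdeal.comap (algebraMap (X.ring s) (X.ring x)) =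
      Q.asIdeal.comap (algebraMap (X.ring s) (X.ring y)) := congrArg PrimeSpectrum.asIdeal hPQ
  obtain ⟨r0, hr0, hr0l, hr0r⟩ :=
    Groth.Agent.Lib.Helper3.TensorPrime.exists_prime_tensor P.asIdeal Q.asIdeal hPQ'
  let ΘE : X.ring x ⊗[X.ring s] X.ring y ≃+* X.sectRing (X.up x ∩ X.up y) :=
    RingEquiv.ofBijective Θ hΘ
  let r1 : Ideal (X.sectRing (X.up x ∩ X.up y)) := r0.comap ΘE.symm.toRingHom
  haveI hr1 : r1.IsPrime := Ideal.comap_isPrime _ _
  have hr1Θ : r1.comap Θ = r0 := by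
    ext t
    change ΘE.symm (ΘE t) ∈ r0 ↔ _
    rw [RingEquiv.symm_apply_apply]
  -- the intersection is nonempty
  have hne : (X.up x ∩ X.up y).Nonempty := by
    by_contra hemp
    rw [Set.not_nonempty_iff_eq_empty] at hemp
    apply hr1.ne_top
    rw [Ideal.eq_top_iff_one]
    have : (1 : X.sectRing (X.up x ∩ X.up y)) = 0 := by
      apply Subtype.ext
      funext q
      have hq : q.1 ∈ (∅ : Set X.pt) := hemp ▸ q.2
      exact absurd hq (Set.notMem_empty _)
    rw [this]
    exact r1.zero_mem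
  haveI := hff s x y hx hy hne
  obtain ⟨q0, hq0⟩ := PrimeSpectrum.comap_surjective_of_faithfullyFlat
    (A := X.sectRing (X.up x ∩ X.up y)) (B := (q : ↥(X.up x ∩ X.up y)) → X.ring q.1) ⟨r1, hr1⟩
  obtain ⟨⟨z, r⟩, hz⟩ := (PrimeSpectrum.sigmaToPi_bijective
    (fun q : ↥(X.up x ∩ X.up y) => X.ring q.1)).2 q0
  rw [PrimeSpectrum.sigmaToPi_apply] at hz
  have hq0' : (r.asIdeal.comap (Pi.evalRingHom (fun q : ↥(X.up x ∩ X.up y) => X.ring q.1) z)).comap
      (algebraMap (X.sectRing (X.up x ∩ X.up y)) ((q : ↥(X.up x ∩ X.up y)) → X.ring q.1)) = r1 := by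
    have := congrArg PrimeSpectrum.asIdeal hq0
    rw [← hz] at this
    exact this
  refine ⟨z.1, z.2.1, z.2.2, r, ?_, ?_⟩
  · apply PrimeSpectrum.ext
    change r.asIdeal.comap (X.res z.2.1) = P.asIdeal
    have e : X.res z.2.1 = ((Pi.evalRingHom (fun q : ↥(X.up x ∩ X.up y) => X.ring q.1) z).comp
        (algebraMap (X.sectRing (X.up x ∩ X.up y)) ((q : ↥(X.up x ∩ X.up y)) → X.ring q.1))).comp
        (Θ.comp (Algebra.TensorProduct.includeLeft :
          X.ring x →ₐ[X.ring s] X.ring x ⊗[X.ring s] X.ring y).toRingHom) := by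
      ext a
      change _ = ((Θ (a ⊗ₜ 1)).1 z)
      rw [hΘl]
      rfl
    rw [e, ← Ideal.comap_comap, ← Ideal.comap_comap, ← Ideal.comap_comap, hq0', hr1Θ, hr0l]
  · apply PrimeSpectrum.ext
    change r.asIdeal.comap (X.res z.2.2) = Q.asIdeal
    have e : X.res z.2.2 = ((Pi.evalRingHom (fun q : ↥(X.up x ∩ X.up y) => X.ring q.1) z).comp
        (algebraMap (X.sectRing (X.up x ∩ X.up y)) ((q : ↥(X.up x ∩ X.up y)) → X.ring q.1))).comp
        (Θ.comp (Algebra.TensorProduct.includeRight :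
          X.ring y →ₐ[X.ring s] X.ring x ⊗[X.ring s] X.ring y).toRingHom) := by
      ext a
      change _ = ((Θ (1 ⊗ₜ a)).1 z)
      rw [hΘr]
      rfl
    rw [e, ← Ideal.comap_comap, ← Ideal.comap_comap, ← Ideal.comap_comap, hq0', hr1Θ, hr0r]


lemma comap_res_self (p : X.pt) (r : PrimeSpectrum (X.ring p)) :
    PrimeSpectrum.comap (X.res (le_refl p)) r = r := by
  have : X.res (le_refl p) = RingHom.id _ := RingHom.ext fun a => X.res_self p a
  rw [this]
  rfl

lemma comap_res_comp {p q t : X.pt} (h : p ≤ q) (h' : q ≤ t) (r : PrimeSpectrum (X.ring t)) :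
    PrimeSpectrum.comap (X.res h) (PrimeSpectrum.comap (X.res h') r) =
      PrimeSpectrum.comap (X.res (h.trans h')) r := by
  have : X.res (h.trans h') = (X.res h').comp (X.res h) :=
    RingHom.ext fun a => (X.res_comp h h' a).symm
  rw [this]
  rfl

theorem pairRel_refl (a : X.Pair) : X.PairRel a a :=
  ⟨a.1, le_refl _, le_refl _, a.2, comap_res_self X _ _, comap_res_self X _ _⟩

theorem pairRel_symm {a b : X.Pair} (h : X.PairRel a b) : X.PairRel b a := by
  obtain ⟨z, hx, hy, r, h1, h2⟩ := h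
  exact ⟨z, hy, hx, r, h2, h1⟩

/-- a pair above a given pair is related to it -/
theorem pairRel_of_le {a : X.Pair} {z : X.pt} (h : a.1 ≤ z) (r : PrimeSpectrum (X.ring z))
    (hr : PrimeSpectrum.comap (X.res h) r = a.2) : X.PairRel a ⟨z, r⟩ :=
  ⟨z, h, le_refl _, r, hr, comap_res_self X _ _⟩

theorem pairRel_trans (hX : X.IsSchematic) (hff : FFHyp X) {a b c : X.Pair}
    (hab : X.PairRel a b) (hbc : X.PairRel b c) : X.PairRel a c := by
  obtain ⟨z, hx, hy, r, h1, h2⟩ := hab
  obtain ⟨z', hx', hy', r', h1', h2'⟩ := hbc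
  obtain ⟨w, hw, hw', t, ht, ht'⟩ :=
    pairRel_of_comap_eq_comap X hX hff hy hx' r r' (h2.trans h1'.symm)
  have hw1 : z ≤ w := hw
  have hw1' : z' ≤ w := hw'
  have ht1 : PrimeSpectrum.comap (X.res hw1) t = r := ht
  have ht1' : PrimeSpectrum.comap (X.res hw1') t = r' := ht'
  refine ⟨w, hx.trans hw1, hy'.trans hw1', t, ?_, ?_⟩
  · rw [← comap_res_comp X hx hw1, ht1, h1]
  · rw [← comap_res_comp X hy' hw1', ht1', h2']

theorem equivalence_pairRel (hX : X.IsSchematic) (hff : FFHyp X) : Equivalence X.PairRel :=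
  ⟨pairRel_refl X, pairRel_symm X, pairRel_trans X hX hff⟩


theorem quot_eq_iff (hX : X.IsSchematic) (hff : FFHyp X) (a b : X.Pair) :
    Quot.mk X.PairRel a = Quot.mk X.PairRel b ↔ X.PairRel a b := by
  rw [Quot.eq, (equivalence_pairRel X hX hff).eqvGen_iff]

/-- Every class of pairs has exactly one representative at a maximal point. -/
theorem existsUnique_maximal_pair (hX : X.IsSchematic) (hff : FFHyp X) (c : X.SchPt) :
    ∃! a : X.Pair, Quot.mk X.PairRel a = c ∧
      ∀ b : X.Pair, Quot.mk X.PairRel b = c → b.1 ≤ a.1 := by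
  obtain ⟨a0, rfl⟩ := Quot.exists_rep c
  have hE := equivalence_pairRel X hX hff
  -- a representative at a maximal point
  have hex : ∃ p, a0.1 ≤ p ∧ Maximal (fun p : X.pt => ∃ b : X.Pair, X.PairRel b a0 ∧ b.1 = p) p :=
    Finite.exists_le_maximal (p := fun p : X.pt => ∃ b : X.Pair, X.PairRel b a0 ∧ b.1 = p)
      ⟨a0, hE.refl a0, rfl⟩
  obtain ⟨p0, -, ⟨a, haa0, hap⟩, hmax⟩ := hex
  have hprop : ∀ b : X.Pair, X.PairRel b a0 → b.1 ≤ a.1 := by
    intro b hb
    obtain ⟨z, hx, hy, r, h1, h2⟩ := hE.trans hb (hE.symm haa0)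
    have hz : X.PairRel ⟨z, r⟩ a0 := hE.trans (hE.symm (pairRel_of_le X hy r h2)) haa0
    have hle : z ≤ p0 := hmax ⟨⟨z, r⟩, hz, rfl⟩ (hap ▸ hy)
    exact hx.trans (hap ▸ hle)
  refine ⟨a, ⟨(quot_eq_iff X hX hff a a0).2 haa0, fun b hb =>
    hprop b ((quot_eq_iff X hX hff b a0).1 hb)⟩, ?_⟩
  rintro a' ⟨ha'1, ha'2⟩
  have ha'a0 : X.PairRel a' a0 := (quot_eq_iff X hX hff a' a0).1 ha'1
  have hle1 : a.1 ≤ a'.1 := ha'2 a ((quot_eq_iff X hX hff a a0).2 haa0)
  have hle2 : a'.1 ≤ a.1 := hprop a' ha'a0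
  obtain ⟨z, hx, hy, r, h1, h2⟩ := hE.trans ha'a0 (hE.symm haa0)
  have hz : X.PairRel ⟨z, r⟩ a0 := hE.trans (hE.symm (pairRel_of_le X hy r h2)) haa0
  have hzle : z ≤ a.1 := hprop ⟨z, r⟩ hz
  obtain ⟨p, P⟩ := a
  obtain ⟨p', P'⟩ := a'
  have e1 : p' = p := le_antisymm hle2 hle1
  subst e1
  have e2 : z = p' := le_antisymm hzle hy
  subst e2
  have e3 : P' = r := (h1.symm.trans (comap_res_self X _ _))
  have e4 : P = r := (h2.symm.trans (comap_res_self X _ _))
  rw [e3, e4]

end Groth.Agent.Lib.Helper3.SchFinPair
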