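import Mathlib
import Groth.Prelude.Def_SchFin2
import Groth.Agent.Lib.Helper3.SchFinH0
import Groth.Agent.Lib.Helper3.SchFinBC
import Groth.Agent.Lib.Helper3.SchFinEpi
import Groth.Agent.Lib.Helper3.SchFinPair
import Groth.Agent.Lib.Helper3.SchFinGeomPt

/-!
# Construction of geometric points from maximal pairs
-/

set_option autoImplicit false
set_option linter.style.haveILetI false

namespace Groth.Agent.Lib.Helper3.SchFinGeomPt2

open SchFin TensorProduct Groth.Agent.Lib.Helper3.SchFinH0 Groth.Agent.Lib.Helper3.SchFinBC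
  Groth.Agent.Lib.Helper3.SchFinPair Groth.Agent.Lib.Helper3.SchFinGeomPt
  Groth.Agent.Lib.Helper3.SchFinEpi

universe u

section General

variable {X : RSpace.{u}} {U : Set X.pt} {R : Type u} [CommRing R] (φ : Coef X U R) (M : OMod X)

/-- Over a space with at most one point there is no cohomology in positive degrees. -/
theorem subsingleton_H_succ [Subsingleton X.pt] (n : ℕ) : Subsingleton (H φ M (n + 1)) := by
  have h1 : IsEmpty (Chain U (n + 1)) := ⟨fun σ => by
    have h01 : (0 : Fin (n + 1 + 1)) < 1 := by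
      rw [Fin.lt_def]; simp
    have := σ.strictMono h01
    exact absurd (Subsingleton.elim (σ 0) (σ 1)) (ne_of_lt this)⟩
  have h2 : Subsingleton (Cochain φ M (n + 1)) := by
    unfold Cochain
    infer_instance
  have h3 : Subsingleton (cocycles φ M (n + 1)) := inferInstance
  unfold H
  infer_instance

variable {U' : Set X.pt} {R' : Type u} [CommRing R'] {φ' : Coef X U' R'} (s : Coef.Sub φ φ')

theorem resH_bijective_of_least (m : U) (hm : ∀ q : U, m.1 ≤ q.1) (m' : U')
    (hm' : ∀ q : U', m'.1 ≤ q.1)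
    (hres : Function.Bijective (M.res (hm ⟨m'.1, s.le m'.2⟩))) :
    Function.Bijective (resH M s 0) := by
  have h1 : ⇑(resH M s 0) ∘ ⇑(toH0 φ M m hm) =
      ⇑(toH0 φ' M m' hm') ∘ ⇑(M.res (hm ⟨m'.1, s.le m'.2⟩)) := by
    funext a
    exact resH_toH0 M s m hm m' hm' a
  have h2 : Function.Bijective (⇑(resH M s 0) ∘ ⇑(toH0 φ M m hm)) := by
    rw [h1]
    have hb' : Function.Bijective (toH0 φ' M m' hm') :=
      ⟨toH0_injective φ' M m' hm', toH0_surjective φ' M m' hm'⟩
    exact Function.Bijective.comp hb' hres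
  have hb : Function.Bijective (toH0 φ M m hm) :=
    ⟨toH0_injective φ M m hm, toH0_surjective φ M m hm⟩
  exact (Function.Bijective.of_comp_iff _ hb).1 h2

theorem bijective_of_subsingleton {A B : Type*} [AddCommGroup A] [AddCommGroup B]
    [Subsingleton A] [Subsingleton B] (f : A → B) : Function.Bijective f :=
  ⟨fun _ _ _ => Subsingleton.elim _ _, fun _ => ⟨0, Subsingleton.elim _ _⟩⟩

end General

variable (X : RSpace.{u}) (Ω : Type u) [Field Ω]

/-- The morphism from the one-point space given by a point and a ring map to the field. -/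
def ptHom (p : X.pt) (ψ : X.ring p →+* Ω) : Hom (RSpace.point Ω) X where
  fn := fun _ => p
  mono := fun _ _ _ => le_refl p
  app := fun _ => ψ
  compat := fun _ b => by
    change ψ b = ψ (X.res _ b)
    rw [X.res_self]

instance : Subsingleton (RSpace.point Ω).pt := inferInstanceAs (Subsingleton PUnit)

variable {X Ω}

/-- The key vanishing: above a maximal pair, the base change of the field to a point not below
the base point vanishes. -/
theorem subsingleton_tensor_of_max (hX : X.IsSchematic) (hff : FFHyp X) (p : X.pt)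
    (P : PrimeSpectrum (X.ring p)) (hmax : ∀ b : X.Pair, X.PairRel ⟨p, P⟩ b → b.1 ≤ p)
    (ψ : X.ring p →+* Ω) (hψ : RingHom.ker ψ = P.asIdeal) {y y' : X.pt} (hy : y ≤ y')
    (hyp : y ≤ p) (hy'p : ¬ y' ≤ p) :
    letI : Algebra (X.ring y) (X.ring y') := (X.res hy).toAlgebra
    letI : Algebra (X.ring y) Ω := (ψ.comp (X.res hyp)).toAlgebra
    Subsingleton (X.ring y' ⊗[X.ring y] Ω) := by
  letI a1 : Algebra (X.ring y) (X.ring y') := (X.res hy).toAlgebra
  letI a2 : Algebra (X.ring y) Ω := (ψ.comp (X.res hyp)).toAlgebra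
  by_contra hns
  rw [not_subsingleton_iff_nontrivial] at hns
  obtain ⟨n, hn⟩ := Ideal.exists_maximal (X.ring y' ⊗[X.ring y] Ω)
  haveI := hn.isPrime
  let Q' : Ideal (X.ring y') :=
    n.comap (Algebra.TensorProduct.includeLeft : X.ring y' →ₐ[X.ring y] X.ring y' ⊗[X.ring y] Ω).toRingHom
  haveI hQ' : Q'.IsPrime := Ideal.comap_isPrime _ _
  have h1 : Q'.comap (X.res hy) = (P.asIdeal).comap (X.res hyp) := by
    have e1 : Q'.comap (X.res hy) = n.comap (algebraMap (X.ring y) (X.ring y' ⊗[X.ring y] Ω)) := by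
      change (n.comap _).comap _ = _
      rw [Ideal.comap_comap]
      congr 1
    have e2 : n.comap (algebraMap (X.ring y) (X.ring y' ⊗[X.ring y] Ω)) =
        (n.comap (Algebra.TensorProduct.includeRight :
          Ω →ₐ[X.ring y] X.ring y' ⊗[X.ring y] Ω).toRingHom).comap (algebraMap (X.ring y) Ω) := by
      rw [Ideal.comap_comap]
      congr 1
      ext r
      simp
    have e3 : n.comap (Algebra.TensorProduct.includeRight :
          Ω →ₐ[X.ring y] X.ring y' ⊗[X.ring y] Ω).toRingHom = ⊥ := Ideal.eq_bot_of_prime _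
    rw [e1, e2, e3, ← hψ, ← RingHom.ker_eq_comap_bot]
    change RingHom.ker (ψ.comp (X.res hyp)) = _
    rw [← RingHom.comap_ker]
  have hrel : X.PairRel ⟨p, P⟩ ⟨y', ⟨Q', hQ'⟩⟩ :=
    pairRel_of_comap_eq_comap X hX hff hyp hy P ⟨Q', hQ'⟩ (PrimeSpectrum.ext h1.symm)
  exact hy'p (hmax _ hrel)


theorem isFinSp_point : (RSpace.point Ω).IsFinSp :=
  ⟨fun _ => (inferInstance : IsNoetherianRing Ω), fun _ _ _ => RingHom.Flat.of_bijective
    (Function.bijective_id)⟩

/-- The morphism from the one-point space attached to a maximal pair and a ring map to `Ω` with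
kernel the prime of the pair is schematic. -/
theorem isSchematic_ptHom (hX : X.IsSchematic) (hff : FFHyp X) (p : X.pt)
    (P : PrimeSpectrum (X.ring p)) (hmax : ∀ b : X.Pair, X.PairRel ⟨p, P⟩ b → b.1 ≤ p)
    (ψ : X.ring p →+* Ω) (hψ : RingHom.ker ψ = P.asIdeal) : (ptHom X Ω p ψ).IsSchematic := by
  refine ⟨isFinSp_point, hX.1, fun n x x' hx y y' hy => ⟨?_, ?_⟩⟩
  · -- source direction: the coefficient map is the identity
    refine isBCAlong_of_bijective (R := (RSpace.point Ω).ring x) (S := (RSpace.point Ω).ring x')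
      ((RSpace.point Ω).res hx) (fun a => ⟨a, rfl⟩) _ ?_
    cases n with
    | succ n =>
        haveI := subsingleton_H_succ (Coef.ofLE x ((ptHom X Ω p ψ).wedge x y)
          ((ptHom X Ω p ψ).wedge_subset_up x y)) (RSpace.point Ω).str n
        haveI := subsingleton_H_succ (Coef.ofLE x' ((ptHom X Ω p ψ).wedge x' y)
          ((ptHom X Ω p ψ).wedge_subset_up x' y)) (RSpace.point Ω).str n
        exact bijective_of_subsingleton _
    | zero =>
        by_cases hyp : y ≤ p
        · let m : (ptHom X Ω p ψ).wedge x y := ⟨PUnit.unit, ⟨le_of_eq (Subsingleton.elim _ _), hyp⟩⟩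
          have hm : ∀ q : (ptHom X Ω p ψ).wedge x y, m.1 ≤ q.1 := fun q => le_refl _
          let m' : (ptHom X Ω p ψ).wedge x' y :=
            ⟨PUnit.unit, ⟨le_of_eq (Subsingleton.elim _ _), hyp⟩⟩
          have hm' : ∀ q : (ptHom X Ω p ψ).wedge x' y, m'.1 ≤ q.1 := fun q => le_refl _
          exact resH_bijective_of_least _ _ _ m hm m' hm' Function.bijective_id
        · have hU : IsEmpty ((ptHom X Ω p ψ).wedge x y) := ⟨fun q => hyp q.2.2⟩
          have hU' : IsEmpty ((ptHom X Ω p ψ).wedge x' y) := ⟨fun q => hyp q.2.2⟩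
          haveI := subsingleton_H_of_isEmpty (Coef.ofLE x ((ptHom X Ω p ψ).wedge x y)
            ((ptHom X Ω p ψ).wedge_subset_up x y)) (RSpace.point Ω).str hU 0
          haveI := subsingleton_H_of_isEmpty (Coef.ofLE x' ((ptHom X Ω p ψ).wedge x' y)
            ((ptHom X Ω p ψ).wedge_subset_up x' y)) (RSpace.point Ω).str hU' 0
          exact bijective_of_subsingleton _
  · -- target direction
    have hepi : letI : Algebra (X.ring y) (X.ring y') := (X.res hy).toAlgebra
        Algebra.IsEpi (X.ring y) (X.ring y') := isEpi_res X hX hy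
    cases n with
    | succ n =>
        haveI := subsingleton_H_succ (Coef.ofHom (ptHom X Ω p ψ) y ((ptHom X Ω p ψ).wedge x y)
          ((ptHom X Ω p ψ).wedge_subset_pre x y)) (RSpace.point Ω).str n
        haveI := subsingleton_H_succ (Coef.ofHom (ptHom X Ω p ψ) y' ((ptHom X Ω p ψ).wedge x y')
          ((ptHom X Ω p ψ).wedge_subset_pre x y')) (RSpace.point Ω).str n
        exact isBCAlong_of_epi_of_bijective _ hepi _ (bijective_of_subsingleton _)
    | zero =>
        by_cases hy'p : y' ≤ p
        · have hyp : y ≤ p := hy.trans hy'p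
          let m : (ptHom X Ω p ψ).wedge x y := ⟨PUnit.unit, ⟨le_of_eq (Subsingleton.elim _ _), hyp⟩⟩
          have hm : ∀ q : (ptHom X Ω p ψ).wedge x y, m.1 ≤ q.1 := fun q => le_refl _
          let m' : (ptHom X Ω p ψ).wedge x y' :=
            ⟨PUnit.unit, ⟨le_of_eq (Subsingleton.elim _ _), hy'p⟩⟩
          have hm' : ∀ q : (ptHom X Ω p ψ).wedge x y', m'.1 ≤ q.1 := fun q => le_refl _
          exact isBCAlong_of_epi_of_bijective _ hepi _
            (resH_bijective_of_least _ _ _ m hm m' hm' Function.bijective_id)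
        · have hU' : IsEmpty ((ptHom X Ω p ψ).wedge x y') := ⟨fun q => hy'p q.2.2⟩
          have hN := subsingleton_H_of_isEmpty (Coef.ofHom (ptHom X Ω p ψ) y'
            ((ptHom X Ω p ψ).wedge x y') ((ptHom X Ω p ψ).wedge_subset_pre x y'))
            (RSpace.point Ω).str hU' 0
          by_cases hyp : y ≤ p
          · refine isBCAlong_of_subsingleton _ _ hN ?_
            letI a1 : Algebra (X.ring y) (X.ring y') := (X.res hy).toAlgebra
            letI a2 : Algebra (X.ring y) Ω := (ψ.comp (X.res hyp)).toAlgebra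
            have hT := subsingleton_tensor_of_max hX hff p P hmax ψ hψ hy hyp hy'p
            let φ := Coef.ofHom (ptHom X Ω p ψ) y ((ptHom X Ω p ψ).wedge x y)
              ((ptHom X Ω p ψ).wedge_subset_pre x y)
            let m : (ptHom X Ω p ψ).wedge x y :=
              ⟨PUnit.unit, ⟨le_of_eq (Subsingleton.elim _ _), hyp⟩⟩
            have hm : ∀ q : (ptHom X Ω p ψ).wedge x y, m.1 ≤ q.1 := fun q => le_refl _
            let ιL : Ω →ₗ[X.ring y] H φ (RSpace.point Ω).str 0 :=
              { toFun := toH0 φ (RSpace.point Ω).str m hm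
                map_add' := map_add _
                map_smul' := fun r a => by
                  rw [RingHom.id_apply, Algebra.smul_def]
                  exact toH0_str_mul φ m hm r a }
            let ιE : Ω ≃ₗ[X.ring y] H φ (RSpace.point Ω).str 0 :=
              LinearEquiv.ofBijective ιL ⟨toH0_injective φ _ m hm, toH0_surjective φ _ m hm⟩
            exact (LinearEquiv.lTensor (X.ring y') ιE).symm.toEquiv.subsingleton
          · have hU : IsEmpty ((ptHom X Ω p ψ).wedge x y) := ⟨fun q => hyp q.2.2⟩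
            haveI := subsingleton_H_of_isEmpty (Coef.ofHom (ptHom X Ω p ψ) y
              ((ptHom X Ω p ψ).wedge x y) ((ptHom X Ω p ψ).wedge_subset_pre x y))
              (RSpace.point Ω).str hU 0
            haveI := hN
            exact isBCAlong_of_epi_of_bijective _ hepi _ (bijective_of_subsingleton _)


variable [IsAlgClosed Ω]

theorem geomPt_ext (ξ ξ' : GeomPt X Ω)
    (h : (⟨ξ.base, ξ.toField⟩ : Σ x : X.pt, (X.ring x →+* Ω)) = ⟨ξ'.base, ξ'.toField⟩) :
    ξ = ξ' := by
  obtain ⟨⟨fn, mono, app, compat⟩, hs⟩ := ξ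
  obtain ⟨⟨fn', mono', app', compat'⟩, hs'⟩ := ξ'
  simp only [GeomPt.base, GeomPt.toField] at h
  have h1 := (Sigma.mk.inj_iff.1 h).1
  have hfn : fn = fn' := funext fun q => by cases q; exact h1
  subst hfn
  have h2 := eq_of_heq (Sigma.mk.inj_iff.1 h).2
  have happ : app = app' := funext fun q => by cases q; exact h2
  subst happ
  rfl

theorem existsUnique_geomPt (hX : X.IsSchematic) (hff : FFHyp X) (a : X.Pair)
    (ha : ∀ b : X.Pair, X.PairRel a b → b.1 ≤ a.1) (φ : a.κ →+* Ω) :
    ∃! ξ : GeomPt X Ω, (⟨ξ.base, ξ.toField⟩ : Σ x : X.pt, (X.ring x →+* Ω)) =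
      ⟨a.1, φ.comp (algebraMap (X.ring a.1) a.κ)⟩ := by
  obtain ⟨p, P⟩ := a
  have hψ : RingHom.ker (φ.comp (algebraMap (X.ring p) P.asIdeal.ResidueField)) = P.asIdeal := by
    rw [← RingHom.comap_ker, (RingHom.injective_iff_ker_eq_bot φ).1 φ.injective,
      ← RingHom.ker_eq_comap_bot, Ideal.ker_algebraMap_residueField]
  refine ⟨⟨ptHom X Ω p (φ.comp (algebraMap (X.ring p) P.asIdeal.ResidueField)),
    isSchematic_ptHom hX hff p P ha _ hψ⟩, rfl, fun ξ' hξ' => ?_⟩
  exact geomPt_ext _ _ hξ'

end Groth.Agent.Lib.Helper3.SchFinGeomPt2
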