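import Mathlib
import Groth.Prelude.Def_SchFin2
import Groth.Agent.Lib.Helper3.SchFinBC
import Groth.Agent.Lib.Helper3.PiOverPi

/-!
# Sections of a quasi-coherent algebra over an affine subset

For a quasi-coherent algebra `A` on `X` and an affine subset `U`, evaluation at `q ∈ U` exhibits
`A.carrier q` as the base change of the ring of sections `A.total.sectRing U` along
`X.sectRing U → X.ring q` (`exists_data`).  Together with faithfully flat descent along
`X.sectRing U → Π q, X.ring q` (`PiOverPi`), this gives the local-global criteria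
`flat_iff`, `faithfullyFlat_iff`, `finite_iff`, `etale_iff`.
-/

set_option autoImplicit false
set_option linter.style.haveILetI false

namespace Groth.Agent.Lib.Helper3.SchFinSectAlg

open SchFin SchFin.Alg TensorProduct Groth.Agent.Lib.Helper3.SchFinBC
  Groth.Agent.Lib.Helper3.PiOverPi

universe u

variable {X : RSpace.{u}} (A : Alg X) (U : Set X.pt)

/-- sections of the algebra (as a ring) are the sections of the underlying module -/
def sectEquiv :
    letI : Algebra (X.sectRing U) (A.total.sectRing U) := (A.sectMap U).toAlgebra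
    A.total.sectRing U ≃ₗ[X.sectRing U] A.toMod.sect U :=
  letI : Algebra (X.sectRing U) (A.total.sectRing U) := (A.sectMap U).toAlgebra
  { toFun := fun s => ⟨s.1, s.2⟩
    invFun := fun s => ⟨s.1, s.2⟩
    map_add' := fun _ _ => rfl
    map_smul' := fun r s => by
      apply Subtype.ext
      funext q
      change algebraMap (X.ring q.1) (A.carrier q.1) (r.1 q) * (show A.carrier q.1 from s.1 q) =
        r.1 q • (show A.carrier q.1 from s.1 q)
      rw [Algebra.smul_def]
    left_inv := fun _ => rfl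
    right_inv := fun _ => rfl }

theorem exists_equiv (hA : A.IsQcoh) (hUa : (X.restrict U).IsAffine) (q : U) :
    letI : Algebra (X.sectRing U) (X.ring q.1) := (X.evalRing U q).toAlgebra
    ∃ e : (X.ring q.1) ⊗[X.sectRing U] (A.toMod.sect U) ≃ₗ[X.ring q.1] A.carrier q.1,
      ∀ (a : X.ring q.1) (s : A.toMod.sect U), e (a ⊗ₜ s) = a • (s.1 q : A.carrier q.1) := by
  have h := isBCAlong_evalMod U A.toMod hUa hA q
  unfold IsBCAlong at h
  letI : Algebra (X.sectRing U) (X.ring q.1) := (X.evalRing U q).toAlgebra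
  letI : Module (X.sectRing U) (A.toMod.carrier q.1) := Module.compHom _ (X.evalRing U q)
  haveI : IsScalarTower (X.sectRing U) (X.ring q.1) (A.toMod.carrier q.1) :=
    IsScalarTower.of_algebraMap_smul fun _ _ => rfl
  exact ⟨h.equiv, fun a s => h.equiv_tmul a s⟩

/-- The four local-global criteria over an affine subset, for points of the subset. -/
theorem core (hA : A.IsQcoh) (hUa : (X.restrict U).IsAffine)
    (hφ : Module.FaithfullyFlat (X.sectRing U) ((q : ↥U) → X.ring q.1)) :
    ((∀ q : U, Module.Flat (X.ring q.1) (A.carrier q.1)) ↔ (A.sectMap U).Flat) ∧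
    ((∀ q : U, Module.FaithfullyFlat (X.ring q.1) (A.carrier q.1)) ↔
      (A.sectMap U).FaithfullyFlat) ∧
    ((∀ q : U, Module.Finite (X.ring q.1) (A.carrier q.1)) ↔ (A.sectMap U).Finite) ∧
    ((∀ q : U, Algebra.Etale (X.ring q.1) (A.carrier q.1)) ↔ (A.sectMap U).Etale) := by
  classical
  letI a0 : Algebra (X.sectRing U) (A.total.sectRing U) := (A.sectMap U).toAlgebra
  letI b1 : ∀ q : U, Algebra (X.sectRing U) (X.ring q.1) := fun q => (X.evalRing U q).toAlgebra
  letI b2 : ∀ q : U, Algebra (X.sectRing U) (A.carrier q.1) := fun q =>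
    ((algebraMap (X.ring q.1) (A.carrier q.1)).comp (X.evalRing U q)).toAlgebra
  haveI b3 : ∀ q : U, IsScalarTower (X.sectRing U) (X.ring q.1) (A.carrier q.1) := fun q =>
    IsScalarTower.of_algebraMap_eq fun _ => rfl
  haveI hff : Module.FaithfullyFlat (X.sectRing U) (∀ q : U, X.ring q.1) := hφ
  let ε : ∀ q : U, A.total.sectRing U →ₐ[X.sectRing U] A.carrier q.1 := fun q =>
    { toFun := fun s => s.1 q
      map_one' := rfl
      map_mul' := fun _ _ => rfl
      map_zero' := rfl
      map_add' := fun _ _ => rfl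
      commutes' := fun _ => rfl }
  have h : ∀ q : U, IsBaseChange (X.ring q.1) (ε q).toLinearMap := by
    intro q
    obtain ⟨e, he⟩ := exists_equiv A U hA hUa q
    refine IsBaseChange.of_equiv
      ((TensorProduct.AlgebraTensorModule.congr (LinearEquiv.refl (X.ring q.1) (X.ring q.1))
        (sectEquiv A U)).trans e) fun s => ?_
    rw [LinearEquiv.trans_apply, TensorProduct.AlgebraTensorModule.congr_tmul, he,
      LinearEquiv.refl_apply, one_smul]
    rfl
  refine ⟨?_, ?_, ?_, ?_⟩
  · exact flat_iff_of_isBaseChange (fun q : U => X.ring q.1) (fun q : U => A.carrier q.1)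
      (fun q => (ε q).toLinearMap) h
  · exact faithfullyFlat_iff_of_isBaseChange (fun q : U => X.ring q.1)
      (fun q : U => A.carrier q.1) ε h
  · exact finite_iff_of_isBaseChange (fun q : U => X.ring q.1) (fun q : U => A.carrier q.1)
      (fun q => (ε q).toLinearMap) h
  · exact etale_iff_of_isBaseChange (fun q : U => X.ring q.1)
      (fun q : U => A.carrier q.1) ε h

theorem flat_iff (hA : A.IsQcoh) (hUa : (X.restrict U).IsAffine)
    (hφ : Module.FaithfullyFlat (X.sectRing U) ((q : ↥U) → X.ring q.1)) :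
    (∀ q : X.pt, q ∈ U → Module.Flat (X.ring q) (A.carrier q)) ↔ (A.sectMap U).Flat :=
  ⟨fun h => (core A U hA hUa hφ).1.1 fun q => h q.1 q.2,
    fun h q hq => (core A U hA hUa hφ).1.2 h ⟨q, hq⟩⟩

theorem faithfullyFlat_iff (hA : A.IsQcoh) (hUa : (X.restrict U).IsAffine)
    (hφ : Module.FaithfullyFlat (X.sectRing U) ((q : ↥U) → X.ring q.1)) :
    (∀ q : X.pt, q ∈ U → Module.FaithfullyFlat (X.ring q) (A.carrier q)) ↔
      (A.sectMap U).FaithfullyFlat :=
  ⟨fun h => (core A U hA hUa hφ).2.1.1 fun q => h q.1 q.2,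
    fun h q hq => (core A U hA hUa hφ).2.1.2 h ⟨q, hq⟩⟩

theorem finite_iff (hA : A.IsQcoh) (hUa : (X.restrict U).IsAffine)
    (hφ : Module.FaithfullyFlat (X.sectRing U) ((q : ↥U) → X.ring q.1)) :
    (∀ q : X.pt, q ∈ U → Module.Finite (X.ring q) (A.carrier q)) ↔ (A.sectMap U).Finite :=
  ⟨fun h => (core A U hA hUa hφ).2.2.1.1 fun q => h q.1 q.2,
    fun h q hq => (core A U hA hUa hφ).2.2.1.2 h ⟨q, hq⟩⟩

theorem etale_iff (hA : A.IsQcoh) (hUa : (X.restrict U).IsAffine)
    (hφ : Module.FaithfullyFlat (X.sectRing U) ((q : ↥U) → X.ring q.1)) :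
    (∀ q : X.pt, q ∈ U → Algebra.Etale (X.ring q) (A.carrier q)) ↔ (A.sectMap U).Etale :=
  ⟨fun h => (core A U hA hUa hφ).2.2.2.1 fun q => h q.1 q.2,
    fun h q hq => (core A U hA hUa hφ).2.2.2.2 h ⟨q, hq⟩⟩

end Groth.Agent.Lib.Helper3.SchFinSectAlg
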