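import Groth.Prelude.Def_RelSpec
import Mathlib.AlgebraicGeometry.Normalization
/-!
# Chartwise description of `specMap` and of the structure morphism of a relative spectrum
-/
universe u
open CategoryTheory CategoryTheory.Limits AlgebraicGeometry Opposite TopologicalSpace
open RelSpec

namespace Groth.Agent.Lib.Helper3

variable {S : Scheme.{u}}

/-- The chart of a relative spectrum is the pullback of the affine open. -/
theorem QCAlg.isPullback_chart (A : QCAlg S) (U : S.Opens) (hU : IsAffineOpen U) :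
    IsPullback (A.ι U hU) (Spec.map (A.str.app (op U))) A.π hU.fromSpec := by
  have hr : ∀ s : PullbackCone A.π hU.fromSpec, Set.range s.fst ⊆ Set.range (A.ι U hU) := by
    intro s
    rintro _ ⟨x, rfl⟩
    have h1 : s.fst x ∈ A.π ⁻¹ᵁ U := by
      change (s.fst ≫ A.π) x ∈ U
      rw [s.condition]
      have : (s.snd ≫ hU.fromSpec) x ∈ hU.fromSpec.opensRange := ⟨s.snd x, rfl⟩
      rwa [hU.opensRange_fromSpec] at this
    rw [A.π_preimage U hU] at h1
    exact h1
  refine ⟨⟨A.ι_π U hU⟩, ⟨PullbackCone.IsLimit.mk _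
    (fun s ↦ IsOpenImmersion.lift (A.ι U hU) s.fst (hr s)) ?_ ?_ ?_⟩⟩
  · intro s; exact IsOpenImmersion.lift_fac _ _ _
  · intro s
    rw [← cancel_mono hU.fromSpec, Category.assoc, ← A.ι_π, IsOpenImmersion.lift_fac_assoc,
      s.condition]
  · intro s m h1 h2
    rw [← cancel_mono (A.ι U hU), h1, IsOpenImmersion.lift_fac]

variable {A B : QCAlg S} (φ : A ⟶ B)

theorem QCAlg.specMap_preimage (U : S.Opens) :
    QCAlg.specMap φ ⁻¹ᵁ (A.π ⁻¹ᵁ U) = B.π ⁻¹ᵁ U := by
  rw [← Scheme.Hom.comp_preimage, QCAlg.specMap_π]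

/-- The chart of `Spec(B)` is the pullback of the chart of `Spec(A)` along `specMap`. -/
theorem QCAlg.isPullback_chart_specMap (U : S.Opens) (hU : IsAffineOpen U) :
    IsPullback (B.ι U hU) (Spec.map (φ.hom.app (op U))) (QCAlg.specMap φ) (A.ι U hU) := by
  have hr : ∀ s : PullbackCone (QCAlg.specMap φ) (A.ι U hU),
      Set.range s.fst ⊆ Set.range (B.ι U hU) := by
    intro s
    rintro _ ⟨x, rfl⟩
    have h1 : s.fst x ∈ QCAlg.specMap φ ⁻¹ᵁ (A.π ⁻¹ᵁ U) := by
      change (s.fst ≫ QCAlg.specMap φ) x ∈ A.π ⁻¹ᵁ U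
      rw [s.condition, A.π_preimage U hU]
      exact ⟨s.snd x, rfl⟩
    rw [QCAlg.specMap_preimage, B.π_preimage U hU] at h1
    exact h1
  refine ⟨⟨QCAlg.ι_specMap U hU φ⟩, ⟨PullbackCone.IsLimit.mk _
    (fun s ↦ IsOpenImmersion.lift (B.ι U hU) s.fst (hr s)) ?_ ?_ ?_⟩⟩
  · intro s; exact IsOpenImmersion.lift_fac _ _ _
  · intro s
    rw [← cancel_mono (A.ι U hU), Category.assoc, ← QCAlg.ι_specMap,
      IsOpenImmersion.lift_fac_assoc, s.condition]
  · intro s m h1 h2
    rw [← cancel_mono (B.ι U hU), h1, IsOpenImmersion.lift_fac]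

/-- Index type for affine opens. -/
structure AffIdx (S : Scheme.{u}) where
  U : S.Opens
  hU : IsAffineOpen U

/-- The open cover of a relative spectrum by its charts. -/
noncomputable def QCAlg.chartCover (A : QCAlg S) : A.spec.OpenCover :=
  Scheme.Cover.mkOfCovers (AffIdx S) (fun i ↦ Spec (A.presheaf.obj (op i.U)))
    (fun i ↦ A.ι i.U i.hU) (by
      intro x
      obtain ⟨_, ⟨U, hU : IsAffineOpen U, rfl⟩, hxU, -⟩ :=
        S.isBasis_affineOpens.exists_subset_of_mem_open (Set.mem_univ (A.π x)) isOpen_univ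
      have : x ∈ (A.ι U hU).opensRange := by rw [← A.π_preimage U hU]; exact hxU
      obtain ⟨y, hy⟩ := this
      exact ⟨⟨U, hU⟩, y, hy⟩) (fun i ↦ inferInstanceAs (IsOpenImmersion (A.ι i.U i.hU)))

/-- A property local on the target holds for `specMap φ` as soon as it holds for `Spec` of the
ring maps over all affine opens. -/
theorem QCAlg.specMap_of_charts (P : MorphismProperty Scheme.{u}) [IsZariskiLocalAtTarget P]
    (h : ∀ (U : S.Opens) (_ : IsAffineOpen U), P (Spec.map (φ.hom.app (op U)))) :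
    P (QCAlg.specMap φ) := by
  refine (IsZariskiLocalAtTarget.iff_of_openCover (P := P) (QCAlg.chartCover A)).mpr
    fun (i : AffIdx S) ↦ ?_
  have hpb := QCAlg.isPullback_chart_specMap φ i.U i.hU
  have e : pullback.snd (QCAlg.specMap φ) (A.ι i.U i.hU) =
      hpb.isoPullback.inv ≫ Spec.map (φ.hom.app (op i.U)) := by
    rw [Iso.eq_inv_comp]; exact hpb.isoPullback_hom_snd
  change P (pullback.snd (QCAlg.specMap φ) (A.ι i.U i.hU))
  rw [e, MorphismProperty.cancel_left_of_respectsIso (P := P)]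
  exact h i.U i.hU

end Groth.Agent.Lib.Helper3
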