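import Groth.Agent.Lib.Helper3.SpecMapChart
/-!
# Fibre products of relative spectra over the base, from chartwise pushouts
-/
universe u
open CategoryTheory CategoryTheory.Limits AlgebraicGeometry Opposite TopologicalSpace
open RelSpec

namespace Groth.Agent.Lib.Helper3

variable {S : Scheme.{u}} {A A₁ A₂ : QCAlg S} (ψ₁ : A₁ ⟶ A) (ψ₂ : A₂ ⟶ A)

/-- If over every affine open `A(U)` is the pushout of `A₁(U)` and `A₂(U)` over `O(U)`, then
`Spec A` is the fibre product of `Spec A₁` and `Spec A₂` over `S`. -/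
theorem QCAlg.isPullback_specMap_of_charts
    (h : ∀ (U : S.Opens) (_ : IsAffineOpen U),
      IsPushout (A₁.str.app (op U)) (A₂.str.app (op U)) (ψ₁.hom.app (op U))
        (ψ₂.hom.app (op U))) :
    IsPullback (QCAlg.specMap ψ₁) (QCAlg.specMap ψ₂) A₁.π A₂.π := by
  refine Scheme.isPullback_of_openCover (QCAlg.specMap ψ₁) (QCAlg.specMap ψ₂) A₁.π A₂.π
    (QCAlg.chartCover A₁) fun (i : AffIdx S) ↦ ?_
  have left := QCAlg.isPullback_chart_specMap ψ₁ i.U i.hU
  have right := QCAlg.isPullback_chart A₂ i.U i.hU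
  have top := isPullback_SpecMap_of_isPushout _ _ _ _ (h i.U i.hU)
  -- top : IsPullback (Spec ψ₁) (Spec ψ₂) (Spec A₁.str) (Spec A₂.str)
  have P1 := top.flip.paste_horiz right
  rw [← QCAlg.ι_specMap i.U i.hU ψ₂, ← A₁.ι_π i.U i.hU] at P1
  -- P1 : IsPullback (A.ι ≫ specMap ψ₂) (Spec ψ₁) A₂.π (A₁.ι ≫ A₁.π)
  refine IsPullback.of_iso P1.flip left.isoPullback (Iso.refl _) (Iso.refl _) (Iso.refl _)
    ?_ ?_ ?_ ?_
  · exact (Category.comp_id _).trans left.isoPullback_hom_snd.symm
  · refine (Category.comp_id _).trans ?_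
    rw [← Category.assoc]
    congr 1
    exact (left.isoPullback_hom_fst).symm
  · exact (Category.comp_id _).trans (Category.id_comp _).symm
  · exact (Category.comp_id _).trans (Category.id_comp _).symm

end Groth.Agent.Lib.Helper3
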