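import Groth.Agent.Lib.Helper3.SubSh
/-!
# Sheafification of families of submodules of sections, suprema of subsheaves
-/
universe u v
open CategoryTheory CategoryTheory.Limits AlgebraicGeometry Opposite TopologicalSpace
open Groth.Agent.Lib.Helper29.QCoh

namespace Groth.Agent.Lib.Helper3

variable {X : Scheme.{u}}

/-- A family of submodules of sections stable under restriction (not necessarily local). -/
structure PreSubSh (F : X.Modules) where
  carrier : ∀ T : X.Opens, Submodule Γ(X, T) Γ(F, T)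
  res_mem : ∀ {T T' : X.Opens} (h : T' ≤ T) {s : Γ(F, T)}, s ∈ carrier T → res F h s ∈ carrier T'

namespace PreSubSh

variable {F : X.Modules} (P : PreSubSh F)

/-- The subsheaf of sections locally in `P`. -/
noncomputable def sheafify : SubSh F where
  carrier T :=
    { carrier := {s | ∀ x ∈ T, ∃ (T' : X.Opens) (h : T' ≤ T), x ∈ T' ∧ res F h s ∈ P.carrier T'}
      add_mem' := by
        intro a b ha hb x hx
        obtain ⟨T₁, h₁, hx₁, hm₁⟩ := ha x hx
        obtain ⟨T₂, h₂, hx₂, hm₂⟩ := hb x hx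
        refine ⟨T₁ ⊓ T₂, inf_le_left.trans h₁, ⟨hx₁, hx₂⟩, ?_⟩
        rw [map_add]
        refine Submodule.add_mem _ ?_ ?_
        · have := P.res_mem (inf_le_left : T₁ ⊓ T₂ ≤ T₁) hm₁
          rwa [res_res] at this
        · have := P.res_mem (inf_le_right : T₁ ⊓ T₂ ≤ T₂) hm₂
          rwa [res_res] at this
      zero_mem' := by
        intro x hx
        exact ⟨T, le_rfl, hx, by rw [map_zero]; exact Submodule.zero_mem _⟩
      smul_mem' := by
        intro r a ha x hx
        obtain ⟨T₁, h₁, hx₁, hm₁⟩ := ha x hx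
        refine ⟨T₁, h₁, hx₁, ?_⟩
        rw [res_smul]
        exact Submodule.smul_mem _ _ hm₁ }
  res_mem := fun {T T₂} h {s} hs => by
    intro x hx
    obtain ⟨T₁, h₁, hx₁, hm₁⟩ := hs x (h hx)
    refine ⟨T₁ ⊓ T₂, inf_le_right, ⟨hx₁, hx⟩, ?_⟩
    have := P.res_mem (inf_le_left : T₁ ⊓ T₂ ≤ T₁) hm₁
    rwa [res_res, ← res_res F h (inf_le_right : T₁ ⊓ T₂ ≤ T₂)] at this
  local_mem T s h := by
    intro x hx
    obtain ⟨T₁, h₁, hx₁, hm⟩ := h x hx
    obtain ⟨T', h', hx', hm'⟩ := hm x hx₁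
    refine ⟨T', h'.trans h₁, hx', ?_⟩
    rwa [res_res] at hm'

theorem mem_sheafify {T : X.Opens} {s : Γ(F, T)} :
    s ∈ P.sheafify.carrier T ↔
      ∀ x ∈ T, ∃ (T' : X.Opens) (h : T' ≤ T), x ∈ T' ∧ res F h s ∈ P.carrier T' := Iff.rfl

theorem le_sheafify (T : X.Opens) : P.carrier T ≤ P.sheafify.carrier T := by
  intro s hs x hx
  exact ⟨T, le_rfl, hx, by rwa [res_self]⟩

theorem sheafify_le (K : SubSh F) (h : ∀ T, P.carrier T ≤ K.carrier T) (T : X.Opens) :
    P.sheafify.carrier T ≤ K.carrier T := by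
  intro s hs
  apply K.local_mem
  intro x hx
  obtain ⟨T', h', hx', hm⟩ := hs x hx
  exact ⟨T', h', hx', h T' hm⟩

/-- Localization property of `P` on the (affine) open `T`. -/
def IsQCOn (P : PreSubSh F) (T : X.Opens) : Prop :=
  ∀ (f : Γ(X, T)) (s : Γ(F, X.basicOpen f)), s ∈ P.carrier (X.basicOpen f) →
    ∃ (n : ℕ) (m : Γ(F, T)), m ∈ P.carrier T ∧
      (X.presheaf.map (homOfLE (X.basicOpen_le f)).op f) ^ n • s = res F (X.basicOpen_le f) m

/-- On an affine open on which `P` has the localization property, the sheafification has the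
same sections. -/
theorem sheafify_carrier_eq [F.IsQuasicoherent] {T : X.Opens} (hT : IsAffineOpen T)
    (h : P.IsQCOn T) : P.sheafify.carrier T = P.carrier T := by
  apply le_antisymm
  · intro t ht
    let s : Set Γ(X, T) := {r | ∃ n : ℕ, r ^ n • t ∈ P.carrier T}
    have hs : Ideal.span s = ⊤ := by
      apply ideal_eq_top_of_forall_mem_basicOpen hT
      intro x hx
      obtain ⟨T', h₁, hx', hm⟩ := ht x hx
      obtain ⟨r, hr, hxr⟩ := hT.exists_basicOpen_le ⟨x, hx'⟩ hx
      refine ⟨r, Ideal.subset_span ?_, hxr⟩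
      have h3 := P.res_mem hr hm
      rw [res_res] at h3
      obtain ⟨n, m, hm', e⟩ := h r _ h3
      have h0 : res F (X.basicOpen_le r) (r ^ n • t - m) = 0 := by
        rw [map_sub, res_smul, map_pow, e, sub_self]
      obtain ⟨n', hn'⟩ := exists_pow_smul_eq_zero F hT r _ h0
      refine ⟨n' + n, ?_⟩
      rw [smul_sub, sub_eq_zero, smul_smul, ← pow_add] at hn'
      rw [hn']
      exact Submodule.smul_mem _ _ hm'
    exact Submodule.mem_of_span_eq_top_of_smul_pow_mem _ s hs t (fun r => r.2)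
  · exact P.le_sheafify T

theorem isQCOn_sheafify [F.IsQuasicoherent] {T : X.Opens} (hT : IsAffineOpen T)
    (h : ∀ T' : X.Opens, IsAffineOpen T' → T' ≤ T → P.IsQCOn T') : P.sheafify.IsQCOn T := by
  intro f s hs
  rw [P.sheafify_carrier_eq (hT.basicOpen f) (h _ (hT.basicOpen f) (X.basicOpen_le f))] at hs
  obtain ⟨n, m, hm, e⟩ := h T hT le_rfl f s hs
  exact ⟨n, m, P.le_sheafify T hm, e⟩

end PreSubSh

namespace SubSh

variable {F : X.Modules}

/-- The presheaf supremum of a family of subsheaves. -/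
noncomputable def supPre {ι : Sort*} (K : ι → SubSh F) : PreSubSh F where
  carrier T := ⨆ i, (K i).carrier T
  res_mem := fun {T T'} h {s} hs => by
    induction hs using Submodule.iSup_induction' with
    | mem i x hx => exact Submodule.mem_iSup_of_mem i ((K i).res_mem h hx)
    | zero => rw [map_zero]; exact Submodule.zero_mem _
    | add x y _ _ hx hy => rw [map_add]; exact Submodule.add_mem _ hx hy

theorem isQCOn_supPre {ι : Sort*} (K : ι → SubSh F) {T : X.Opens}
    (h : ∀ i, (K i).IsQCOn T) : (supPre K).IsQCOn T := by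
  intro f s hs
  set f' := X.presheaf.map (homOfLE (X.basicOpen_le f)).op f with hf'
  induction hs using Submodule.iSup_induction' with
  | mem i x hx =>
    obtain ⟨n, m, hm, e⟩ := h i f x hx
    exact ⟨n, m, Submodule.mem_iSup_of_mem i hm, e⟩
  | zero => exact ⟨0, 0, Submodule.zero_mem _, by rw [smul_zero, map_zero]⟩
  | add x y _ _ hx hy =>
    obtain ⟨n₁, m₁, hm₁, e₁⟩ := hx
    obtain ⟨n₂, m₂, hm₂, e₂⟩ := hy
    refine ⟨n₁ + n₂, f ^ n₂ • m₁ + f ^ n₁ • m₂,
      Submodule.add_mem _ (Submodule.smul_mem _ _ hm₁) (Submodule.smul_mem _ _ hm₂), ?_⟩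
    rw [map_add, res_smul, res_smul, map_pow, map_pow, ← e₁, ← e₂, smul_add, smul_smul, smul_smul,
      ← pow_add, ← pow_add, add_comm n₂ n₁]

/-- The supremum of a family of subsheaves. -/
noncomputable def iSup {ι : Sort*} (K : ι → SubSh F) : SubSh F := (supPre K).sheafify

theorem le_iSup {ι : Sort*} (K : ι → SubSh F) (i : ι) (T : X.Opens) :
    (K i).carrier T ≤ (iSup K).carrier T :=
  (_root_.le_iSup (fun i => (K i).carrier T) i).trans ((supPre K).le_sheafify T)

theorem iSup_carrier_eq [F.IsQuasicoherent] {ι : Sort*} (K : ι → SubSh F) {T : X.Opens}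
    (hT : IsAffineOpen T) (h : ∀ i, (K i).IsQCOn T) :
    (iSup K).carrier T = ⨆ i, (K i).carrier T :=
  (supPre K).sheafify_carrier_eq hT (isQCOn_supPre K h)

theorem isQCOn_iSup [F.IsQuasicoherent] {ι : Sort*} (K : ι → SubSh F) {T : X.Opens}
    (hT : IsAffineOpen T)
    (h : ∀ i (T' : X.Opens), IsAffineOpen T' → T' ≤ T → (K i).IsQCOn T') : (iSup K).IsQCOn T :=
  (supPre K).isQCOn_sheafify hT (fun T' hT' hle => isQCOn_supPre K (fun i => h i T' hT' hle))

theorem iSup_fg [F.IsQuasicoherent] {ι : Type*} [Finite ι] (K : ι → SubSh F) {T : X.Opens}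
    (hT : IsAffineOpen T) (h : ∀ i, (K i).IsQCOn T) (hfg : ∀ i, ((K i).carrier T).FG) :
    ((iSup K).carrier T).FG := by
  rw [iSup_carrier_eq K hT h]
  exact Submodule.fg_iSup _ hfg

end SubSh

end Groth.Agent.Lib.Helper3
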