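import Groth.Agent.Lib.Helper3.SubShExt
/-!
# Transfinite extension of finite type quasi-coherent subsheaves (EGA I 9.4.7)
-/
universe u v
open CategoryTheory CategoryTheory.Limits AlgebraicGeometry Opposite TopologicalSpace
open Groth.Agent.Lib.Helper29.QCoh

namespace Groth.Agent.Lib.Helper3

variable {X : Scheme.{u}} {F : X.Modules}

namespace SubSh

theorem IsQCOn.congr {K K' : SubSh F} {O T₀ : X.Opens}
    (h : ∀ T : X.Opens, T ≤ O → K.carrier T = K'.carrier T) (hT₀ : T₀ ≤ O)
    (hq : K'.IsQCOn T₀) : K.IsQCOn T₀ := by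
  intro f s hs
  rw [h _ ((X.basicOpen_le f).trans hT₀)] at hs
  obtain ⟨n, m, hm, e⟩ := hq f s hs
  exact ⟨n, m, by rw [h _ hT₀]; exact hm, e⟩

section Trans

variable {L : Type v} [LinearOrder L] [WellFoundedLT L] (V : L → X.Opens) (U : X.Opens)
  (N₀ : SubSh F)

/-- The family of subsheaves: `N₀` and the `genSub (V l) (S l)`. -/
noncomputable def famN (S : ∀ l, Set Γ(F, V l)) : Option L → SubSh F
  | none => N₀
  | some l => genSub (V l) (S l)

/-- The opens with respect to which the members of the family are saturated. -/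
def famO : Option L → X.Opens
  | none => U
  | some l => V l

/-- Indices below a set `I ⊆ L` (together with `none`). -/
def Idx (I : Set L) : Type v := {a : Option L // ∀ l, a = some l → l ∈ I}

/-- The partial infimum. -/
noncomputable def Kpart (I : Set L) (S : ∀ l, Set Γ(F, V l)) : SubSh F :=
  iInf (fun a : Idx I => famN V N₀ S a.1)

theorem Kpart_congr (I : Set L) (S S' : ∀ l, Set Γ(F, V l)) (h : ∀ l ∈ I, S l = S' l) :
    Kpart V N₀ I S = Kpart V N₀ I S' := by
  unfold Kpart
  congr 1
  funext a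
  obtain ⟨a, ha⟩ := a
  cases a with
  | none => rfl
  | some l => simp only [famN]; rw [h l (ha l rfl)]

/-- The open `W_l = U ∪ ⋃_{m<l} V_m`. -/
def Wl (l : L) : X.Opens := U ⊔ ⨆ m : {m // m < l}, V m.1

/-- `S'` generates `K` on `V l ⊓ W_l`. -/
def Fits (l : L) (K : SubSh F) (S' : Set Γ(F, V l)) : Prop :=
  ∀ T : X.Opens, T ≤ V l → T ≤ Wl V U l → (genSub (V l) S').carrier T = K.carrier T

open Classical in
/-- The choice of a finite generating set at stage `l`. -/
noncomputable def chooseS (l : L) (K : SubSh F) : Set Γ(F, V l) :=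
  if h : ∃ S' : Set Γ(F, V l), S'.Finite ∧ Fits V U l K S' then h.choose else ∅

open Classical in
/-- The transfinite family of finite generating sets. -/
noncomputable def Sfam : ∀ l : L, Set Γ(F, V l) :=
  WellFounded.fix (wellFounded_lt (α := L)) (fun l rec =>
    chooseS V U l (Kpart V N₀ (Set.Iio l) (fun m => if h : m < l then rec m h else ∅)))

theorem Sfam_eq (l : L) :
    Sfam V U N₀ l = chooseS V U l (Kpart V N₀ (Set.Iio l) (Sfam V U N₀)) := by
  unfold Sfam
  rw [WellFounded.fix_eq]
  congr 1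
  apply Kpart_congr
  intro m hm
  exact dif_pos hm

/-- Pairwise compatibility of two members of the family. -/
def Compat (S : ∀ l, Set Γ(F, V l)) (a b : Option L) : Prop :=
  ∀ T : X.Opens, T ≤ famO V U a → T ≤ famO V U b →
    (famN V N₀ S a).carrier T = (famN V N₀ S b).carrier T

omit [LinearOrder L] [WellFoundedLT L] in
theorem Compat.symm {S : ∀ l, Set Γ(F, V l)} {a b : Option L} (h : Compat V U N₀ S a b) :
    Compat V U N₀ S b a := fun T h1 h2 => (h T h2 h1).symm

omit [LinearOrder L] [WellFoundedLT L] in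
theorem isSat_famN (hsat : IsSat N₀ U) (S : ∀ l, Set Γ(F, V l)) (a : Option L) :
    IsSat (famN V N₀ S a) (famO V U a) := by
  cases a with
  | none => exact hsat
  | some l => exact isSat_genSub (V l) (S l)

omit [LinearOrder L] [WellFoundedLT L] in
theorem Kpart_carrier_eq (hsat : IsSat N₀ U) (I : Set L) (S : ∀ l, Set Γ(F, V l))
    (hpc : ∀ a b : Idx I, Compat V U N₀ S a.1 b.1) (a : Idx I) (T : X.Opens)
    (hT : T ≤ famO V U a.1) :
    (Kpart V N₀ I S).carrier T = (famN V N₀ S a.1).carrier T :=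
  iInf_carrier_eq (fun a : Idx I => famN V N₀ S a.1) (fun a => famO V U a.1)
    (fun a => isSat_famN V U N₀ hsat S a.1) (fun a b T h1 h2 => hpc a b T h1 h2) a T hT

omit [WellFoundedLT L] in
theorem pc_of_B (S : ∀ l, Set Γ(F, V l)) (I : Set L)
    (hB : ∀ m ∈ I, ∀ a : Option L, (∀ l, a = some l → l < m) → Compat V U N₀ S a (some m)) :
    ∀ a b : Idx I, Compat V U N₀ S a.1 b.1 := by
  rintro ⟨a, ha⟩ ⟨b, hb⟩
  cases a with
  | none =>
    cases b with
    | none => intro T _ _; rfl
    | some m => exact hB m (hb m rfl) none (by intro l hl; cases hl)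
  | some l =>
    cases b with
    | none => exact (hB l (ha l rfl) none (by intro l' hl'; cases hl')).symm
    | some m =>
      rcases lt_trichotomy l m with h | h | h
      · exact hB m (hb m rfl) (some l) (by intro l' hl'; cases hl'; exact h)
      · subst h; intro T _ _; rfl
      · exact (hB l (ha l rfl) (some m) (by intro l' hl'; cases hl'; exact h)).symm

/-- The invariant of the transfinite construction at stage `l`. -/
def Inv (l : L) : Prop :=
  (Sfam V U N₀ l).Finite ∧
    Fits V U l (Kpart V N₀ (Set.Iio l) (Sfam V U N₀)) (Sfam V U N₀ l)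

theorem compat_of_inv (hsat : IsSat N₀ U) (m : L) (hInv : ∀ m' ≤ m, Inv V U N₀ m') :
    ∀ a : Option L, (∀ l, a = some l → l < m) → Compat V U N₀ (Sfam V U N₀) a (some m) := by
  induction m using WellFoundedLT.induction with
  | ind m IH =>
    intro a ha T hTa hTm
    have hTW : T ≤ Wl V U m := by
      cases a with
      | none => exact hTa.trans le_sup_left
      | some l =>
        exact hTa.trans (le_sup_of_le_right
          (le_iSup (fun m' : {m' // m' < m} => V m'.1) ⟨l, ha l rfl⟩))
    have hfit := (hInv m le_rfl).2 T hTm hTW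
    have hpc := pc_of_B V U N₀ (Sfam V U N₀) (Set.Iio m)
      (fun m' hm' => IH m' hm' (fun m'' hm'' => hInv m'' (hm''.trans (le_of_lt hm'))))
    have hK := Kpart_carrier_eq V U N₀ hsat (Set.Iio m) (Sfam V U N₀) hpc ⟨a, ha⟩ T hTa
    change _ = (genSub (V m) (Sfam V U N₀ m)).carrier T
    rw [hfit, hK]

omit [LinearOrder L] [WellFoundedLT L] in
theorem famN_nice [F.IsQuasicoherent]
    (hN₀ : ∀ T : X.Opens, IsAffineOpen T → T ≤ U → N₀.IsQCOn T ∧ (N₀.carrier T).FG)
    (S : ∀ l, Set Γ(F, V l)) (a : Option L) (hfin : ∀ l, a = some l → (S l).Finite)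
    (T : X.Opens) (hT : IsAffineOpen T) (hle : T ≤ famO V U a) :
    (famN V N₀ S a).IsQCOn T ∧ ((famN V N₀ S a).carrier T).FG := by
  cases a with
  | none => exact hN₀ T hT hle
  | some l =>
    exact ⟨isQCOn_genSub (V l) (S l) hT hle, genSub_fg (V l) (S l) (hfin l rfl) hT hle⟩

theorem inv_all [F.IsQuasicoherent] (hV : ∀ l, IsAffineOpen (V l)) (hsat : IsSat N₀ U)
    (hN₀ : ∀ T : X.Opens, IsAffineOpen T → T ≤ U → N₀.IsQCOn T ∧ (N₀.carrier T).FG)
    (hW : ∀ l, IsCompact ((V l ⊓ Wl V U l : X.Opens) : Set X)) (l : L) : Inv V U N₀ l := by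
  induction l using WellFoundedLT.induction with
  | ind l IH =>
    have hpc := pc_of_B V U N₀ (Sfam V U N₀) (Set.Iio l)
      (fun m hm => compat_of_inv V U N₀ hsat m (fun m' hm' => IH m' (lt_of_le_of_lt hm' hm)))
    have hex : ∃ S' : Set Γ(F, V l), S'.Finite ∧
        Fits V U l (Kpart V N₀ (Set.Iio l) (Sfam V U N₀)) S' := by
      obtain ⟨S', hfin, hS'⟩ := exists_finite_fits (Kpart V N₀ (Set.Iio l) (Sfam V U N₀)) (hV l)
        (Wl V U l) (hW l) (by
          intro x hx
          have hx2 : x ∈ U ∨ x ∈ ⨆ m : {m // m < l}, V m.1 := by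
            have := hx.2
            simpa [Wl] using this
          obtain ⟨a, hxa⟩ : ∃ a : Idx (Set.Iio l), x ∈ famO V U a.1 := by
            rcases hx2 with h | h
            · exact ⟨⟨none, by intro l' hl'; cases hl'⟩, h⟩
            · obtain ⟨m, hm⟩ := Opens.mem_iSup.mp h
              exact ⟨⟨some m.1, by intro l' hl'; cases hl'; exact m.2⟩, hm⟩
          have hOW : famO V U a.1 ≤ Wl V U l := by
            obtain ⟨a, ha⟩ := a
            cases a with
            | none => exact le_sup_left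
            | some m =>
              exact le_sup_of_le_right
                (le_iSup (fun m' : {m' // m' < l} => V m'.1) ⟨m, ha m rfl⟩)
          obtain ⟨f, hf, hxf⟩ := (hV l).exists_basicOpen_le (V := V l ⊓ famO V U a.1)
            ⟨x, ⟨hx.1, hxa⟩⟩ hx.1
          have hagree := fun T hT =>
            Kpart_carrier_eq V U N₀ hsat (Set.Iio l) (Sfam V U N₀) hpc a T hT
          obtain ⟨h1, h2⟩ := famN_nice V U N₀ hN₀ (Sfam V U N₀) a.1
            (fun m hm => (IH m (a.2 m hm)).1) (X.basicOpen f) ((hV l).basicOpen f)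
            (hf.trans inf_le_right)
          refine ⟨f, hxf, hf.trans (inf_le_right.trans hOW),
            IsQCOn.congr hagree (hf.trans inf_le_right) h1, ?_⟩
          rw [hagree _ (hf.trans inf_le_right)]
          exact h2)
      exact ⟨S', hfin, fun T h1 h2 => hS' T h1 h2⟩
    unfold Inv
    rw [Sfam_eq]
    unfold chooseS
    rw [dif_pos hex]
    exact hex.choose_spec

/-- Core of EGA I 9.4.7: transfinite extension of a quasi-coherent finite type subsheaf. -/
theorem exists_extension_core [F.IsQuasicoherent] (hV : ∀ l, IsAffineOpen (V l))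
    (hsat : IsSat N₀ U)
    (hN₀ : ∀ T : X.Opens, IsAffineOpen T → T ≤ U → N₀.IsQCOn T ∧ (N₀.carrier T).FG)
    (hW : ∀ l, IsCompact ((V l ⊓ Wl V U l : X.Opens) : Set X)) :
    ∃ K : SubSh F, (∀ T : X.Opens, T ≤ U → K.carrier T = N₀.carrier T) ∧
      ∀ (l : L) (T : X.Opens), IsAffineOpen T → T ≤ V l → K.IsQCOn T ∧ (K.carrier T).FG := by
  have hinv := inv_all V U N₀ hV hsat hN₀ hW
  have hpc := pc_of_B V U N₀ (Sfam V U N₀) Set.univ
    (fun m _ => compat_of_inv V U N₀ hsat m (fun m' _ => hinv m'))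
  refine ⟨Kpart V N₀ Set.univ (Sfam V U N₀),
    fun T hT => Kpart_carrier_eq V U N₀ hsat Set.univ (Sfam V U N₀) hpc
      ⟨none, by intro l' hl'; cases hl'⟩ T hT, fun l T hT hle => ?_⟩
  have hagree := fun T' hT' => Kpart_carrier_eq V U N₀ hsat Set.univ (Sfam V U N₀) hpc
    ⟨some l, fun _ _ => Set.mem_univ _⟩ T' hT'
  obtain ⟨h1, h2⟩ := famN_nice V U N₀ hN₀ (Sfam V U N₀) (some l)
    (fun m _ => (hinv m).1) T hT hle
  exact ⟨IsQCOn.congr hagree hle h1, by rw [hagree T hle]; exact h2⟩

end Trans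

end SubSh

end Groth.Agent.Lib.Helper3
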