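import Groth.Agent.Lib.Helper3.RestrMod
/-!
# A criterion for being the symmetric algebra, on affine opens; restriction of the symmetric algebra to an open
-/
set_option autoImplicit false
set_option linter.unusedSectionVars false
universe u
open CategoryTheory CategoryTheory.Limits AlgebraicGeometry Opposite TopologicalSpace
open scoped HomogeneousIdeal
open Groth.Agent.Lib.Helper29.QCoh AlgebraicGeometry.Scheme.AffineZariskiSite

namespace Groth.Agent.Lib.Helper3.Restr
open RelProj RelSpec Groth.Agent.Lib.Helper3 Groth.Agent.Lib.Helper3.SymAlg Groth.Agent.Lib.Helper3.SymQC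

variable {S : Scheme.{u}} {E : S.Modules} [E.IsQuasicoherent]

/-- a homomorphism of quasi-coherent algebras bijective on the affine opens is an isomorphism -/
theorem exists_inv_of_bijective_aff {A B : QCAlg S} (ψ : A ⟶ B)
    (H : ∀ (U : S.Opens) (_ : IsAffineOpen U), Function.Bijective (ψ.hom.app (op U)).hom) :
    ∃ g : B ⟶ A, ψ ≫ g = 𝟙 A ∧ g ≫ ψ = 𝟙 B := by
  let FA : TopCat.Sheaf CommRingCat.{u} S.carrier := ⟨A.presheaf, A.isSheaf⟩
  let FB : TopCat.Sheaf CommRingCat.{u} S.carrier := ⟨B.presheaf, B.isSheaf⟩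
  let α : FA ⟶ FB := ⟨ψ.hom⟩
  have hiso : IsIso (Functor.whiskerLeft (toOpensFunctor S).op α.hom) := by
    haveI : ∀ W, IsIso ((Functor.whiskerLeft (toOpensFunctor S).op α.hom).app W) := fun W => by
      have hb := H W.unop.1 W.unop.2
      exact (ConcreteCategory.isIso_iff_bijective (C := CommRingCat) _).mpr hb
    exact NatIso.isIso_of_isIso_app _
  have hα : IsIso α := Functor.IsCoverDense.iso_of_restrict_iso (G := toOpensFunctor S)
    (K := Opens.grothendieckTopology S) α hiso
  have hψ : IsIso ψ.hom := by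
    exact @Functor.map_isIso _ _ _ _ _ _ (sheafToPresheaf (Opens.grothendieckTopology S) CommRingCat.{u}) α hα
  refine ⟨⟨inv ψ.hom, ?_⟩, ?_, ?_⟩
  · rw [← ψ.comm, Category.assoc, IsIso.hom_inv_id, Category.comp_id]
  · exact QCAlg.hom_ext (IsIso.hom_inv_id ψ.hom)
  · exact QCAlg.hom_ext (IsIso.inv_hom_id ψ.hom)

/-- **criterion**: `(A, j)` is the symmetric algebra of `E` as soon as over every affine open `U` the induced ring map
`Sym(E(U)) → A(U)` is bijective. -/
theorem isSymAlg_of_bijective (A : QCAlg S) (j : E ⟶ A.toModule)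
    (H : ∀ (U : S.Opens) (_ : IsAffineOpen U), Function.Bijective (liftSec A j U)) : IsSymAlg E A j := by
  obtain ⟨g, h1, h2⟩ := exists_inv_of_bijective_aff (liftHom A j) (fun U hU => by
    have hfun : ⇑((liftHom A j).hom.app (op U)).hom = ⇑(liftSec A j U) ∘ ⇑(γh E U hU) := by
      funext a; exact liftHom_app A j U hU a
    rw [hfun]
    refine (H U hU).comp ?_
    exact ⟨fun a b hab => by rw [← γi_γh E U hU a, hab, γi_γh], fun b => ⟨γi E U hU b, γh_γi E U hU b⟩⟩)
  have hj : SymQC.j E ≫ QCAlg.Hom.toModuleMap (liftHom A j) = j := j_liftHom A j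
  intro B φ
  refine ⟨g ≫ liftHom B φ, ?_, fun ψ' hψ' => ?_⟩
  · change j ≫ QCAlg.Hom.toModuleMap (g ≫ liftHom B φ) = φ
    rw [← hj, Category.assoc, ← toModuleMap_comp, ← Category.assoc, h1, Category.id_comp, j_liftHom]
  · have h3 : liftHom A j ≫ ψ' = liftHom B φ := by
      refine liftHom_unique B φ _ ?_
      rw [toModuleMap_comp, ← Category.assoc, hj]
      exact hψ'
    rw [← h3, ← Category.assoc, h2, Category.id_comp]

omit [E.IsQuasicoherent] in
/-- for the symmetric algebra, the induced ring maps are bijective on affine opens -/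
theorem bijective_liftSec_of_isSymAlg [E.IsQuasicoherent] {A : QCAlg S} {j : E ⟶ A.toModule} (hA : IsSymAlg E A j)
    (U : S.Opens) (hU : IsAffineOpen U) : Function.Bijective (liftSec A j U) := by
  obtain ⟨e, he1, he2⟩ := exists_ringEquiv_of_isSymAlg hA U hU
  have : liftSec A j U = e.toRingHom := ringHom_ext
    (fun r => by rw [liftSec_algebraMap]; exact (he1 r).symm)
    (fun m => by rw [liftSec_ι]; exact (he2 m).symm)
  rw [this]
  exact e.bijective

theorem bijective_liftSemi_congr {R M A : Type u} [CommRing R] [AddCommGroup M] [CommRing A]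
    (m1 m2 : Module R M) (h : ∀ (r : R) (x : M), m1.smul r x = m2.smul r x)
    (ρ : R →+* A) (f : M →+ A) (hf1 : ∀ r m, f (m1.smul r m) = ρ r * f m)
    (hf2 : ∀ r m, f (m2.smul r m) = ρ r * f m)
    (H : Function.Bijective (@liftSemi R M A _ _ m2 _ ρ f hf2)) :
    Function.Bijective (@liftSemi R M A _ _ m1 _ ρ f hf1) := by
  obtain rfl : m1 = m2 := Module.ext' _ _ h
  exact H

/-- the restriction of the symmetric algebra to an open subscheme is the symmetric algebra of the restriction -/
theorem isSymAlg_restr {A : QCAlg S} {j : E ⟶ A.toModule} (hA : IsSymAlg E A j) (W : S.Opens) :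
    IsSymAlg (E.restrict W.ι) (qcAlg A W) (restrJ j W) := by
  refine isSymAlg_of_bijective _ _ fun V hV => ?_
  have hb := bijective_liftSec_of_isSymAlg hA (W.ι ''ᵁ V) (hV.image_of_isOpenImmersion W.ι)
  unfold liftSec at hb ⊢
  exact bijective_liftSemi_congr _ _ (fun r x => restrict_smul W V r x) _ _ _ _ hb

theorem isGrSymAlg_restr {𝒮 : QCGrAlg S} {j : E ⟶ 𝒮.toModule} (h : IsGrSymAlg E 𝒮 j) (W : S.Opens) :
    IsGrSymAlg (E.restrict W.ι) (grAlg 𝒮 W) (restrJ j W) :=
  ⟨isSymAlg_restr h.1 W, fun V hV x => h.2 (W.ι ''ᵁ V) (hV.image_of_isOpenImmersion W.ι) x⟩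

end Groth.Agent.Lib.Helper3.Restr
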