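import Groth.Agent.Lib.Helper3.SymAlgLoc
/-!
# Base change of symmetric algebras (ring level): `Sym_{R'}(R' ⊗ M)` is the pushout of `R'` and `Sym_R M`
-/
set_option autoImplicit false
universe u
open CategoryTheory CategoryTheory.Limits
open scoped TensorProduct

namespace Groth.Agent.Lib.Helper3.SymAlg
open SymmetricAlgebra

section BC
variable {R R' M M' : Type u} [CommRing R] [CommRing R'] [AddCommGroup M] [Module R M]
  [AddCommGroup M'] [Module R' M']

/-- **Base change of symmetric algebras.** If `M'` is the base change of `M` along `ρ : R → R'`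
(through `f : M → M'`), then `Sym_{R'} M'` is the pushout of `R'` and `Sym_R M` over `R`. -/
theorem isPushout_sym_baseChange (ρ : R →+* R') (f : M →+ M') (hf : ∀ r m, f (r • m) = ρ r • f m)
    (τ : letI := ρ.toAlgebra; M' ≃ₗ[R'] R' ⊗[R] M)
    (hτ : letI := ρ.toAlgebra; ∀ m, τ (f m) = (1 : R') ⊗ₜ[R] m) :
    IsPushout (CommRingCat.ofHom ρ) (CommRingCat.ofHom (algebraMap R (SymmetricAlgebra R M)))
      (CommRingCat.ofHom (algebraMap R' (SymmetricAlgebra R' M')))
      (CommRingCat.ofHom (symMap ρ f hf)) := by
  letI := ρ.toAlgebra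
  have w : CommRingCat.ofHom ρ ≫ CommRingCat.ofHom (algebraMap R' (SymmetricAlgebra R' M')) =
      CommRingCat.ofHom (algebraMap R (SymmetricAlgebra R M)) ≫
        CommRingCat.ofHom (symMap ρ f hf) := by
    ext r
    exact (symMap_algebraMap ρ f hf r).symm
  -- every element of `M'` is a combination of images
  have hgen : ∀ (P : M' → Prop), P 0 → (∀ a b, P a → P b → P (a + b)) →
      (∀ (r' : R') (m : M), P (r' • f m)) → ∀ m', P m' := by
    intro P h0 hadd hsm m'
    have key : ∀ t : R' ⊗[R] M, P (τ.symm t) := by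
      intro t
      induction t using TensorProduct.induction_on with
      | zero => rw [map_zero]; exact h0
      | tmul r' m =>
        have : τ.symm (r' ⊗ₜ[R] m) = r' • f m := by
          rw [LinearEquiv.symm_apply_eq, map_smul, hτ, TensorProduct.smul_tmul', smul_eq_mul, mul_one]
        rw [this]
        exact hsm r' m
      | add a b ha hb => rw [map_add]; exact hadd _ _ ha hb
    simpa using key (τ m')
  have hs : ∀ s : PushoutCocone (CommRingCat.ofHom ρ)
      (CommRingCat.ofHom (algebraMap R (SymmetricAlgebra R M))),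
      ∀ r : R, s.inl.hom (ρ r) = s.inr.hom (algebraMap R _ r) := fun s r =>
    congrArg (fun k => k.hom r) s.condition
  have hι : ∀ (r : R) (x : M), ι R M (r • x) = algebraMap R _ r * ι R M x := fun r x => by
    rw [map_smul, Algebra.smul_def]
  -- the additive map `R' ⊗ M → s.pt`
  let L : ∀ s : PushoutCocone (CommRingCat.ofHom ρ)
      (CommRingCat.ofHom (algebraMap R (SymmetricAlgebra R M))), R' ⊗[R] M →+ s.pt := fun s =>
    TensorProduct.liftAddHom
      ((AddMonoidHom.mul (R := s.pt)).comp s.inl.hom.toAddMonoidHom |>.flip.comp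
        (s.inr.hom.toAddMonoidHom.comp (ι R M).toAddMonoidHom) |>.flip)
      (fun r r' m => by
        change s.inl.hom (r • r') * s.inr.hom (ι R M m) = s.inl.hom r' * s.inr.hom (ι R M (r • m))
        rw [hι, map_mul, ← hs s r, Algebra.smul_def, map_mul]
        change s.inl.hom (ρ r) * s.inl.hom r' * _ = _
        ring)
  have hL : ∀ s r' m, L s (r' ⊗ₜ[R] m) = s.inl.hom r' * s.inr.hom (ι R M m) := fun s r' m => rfl
  have hLsm : ∀ s (r' : R') (t : R' ⊗[R] M), L s (r' • t) = s.inl.hom r' * L s t := by
    intro s r' t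
    induction t using TensorProduct.induction_on with
    | zero => rw [smul_zero, map_zero, mul_zero]
    | tmul a m =>
      rw [TensorProduct.smul_tmul', hL, hL, smul_eq_mul, map_mul, mul_assoc]
    | add a b ha hb => rw [smul_add, map_add, map_add, ha, hb, mul_add]
  let d : ∀ s : PushoutCocone (CommRingCat.ofHom ρ)
      (CommRingCat.ofHom (algebraMap R (SymmetricAlgebra R M))),
      SymmetricAlgebra R' M' →+* s.pt := fun s =>
    liftSemi s.inl.hom ((L s).comp τ.toLinearMap.toAddMonoidHom) (fun r' m' => by
      change L s (τ (r' • m')) = s.inl.hom r' * L s (τ m')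
      rw [map_smul, hLsm])
  have hd1 : ∀ s r', d s (algebraMap R' _ r') = s.inl.hom r' := fun s r' =>
    liftSemi_algebraMap _ _ _ r'
  have hd2 : ∀ s m', d s (ι R' M' m') = L s (τ m') := fun s m' => liftSemi_ι _ _ _ m'
  refine ⟨⟨w⟩, ⟨PushoutCocone.IsColimit.mk w (fun s => CommRingCat.ofHom (d s)) ?_ ?_ ?_⟩⟩
  · intro s
    ext r'
    exact hd1 s r'
  · intro s
    ext x
    have : (d s).comp (symMap ρ f hf) = s.inr.hom := by
      refine ringHom_ext (fun r => ?_) (fun m => ?_)
      · rw [RingHom.comp_apply, symMap_algebraMap, hd1, hs]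
      · rw [RingHom.comp_apply, symMap_ι, hd2, hτ, hL, map_one, one_mul]
    exact congrArg (fun k => k x) this
  · intro s m h1 h2
    ext x
    have : m.hom = d s := by
      refine ringHom_ext (fun r' => ?_) (fun m' => ?_)
      · rw [hd1]
        exact congrArg (fun k => k.hom r') h1
      · refine hgen (fun m' => m.hom (ι R' M' m') = d s (ι R' M' m')) ?_ ?_ ?_ m'
        · simp only [map_zero]
        · intro a b ha hb
          simp only [map_add, ha, hb]
        · intro r' m₀
          have e1 : ι R' M' (r' • f m₀) = algebraMap R' _ r' * symMap ρ f hf (ι R M m₀) := by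
            rw [map_smul, Algebra.smul_def, symMap_ι]
          have a1 : m.hom (algebraMap R' _ r') = s.inl.hom r' := congrArg (fun k => k.hom r') h1
          have a2 : m.hom (symMap ρ f hf (ι R M m₀)) = s.inr.hom (ι R M m₀) :=
            congrArg (fun k => k.hom (ι R M m₀)) h2
          have b2 : d s (symMap ρ f hf (ι R M m₀)) = s.inr.hom (ι R M m₀) := by
            rw [symMap_ι, hd2, hτ, hL, map_one, one_mul]
          rw [e1, map_mul, map_mul, a1, a2, hd1, b2]
    exact congrArg (fun k => k x) this

end BC

end Groth.Agent.Lib.Helper3.SymAlg
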