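import Mathlib
/-!
# Symmetric algebras: semilinear functoriality and localization
-/
namespace Groth.Agent.Lib.Helper3.SymAlg
open SymmetricAlgebra

section liftSemi
variable {R M A : Type*} [CommRing R] [AddCommGroup M] [Module R M] [CommRing A]

/-- Ring homomorphism out of `Sym_R M` from a ring homomorphism on `R` and a semilinear map on
`M`. -/
noncomputable def liftSemi (ρ : R →+* A) (f : M →+ A) (hf : ∀ r m, f (r • m) = ρ r * f m) :
    SymmetricAlgebra R M →+* A :=
  letI := ρ.toAlgebra
  (SymmetricAlgebra.lift (R := R) (M := M) (A := A)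
    { toFun := f
      map_add' := f.map_add
      map_smul' := fun r m => by
        rw [RingHom.id_apply, hf]; rfl }).toRingHom

theorem liftSemi_algebraMap (ρ : R →+* A) (f : M →+ A) (hf : ∀ r m, f (r • m) = ρ r * f m)
    (r : R) : liftSemi ρ f hf (algebraMap R (SymmetricAlgebra R M) r) = ρ r := by
  let _ := ρ.toAlgebra
  exact AlgHom.commutes _ r

theorem liftSemi_ι (ρ : R →+* A) (f : M →+ A) (hf : ∀ r m, f (r • m) = ρ r * f m)
    (m : M) : liftSemi ρ f hf (ι R M m) = f m := by
  let _ := ρ.toAlgebra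
  exact lift_ι_apply _ m

theorem ringHom_ext {φ ψ : SymmetricAlgebra R M →+* A}
    (h1 : ∀ r, φ (algebraMap R _ r) = ψ (algebraMap R _ r))
    (h2 : ∀ m, φ (ι R M m) = ψ (ι R M m)) : φ = ψ := by
  refine RingHom.ext fun x => ?_
  induction x using SymmetricAlgebra.induction with
  | algebraMap r => exact h1 r
  | ι m => exact h2 m
  | mul a b ha hb => rw [map_mul, map_mul, ha, hb]
  | add a b ha hb => rw [map_add, map_add, ha, hb]

end liftSemi

section symMap
variable {R R' M M' : Type*} [CommRing R] [CommRing R'] [AddCommGroup M] [Module R M]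
  [AddCommGroup M'] [Module R' M']

/-- Semilinear functoriality of the symmetric algebra. -/
noncomputable def symMap (ρ : R →+* R') (f : M →+ M') (hf : ∀ r m, f (r • m) = ρ r • f m) :
    SymmetricAlgebra R M →+* SymmetricAlgebra R' M' :=
  liftSemi ((algebraMap R' (SymmetricAlgebra R' M')).comp ρ)
    ((ι R' M').toAddMonoidHom.comp f) (fun r m => by
      change ι R' M' (f (r • m)) = algebraMap R' _ (ρ r) * ι R' M' (f m)
      rw [hf, map_smul, Algebra.smul_def])

theorem symMap_algebraMap (ρ : R →+* R') (f : M →+ M') (hf : ∀ r m, f (r • m) = ρ r • f m)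
    (r : R) : symMap ρ f hf (algebraMap R _ r) = algebraMap R' _ (ρ r) :=
  liftSemi_algebraMap _ _ _ r

theorem symMap_ι (ρ : R →+* R') (f : M →+ M') (hf : ∀ r m, f (r • m) = ρ r • f m)
    (m : M) : symMap ρ f hf (ι R M m) = ι R' M' (f m) :=
  liftSemi_ι _ _ _ m

theorem symMap_id : symMap (RingHom.id R) (AddMonoidHom.id M) (fun _ _ => rfl) =
    RingHom.id (SymmetricAlgebra R M) :=
  ringHom_ext (fun r => by rw [symMap_algebraMap]; rfl) (fun m => by rw [symMap_ι]; rfl)

theorem symMap_comp {R'' M'' : Type*} [CommRing R''] [AddCommGroup M''] [Module R'' M'']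
    (ρ : R →+* R') (f : M →+ M') (hf : ∀ r m, f (r • m) = ρ r • f m)
    (ρ' : R' →+* R'') (f' : M' →+ M'') (hf' : ∀ r m, f' (r • m) = ρ' r • f' m) :
    (symMap ρ' f' hf').comp (symMap ρ f hf) =
      symMap (ρ'.comp ρ) (f'.comp f) (fun r m => by
        change f' (f (r • m)) = ρ' (ρ r) • f' (f m)
        rw [hf, hf']) :=
  ringHom_ext
    (fun r => by
      rw [RingHom.comp_apply, symMap_algebraMap, symMap_algebraMap, symMap_algebraMap]; rfl)
    (fun m => by rw [RingHom.comp_apply, symMap_ι, symMap_ι, symMap_ι]; rfl)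

end symMap

section loc
variable {R R' M M' : Type*} [CommRing R] [CommRing R'] [Algebra R R'] [AddCommGroup M]
  [Module R M] [AddCommGroup M'] [Module R M'] [Module R' M'] [IsScalarTower R R' M']

/-- The map on symmetric algebras induced by a linear map to a module over an algebra. -/
noncomputable def symMapₗ (f : M →ₗ[R] M') : SymmetricAlgebra R M →+* SymmetricAlgebra R' M' :=
  symMap (algebraMap R R') f.toAddMonoidHom (fun r m => by
    change f (r • m) = algebraMap R R' r • f m
    rw [map_smul, algebraMap_smul])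

theorem symMapₗ_algebraMap (f : M →ₗ[R] M') (r : R) :
    symMapₗ (R' := R') f (algebraMap R _ r) = algebraMap R' _ (algebraMap R R' r) :=
  symMap_algebraMap _ _ _ r

theorem symMapₗ_ι (f : M →ₗ[R] M') (m : M) :
    symMapₗ (R' := R') f (ι R M m) = ι R' M' (f m) :=
  symMap_ι _ _ _ m

variable (r : R) [IsLocalization.Away r R'] (f : M →ₗ[R] M')
  [IsLocalizedModule (Submonoid.powers r) f]

omit [IsLocalizedModule (Submonoid.powers r) f] in
theorem symMapₗ_isUnit (n : ℕ) :
    IsUnit (symMapₗ (R' := R') f (algebraMap R (SymmetricAlgebra R M) r ^ n)) := by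
  rw [map_pow, symMapₗ_algebraMap]
  exact ((IsLocalization.Away.algebraMap_isUnit r).map (algebraMap R' _)).pow n

theorem symMapₗ_surj (b : SymmetricAlgebra R' M') :
    ∃ (n : ℕ) (a : SymmetricAlgebra R M),
      b * symMapₗ (R' := R') f (algebraMap R (SymmetricAlgebra R M) r) ^ n = symMapₗ f a := by
  induction b using SymmetricAlgebra.induction with
  | algebraMap r' =>
    obtain ⟨n, a0, h⟩ := IsLocalization.Away.surj r r'
    refine ⟨n, algebraMap R _ a0, ?_⟩
    rw [symMapₗ_algebraMap, symMapₗ_algebraMap, ← map_pow, ← map_mul, h]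
  | ι m' =>
    obtain ⟨⟨m, ⟨_, n, rfl⟩⟩, h⟩ := IsLocalizedModule.surj (Submonoid.powers r) f m'
    refine ⟨n, ι R M m, ?_⟩
    rw [symMapₗ_ι, symMapₗ_algebraMap, ← map_pow, mul_comm, ← Algebra.smul_def, ← map_smul]
    congr 1
    change (r ^ n) • m' = f m at h
    rw [← h, ← map_pow, algebraMap_smul]
  | mul b1 b2 h1 h2 =>
    obtain ⟨n1, a1, e1⟩ := h1
    obtain ⟨n2, a2, e2⟩ := h2
    refine ⟨n1 + n2, a1 * a2, ?_⟩
    rw [map_mul, ← e1, ← e2, pow_add]; ring
  | add b1 b2 h1 h2 =>
    obtain ⟨n1, a1, e1⟩ := h1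
    obtain ⟨n2, a2, e2⟩ := h2
    refine ⟨n1 + n2, a1 * algebraMap R _ r ^ n2 + a2 * algebraMap R _ r ^ n1, ?_⟩
    rw [map_add, map_mul, map_mul, ← e1, ← e2, pow_add, map_pow, map_pow]; ring

theorem isUnit_end_of_isUnit {L : Type*} [CommRing L] [Algebra R L] (c : R)
    (hc : IsUnit (algebraMap R L c)) : IsUnit (algebraMap R (Module.End R L) c) := by
  rw [Module.End.isUnit_iff]
  obtain ⟨u, hu⟩ := hc
  refine ⟨fun a b hab => ?_, fun b => ⟨(↑u⁻¹ : L) * b, ?_⟩⟩
  · have hab' : c • a = c • b := hab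
    rw [Algebra.smul_def, Algebra.smul_def, ← hu] at hab'
    have := congrArg (fun z => (↑u⁻¹ : L) * z) hab'
    simpa only [← mul_assoc, Units.inv_mul, one_mul] using this
  · change c • ((↑u⁻¹ : L) * b) = b
    rw [Algebra.smul_def, ← hu, ← mul_assoc, Units.mul_inv, one_mul]

theorem symMapₗ_exists_of_eq (a a' : SymmetricAlgebra R M)
    (h : symMapₗ (R' := R') f a = symMapₗ f a') :
    ∃ n : ℕ, algebraMap R (SymmetricAlgebra R M) r ^ n * a =
      algebraMap R (SymmetricAlgebra R M) r ^ n * a' := by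
  let A := SymmetricAlgebra R M
  let x : A := algebraMap R A r
  let L := Localization.Away x
  have hxu : IsUnit (algebraMap A L x) := IsLocalization.Away.algebraMap_isUnit x
  have hru : IsUnit (algebraMap R L r) := by
    rw [IsScalarTower.algebraMap_apply R A L]; exact hxu
  -- the ring map R' → L
  let σ : R' →+* L := IsLocalization.Away.lift r (g := algebraMap R L) hru
  have hσ : ∀ c : R, σ (algebraMap R R' c) = algebraMap R L c :=
    fun c => IsLocalization.Away.lift_eq r hru c
  -- the linear map M' → L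
  let g0 : M →ₗ[R] L := (Algebra.linearMap A L).restrictScalars R ∘ₗ ι R M
  have hunits : ∀ s : Submonoid.powers r, IsUnit ((algebraMap R (Module.End R L)) s) := by
    rintro ⟨_, n, rfl⟩
    refine isUnit_end_of_isUnit _ ?_
    rw [map_pow]; exact hru.pow n
  let g : M' →ₗ[R] L := IsLocalizedModule.lift (Submonoid.powers r) f g0 hunits
  have hg0 : ∀ m, g (f m) = algebraMap A L (ι R M m) :=
    fun m => IsLocalizedModule.lift_apply (Submonoid.powers r) f g0 hunits m
  have hg : ∀ (r' : R') (m' : M'), g (r' • m') = σ r' * g m' := by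
    intro r' m'
    obtain ⟨n, a0, e⟩ := IsLocalization.Away.surj r r'
    have h1 : (r ^ n) • (r' • m') = a0 • m' := by
      rw [← algebraMap_smul R' (r ^ n) (r' • m'), smul_smul, map_pow, mul_comm, e,
        algebraMap_smul]
    have h2 := congrArg g h1
    rw [g.map_smul (r ^ n) (r' • m'), g.map_smul a0 m', Algebra.smul_def, Algebra.smul_def] at h2
    have h3 : σ r' * algebraMap R L (r ^ n) = algebraMap R L a0 := by
      rw [← hσ, ← hσ, ← map_mul, map_pow, e]
    have hu : IsUnit (algebraMap R L (r ^ n)) := by rw [map_pow]; exact hru.pow n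
    apply hu.mul_left_cancel
    rw [h2, ← h3]; ring
  let h' : SymmetricAlgebra R' M' →+* L := liftSemi σ g.toAddMonoidHom hg
  have hcomp : h'.comp (symMapₗ (R' := R') f) = algebraMap A L := by
    refine ringHom_ext (fun c => ?_) (fun m => ?_)
    · rw [RingHom.comp_apply, symMapₗ_algebraMap]
      exact (liftSemi_algebraMap σ g.toAddMonoidHom hg _).trans
        ((hσ c).trans (IsScalarTower.algebraMap_apply R A L c))
    · rw [RingHom.comp_apply, symMapₗ_ι]
      exact (liftSemi_ι σ g.toAddMonoidHom hg _).trans (hg0 m)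
  have h4 : algebraMap A L a = algebraMap A L a' := by
    rw [← hcomp, RingHom.comp_apply, RingHom.comp_apply, h]
  obtain ⟨⟨_, n, rfl⟩, hc⟩ := IsLocalization.exists_of_eq (M := Submonoid.powers x) h4
  exact ⟨n, hc⟩

/-- The symmetric algebra of a localized module is the localization of the symmetric algebra. -/
theorem isLocalization_away_symMapₗ :
    letI := (symMapₗ (R' := R') f).toAlgebra
    IsLocalization.Away (algebraMap R (SymmetricAlgebra R M) r) (SymmetricAlgebra R' M') := by
  let _ := (symMapₗ (R' := R') f).toAlgebra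
  rw [IsLocalization.Away, isLocalization_iff]
  refine ⟨?_, ?_, ?_⟩
  · rintro ⟨_, n, rfl⟩
    exact symMapₗ_isUnit r f n
  · intro b
    obtain ⟨n, a, e⟩ := symMapₗ_surj r f b
    refine ⟨⟨a, ⟨_, n, rfl⟩⟩, ?_⟩
    change b * symMapₗ f (algebraMap R _ r ^ n) = symMapₗ f a
    rw [map_pow]; exact e
  · intro a a' e
    obtain ⟨n, hn⟩ := symMapₗ_exists_of_eq r f a a' e
    exact ⟨⟨_, n, rfl⟩, hn⟩

end loc

end Groth.Agent.Lib.Helper3.SymAlg
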