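import Groth.Agent.Lib.Helper3.SymAlgLoc
/-!
# The symmetric algebra of a direct sum is the tensor product (pushout) of symmetric algebras
-/
universe u
open CategoryTheory CategoryTheory.Limits

namespace Groth.Agent.Lib.Helper3.SymAlg
open SymmetricAlgebra

variable {R M N P : Type u} [CommRing R] [AddCommGroup M] [Module R M] [AddCommGroup N]
  [Module R N] [AddCommGroup P] [Module R P]

/-- `symMap` over the identity of the base ring. -/
noncomputable def symMapId (f : M →+ P) (hf : ∀ (r : R) m, f (r • m) = r • f m) :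
    SymmetricAlgebra R M →+* SymmetricAlgebra R P :=
  symMap (RingHom.id R) f hf

theorem symMapId_algebraMap (f : M →+ P) (hf : ∀ (r : R) m, f (r • m) = r • f m) (r : R) :
    symMapId f hf (algebraMap R _ r) = algebraMap R _ r := symMap_algebraMap _ _ _ r

theorem symMapId_ι (f : M →+ P) (hf : ∀ (r : R) m, f (r • m) = r • f m) (m : M) :
    symMapId f hf (ι R M m) = ι R P (f m) := symMap_ι _ _ _ m

variable (i1 : M →+ P) (i2 : N →+ P) (p1 : P →+ M) (p2 : P →+ N)
  (hi1 : ∀ (r : R) m, i1 (r • m) = r • i1 m) (hi2 : ∀ (r : R) n, i2 (r • n) = r • i2 n)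
  (hp1 : ∀ (r : R) p, p1 (r • p) = r • p1 p) (hp2 : ∀ (r : R) p, p2 (r • p) = r • p2 p)
  (h11 : ∀ m, p1 (i1 m) = m) (h22 : ∀ n, p2 (i2 n) = n) (h12 : ∀ n, p1 (i2 n) = 0)
  (h21 : ∀ m, p2 (i1 m) = 0) (htot : ∀ p, i1 (p1 p) + i2 (p2 p) = p)

include hp1 hp2 h11 h22 h12 h21 htot in
theorem isPushout_sym_biprod :
    IsPushout (CommRingCat.ofHom (algebraMap R (SymmetricAlgebra R M)))
      (CommRingCat.ofHom (algebraMap R (SymmetricAlgebra R N)))
      (CommRingCat.ofHom (symMapId i1 hi1)) (CommRingCat.ofHom (symMapId i2 hi2)) := by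
  have w : CommRingCat.ofHom (algebraMap R (SymmetricAlgebra R M)) ≫
      CommRingCat.ofHom (symMapId i1 hi1) =
      CommRingCat.ofHom (algebraMap R (SymmetricAlgebra R N)) ≫
        CommRingCat.ofHom (symMapId i2 hi2) := by
    ext r
    exact (symMapId_algebraMap i1 hi1 r).trans (symMapId_algebraMap i2 hi2 r).symm
  -- the descent map
  have hs : ∀ s : PushoutCocone (CommRingCat.ofHom (algebraMap R (SymmetricAlgebra R M)))
      (CommRingCat.ofHom (algebraMap R (SymmetricAlgebra R N))),
      ∀ r : R, s.inl.hom (algebraMap R _ r) = s.inr.hom (algebraMap R _ r) := fun s r =>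
    congrArg (fun k => k.hom r) s.condition
  have hι1 : ∀ (r : R) (x : M), ι R M (r • x) = algebraMap R _ r * ι R M x := fun r x => by
    rw [map_smul, Algebra.smul_def]
  have hι2 : ∀ (r : R) (x : N), ι R N (r • x) = algebraMap R _ r * ι R N x := fun r x => by
    rw [map_smul, Algebra.smul_def]
  let d : ∀ s : PushoutCocone (CommRingCat.ofHom (algebraMap R (SymmetricAlgebra R M)))
      (CommRingCat.ofHom (algebraMap R (SymmetricAlgebra R N))),
      SymmetricAlgebra R P →+* s.pt := fun s =>
    liftSemi (s.inl.hom.comp (algebraMap R (SymmetricAlgebra R M)))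
      ((s.inl.hom.toAddMonoidHom.comp ((ι R M).toAddMonoidHom.comp p1)) +
        (s.inr.hom.toAddMonoidHom.comp ((ι R N).toAddMonoidHom.comp p2)))
      (fun r p => by
        change s.inl.hom (ι R M (p1 (r • p))) + s.inr.hom (ι R N (p2 (r • p))) =
          s.inl.hom (algebraMap R _ r) * (s.inl.hom (ι R M (p1 p)) + s.inr.hom (ι R N (p2 p)))
        rw [hp1, hp2, hι1, hι2, map_mul, map_mul, mul_add, hs s r])
  refine ⟨⟨w⟩, ⟨PushoutCocone.IsColimit.mk w (fun s => CommRingCat.ofHom (d s)) ?_ ?_ ?_⟩⟩
  · intro s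
    ext x
    have : (d s).comp (symMapId i1 hi1) = s.inl.hom := by
      refine ringHom_ext (fun r => ?_) (fun m => ?_)
      · rw [RingHom.comp_apply, symMapId_algebraMap]
        exact liftSemi_algebraMap _ _ _ r
      · rw [RingHom.comp_apply, symMapId_ι]
        refine (liftSemi_ι _ _ _ _).trans ?_
        change s.inl.hom (ι R M (p1 (i1 m))) + s.inr.hom (ι R N (p2 (i1 m))) = _
        rw [h11, h21, map_zero, map_zero, add_zero]
    exact congrArg (fun k => k x) this
  · intro s
    ext x
    have : (d s).comp (symMapId i2 hi2) = s.inr.hom := by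
      refine ringHom_ext (fun r => ?_) (fun n => ?_)
      · rw [RingHom.comp_apply, symMapId_algebraMap]
        exact (liftSemi_algebraMap _ _ _ r).trans (hs s r)
      · rw [RingHom.comp_apply, symMapId_ι]
        refine (liftSemi_ι _ _ _ _).trans ?_
        change s.inl.hom (ι R M (p1 (i2 n))) + s.inr.hom (ι R N (p2 (i2 n))) = _
        rw [h12, h22, map_zero, map_zero, zero_add]
    exact congrArg (fun k => k x) this
  · intro s m hm1 hm2
    ext x
    have : m.hom = d s := by
      refine ringHom_ext (fun r => ?_) (fun p => ?_)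
      · rw [liftSemi_algebraMap, RingHom.comp_apply, ← symMapId_algebraMap i1 hi1 r]
        exact congrArg (fun k => k.hom (algebraMap R _ r)) hm1
      · rw [liftSemi_ι]
        change m.hom (ι R P p) = s.inl.hom (ι R M (p1 p)) + s.inr.hom (ι R N (p2 p))
        have e1 : s.inl.hom (ι R M (p1 p)) = m.hom (ι R P (i1 (p1 p))) := by
          rw [← symMapId_ι i1 hi1]
          exact (congrArg (fun k => k.hom (ι R M (p1 p))) hm1).symm
        have e2 : s.inr.hom (ι R N (p2 p)) = m.hom (ι R P (i2 (p2 p))) := by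
          rw [← symMapId_ι i2 hi2]
          exact (congrArg (fun k => k.hom (ι R N (p2 p))) hm2).symm
        rw [e1, e2, ← map_add, ← map_add, htot]
    exact congrArg (fun k => k x) this

end Groth.Agent.Lib.Helper3.SymAlg
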