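import Groth.Agent.Lib.Helper3.OfAffQ
import Groth.Agent.Lib.Helper3.SymQCAlg2
/-!
# The `ψ`-morphism `Sym E → ψ_* B` extending a module map `E → ψ_* B`
-/
set_option autoImplicit false
set_option linter.unusedSectionVars false
universe u
open CategoryTheory CategoryTheory.Limits AlgebraicGeometry Opposite TopologicalSpace
open RelSpec AlgebraicGeometry.Scheme.AffineZariskiSite
open Groth.Agent.Lib.Helper29.QCoh Groth.Agent.Lib.Helper3.SymAlg

namespace Groth.Agent.Lib.Helper3.SymQC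

variable {S S' : Scheme.{u}} (ψ : S' ⟶ S) {E : S.Modules} (B : QCAlg S')
  (φ : E ⟶ (Scheme.Modules.pushforward ψ).obj B.toModule)

/-- `φ` on sections, with values in the ring `B(ψ⁻¹U)`. -/
noncomputable def φSecQ (U : S.Opens) : Γ(E, U) →+ B.presheaf.obj (op (ψ ⁻¹ᵁ U)) :=
  ((φ.app U).hom : Γ(E, U) →+ Γ((Scheme.Modules.pushforward ψ).obj B.toModule, U))

theorem φSecQ_apply (U : S.Opens) (m : Γ(E, U)) :
    φSecQ ψ B φ U m = (show B.presheaf.obj (op (ψ ⁻¹ᵁ U)) from φ.app U m) := rfl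

theorem φSecQ_smul (U : S.Opens) (r : Γ(S, U)) (m : Γ(E, U)) :
    φSecQ ψ B φ U (r • m) = strB B (ψ ⁻¹ᵁ U) ((ψ.app U).hom r) * φSecQ ψ B φ U m :=
  (φ.app_smul r m)

theorem φSecQ_res {U V : S.Opens} (h : V ≤ U) (m : Γ(E, U)) :
    resB B (ψ.preimage_mono h) (φSecQ ψ B φ U m) = φSecQ ψ B φ V (res E h m) :=
  (app_res φ h m).symm

/-- The base ring map `O(U) → B(ψ⁻¹U)`. -/
noncomputable def ρQ (U : S.Opens) : Γ(S, U) →+* B.presheaf.obj (op (ψ ⁻¹ᵁ U)) :=
  (strB B (ψ ⁻¹ᵁ U)).comp (ψ.app U).hom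

theorem ρQ_res {U V : S.Opens} (h : V ≤ U) (r : Γ(S, U)) :
    resB B (ψ.preimage_mono h) (ρQ ψ B U r) = ρQ ψ B V (S.presheaf.map (homOfLE h).op r) := by
  change resB B _ (strB B _ _) = strB B _ _
  rw [resB_strB]
  congr 1
  exact (congrArg (fun k => k.hom r) (ψ.naturality (homOfLE h).op)).symm

/-- The ring map `Sym(E(U)) → B(ψ⁻¹U)` induced by `φ`. -/
noncomputable def liftSecQ (U : S.Opens) :
    SymmetricAlgebra Γ(S, U) Γ(E, U) →+* B.presheaf.obj (op (ψ ⁻¹ᵁ U)) :=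
  liftSemi (ρQ ψ B U) (φSecQ ψ B φ U) (φSecQ_smul ψ B φ U)

theorem liftSecQ_algebraMap (U : S.Opens) (r : Γ(S, U)) :
    liftSecQ ψ B φ U (algebraMap _ _ r) = ρQ ψ B U r := liftSemi_algebraMap _ _ _ r

theorem liftSecQ_ι (U : S.Opens) (m : Γ(E, U)) :
    liftSecQ ψ B φ U (SymmetricAlgebra.ι _ _ m) = φSecQ ψ B φ U m := liftSemi_ι _ _ _ m

theorem liftSecQ_res {U V : S.Opens} (h : V ≤ U) (x : SymmetricAlgebra Γ(S, U) Γ(E, U)) :
    resB B (ψ.preimage_mono h) (liftSecQ ψ B φ U x) = liftSecQ ψ B φ V (symRes E h x) := by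
  have : (resB B (ψ.preimage_mono h)).comp (liftSecQ ψ B φ U) =
      (liftSecQ ψ B φ V).comp (symRes E h) :=
    ringHom_ext
      (fun r => by
        rw [RingHom.comp_apply, RingHom.comp_apply, liftSecQ_algebraMap, symRes_algebraMap,
          liftSecQ_algebraMap, ρQ_res])
      (fun m => by
        rw [RingHom.comp_apply, RingHom.comp_apply, liftSecQ_ι, symRes_ι, liftSecQ_ι, φSecQ_res])
  exact congrArg (fun k => k x) this

/-- The natural transformation on the affine site induced by `φ`. -/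
noncomputable def liftNatQ : symF E ⟶ (toOpensFunctor S).op ⋙ (OfAff.pushSheaf ψ B).1 where
  app W := CommRingCat.ofHom (liftSecQ ψ B φ W.unop.1)
  naturality W W' i := by
    ext x
    exact (liftSecQ_res ψ B φ (toOpens_mono i.unop.le) x).symm

theorem symα_liftNatQ (W : S.AffineZariskiSiteᵒᵖ) :
    (symα E).app W ≫ (liftNatQ ψ B φ).app W =
      ψ.app W.unop.1 ≫ B.str.app (op (ψ ⁻¹ᵁ W.unop.1)) := by
  ext r
  exact liftSecQ_algebraMap ψ B φ W.unop.1 r

variable [E.IsQuasicoherent]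

/-- The `ψ`-morphism `Sym E → ψ_* B` extending `φ`. -/
noncomputable def liftQHom : QHom ψ (symAlg E) B :=
  OfAff.qhomOf ψ B (symα_coequifibered E) (liftNatQ ψ B φ) (symα_liftNatQ ψ B φ)

theorem liftQHom_app (U : S.Opens) (hU : IsAffineOpen U) (a : (symAlg E).presheaf.obj (op U)) :
    ((liftQHom ψ B φ).app U).hom a = liftSecQ ψ B φ U (γh E U hU a) :=
  congrArg (fun k => k.hom a)
    (OfAff.qhomOf_app ψ B (symα_coequifibered E) (liftNatQ ψ B φ) (symα_liftNatQ ψ B φ)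
      (op (OfAff.aff U hU)))

theorem liftQHom_j (U : S.Opens) (hU : IsAffineOpen U) (m : Γ(E, U)) :
    ((liftQHom ψ B φ).app U).hom (show (symAlg E).presheaf.obj (op U) from (j E).app U m) =
      φSecQ ψ B φ U m := by
  rw [j_app E U hU, liftQHom_app ψ B φ U hU, γh_γi, liftSecQ_ι]

end Groth.Agent.Lib.Helper3.SymQC
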