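import Groth.Agent.Lib.Helper3.SymLine
import Groth.Agent.Lib.Helper3.ProjZero
/-!
# The morphism `r_{L,ψ}`: preimages of standard opens
-/
universe u
open CategoryTheory CategoryTheory.Limits AlgebraicGeometry Opposite TopologicalSpace
open HomogeneousLocalization
open scoped HomogeneousIdeal
open Groth.Agent.Lib.Helper29.QCoh

namespace Groth.Agent.Lib.Helper3.SymLine
open RelProj RelSpec RelCone Groth.Agent.Lib.Helper3 Groth.Agent.Lib.Helper3.Cone Groth.Agent.Lib.Helper3.QProj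

section Gen
variable {S S' : Scheme.{u}} {g : S' ⟶ S} {𝒮 : QCGrAlg S} {𝒮' : QCGrAlg S'} {u : QGrHom g 𝒮 𝒮'}
  {P : Scheme.{u}} {p : P ⟶ S}
  {chart : ∀ (U : S.Opens) (hU : IsAffineOpen U), (((p ⁻¹ᵁ U : P.Opens) : Scheme.{u}) ≅ Proj (𝒮.deg U hU))}
  {P' : Scheme.{u}} {p' : P' ⟶ S'}
  {chart' : ∀ (U' : S'.Opens) (hU' : IsAffineOpen U'), (((p' ⁻¹ᵁ U' : P'.Opens) : Scheme.{u}) ≅ Proj (𝒮'.deg U' hU'))}
  (hP : IsRelProj 𝒮 p chart) (hP' : IsRelProj 𝒮' p' chart')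

include hP in
/-- the structure morphism of a relative Proj in terms of a chart, on basic opens -/
theorem emb_mem_preimage_basicOpen_iff (U : S.Opens) (hU : IsAffineOpen U) (a : Γ(S, U))
    (y : Proj (𝒮.deg U hU)) :
    p.base ((emb p chart U hU).base y) ∈ S.basicOpen a ↔
      (𝒮.str.app (op U)).hom a ∉ y.asHomogeneousIdeal := by
  have h1 : emb p chart U hU ≫ p =
      Proj.toSpecZero (𝒮.deg U hU) ≫ Spec.map (𝒮.strZero U hU) ≫ hU.fromSpec := by
    rw [emb, Category.assoc, ← hP.chart_over U hU, Iso.inv_hom_id_assoc]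
  have h2 : p.base ((emb p chart U hU).base y) =
      hU.fromSpec.base ((Spec.map (𝒮.strZero U hU)).base ((Proj.toSpecZero (𝒮.deg U hU)).base y)) := by
    rw [← Scheme.Hom.comp_apply, h1]
    rfl
  rw [h2]
  have h3 : hU.fromSpec.base ((Spec.map (𝒮.strZero U hU)).base ((Proj.toSpecZero (𝒮.deg U hU)).base y)) ∈
      S.basicOpen a ↔ (Spec.map (𝒮.strZero U hU)).base ((Proj.toSpecZero (𝒮.deg U hU)).base y) ∈
        hU.fromSpec ⁻¹ᵁ S.basicOpen a := Iff.rfl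
  rw [h3, hU.fromSpec_preimage_basicOpen]
  have h4 : (Spec.map (𝒮.strZero U hU)).base ((Proj.toSpecZero (𝒮.deg U hU)).base y) ∈
      PrimeSpectrum.basicOpen a ↔ y ∈ Proj.toSpecZero (𝒮.deg U hU) ⁻¹ᵁ
        PrimeSpectrum.basicOpen (⟨(𝒮.str.app (op U)).hom a, 𝒮.str_mem U hU a⟩ : 𝒮.deg U hU 0) := Iff.rfl
  exact h4.trans (ProjLoc.mem_toSpecZero_preimage_iff (𝒮.str_mem U hU a) y)

include hP hP' in
/-- the preimage under `Proj(u)` of a standard open of the target, pointwise -/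
theorem mem_image_preimage_iff (r : ((domQ u p' chart' : P'.Opens) : Scheme.{u}) ⟶ P)
    (hr : IsProjQMapOn u p chart p' chart' (domQ u p' chart') r)
    (U : S.Opens) (hU : IsAffineOpen U) {d : ℕ} (hd : 0 < d) (f : 𝒮.presheaf.obj (op U)) (hf : f ∈ 𝒮.deg U hU d)
    (x' : P') :
    x' ∈ (domQ u p' chart').ι ''ᵁ (r ⁻¹ᵁ ((emb p chart U hU) ''ᵁ Proj.basicOpen (𝒮.deg U hU) f)) ↔
      ∃ (V' : S'.Opens) (hV' : IsAffineOpen V') (hle : V' ≤ g ⁻¹ᵁ U) (y : Proj (𝒮'.deg V' hV')),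
        u.gradedAt U hU V' hV' hle f ∉ y.asHomogeneousIdeal ∧ (emb p' chart' V' hV').base y = x' := by
  constructor
  · rintro ⟨w, hw, rfl⟩
    obtain ⟨y₀, hy₀, hy₀w⟩ := hw
    have hrange : r.base w ∈ Set.range (Proj.awayι (𝒮.deg U hU) f hf hd ≫ emb p chart U hU).base := by
      have : y₀ ∈ (Proj.awayι (𝒮.deg U hU) f hf hd).opensRange := by
        rw [Proj.opensRange_awayι]; exact hy₀
      obtain ⟨z₀, rfl⟩ := this
      exact ⟨z₀, hy₀w⟩
    obtain ⟨V', hV', hle, hmem⟩ := exists_awayEmb_of_mem hP hP' r hr U hU d hd f hf w hrange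
    obtain ⟨q, hq, hqx⟩ := (Idx.mem_range_j_iff p' chart' (Idx.std (u := u) U hU V' hV' hle d hd f hf) _).mp hmem
    exact ⟨V', hV', hle, q, hq, hqx⟩
  · rintro ⟨V', hV', hle, y, hy, rfl⟩
    have hmem : (emb p' chart' V' hV').base y ∈
        Set.range ((Idx.std (u := u) U hU V' hV' hle d hd f hf).j p' chart').base :=
      (Idx.mem_range_j_iff p' chart' (Idx.std (u := u) U hU V' hV' hle d hd f hf) _).mpr ⟨y, hy, rfl⟩
    have hW := Idx.range_j_subset_domQ p' chart' (Idx.std (u := u) U hU V' hV' hle d hd f hf)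
    obtain ⟨w, hw⟩ := hW hmem
    obtain ⟨z₀, hz₀⟩ := hmem
    refine ⟨w, ?_, hw⟩
    have hv := v_apply (domQ u p' chart') r hr (Idx.std (u := u) U hU V' hV' hle d hd f hf) hW z₀ w
      (hw.trans hz₀.symm)
    change r.base w ∈ ((emb p chart U hU) ''ᵁ Proj.basicOpen (𝒮.deg U hU) f : P.Opens)
    rw [hv]
    refine ⟨(Proj.awayι (𝒮.deg U hU) f hf hd).base
      ((Spec.map (CommRingCat.ofHom (Away.map (u.gradedAt U hU V' hV' hle) f))).base z₀), ?_, rfl⟩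
    exact not_mem_awayι_self hf hd _

omit hP in
include hP' in
/-- shrinking the affine open of the source to a basic open -/
theorem exists_point_res (U : S.Opens) (hU : IsAffineOpen U) {d : ℕ} (hd : 0 < d) (f : 𝒮.presheaf.obj (op U))
    (hf : f ∈ 𝒮.deg U hU d) (V' : S'.Opens) (hV' : IsAffineOpen V') (hle : V' ≤ g ⁻¹ᵁ U) (r' : Γ(S', V'))
    (y' : Proj (𝒮'.deg V' hV')) (hy' : u.gradedAt U hU V' hV' hle f ∉ y'.asHomogeneousIdeal)
    (hx : p'.base ((emb p' chart' V' hV').base y') ∈ S'.basicOpen r') :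
    ∃ y₁ : Proj (𝒮'.deg (S'.basicOpen r') (hV'.basicOpen r')),
      u.gradedAt U hU (S'.basicOpen r') (hV'.basicOpen r') ((S'.basicOpen_le r').trans hle) f ∉
          y₁.asHomogeneousIdeal ∧
        (emb p' chart' _ (hV'.basicOpen r')).base y₁ = (emb p' chart' V' hV').base y' := by
  have hmem : (emb p' chart' V' hV').base y' ∈
      Set.range ((Idx.std (u := u) U hU V' hV' hle d hd f hf).j p' chart').base :=
    (Idx.mem_range_j_iff p' chart' (Idx.std (u := u) U hU V' hV' hle d hd f hf) _).mpr ⟨y', hy', rfl⟩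
  have h := Idx.mem_range_resSnd p' chart' hP' (Idx.std (u := u) U hU V' hV' hle d hd f hf) r' _ rfl
    (hV'.basicOpen r') (S'.basicOpen_le r') _ hmem hx
  obtain ⟨q, hq, hqx⟩ := (Idx.mem_range_j_iff p' chart' _ _).mp h
  refine ⟨q, ?_, hqx⟩
  have hb := ((Idx.std (u := u) U hU V' hV' hle d hd f hf).resSnd _ (hV'.basicOpen r') (S'.basicOpen_le r')).hb
  intro hcon
  apply hq
  exact hb ▸ hcon

end Gen

section Line
variable {Y X PL : Scheme.{u}} {q : X ⟶ Y} {L : X.Modules} [L.IsQuasicoherent]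
  {𝒮 : QCGrAlg Y} {𝒮L : QCGrAlg X} {j : L ⟶ 𝒮L.toModule}
  (hL : PicF.IsInvertible L) (hj : IsGrSymAlg L 𝒮L j) (u : QGrHom q 𝒮 𝒮L)
  {pL : PL ⟶ X}
  {chartL : ∀ (U : X.Opens) (hU : IsAffineOpen U), (((pL ⁻¹ᵁ U : PL.Opens) : Scheme.{u}) ≅ Proj (𝒮L.deg U hU))}
  (hPL : IsRelProj 𝒮L pL chartL)

/-- the affine open `V` is good for `f`: `𝒮L(V)_d` lies in the ideal generated by `u f` -/
def Good (U : Y.Opens) (V : X.Opens) (hV : IsAffineOpen V) (hle : V ≤ q ⁻¹ᵁ U) (d : ℕ)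
    (f : 𝒮.presheaf.obj (op U)) : Prop :=
  ((𝒮L.deg V hV d : AddSubgroup (𝒮L.presheaf.obj (op V))) : Set (𝒮L.presheaf.obj (op V))) ⊆
    (Ideal.span {(u.appLE U V hle).hom f} : Set (𝒮L.presheaf.obj (op V)))

omit [L.IsQuasicoherent] in
theorem tt_res {V V₁ : X.Opens} (h : V₁ ≤ V) (e : Γ(L, V)) :
    (𝒮L.presheaf.map (homOfLE h).op).hom (tt j e) = tt j (res L h e) :=
  (app_res j h e).symm

theorem str_res {V V₁ : X.Opens} (h : V₁ ≤ V) (a : Γ(X, V)) :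
    (𝒮L.presheaf.map (homOfLE h).op).hom ((𝒮L.str.app (op V)).hom a) =
      (𝒮L.str.app (op V₁)).hom ((X.presheaf.map (homOfLE h).op).hom a) :=
  (congrArg (fun m => m.hom a) (𝒮L.str.naturality (homOfLE h).op)).symm

omit [L.IsQuasicoherent] in
theorem coeff_res {U : Y.Opens} {V V₁ : X.Opens} (h : V₁ ≤ V) (hle : V ≤ q ⁻¹ᵁ U) (e : Γ(L, V))
    (f : 𝒮.presheaf.obj (op U)) (a : Γ(X, V)) (d : ℕ)
    (hfa : (u.appLE U V hle).hom f = (𝒮L.str.app (op V)).hom a * tt j e ^ d) :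
    (u.appLE U V₁ (h.trans hle)).hom f =
      (𝒮L.str.app (op V₁)).hom ((X.presheaf.map (homOfLE h).op).hom a) * tt j (res L h e) ^ d := by
  have h1 : (u.appLE U V₁ (h.trans hle)).hom f =
      (𝒮L.presheaf.map (homOfLE h).op).hom ((u.appLE U V hle).hom f) :=
    (congrArg (fun m => m.hom f) (u.toQHom.appLE_map hle h)).symm
  rw [h1, hfa, map_mul, map_pow, tt_res, str_res]

include hj in
theorem good_of_isUnit {U : Y.Opens} {V : X.Opens} (hV : IsAffineOpen V) (hle : V ≤ q ⁻¹ᵁ U) {e : Γ(L, V)}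
    (hT : IsTriv L V e) (f : 𝒮.presheaf.obj (op U)) (a : Γ(X, V)) (d : ℕ)
    (hfa : (u.appLE U V hle).hom f = (𝒮L.str.app (op V)).hom a * tt j e ^ d) (ha : IsUnit a) :
    Good u U V hV hle d f := by
  intro b hb
  obtain ⟨c, hc⟩ := exists_eq_mul_pow (strG 𝒮L V hV) (tt_mem hV hj) (hsurjL hV hj hT) (show b ∈ 𝒮L.deg V hV d from hb)
  obtain ⟨a', ha'⟩ := ha.exists_right_inv
  rw [SetLike.mem_coe, Ideal.mem_span_singleton']
  refine ⟨(𝒮L.str.app (op V)).hom (c * a'), ?_⟩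
  rw [hfa, hc, strG_apply, ← mul_assoc, ← map_mul, mul_assoc c a' a, mul_comm a' a, ha', mul_one]

include hL hj hPL in
/-- a point of a standard chart of `G(u)` lies over a good affine open -/
theorem exists_good_of_point (U : Y.Opens) (hU : IsAffineOpen U) {d : ℕ} (hd : 0 < d)
    (f : 𝒮.presheaf.obj (op U)) (hf : f ∈ 𝒮.deg U hU d)
    (V' : X.Opens) (hV' : IsAffineOpen V') (hle : V' ≤ q ⁻¹ᵁ U) (y' : Proj (𝒮L.deg V' hV'))
    (hy' : u.gradedAt U hU V' hV' hle f ∉ y'.asHomogeneousIdeal) :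
    ∃ (W : X.Opens) (hW : IsAffineOpen W) (hWV : W ≤ V'),
      pL.base ((emb pL chartL V' hV').base y') ∈ W ∧ Good u U W hW (hWV.trans hle) d f := by
  have hxV' : pL.base ((emb pL chartL V' hV').base y') ∈ V' := by
    have : (emb pL chartL V' hV').base y' ∈ Set.range (emb pL chartL V' hV').base := ⟨y', rfl⟩
    rw [Idx.range_emb] at this
    exact this
  obtain ⟨V₀, e₀, hV₀, hxV₀, hV₀V', hT₀⟩ := exists_affine_isTriv hL _ hxV'
  obtain ⟨r', hr'le, hxr'⟩ := hV'.exists_basicOpen_le (V := V₀) ⟨_, hxV₀⟩ hxV'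
  have hV₁ := hV'.basicOpen r'
  obtain ⟨y₁, hy₁, hy₁x⟩ := exists_point_res hPL U hU hd f hf V' hV' hle r' y' hy' hxr'
  have hT₁ : IsTriv L (X.basicOpen r') (res L hr'le e₀) := hT₀.restrict hr'le
  obtain ⟨a₁, ha₁⟩ : ∃ a₁ : Γ(X, X.basicOpen r'),
      u.gradedAt U hU _ hV₁ ((X.basicOpen_le r').trans hle) f =
        strG 𝒮L _ hV₁ a₁ * tt j (res L hr'le e₀) ^ d :=
    exists_eq_mul_pow (strG 𝒮L _ hV₁) (tt_mem hV₁ hj) (hsurjL hV₁ hj hT₁)
      ((u.gradedAt U hU _ hV₁ ((X.basicOpen_le r').trans hle)).map_mem hf)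
  have hstr : (𝒮L.str.app (op (X.basicOpen r'))).hom a₁ ∉ y₁.asHomogeneousIdeal := by
    intro hcon
    apply hy₁
    rw [ha₁]
    exact (mul_pow_mem_iff (strG 𝒮L _ hV₁) (tt_mem hV₁ hj) (hsurjL hV₁ hj hT₁) y₁ a₁ d).mpr hcon
  have hxa : pL.base ((emb pL chartL V' hV').base y') ∈ X.basicOpen a₁ := by
    rw [← hy₁x]
    exact (emb_mem_preimage_basicOpen_iff hPL _ hV₁ a₁ y₁).mpr hstr
  refine ⟨X.basicOpen a₁, hV₁.basicOpen a₁, (X.basicOpen_le a₁).trans (X.basicOpen_le r'), hxa, ?_⟩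
  have hT₂ := hT₁.restrict (X.basicOpen_le a₁)
  have ha₁' : (u.appLE U (X.basicOpen r') ((X.basicOpen_le r').trans hle)).hom f =
      (𝒮L.str.app (op (X.basicOpen r'))).hom a₁ * tt j (res L hr'le e₀) ^ d := ha₁
  refine good_of_isUnit hj u (hV₁.basicOpen a₁) _ hT₂ f _ d
    (coeff_res u (X.basicOpen_le a₁) _ _ f a₁ d ha₁') ?_
  exact X.toRingedSpace.isUnit_res_basicOpen a₁

include hL hj hPL in
/-- a point over a good affine open lies in a standard chart of `G(u)` -/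
theorem exists_point_of_good (U : Y.Opens) (hU : IsAffineOpen U) {d : ℕ}
    (f : 𝒮.presheaf.obj (op U)) (hf : f ∈ 𝒮.deg U hU d)
    (W : X.Opens) (hW : IsAffineOpen W) (hle : W ≤ q ⁻¹ᵁ U) (hgood : Good u U W hW hle d f)
    (x' : PL) (hx' : pL.base x' ∈ W) :
    ∃ (V : X.Opens) (hV : IsAffineOpen V) (hVW : V ≤ W) (y : Proj (𝒮L.deg V hV)),
      u.gradedAt U hU V hV (hVW.trans hle) f ∉ y.asHomogeneousIdeal ∧ (emb pL chartL V hV).base y = x' := by
  obtain ⟨V₀, e₀, hV₀, hxV₀, hV₀W, hT₀⟩ := exists_affine_isTriv hL (pL.base x') hx'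
  obtain ⟨g, hgle, hxg⟩ := hW.exists_basicOpen_le (V := V₀) ⟨pL.base x', hxV₀⟩ hx'
  have hV := hW.basicOpen g
  have hT : IsTriv L (X.basicOpen g) (res L hgle e₀) := hT₀.restrict hgle
  have hxr : x' ∈ Set.range (emb pL chartL _ hV).base := by
    rw [Idx.range_emb]; exact hxg
  obtain ⟨y, rfl⟩ := hxr
  refine ⟨X.basicOpen g, hV, X.basicOpen_le g, y, ?_, rfl⟩
  obtain ⟨a, ha⟩ : ∃ a : Γ(X, X.basicOpen g),
      u.gradedAt U hU _ hV ((X.basicOpen_le g).trans hle) f =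
        strG 𝒮L _ hV a * tt j (res L hgle e₀) ^ d :=
    exists_eq_mul_pow (strG 𝒮L _ hV) (tt_mem hV hj) (hsurjL hV hj hT)
      ((u.gradedAt U hU _ hV ((X.basicOpen_le g).trans hle)).map_mem hf)
  have ha' : (u.appLE U (X.basicOpen g) ((X.basicOpen_le g).trans hle)).hom f =
      (𝒮L.str.app (op (X.basicOpen g))).hom a * tt j (res L hgle e₀) ^ d := ha
  -- `a` is a unit
  have haU : IsUnit a := by
    let ψ := 𝒮L.res hW hV (X.basicOpen_le g)
    let c := (𝒮L.str.app (op W)).hom g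
    let _inst := (𝒮L.presheaf.map (homOfLE (X.basicOpen_le g)).op).hom.toAlgebra
    have hloc : IsLocalization.Away c (𝒮L.presheaf.obj (op (X.basicOpen g))) := 𝒮L.isQC W hW g
    obtain ⟨⟨b', s, hs⟩, hb's⟩ := IsLocalization.surj (Submonoid.powers c) (tt j (res L hgle e₀) ^ d)
    obtain ⟨k, rfl⟩ := (Submonoid.mem_powers_iff _ _).mp hs
    change tt j (res L hgle e₀) ^ d * ψ (c ^ k) = ψ b' at hb's
    have hmem : tt j (res L hgle e₀) ^ d * ψ (c ^ k) ∈ 𝒮L.deg (X.basicOpen g) hV d := by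
      have h1 : tt j (res L hgle e₀) ^ d ∈ 𝒮L.deg (X.basicOpen g) hV d := by
        have := SetLike.pow_mem_graded d (tt_mem hV hj (e := res L hgle e₀))
        simpa using this
      have h2 : ψ (c ^ k) ∈ 𝒮L.deg (X.basicOpen g) hV 0 := by
        rw [map_pow]
        have := SetLike.pow_mem_graded k (ψ.map_mem (𝒮L.str_mem W hW g))
        simpa using this
      simpa only [add_zero] using SetLike.mul_mem_graded h1 h2
    have hψ : ψ (DirectSum.decompose (𝒮L.deg W hW) b' d : 𝒮L.presheaf.obj (op W)) =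
        tt j (res L hgle e₀) ^ d * ψ (c ^ k) := by
      rw [GradedRingHom.map_directSumDecompose, ← hb's, DirectSum.decompose_of_mem_same _ hmem]
    obtain ⟨m, hm⟩ := Ideal.mem_span_singleton'.mp
      (hgood (SetLike.coe_mem (DirectSum.decompose (𝒮L.deg W hW) b' d)))
    have hψf : ψ ((u.appLE U W hle).hom f) =
        (u.appLE U (X.basicOpen g) ((X.basicOpen_le g).trans hle)).hom f :=
      congrArg (fun m => m.hom f) (u.toQHom.appLE_map hle (X.basicOpen_le g))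
    have h3 : ψ m * ((𝒮L.str.app (op (X.basicOpen g))).hom a * tt j (res L hgle e₀) ^ d) =
        tt j (res L hgle e₀) ^ d * ψ (c ^ k) := by
      rw [← ha', ← hψf, ← map_mul, hm, hψ]
    have h4 := congrArg (ev1 hV hj hT) h3
    have hψc : ψ c = strG 𝒮L _ hV ((X.presheaf.map (homOfLE (X.basicOpen_le g)).op).hom g) :=
      str_res (X.basicOpen_le g) g
    rw [map_mul, map_mul, map_mul, map_pow, map_pow, map_pow, ev1_tt, one_pow, mul_one, one_mul, hψc, ev1_str,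
      ← strG_apply 𝒮L _ hV, ev1_str] at h4
    have hgU : IsUnit ((X.presheaf.map (homOfLE (X.basicOpen_le g)).op).hom g) :=
      X.toRingedSpace.isUnit_res_basicOpen g
    have : IsUnit (ev1 hV hj hT (ψ m) * a) := h4 ▸ hgU.pow k
    exact isUnit_of_mul_isUnit_right this
  have hstr : (𝒮L.str.app (op (X.basicOpen g))).hom a ∉ y.asHomogeneousIdeal := fun hcon =>
    y.isPrime.ne_top (Ideal.eq_top_of_isUnit_mem _ hcon (haU.map _))
  intro hcon
  apply hstr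
  rw [ha] at hcon
  exact (mul_pow_mem_iff (strG 𝒮L _ hV) (tt_mem hV hj) (hsurjL hV hj hT) y a d).mp hcon

variable {P : Scheme.{u}} {p : P ⟶ Y}
  {chart : ∀ (U : Y.Opens) (hU : IsAffineOpen U), (((p ⁻¹ᵁ U : P.Opens) : Scheme.{u}) ≅ Proj (𝒮.deg U hU))}
  (hP : IsRelProj 𝒮 p chart)

include hL hj hPL hP in
/-- `r⁻¹(D₊(f)) = X_{ψ♭(f)}` -/
theorem image_preimage_eq (r : ((domQ u pL chartL : PL.Opens) : Scheme.{u}) ⟶ P)
    (hr : IsProjQMapOn u p chart pL chartL (domQ u pL chartL) r)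
    (U : Y.Opens) (hU : IsAffineOpen U) {d : ℕ} (hd : 0 < d) (f : 𝒮.presheaf.obj (op U)) (hf : f ∈ 𝒮.deg U hU d) :
    (domQ u pL chartL).ι ''ᵁ (r ⁻¹ᵁ ((emb p chart U hU) ''ᵁ Proj.basicOpen (𝒮.deg U hU) f)) =
      pL ⁻¹ᵁ (⨆ V : {V : X.affineOpens // ∃ hle : (V.1 : X.Opens) ≤ q ⁻¹ᵁ U, Good u U V.1 V.2 hle d f},
        (V.1.1 : X.Opens)) := by
  ext x'
  constructor
  · intro hx'
    obtain ⟨V', hV', hle, y', hy', rfl⟩ := (mem_image_preimage_iff hP hPL r hr U hU hd f hf x').mp hx'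
    obtain ⟨W, hW, hWV, hxW, hgood⟩ := exists_good_of_point hL hj u hPL U hU hd f hf V' hV' hle y' hy'
    exact Opens.mem_iSup.mpr ⟨⟨⟨W, hW⟩, hWV.trans hle, hgood⟩, hxW⟩
  · intro hx'
    obtain ⟨⟨⟨W, hW⟩, hle, hgood⟩, hxW⟩ := Opens.mem_iSup.mp hx'
    obtain ⟨V, hV, hVW, y, hy, rfl⟩ := exists_point_of_good hL hj u hPL U hU f hf W hW hle hgood x' hxW
    exact (mem_image_preimage_iff hP hPL r hr U hU hd f hf _).mpr ⟨V, hV, hVW.trans hle, y, hy, rfl⟩

include hL hj hPL in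
/-- `r_{L,ψ}` is everywhere defined iff the sections `ψ♭(s)` generate `L^n` locally -/
theorem domQ_eq_top_iff (hY : IsAffineOpen (⊤ : Y.Opens)) :
    domQ u pL chartL = ⊤ ↔
      ∀ x : X, ∃ (n : ℕ) (_ : 0 < n) (s : 𝒮.presheaf.obj (op ⊤)) (_ : s ∈ 𝒮.deg ⊤ hY n)
        (V : X.Opens) (hV : IsAffineOpen V), x ∈ V ∧
          Good u ⊤ V hV (le_top.trans (Scheme.Hom.preimage_top q).ge) n s := by
  have hiso : IsIso pL := isIso_pL hL hj hPL
  constructor
  · intro htop x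
    obtain ⟨x', rfl⟩ := pL.homeomorph.surjective x
    have hx' : x' ∈ domQ u pL chartL := htop ▸ trivial
    obtain ⟨V', hV', hle, d, hd, f, hf, hmem⟩ := exists_awayEmb_of_mem_domQ hPL ⊤ hY x' hx' trivial
    obtain ⟨y', hy', rfl⟩ := (Idx.mem_range_j_iff pL chartL (Idx.std (u := u) ⊤ hY V' hV' hle d hd f hf) _).mp hmem
    obtain ⟨W, hW, hWV, hxW, hgood⟩ := exists_good_of_point hL hj u hPL ⊤ hY hd f hf V' hV' hle y' hy'
    exact ⟨d, hd, f, hf, W, hW, hxW, hgood⟩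
  · intro H
    rw [eq_top_iff]
    intro x' _
    obtain ⟨n, hn, s, hs, V, hV, hxV, hgood⟩ := H (pL.base x')
    obtain ⟨V₁, hV₁, hVW, y, hy, rfl⟩ := exists_point_of_good hL hj u hPL ⊤ hY s hs V hV _ hgood x' hxV
    have hmem : (emb pL chartL V₁ hV₁).base y ∈
        Set.range ((Idx.std (u := u) ⊤ hY V₁ hV₁ (hVW.trans (le_top.trans (Scheme.Hom.preimage_top q).ge))
          n hn s hs).j pL chartL).base :=
      (Idx.mem_range_j_iff pL chartL _ _).mpr ⟨y, hy, rfl⟩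
    have h2 := Idx.range_j_subset_domQ pL chartL (Idx.std (u := u) ⊤ hY V₁ hV₁
      (hVW.trans (le_top.trans (Scheme.Hom.preimage_top q).ge)) n hn s hs) hmem
    rw [Scheme.Opens.range_ι] at h2
    exact h2

end Line

end Groth.Agent.Lib.Helper3.SymLine
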