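import Groth.Agent.Lib.Helper3.SymLine2
/-!
# The morphism `r_{L,ψ}`: dominance
-/
universe u
open CategoryTheory CategoryTheory.Limits AlgebraicGeometry Opposite TopologicalSpace
open HomogeneousLocalization
open scoped HomogeneousIdeal

namespace Groth.Agent.Lib.Helper3.SymLine
open RelProj RelSpec RelCone Groth.Agent.Lib.Helper3 Groth.Agent.Lib.Helper3.Cone Groth.Agent.Lib.Helper3.QProj

section Ring
variable {A σ : Type u} [CommRing A] [SetLike σ A] [AddSubgroupClass σ A] {𝒜 : ℕ → σ} [GradedRing 𝒜]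

/-- a non-nilpotent homogeneous element of positive degree does not vanish identically on `Proj` -/
theorem exists_point_not_mem {n : ℕ} (hn : 0 < n) {s : A} (hs : s ∈ 𝒜 n) (hnil : ¬ IsNilpotent s) :
    ∃ y : Proj 𝒜, s ∉ y.asHomogeneousIdeal := by
  have hnt : Nontrivial (Away 𝒜 s) := by
    refine ⟨⟨1, 0, fun h => hnil ?_⟩⟩
    have hv := congrArg HomogeneousLocalization.val h
    rw [HomogeneousLocalization.val_one, HomogeneousLocalization.val_zero] at hv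
    have h1 : (1 : Localization.Away s) = IsLocalization.mk' (Localization.Away s) (1 : A) (1 : Submonoid.powers s) :=
      (IsLocalization.mk'_one (M := Submonoid.powers s) (Localization.Away s) (1 : A)).symm ▸ (map_one _).symm
    rw [h1, IsLocalization.mk'_eq_zero_iff] at hv
    obtain ⟨⟨_, k, rfl⟩, hk⟩ := hv
    exact ⟨k, by simpa using hk⟩
  obtain ⟨w⟩ : Nonempty (Spec (CommRingCat.of (Away 𝒜 s))) :=
    inferInstanceAs (Nonempty (PrimeSpectrum (Away 𝒜 s)))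
  exact ⟨(Proj.awayι 𝒜 s hs hn).base w, not_mem_awayι_self hs hn w⟩

/-- the standard opens `D₊(s)`, `s` homogeneous of positive degree, form a basis of `Proj` -/
theorem exists_basicOpen_subset (y₀ : Proj 𝒜) (O : Set (Proj 𝒜)) (hO : IsOpen O) (hy₀ : y₀ ∈ O) :
    ∃ (n : ℕ) (_ : 0 < n) (s : A) (_ : s ∈ 𝒜 n), s ∉ y₀.asHomogeneousIdeal ∧
      ∀ y : Proj 𝒜, s ∉ y.asHomogeneousIdeal → y ∈ O := by
  classical
  obtain ⟨T, hT⟩ := (ProjectiveSpectrum.isOpen_iff (𝒜 := 𝒜) O).mp hO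
  have hy₀T : y₀ ∉ ProjectiveSpectrum.zeroLocus 𝒜 T := by
    rw [← hT]; exact fun h => h hy₀
  have hy₀T' : ¬ (T ⊆ (y₀.asHomogeneousIdeal : Set A)) := hy₀T
  rw [Set.not_subset] at hy₀T'
  obtain ⟨f, hfT, hfy₀⟩ := hy₀T'
  -- a homogeneous component of `f` not in `y₀`
  obtain ⟨i, hi⟩ : ∃ i, (DirectSum.decompose 𝒜 f i : A) ∉ y₀.asHomogeneousIdeal := by
    by_contra hcon
    push Not at hcon
    apply hfy₀
    rw [← DirectSum.sum_support_decompose 𝒜 f]
    exact Ideal.sum_mem _ fun i _ => hcon i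
  -- an element of positive degree not in `y₀`
  obtain ⟨f₀, hf₀, hf₀y⟩ : ∃ f₀ ∈ 𝒜₊, f₀ ∉ y₀.asHomogeneousIdeal := by
    by_contra hcon
    push Not at hcon
    exact y₀.not_irrelevant_le fun f hf => hcon f hf
  obtain ⟨m, hm, g, hg, hgy⟩ := exists_homogeneous_not_mem y₀.asHomogeneousIdeal.toIdeal hf₀ hf₀y
  refine ⟨i + m, by omega, (DirectSum.decompose 𝒜 f i : A) * g,
    SetLike.mul_mem_graded (SetLike.coe_mem _) hg, ?_, fun y hy => ?_⟩
  · intro hcon
    rcases y₀.isPrime.mem_or_mem hcon with h | h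
    · exact hi h
    · exact hgy h
  · by_contra hyO
    have hyT : y ∈ ProjectiveSpectrum.zeroLocus 𝒜 T := by
      rw [← hT]; exact hyO
    have hyT' : T ⊆ (y.asHomogeneousIdeal : Set A) := hyT
    have hfy : f ∈ y.asHomogeneousIdeal.toIdeal := hyT' hfT
    have hfiy : (DirectSum.decompose 𝒜 f i : A) ∈ y.asHomogeneousIdeal.toIdeal :=
      y.asHomogeneousIdeal.isHomogeneous i hfy
    exact hy (Ideal.mul_mem_right _ _ hfiy)

end Ring

section Dom
variable {S S' : Scheme.{u}} {g : S' ⟶ S} {𝒮 : QCGrAlg S} {𝒮' : QCGrAlg S'} {u : QGrHom g 𝒮 𝒮'}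
  {P : Scheme.{u}} {p : P ⟶ S}
  {chart : ∀ (U : S.Opens) (hU : IsAffineOpen U), (((p ⁻¹ᵁ U : P.Opens) : Scheme.{u}) ≅ Proj (𝒮.deg U hU))}
  {P' : Scheme.{u}} {p' : P' ⟶ S'}
  {chart' : ∀ (U' : S'.Opens) (hU' : IsAffineOpen U'), (((p' ⁻¹ᵁ U' : P'.Opens) : Scheme.{u}) ≅ Proj (𝒮'.deg U' hU'))}
  (hP : IsRelProj 𝒮 p chart) (hP' : IsRelProj 𝒮' p' chart')

include hP hP' in
/-- `Proj(u)` is dominant iff `u` reflects nilpotency of homogeneous elements of positive degree (locally on the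
source), over an affine base -/
theorem isDominant_iff (r : ((domQ u p' chart' : P'.Opens) : Scheme.{u}) ⟶ P)
    (hr : IsProjQMapOn u p chart p' chart' (domQ u p' chart') r) (hY : IsAffineOpen (⊤ : S.Opens)) :
    IsDominant r ↔
      ∀ (n : ℕ), 0 < n → ∀ s ∈ 𝒮.deg ⊤ hY n,
        (∀ x : S', ∃ (V : S'.Opens) (_ : IsAffineOpen V), x ∈ V ∧
          IsNilpotent ((u.appLE ⊤ V (le_top.trans (Scheme.Hom.preimage_top g).ge)).hom s)) →
          IsNilpotent s := by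
  constructor
  · intro hdom n hn s hs hloc
    by_contra hnil
    obtain ⟨y₀, hy₀⟩ := exists_point_not_mem hn hs hnil
    have hne : ((emb p chart ⊤ hY ''ᵁ Proj.basicOpen (𝒮.deg ⊤ hY) s : P.Opens) : Set P).Nonempty :=
      ⟨(emb p chart ⊤ hY).base y₀, y₀, hy₀, rfl⟩
    obtain ⟨w, hw⟩ := hdom.denseRange.exists_mem_open
      (emb p chart ⊤ hY ''ᵁ Proj.basicOpen (𝒮.deg ⊤ hY) s : P.Opens).isOpen hne
    have hx' : (domQ u p' chart').ι.base w ∈
        (domQ u p' chart').ι ''ᵁ (r ⁻¹ᵁ ((emb p chart ⊤ hY) ''ᵁ Proj.basicOpen (𝒮.deg ⊤ hY) s)) :=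
      ⟨w, hw, rfl⟩
    obtain ⟨V', hV', hle, y', hy', hy'x⟩ := (mem_image_preimage_iff hP hP' r hr ⊤ hY hn s hs _).mp hx'
    have hxV' : p'.base ((emb p' chart' V' hV').base y') ∈ V' := by
      have : (emb p' chart' V' hV').base y' ∈ Set.range (emb p' chart' V' hV').base := ⟨y', rfl⟩
      rw [Idx.range_emb] at this
      exact this
    obtain ⟨V'', hV'', hxV'', hnilV⟩ := hloc (p'.base ((emb p' chart' V' hV').base y'))
    obtain ⟨r₁, r₂, hr12, hxr, -⟩ := exists_common_basicOpen hV' hV'' ⊤ _ hxV' hxV'' trivial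
    obtain ⟨y₁, hy₁, -⟩ := exists_point_res hP' ⊤ hY hn s hs V' hV' hle r₁ y' hy' hxr
    apply hy₁
    have hle2 : S'.basicOpen r₁ ≤ V'' := hr12 ▸ S'.basicOpen_le r₂
    have h1 : (u.appLE ⊤ (S'.basicOpen r₁) ((S'.basicOpen_le r₁).trans hle)).hom s =
        (𝒮'.presheaf.map (homOfLE hle2).op).hom
          ((u.appLE ⊤ V'' (le_top.trans (Scheme.Hom.preimage_top g).ge)).hom s) :=
      (congrArg (fun m => m.hom s) (u.toQHom.appLE_map (le_top.trans (Scheme.Hom.preimage_top g).ge) hle2)).symm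
    have h2 : IsNilpotent ((u.appLE ⊤ (S'.basicOpen r₁) ((S'.basicOpen_le r₁).trans hle)).hom s) := by
      rw [h1]
      exact hnilV.map _
    obtain ⟨k, hk⟩ := h2
    refine y₁.isPrime.mem_of_pow_mem k ?_
    change (u.appLE ⊤ (S'.basicOpen r₁) ((S'.basicOpen_le r₁).trans hle)).hom s ^ k ∈ y₁.asHomogeneousIdeal.toIdeal
    rw [hk]
    exact zero_mem _
  · intro H
    refine ⟨?_⟩
    rw [DenseRange, dense_iff_inter_open]
    rintro O hO ⟨o, ho⟩
    have hor : o ∈ Set.range (emb p chart ⊤ hY).base := by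
      rw [Idx.range_emb]; trivial
    obtain ⟨y₀, rfl⟩ := hor
    obtain ⟨n, hn, s, hs, hsy₀, hsO⟩ := exists_basicOpen_subset y₀ ((emb p chart ⊤ hY).base ⁻¹' O)
      (hO.preimage (emb p chart ⊤ hY).continuous) ho
    have hnil : ¬ IsNilpotent s := fun ⟨k, hk⟩ =>
      hsy₀ (y₀.isPrime.mem_of_pow_mem k (hk ▸ zero_mem _))
    obtain ⟨x, hx⟩ : ∃ x : S', ∀ (V : S'.Opens) (_ : IsAffineOpen V), x ∈ V →
        ¬ IsNilpotent ((u.appLE ⊤ V (le_top.trans (Scheme.Hom.preimage_top g).ge)).hom s) := by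
      by_contra hcon
      push Not at hcon
      exact hnil (H n hn s hs fun x => by
        obtain ⟨V, hV, hxV, hn⟩ := hcon x
        exact ⟨V, hV, hxV, hn⟩)
    obtain ⟨_, ⟨V, hV, rfl⟩, hxV, -⟩ := S'.isBasis_affineOpens.exists_subset_of_mem_open
      (Set.mem_univ x) isOpen_univ
    have hnilV := hx V hV hxV
    obtain ⟨y, hy⟩ := exists_point_not_mem hn
      ((u.gradedAt ⊤ hY V hV (le_top.trans (Scheme.Hom.preimage_top g).ge)).map_mem hs) hnilV
    obtain ⟨w, hw, -⟩ := (mem_image_preimage_iff hP hP' r hr ⊤ hY hn s hs _).mpr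
      ⟨V, hV, le_top.trans (Scheme.Hom.preimage_top g).ge, y, hy, rfl⟩
    obtain ⟨y₂, hy₂, hy₂w⟩ := hw
    refine ⟨r.base w, ?_, w, rfl⟩
    rw [← hy₂w]
    exact hsO y₂ hy₂

include hP hP' in
/-- the dominance criterion over a general base -/
theorem isDominant_iff_gen (r : ((domQ u p' chart' : P'.Opens) : Scheme.{u}) ⟶ P)
    (hr : IsProjQMapOn u p chart p' chart' (domQ u p' chart') r) :
    IsDominant r ↔
      ∀ (U : S.Opens) (hU : IsAffineOpen U) (n : ℕ), 0 < n → ∀ s ∈ 𝒮.deg U hU n,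
        (∀ x : S', x ∈ g ⁻¹ᵁ U → ∃ (V : S'.Opens) (_ : IsAffineOpen V) (hle : V ≤ g ⁻¹ᵁ U), x ∈ V ∧
          IsNilpotent ((u.appLE U V hle).hom s)) →
          IsNilpotent s := by
  constructor
  · intro hdom U hU n hn s hs hloc
    by_contra hnil
    obtain ⟨y₀, hy₀⟩ := exists_point_not_mem hn hs hnil
    have hne : ((emb p chart U hU ''ᵁ Proj.basicOpen (𝒮.deg U hU) s : P.Opens) : Set P).Nonempty :=
      ⟨(emb p chart U hU).base y₀, y₀, hy₀, rfl⟩
    obtain ⟨w, hw⟩ := hdom.denseRange.exists_mem_open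
      (emb p chart U hU ''ᵁ Proj.basicOpen (𝒮.deg U hU) s : P.Opens).isOpen hne
    have hx' : (domQ u p' chart').ι.base w ∈
        (domQ u p' chart').ι ''ᵁ (r ⁻¹ᵁ ((emb p chart U hU) ''ᵁ Proj.basicOpen (𝒮.deg U hU) s)) :=
      ⟨w, hw, rfl⟩
    obtain ⟨V', hV', hle, y', hy', hy'x⟩ := (mem_image_preimage_iff hP hP' r hr U hU hn s hs _).mp hx'
    have hxV' : p'.base ((emb p' chart' V' hV').base y') ∈ V' := by
      have : (emb p' chart' V' hV').base y' ∈ Set.range (emb p' chart' V' hV').base := ⟨y', rfl⟩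
      rw [Idx.range_emb] at this
      exact this
    obtain ⟨V'', hV'', hle'', hxV'', hnilV⟩ := hloc (p'.base ((emb p' chart' V' hV').base y')) (hle hxV')
    obtain ⟨r₁, r₂, hr12, hxr, -⟩ := exists_common_basicOpen hV' hV'' ⊤ _ hxV' hxV'' trivial
    obtain ⟨y₁, hy₁, -⟩ := exists_point_res hP' U hU hn s hs V' hV' hle r₁ y' hy' hxr
    apply hy₁
    have hle2 : S'.basicOpen r₁ ≤ V'' := hr12 ▸ S'.basicOpen_le r₂
    have h1 : (u.appLE U (S'.basicOpen r₁) ((S'.basicOpen_le r₁).trans hle)).hom s =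
        (𝒮'.presheaf.map (homOfLE hle2).op).hom ((u.appLE U V'' hle'').hom s) :=
      (congrArg (fun m => m.hom s) (u.toQHom.appLE_map hle'' hle2)).symm
    have h2 : IsNilpotent ((u.appLE U (S'.basicOpen r₁) ((S'.basicOpen_le r₁).trans hle)).hom s) := by
      rw [h1]
      exact hnilV.map _
    obtain ⟨k, hk⟩ := h2
    refine y₁.isPrime.mem_of_pow_mem k ?_
    change (u.appLE U (S'.basicOpen r₁) ((S'.basicOpen_le r₁).trans hle)).hom s ^ k ∈ y₁.asHomogeneousIdeal.toIdeal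
    rw [hk]
    exact zero_mem _
  · intro H
    refine ⟨?_⟩
    rw [DenseRange, dense_iff_inter_open]
    rintro O hO ⟨o, ho⟩
    obtain ⟨_, ⟨U, hU, rfl⟩, hoU, -⟩ := S.isBasis_affineOpens.exists_subset_of_mem_open
      (Set.mem_univ (p.base o)) isOpen_univ
    have hor : o ∈ Set.range (emb p chart U hU).base := by
      rw [Idx.range_emb]; exact hoU
    obtain ⟨y₀, rfl⟩ := hor
    obtain ⟨n, hn, s, hs, hsy₀, hsO⟩ := exists_basicOpen_subset y₀ ((emb p chart U hU).base ⁻¹' O)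
      (hO.preimage (emb p chart U hU).continuous) ho
    have hnil : ¬ IsNilpotent s := fun ⟨k, hk⟩ =>
      hsy₀ (y₀.isPrime.mem_of_pow_mem k (hk ▸ zero_mem _))
    obtain ⟨x, hxU, hx⟩ : ∃ x : S', x ∈ g ⁻¹ᵁ U ∧ ∀ (V : S'.Opens) (_ : IsAffineOpen V) (hle : V ≤ g ⁻¹ᵁ U),
        x ∈ V → ¬ IsNilpotent ((u.appLE U V hle).hom s) := by
      by_contra hcon
      push Not at hcon
      exact hnil (H U hU n hn s hs fun x hxU => by
        obtain ⟨V, hV, hle, hxV, hn⟩ := hcon x hxU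
        exact ⟨V, hV, hle, hxV, hn⟩)
    obtain ⟨_, ⟨V, hV, rfl⟩, hxV, hVU⟩ := S'.isBasis_affineOpens.exists_subset_of_mem_open
      hxU (g ⁻¹ᵁ U).isOpen
    have hnilV := hx V hV hVU hxV
    obtain ⟨y, hy⟩ := exists_point_not_mem hn ((u.gradedAt U hU V hV hVU).map_mem hs) hnilV
    obtain ⟨w, hw, -⟩ := (mem_image_preimage_iff hP hP' r hr U hU hn s hs _).mpr
      ⟨V, hV, hVU, y, hy, rfl⟩
    obtain ⟨y₂, hy₂, hy₂w⟩ := hw
    refine ⟨r.base w, ?_, w, rfl⟩
    rw [← hy₂w]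
    exact hsO y₂ hy₂

end Dom

end Groth.Agent.Lib.Helper3.SymLine
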