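import Groth.Agent.Lib.Helper3.SymLine4
import Groth.Agent.Lib.Helper3.QProj4
/-!
# The morphism `r_{L,ψ}`: algebra of the local rings maps `S_(s) → O(X_f)`
-/
universe u
open CategoryTheory CategoryTheory.Limits AlgebraicGeometry Opposite TopologicalSpace
open HomogeneousLocalization
open scoped HomogeneousIdeal

namespace Groth.Agent.Lib.Helper3.SymLine

section Alg
variable {A B σ τ : Type u} [CommRing A] [SetLike σ A] [AddSubgroupClass σ A]
  [CommRing B] [SetLike τ B] [AddSubgroupClass τ B]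
  {𝒜 : ℕ → σ} {ℬ : ℕ → τ} [GradedRing 𝒜] [GradedRing ℬ]

theorem val_fromZero (b : B) (x : ℬ 0) :
    (fromZeroRingHom ℬ (Submonoid.powers b) x).val = Localization.mk (x : B) 1 := rfl

/-- condition (iii) in terms of the map of homogeneous localisations -/
theorem awayMap_surjective_iff (φ : 𝒜 →+*ᵍ ℬ) {n : ℕ} {s : A} (hs : s ∈ 𝒜 n)
    {R : Type u} [CommRing R] (ρ : R →+* ℬ 0)
    (hψ : Function.Surjective ((fromZeroRingHom ℬ (Submonoid.powers (φ s))).comp ρ)) :
    Function.Surjective (Away.map φ s) ↔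
      ∀ t : R, ∃ (m : ℕ) (_ : 0 < m) (s' : A) (_ : s' ∈ 𝒜 (m * n)), (ρ t : B) * (φ s) ^ m = φ s' := by
  have hb : φ s ∈ ℬ n := φ.map_mem hs
  constructor
  · intro hsurj t
    obtain ⟨z, hz⟩ := hsurj (fromZeroRingHom ℬ (Submonoid.powers (φ s)) (ρ t))
    obtain ⟨m, a, ha, rfl⟩ := Away.mk_surjective 𝒜 hs z
    rw [Away.map_mk] at hz
    have hval := congrArg HomogeneousLocalization.val hz
    rw [Away.val_mk, val_fromZero, Localization.mk_eq_mk_iff, Localization.r_iff_exists] at hval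
    obtain ⟨⟨_, k, rfl⟩, hk⟩ := hval
    simp only [OneMemClass.coe_one, one_mul] at hk
    refine ⟨m + k + 1, Nat.succ_pos _, s ^ (k + 1) * a, ?_, ?_⟩
    · have h1 : s ^ (k + 1) * a ∈ 𝒜 ((k + 1) • n + m • n) :=
        SetLike.mul_mem_graded (SetLike.pow_mem_graded (k + 1) hs) ha
      have h2 : (k + 1) • n + m • n = (m + k + 1) * n := by simp only [smul_eq_mul]; ring
      exact h2 ▸ h1
    · rw [map_mul, map_pow, pow_succ (φ s) k, mul_assoc, mul_comm (φ s) (φ a), ← mul_assoc, hk]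
      ring
  · intro H z
    obtain ⟨t, rfl⟩ := hψ z
    obtain ⟨m, -, s', hs', heq⟩ := H t
    have hs'' : s' ∈ 𝒜 (m • n) := by rw [smul_eq_mul]; exact hs'
    refine ⟨Away.mk 𝒜 hs m s' hs'', ?_⟩
    rw [Away.map_mk]
    apply HomogeneousLocalization.val_injective
    rw [Away.val_mk, RingHom.comp_apply, val_fromZero, Localization.mk_eq_mk_iff, Localization.r_iff_exists]
    refine ⟨1, ?_⟩
    simp only [OneMemClass.coe_one, one_mul]
    rw [← heq, mul_comm]

/-- condition (iv) in terms of the map of homogeneous localisations -/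
theorem awayMap_injective_iff (φ : 𝒜 →+*ᵍ ℬ) {n : ℕ} {s : A} (hs : s ∈ 𝒜 n) :
    Function.Injective (Away.map φ s) ↔
      ∀ (m : ℕ), 0 < m → ∀ s' ∈ 𝒜 (m * n), φ s' = 0 → ∃ k : ℕ, 0 < k ∧ s ^ k * s' = 0 := by
  have hb : φ s ∈ ℬ n := φ.map_mem hs
  constructor
  · intro hinj m _ s' hs' hzero
    have hs'' : s' ∈ 𝒜 (m • n) := by rw [smul_eq_mul]; exact hs'
    have h0 : Away.map φ s (Away.mk 𝒜 hs m s' hs'') = 0 := by
      rw [Away.map_mk]
      apply HomogeneousLocalization.val_injective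
      rw [Away.val_mk, HomogeneousLocalization.val_zero, hzero, Localization.mk_zero]
    have h1 := hinj (h0.trans (map_zero _).symm)
    have hval := congrArg HomogeneousLocalization.val h1
    rw [Away.val_mk, HomogeneousLocalization.val_zero, Localization.mk_eq_mk',
      IsLocalization.mk'_eq_zero_iff] at hval
    obtain ⟨⟨_, k, rfl⟩, hk⟩ := hval
    refine ⟨k + 1, Nat.succ_pos _, ?_⟩
    rw [pow_succ, mul_comm (s ^ k) s, mul_assoc, hk, mul_zero]
  · intro H
    rw [injective_iff_map_eq_zero]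
    intro z hz
    obtain ⟨m, a, ha, rfl⟩ := Away.mk_surjective 𝒜 hs z
    rw [Away.map_mk] at hz
    have hval := congrArg HomogeneousLocalization.val hz
    rw [Away.val_mk, HomogeneousLocalization.val_zero, Localization.mk_eq_mk',
      IsLocalization.mk'_eq_zero_iff] at hval
    obtain ⟨⟨_, k, rfl⟩, hk⟩ := hval
    have hmem : s ^ (k + 1) * a ∈ 𝒜 ((k + 1 + m) * n) := by
      have h1 : s ^ (k + 1) * a ∈ 𝒜 ((k + 1) • n + m • n) :=
        SetLike.mul_mem_graded (SetLike.pow_mem_graded (k + 1) hs) ha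
      have h2 : (k + 1) • n + m • n = (k + 1 + m) * n := by simp only [smul_eq_mul]; ring
      exact h2 ▸ h1
    have hzero : φ (s ^ (k + 1) * a) = 0 := by
      rw [map_mul, map_pow, pow_succ, mul_comm (φ s ^ k) (φ s), mul_assoc, hk, mul_zero]
    obtain ⟨l, -, hl⟩ := H (k + 1 + m) (by omega) _ hmem hzero
    apply HomogeneousLocalization.val_injective
    rw [Away.val_mk, HomogeneousLocalization.val_zero, Localization.mk_eq_mk',
      IsLocalization.mk'_eq_zero_iff]
    refine ⟨⟨s ^ (l + (k + 1)), _, rfl⟩, ?_⟩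
    change s ^ (l + (k + 1)) * a = 0
    rw [pow_add, mul_assoc, hl]

end Alg

end Groth.Agent.Lib.Helper3.SymLine
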