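import Groth.Agent.Lib.Helper3.SymLine5
import Mathlib.AlgebraicGeometry.Morphisms.Immersion
/-!
# Restrictions of morphisms to opens of the target: general lemmas
-/
universe u
open CategoryTheory CategoryTheory.Limits AlgebraicGeometry Opposite TopologicalSpace

namespace Groth.Agent.Lib.Helper3.Restr

variable {X Y : Scheme.{u}}

theorem isClosedImmersion_SpecMap_iff {R S : CommRingCat.{u}} (φ : R ⟶ S) :
    IsClosedImmersion (Spec.map φ) ↔ Function.Surjective φ.hom := by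
  constructor
  · intro h
    obtain ⟨-, hsurj⟩ := IsClosedImmersion.isAffine_surjective_of_isAffine (Spec.map φ)
    have hnat := Scheme.ΓSpecIso_naturality φ
    intro y
    obtain ⟨x, hx⟩ := hsurj ((Scheme.ΓSpecIso S).inv.hom y)
    refine ⟨(Scheme.ΓSpecIso R).hom.hom x, ?_⟩
    have h1 := congrArg (fun m => m.hom x) hnat
    simp only [CommRingCat.hom_comp, RingHom.comp_apply] at h1
    rw [← h1, hx]
    exact congrArg (fun m => m.hom y) (Scheme.ΓSpecIso S).inv_hom_id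
  · intro h
    exact IsClosedImmersion.spec_of_surjective φ h

/-- a restriction of a morphism is isomorphic to any of its charts -/
theorem restrict_iff_of_chart (Q : MorphismProperty Scheme.{u}) [Q.RespectsIso] (f : X ⟶ Y) (D : Y.Opens)
    {W Z : Scheme.{u}} (i : W ⟶ X) [IsOpenImmersion i] (κ : Z ⟶ Y) [IsOpenImmersion κ] (ρ : W ⟶ Z)
    (hcomm : i ≫ f = ρ ≫ κ) (hκ : κ.opensRange = D) (hi : i.opensRange = f ⁻¹ᵁ D) :
    Q (f ∣_ D) ↔ Q ρ := by
  let k₁ : W ≅ ((f ⁻¹ᵁ D : X.Opens) : Scheme.{u}) :=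
    IsOpenImmersion.isoOfRangeEq i (f ⁻¹ᵁ D).ι (by
      rw [Scheme.Opens.range_ι]
      exact congrArg (fun O : X.Opens => (O : Set X)) hi)
  let k₂ : Z ≅ (D : Scheme.{u}) :=
    IsOpenImmersion.isoOfRangeEq κ D.ι (by
      rw [Scheme.Opens.range_ι]
      exact congrArg (fun O : Y.Opens => (O : Set Y)) hκ)
  have hk₁ : k₁.hom ≫ (f ⁻¹ᵁ D).ι = i := IsOpenImmersion.isoOfRangeEq_hom_fac _ _ _
  have hk₂ : k₂.hom ≫ D.ι = κ := IsOpenImmersion.isoOfRangeEq_hom_fac _ _ _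
  have hsq : k₁.hom ≫ (f ∣_ D) = ρ ≫ k₂.hom := by
    rw [← cancel_mono D.ι, Category.assoc, Category.assoc, morphismRestrict_ι, hk₂, ← Category.assoc, hk₁, hcomm]
  exact (Q.arrow_mk_iso_iff (Arrow.isoMk (f := Arrow.mk ρ) (g := Arrow.mk (f ∣_ D)) k₁ k₂ hsq)).symm

theorem isClosedImmersion_restrict_of_le_coborderRange (f : X ⟶ Y) [IsImmersion f] (D : Y.Opens)
    (hD : D ≤ f.coborderRange) : IsClosedImmersion (f ∣_ D) := by
  have : IsPreimmersion (f ∣_ D) := inferInstance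
  refine IsClosedImmersion.of_isPreimmersion _ ?_
  have hrange : Set.range (f ∣_ D).base = Subtype.val ⁻¹' Set.range f.base := by
    rw [morphismRestrict_base]
    exact Set.range_restrictPreimage _ _
  rw [hrange]
  have hD' : (D : Set Y) ⊆ coborder (Set.range f.base) := hD
  have hcl : IsClosed ((Subtype.val : coborder (Set.range f.base) → Y) ⁻¹' Set.range f.base) :=
    isClosed_preimage_val_coborder
  exact hcl.preimage (continuous_inclusion hD')

theorem isIso_restrict_of_le_opensRange (f : X ⟶ Y) [IsOpenImmersion f] (D : Y.Opens)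
    (hD : D ≤ f.opensRange) : IsIso (f ∣_ D) := by
  have : IsOpenImmersion (f ∣_ D) := inferInstance
  apply isIso_of_isOpenImmersion_of_opensRange_eq_top
  rw [eq_top_iff]
  rintro ⟨y, hy⟩ -
  obtain ⟨x, rfl⟩ := hD hy
  refine ⟨⟨x, hy⟩, ?_⟩
  apply Subtype.ext
  rw [morphismRestrict_base]
  rfl

end Groth.Agent.Lib.Helper3.Restr

namespace Groth.Agent.Lib.Helper3.SymLine
open HomogeneousLocalization
open scoped HomogeneousIdeal
open Groth.Agent.Lib.Helper29.QCoh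
open RelProj RelSpec RelCone Groth.Agent.Lib.Helper3 Groth.Agent.Lib.Helper3.Cone Groth.Agent.Lib.Helper3.QProj

section Line
variable {Y X PL : Scheme.{u}} {q : X ⟶ Y} {L : X.Modules} [L.IsQuasicoherent]
  {𝒮 : QCGrAlg Y} {𝒮L : QCGrAlg X} {j : L ⟶ 𝒮L.toModule}
  (hL : PicF.IsInvertible L) (hj : IsGrSymAlg L 𝒮L j) (u : QGrHom q 𝒮 𝒮L)
  {pL : PL ⟶ X}
  {chartL : ∀ (U : X.Opens) (hU : IsAffineOpen U), (((pL ⁻¹ᵁ U : PL.Opens) : Scheme.{u}) ≅ Proj (𝒮L.deg U hU))}
  (hPL : IsRelProj 𝒮L pL chartL)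

/-- the open `X_f` where `ψ♭(f)` generates `L^d` -/
def Xf (U : Y.Opens) (d : ℕ) (f : 𝒮.presheaf.obj (op U)) : X.Opens :=
  ⨆ V : {V : X.affineOpens // ∃ hle : (V.1 : X.Opens) ≤ q ⁻¹ᵁ U, Good u U V.1 V.2 hle d f}, (V.1.1 : X.Opens)

omit [L.IsQuasicoherent] in
theorem Xf_le (U : Y.Opens) (d : ℕ) (f : 𝒮.presheaf.obj (op U)) : Xf u U d f ≤ q ⁻¹ᵁ U :=
  iSup_le fun V => V.2.1

omit [L.IsQuasicoherent] in
theorem mem_Xf_iff (U : Y.Opens) (d : ℕ) (f : 𝒮.presheaf.obj (op U)) (x : X) :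
    x ∈ Xf u U d f ↔ ∃ (V : X.Opens) (hV : IsAffineOpen V) (hle : V ≤ q ⁻¹ᵁ U), x ∈ V ∧ Good u U V hV hle d f := by
  constructor
  · intro hx
    obtain ⟨⟨⟨V, hV⟩, hle, hg⟩, hxV⟩ := Opens.mem_iSup.mp hx
    exact ⟨V, hV, hle, hxV, hg⟩
  · rintro ⟨V, hV, hle, hxV, hg⟩
    exact Opens.mem_iSup.mpr ⟨⟨⟨V, hV⟩, hle, hg⟩, hxV⟩

omit [L.IsQuasicoherent] in
/-- goodness is a local condition -/
theorem good_of_cover (U : Y.Opens) (d : ℕ) (f : 𝒮.presheaf.obj (op U))
    (V : X.Opens) (hV : IsAffineOpen V) (hle : V ≤ q ⁻¹ᵁ U)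
    (H : ∀ x ∈ V, ∃ (V₁ : X.Opens) (hV₁ : IsAffineOpen V₁) (h₁ : V₁ ≤ V), x ∈ V₁ ∧
      Good u U V₁ hV₁ (h₁.trans hle) d f) :
    Good u U V hV hle d f := by
  intro b₀ hb₀
  by_contra hcon
  let J : Ideal Γ(X, V) :=
    { carrier := {g | (𝒮L.str.app (op V)).hom g * b₀ ∈ Ideal.span {(u.appLE U V hle).hom f}}
      add_mem' := fun {a c} ha hc => by
        simp only [Set.mem_ofPred_eq, map_add, add_mul] at ha hc ⊢
        exact Ideal.add_mem _ ha hc
      zero_mem' := by simp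
      smul_mem' := fun c a ha => by
        simp only [Set.mem_ofPred_eq, smul_eq_mul, map_mul, mul_assoc] at ha ⊢
        exact Ideal.mul_mem_left _ _ ha }
  have hJ : J ≠ ⊤ := by
    intro htop
    have h1 : (1 : Γ(X, V)) ∈ J := htop ▸ Submodule.mem_top
    have h2 : (𝒮L.str.app (op V)).hom 1 * b₀ ∈ Ideal.span {(u.appLE U V hle).hom f} := h1
    rw [map_one, one_mul] at h2
    exact hcon h2
  obtain ⟨𝔪, hmax, hJ𝔪⟩ := Ideal.exists_le_maximal J hJ
  have hprime : 𝔪.IsPrime := hmax.isPrime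
  let pt : Spec Γ(X, V) := ⟨𝔪, hprime⟩
  have hxV : hV.fromSpec.base pt ∈ V := by
    have : hV.fromSpec.base pt ∈ Set.range hV.fromSpec.base := ⟨pt, rfl⟩
    rw [hV.range_fromSpec] at this
    exact this
  obtain ⟨V₁, hV₁, h₁, hxV₁, hgood₁⟩ := H _ hxV
  obtain ⟨g, hgle, hxg⟩ := hV.exists_basicOpen_le (V := V₁) ⟨_, hxV₁⟩ hxV
  have hg𝔪 : g ∉ 𝔪 := by
    have h1 : pt ∈ hV.fromSpec ⁻¹ᵁ X.basicOpen g := hxg
    rw [hV.fromSpec_preimage_basicOpen] at h1
    exact h1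
  have hD := hV.basicOpen g
  -- the claim: a power of `g` lies in `J`
  have hclaim : ∃ N : ℕ, g ^ N ∈ J := by
    let ψ := (𝒮L.presheaf.map (homOfLE (X.basicOpen_le g)).op).hom
    let c := (𝒮L.str.app (op V)).hom g
    let _inst := (𝒮L.presheaf.map (homOfLE (X.basicOpen_le g)).op).hom.toAlgebra
    have hloc : IsLocalization.Away c (𝒮L.presheaf.obj (op (X.basicOpen g))) := 𝒮L.isQC V hV g
    have hres : ∀ z, (𝒮L.presheaf.map (homOfLE hgle).op).hom ((𝒮L.presheaf.map (homOfLE h₁).op).hom z) = ψ z := by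
      intro z
      rw [← CommRingCat.comp_apply, ← Functor.map_comp]
      rfl
    have hb₀₁ : (𝒮L.presheaf.map (homOfLE h₁).op).hom b₀ ∈ 𝒮L.deg V₁ hV₁ d := (𝒮L.res hV hV₁ h₁).map_mem hb₀
    obtain ⟨m₁, hm₁⟩ := Ideal.mem_span_singleton'.mp (hgood₁ hb₀₁)
    have hb₁ : (u.appLE U V₁ (h₁.trans hle)).hom f =
        (𝒮L.presheaf.map (homOfLE h₁).op).hom ((u.appLE U V hle).hom f) :=
      (congrArg (fun m => m.hom f) (u.toQHom.appLE_map hle h₁)).symm
    have h2 : ψ b₀ = (𝒮L.presheaf.map (homOfLE hgle).op).hom m₁ * ψ ((u.appLE U V hle).hom f) := by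
      rw [← hres b₀, ← hm₁, map_mul, hb₁, hres]
    obtain ⟨⟨m', s₀, hs₀⟩, hm'⟩ := IsLocalization.surj (Submonoid.powers c)
      ((𝒮L.presheaf.map (homOfLE hgle).op).hom m₁)
    obtain ⟨k, rfl⟩ := (Submonoid.mem_powers_iff _ _).mp hs₀
    change (𝒮L.presheaf.map (homOfLE hgle).op).hom m₁ * ψ (c ^ k) = ψ m' at hm'
    have h3 : ψ (c ^ k * b₀) = ψ (m' * (u.appLE U V hle).hom f) := by
      rw [map_mul, map_mul, h2, ← hm']
      ring
    obtain ⟨⟨_, l, rfl⟩, hl⟩ := IsLocalization.exists_of_eq (M := Submonoid.powers c) h3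
    refine ⟨l + k, ?_⟩
    change (𝒮L.str.app (op V)).hom (g ^ (l + k)) * b₀ ∈ Ideal.span {(u.appLE U V hle).hom f}
    have h4 : (𝒮L.str.app (op V)).hom (g ^ (l + k)) * b₀ = c ^ l * m' * (u.appLE U V hle).hom f := by
      rw [map_pow, pow_add, mul_assoc, mul_assoc]
      exact hl
    rw [h4]
    exact Ideal.mul_mem_left _ _ (Ideal.mem_span_singleton_self _)
  obtain ⟨N, hN⟩ := hclaim
  exact hg𝔪 (hprime.mem_of_pow_mem N (hJ𝔪 hN))

include hL hj hPL in
/-- over a good affine open the standard chart is the whole preimage -/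
theorem range_awayEmb_of_good (U : Y.Opens) (hU : IsAffineOpen U) {d : ℕ} (hd : 0 < d)
    (f : 𝒮.presheaf.obj (op U)) (hf : f ∈ 𝒮.deg U hU d)
    (V : X.Opens) (hV : IsAffineOpen V) (hle : V ≤ q ⁻¹ᵁ U) (hgood : Good u U V hV hle d f) :
    Set.range (awayEmb u pL chartL U hU V hV hle hd f hf).base = ((pL ⁻¹ᵁ V : PL.Opens) : Set PL) := by
  apply Set.Subset.antisymm
  · rintro _ ⟨z, rfl⟩
    exact p'_j_mem (Idx.std (u := u) U hU V hV hle d hd f hf) z
  · intro x' hx'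
    obtain ⟨V₁, hV₁, hV₁V, y, hy, rfl⟩ := exists_point_of_good hL hj u hPL U hU f hf V hV hle hgood x' hx'
    refine range_awayEmb_mono hPL U hU V₁ hV₁ V hV hV₁V hle d hd f hf ?_
    exact (Idx.mem_range_j_iff pL chartL (Idx.std (u := u) U hU V₁ hV₁ (hV₁V.trans hle) d hd f hf) _).mpr
      ⟨y, hy, rfl⟩

omit [L.IsQuasicoherent] in
/-- if `X_f` is affine, it is good -/
theorem good_Xf (U : Y.Opens) (d : ℕ) (f : 𝒮.presheaf.obj (op U)) (hXf : IsAffineOpen (Xf u U d f)) :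
    Good u U (Xf u U d f) hXf (Xf_le u U d f) d f :=
  good_of_cover u U d f _ hXf _ (fun x hx => by
    obtain ⟨V, hV, hle, hxV, hg⟩ := (mem_Xf_iff u U d f x).mp hx
    exact ⟨V, hV, le_iSup_of_le ⟨⟨V, hV⟩, hle, hg⟩ le_rfl, hxV, hg⟩)

omit [L.IsQuasicoherent] in
include hPL in
/-- the structure morphism on a standard chart -/
theorem awayEmb_comp_pL (U : Y.Opens) (hU : IsAffineOpen U) {d : ℕ} (hd : 0 < d)
    (f : 𝒮.presheaf.obj (op U)) (hf : f ∈ 𝒮.deg U hU d)
    (V : X.Opens) (hV : IsAffineOpen V) (hle : V ≤ q ⁻¹ᵁ U) :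
    awayEmb u pL chartL U hU V hV hle hd f hf ≫ pL =
      Spec.map (𝒮L.strZero V hV ≫ CommRingCat.ofHom (fromZeroRingHom (𝒮L.deg V hV)
        (Submonoid.powers (u.gradedAt U hU V hV hle f)))) ≫ hV.fromSpec := by
  have e2 : emb pL chartL V hV ≫ pL =
      Proj.toSpecZero (𝒮L.deg V hV) ≫ Spec.map (𝒮L.strZero V hV) ≫ hV.fromSpec := by
    rw [emb, Category.assoc, ← hPL.chart_over V hV, Iso.inv_hom_id_assoc]
  unfold awayEmb
  rw [Category.assoc, e2, Proj.awayι_toSpecZero_assoc, Spec.map_comp, Category.assoc]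

include hL hj hPL in
/-- over a good affine open `V`, the ring `𝒮L(V)_(ψ♭ f)` is `O(V)` -/
theorem bijective_fromZero_of_good (U : Y.Opens) (hU : IsAffineOpen U) {d : ℕ} (hd : 0 < d)
    (f : 𝒮.presheaf.obj (op U)) (hf : f ∈ 𝒮.deg U hU d)
    (V : X.Opens) (hV : IsAffineOpen V) (hle : V ≤ q ⁻¹ᵁ U) (hgood : Good u U V hV hle d f) :
    Function.Bijective ((fromZeroRingHom (𝒮L.deg V hV)
      (Submonoid.powers (u.gradedAt U hU V hV hle f))).comp (𝒮L.strZero V hV).hom) := by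
  have hiso : IsIso pL := isIso_pL hL hj hPL
  set ψc := 𝒮L.strZero V hV ≫ CommRingCat.ofHom (fromZeroRingHom (𝒮L.deg V hV)
        (Submonoid.powers (u.gradedAt U hU V hV hle f))) with hψc
  have h1 := awayEmb_comp_pL u hPL U hU hd f hf V hV hle
  have hoi : IsOpenImmersion (Spec.map ψc ≫ hV.fromSpec) := by
    rw [← h1]
    have : IsOpenImmersion (awayEmb u pL chartL U hU V hV hle hd f hf) := by
      unfold awayEmb; infer_instance
    infer_instance
  have hoi' : IsOpenImmersion (Spec.map ψc) := IsOpenImmersion.of_comp (Spec.map ψc) hV.fromSpec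
  have hsurj : Function.Surjective (Spec.map ψc).base := by
    intro z
    have hzV : hV.fromSpec.base z ∈ V := by
      have : hV.fromSpec.base z ∈ Set.range hV.fromSpec.base := ⟨z, rfl⟩
      rw [hV.range_fromSpec] at this
      exact this
    obtain ⟨x', hx'⟩ := pL.homeomorph.surjective (hV.fromSpec.base z)
    have hx'V : x' ∈ ((pL ⁻¹ᵁ V : PL.Opens) : Set PL) := by
      change pL.base x' ∈ V
      have hx'' : pL.base x' = hV.fromSpec.base z := hx'
      rw [hx'']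
      exact hzV
    rw [← range_awayEmb_of_good hL hj u hPL U hU hd f hf V hV hle hgood] at hx'V
    obtain ⟨w, rfl⟩ := hx'V
    refine ⟨w, ?_⟩
    apply hV.fromSpec.isOpenEmbedding.injective
    have h2 := congrArg (fun m : _ ⟶ X => m.base w) h1
    simp only [Scheme.Hom.comp_apply] at h2
    rw [← h2]
    exact hx'
  have hiso' : IsIso (Spec.map ψc) := by
    apply isIso_of_isOpenImmersion_of_opensRange_eq_top
    rw [eq_top_iff]
    intro z _
    exact hsurj z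
  exact isIso_SpecMap_iff.mp hiso'

variable {P : Scheme.{u}} {p : P ⟶ Y}
  {chart : ∀ (U : Y.Opens) (hU : IsAffineOpen U), (((p ⁻¹ᵁ U : P.Opens) : Scheme.{u}) ≅ Proj (𝒮.deg U hU))}
  (hP : IsRelProj 𝒮 p chart)

include hL hj hPL hP in
/-- when `X_f` is affine, the restriction of `r` over `D₊(f)` is the spectrum of `S_(f) → 𝒮L(X_f)_(ψ♭ f)` -/
theorem restrict_iff_awayMap (Q : MorphismProperty Scheme.{u}) [Q.RespectsIso]
    (r : ((domQ u pL chartL : PL.Opens) : Scheme.{u}) ⟶ P)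
    (hr : IsProjQMapOn u p chart pL chartL (domQ u pL chartL) r)
    (U : Y.Opens) (hU : IsAffineOpen U) {d : ℕ} (hd : 0 < d) (f : 𝒮.presheaf.obj (op U)) (hf : f ∈ 𝒮.deg U hU d)
    (hXf : IsAffineOpen (Xf u U d f)) :
    Q (r ∣_ ((emb p chart U hU) ''ᵁ Proj.basicOpen (𝒮.deg U hU) f)) ↔
      Q (Spec.map (CommRingCat.ofHom (Away.map (u.gradedAt U hU (Xf u U d f) hXf (Xf_le u U d f)) f))) := by
  have hgood := good_Xf u U d f hXf
  set c := Idx.std (u := u) U hU (Xf u U d f) hXf (Xf_le u U d f) d hd f hf with hc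
  have hW : Set.range (c.j pL chartL).base ⊆ Set.range (domQ u pL chartL).ι.base :=
    Idx.range_j_subset_domQ pL chartL c
  have hfac : IsOpenImmersion.lift (domQ u pL chartL).ι (c.j pL chartL) hW ≫ (domQ u pL chartL).ι = c.j pL chartL :=
    IsOpenImmersion.lift_fac _ _ _
  have hoi : IsOpenImmersion (IsOpenImmersion.lift (domQ u pL chartL).ι (c.j pL chartL) hW) := by
    have : IsOpenImmersion (IsOpenImmersion.lift (domQ u pL chartL).ι (c.j pL chartL) hW ≫ (domQ u pL chartL).ι) := by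
      rw [hfac]; infer_instance
    exact IsOpenImmersion.of_comp _ (domQ u pL chartL).ι
  refine Restr.restrict_iff_of_chart Q r _ (IsOpenImmersion.lift (domQ u pL chartL).ι (c.j pL chartL) hW)
    (Proj.awayι (𝒮.deg U hU) f hf hd ≫ emb p chart U hU)
    (Spec.map (CommRingCat.ofHom (Away.map (u.gradedAt U hU (Xf u U d f) hXf (Xf_le u U d f)) f)))
    ((isProjQMapOn_iff _ _).mp hr c hW) ?_ ?_
  · rw [Scheme.Hom.opensRange_comp, Proj.opensRange_awayι]
  · ext w
    have h1 : w ∈ (IsOpenImmersion.lift (domQ u pL chartL).ι (c.j pL chartL) hW).opensRange ↔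
        (domQ u pL chartL).ι.base w ∈ Set.range (c.j pL chartL).base := by
      constructor
      · rintro ⟨z, rfl⟩
        exact ⟨z, by rw [← Scheme.Hom.comp_apply, hfac]⟩
      · rintro ⟨z, hz⟩
        refine ⟨z, (domQ u pL chartL).ι.isOpenEmbedding.injective ?_⟩
        rw [← hz, ← Scheme.Hom.comp_apply, hfac]
    have h2 : Set.range (c.j pL chartL).base = ((pL ⁻¹ᵁ (Xf u U d f) : PL.Opens) : Set PL) :=
      range_awayEmb_of_good hL hj u hPL U hU hd f hf _ hXf _ hgood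
    have h3 := image_preimage_eq hL hj u hPL hP r hr U hU hd f hf
    have h4 : w ∈ r ⁻¹ᵁ ((emb p chart U hU) ''ᵁ Proj.basicOpen (𝒮.deg U hU) f) ↔
        (domQ u pL chartL).ι.base w ∈ (domQ u pL chartL).ι ''ᵁ
          (r ⁻¹ᵁ ((emb p chart U hU) ''ᵁ Proj.basicOpen (𝒮.deg U hU) f)) := by
      constructor
      · intro hw
        exact ⟨w, hw, rfl⟩
      · rintro ⟨w', hw', hww'⟩
        have := (domQ u pL chartL).ι.isOpenEmbedding.injective hww'
        exact this ▸ hw'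
    refine h1.trans (Iff.trans ?_ h4.symm)
    rw [h2, h3]
    rfl

include hL hj hPL hP in
/-- if the preimage of `D₊(f)` is affine, so is `X_f` -/
theorem isAffineOpen_Xf_of_preimage
    (r : ((domQ u pL chartL : PL.Opens) : Scheme.{u}) ⟶ P)
    (hr : IsProjQMapOn u p chart pL chartL (domQ u pL chartL) r)
    (U : Y.Opens) (hU : IsAffineOpen U) {d : ℕ} (hd : 0 < d) (f : 𝒮.presheaf.obj (op U)) (hf : f ∈ 𝒮.deg U hU d)
    (haff : IsAffineOpen (r ⁻¹ᵁ ((emb p chart U hU) ''ᵁ Proj.basicOpen (𝒮.deg U hU) f))) :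
    IsAffineOpen (Xf u U d f) := by
  have hiso : IsIso pL := isIso_pL hL hj hPL
  have h1 := haff.image_of_isOpenImmersion (domQ u pL chartL).ι
  rw [image_preimage_eq hL hj u hPL hP r hr U hU hd f hf] at h1
  have h2 := h1.image_of_isOpenImmersion pL
  have h3 : pL ''ᵁ (pL ⁻¹ᵁ Xf u U d f) = Xf u U d f := by
    rw [Scheme.Hom.image_preimage_eq_opensRange_inf]
    have : pL.opensRange = ⊤ := by
      rw [eq_top_iff]
      intro x _
      exact pL.homeomorph.surjective x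
    rw [this, top_inf_eq]
  exact h3 ▸ h2

/-- condition (iii) -/
def CondIII (U : Y.Opens) (hU : IsAffineOpen U) (d : ℕ) (f : 𝒮.presheaf.obj (op U)) : Prop :=
  ∀ t : Γ(X, Xf u U d f), ∃ (m : ℕ) (_ : 0 < m) (s' : 𝒮.presheaf.obj (op U)) (_ : s' ∈ 𝒮.deg U hU (m * d)),
    (𝒮L.str.app (op (Xf u U d f))).hom t * ((u.appLE U (Xf u U d f) (Xf_le u U d f)).hom f) ^ m =
      (u.appLE U (Xf u U d f) (Xf_le u U d f)).hom s'

/-- condition (iv) -/
def CondIV (U : Y.Opens) (hU : IsAffineOpen U) (d : ℕ) (f : 𝒮.presheaf.obj (op U)) : Prop :=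
  ∀ (m : ℕ), 0 < m → ∀ s' ∈ 𝒮.deg U hU (m * d),
    (u.appLE U (Xf u U d f) (Xf_le u U d f)).hom s' = 0 → ∃ k : ℕ, 0 < k ∧ f ^ k * s' = 0

include hL hj hPL in
theorem awayMap_surjective_iff_condIII (U : Y.Opens) (hU : IsAffineOpen U) {d : ℕ} (hd : 0 < d)
    (f : 𝒮.presheaf.obj (op U)) (hf : f ∈ 𝒮.deg U hU d) (hXf : IsAffineOpen (Xf u U d f)) :
    Function.Surjective (Away.map (u.gradedAt U hU (Xf u U d f) hXf (Xf_le u U d f)) f) ↔ CondIII u U hU d f :=
  awayMap_surjective_iff (u.gradedAt U hU (Xf u U d f) hXf (Xf_le u U d f)) hf (𝒮L.strZero _ hXf).hom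
    (bijective_fromZero_of_good hL hj u hPL U hU hd f hf _ hXf _ (good_Xf u U d f hXf)).2

omit [L.IsQuasicoherent] in
theorem awayMap_injective_iff_condIV (U : Y.Opens) (hU : IsAffineOpen U) {d : ℕ}
    (f : 𝒮.presheaf.obj (op U)) (hf : f ∈ 𝒮.deg U hU d) (hXf : IsAffineOpen (Xf u U d f)) :
    Function.Injective (Away.map (u.gradedAt U hU (Xf u U d f) hXf (Xf_le u U d f)) f) ↔ CondIV u U hU d f :=
  awayMap_injective_iff (u.gradedAt U hU (Xf u U d f) hXf (Xf_le u U d f)) hf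

include hL hj hPL hP in
/-- the restriction of `r` over `D₊(f)` is a closed immersion iff `X_f` is affine and (iii) holds -/
theorem isClosedImmersion_restrict_iff
    (r : ((domQ u pL chartL : PL.Opens) : Scheme.{u}) ⟶ P)
    (hr : IsProjQMapOn u p chart pL chartL (domQ u pL chartL) r)
    (U : Y.Opens) (hU : IsAffineOpen U) {d : ℕ} (hd : 0 < d) (f : 𝒮.presheaf.obj (op U)) (hf : f ∈ 𝒮.deg U hU d) :
    IsClosedImmersion (r ∣_ ((emb p chart U hU) ''ᵁ Proj.basicOpen (𝒮.deg U hU) f)) ↔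
      IsAffineOpen (Xf u U d f) ∧ CondIII u U hU d f := by
  have hDaff : IsAffineOpen ((emb p chart U hU) ''ᵁ Proj.basicOpen (𝒮.deg U hU) f) := by
    have h1 : (Proj.awayι (𝒮.deg U hU) f hf hd ≫ emb p chart U hU).opensRange =
        (emb p chart U hU) ''ᵁ Proj.basicOpen (𝒮.deg U hU) f := by
      rw [Scheme.Hom.opensRange_comp, Proj.opensRange_awayι]
    rw [← h1]
    exact isAffineOpen_opensRange _
  constructor
  · intro hcl
    have haff : IsAffineOpen (r ⁻¹ᵁ ((emb p chart U hU) ''ᵁ Proj.basicOpen (𝒮.deg U hU) f)) := by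
      have : IsAffine (((emb p chart U hU) ''ᵁ Proj.basicOpen (𝒮.deg U hU) f : P.Opens) : Scheme.{u}) := hDaff
      exact isAffine_of_isAffineHom (r ∣_ ((emb p chart U hU) ''ᵁ Proj.basicOpen (𝒮.deg U hU) f))
    have hXf := isAffineOpen_Xf_of_preimage hL hj u hPL hP r hr U hU hd f hf haff
    refine ⟨hXf, ?_⟩
    have h2 := (restrict_iff_awayMap hL hj u hPL hP @IsClosedImmersion r hr U hU hd f hf hXf).mp hcl
    rw [Restr.isClosedImmersion_SpecMap_iff] at h2
    exact (awayMap_surjective_iff_condIII hL hj u hPL U hU hd f hf hXf).mp h2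
  · rintro ⟨hXf, h3⟩
    refine (restrict_iff_awayMap hL hj u hPL hP @IsClosedImmersion r hr U hU hd f hf hXf).mpr ?_
    rw [Restr.isClosedImmersion_SpecMap_iff]
    exact (awayMap_surjective_iff_condIII hL hj u hPL U hU hd f hf hXf).mpr h3

include hL hj hPL hP in
/-- the restriction of `r` over `D₊(f)` is an isomorphism iff `X_f` is affine and (iii), (iv) hold -/
theorem isIso_restrict_iff
    (r : ((domQ u pL chartL : PL.Opens) : Scheme.{u}) ⟶ P)
    (hr : IsProjQMapOn u p chart pL chartL (domQ u pL chartL) r)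
    (U : Y.Opens) (hU : IsAffineOpen U) {d : ℕ} (hd : 0 < d) (f : 𝒮.presheaf.obj (op U)) (hf : f ∈ 𝒮.deg U hU d) :
    IsIso (r ∣_ ((emb p chart U hU) ''ᵁ Proj.basicOpen (𝒮.deg U hU) f)) ↔
      IsAffineOpen (Xf u U d f) ∧ CondIII u U hU d f ∧ CondIV u U hU d f := by
  constructor
  · intro hiso
    have hcl : IsClosedImmersion (r ∣_ ((emb p chart U hU) ''ᵁ Proj.basicOpen (𝒮.deg U hU) f)) := inferInstance
    obtain ⟨hXf, h3⟩ := (isClosedImmersion_restrict_iff hL hj u hPL hP r hr U hU hd f hf).mp hcl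
    refine ⟨hXf, h3, ?_⟩
    have h2 := (restrict_iff_awayMap hL hj u hPL hP (MorphismProperty.isomorphisms Scheme.{u}) r hr U hU hd f hf
      hXf).mp hiso
    have h2' : IsIso (Spec.map (CommRingCat.ofHom (Away.map (u.gradedAt U hU (Xf u U d f) hXf (Xf_le u U d f)) f))) :=
      h2
    exact (awayMap_injective_iff_condIV u U hU f hf hXf).mp (isIso_SpecMap_iff.mp h2').1
  · rintro ⟨hXf, h3, h4⟩
    refine (restrict_iff_awayMap hL hj u hPL hP (MorphismProperty.isomorphisms Scheme.{u}) r hr U hU hd f hf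
      hXf).mpr ?_
    change IsIso _
    rw [isIso_SpecMap_iff]
    exact ⟨(awayMap_injective_iff_condIV u U hU f hf hXf).mpr h4,
      (awayMap_surjective_iff_condIII hL hj u hPL U hU hd f hf hXf).mpr h3⟩

end Line

end Groth.Agent.Lib.Helper3.SymLine
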