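import Groth.Agent.Lib.Helper3.SymLine6
/-!
# The morphism `r_{L,ψ}`: criteria for immersions
-/
universe u
open CategoryTheory CategoryTheory.Limits AlgebraicGeometry Opposite TopologicalSpace
open HomogeneousLocalization
open scoped HomogeneousIdeal
open Groth.Agent.Lib.Helper29.QCoh

namespace Groth.Agent.Lib.Helper3.SymLine
open RelProj RelSpec RelCone Groth.Agent.Lib.Helper3 Groth.Agent.Lib.Helper3.Cone Groth.Agent.Lib.Helper3.QProj

section Gen
variable {S : Scheme.{u}} {𝒮 : QCGrAlg S}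
  {P : Scheme.{u}} {p : P ⟶ S}
  {chart : ∀ (U : S.Opens) (hU : IsAffineOpen U), (((p ⁻¹ᵁ U : P.Opens) : Scheme.{u}) ≅ Proj (𝒮.deg U hU))}

/-- the standard opens `D₊(s)` over a given affine open form a basis of the relative `Proj` there -/
theorem exists_basicOpen_mem_le (U : S.Opens) (hU : IsAffineOpen U) (z : P) (hzU : p.base z ∈ U)
    (Ω : P.Opens) (hz : z ∈ Ω) :
    ∃ (n : ℕ) (_ : 0 < n) (s : 𝒮.presheaf.obj (op U)) (_ : s ∈ 𝒮.deg U hU n),
      z ∈ (emb p chart U hU) ''ᵁ Proj.basicOpen (𝒮.deg U hU) s ∧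
        (emb p chart U hU) ''ᵁ Proj.basicOpen (𝒮.deg U hU) s ≤ Ω := by
  have hzr : z ∈ Set.range (emb p chart U hU).base := by
    rw [Idx.range_emb]; exact hzU
  obtain ⟨y₀, rfl⟩ := hzr
  obtain ⟨n, hn, s, hs, hsy₀, hsub⟩ := exists_basicOpen_subset y₀
    ((emb p chart U hU) ⁻¹ᵁ Ω : (Proj (𝒮.deg U hU)).Opens) ((emb p chart U hU) ⁻¹ᵁ Ω).isOpen hz
  refine ⟨n, hn, s, hs, ⟨y₀, hsy₀, rfl⟩, ?_⟩
  rintro _ ⟨y, hy, rfl⟩
  exact hsub y hy

end Gen

section Line
variable {Y X PL : Scheme.{u}} {q : X ⟶ Y} {L : X.Modules} [L.IsQuasicoherent]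
  {𝒮 : QCGrAlg Y} {𝒮L : QCGrAlg X} {j : L ⟶ 𝒮L.toModule}
  (hL : PicF.IsInvertible L) (hj : IsGrSymAlg L 𝒮L j) (u : QGrHom q 𝒮 𝒮L)
  {pL : PL ⟶ X}
  {chartL : ∀ (U : X.Opens) (hU : IsAffineOpen U), (((pL ⁻¹ᵁ U : PL.Opens) : Scheme.{u}) ≅ Proj (𝒮L.deg U hU))}
  (hPL : IsRelProj 𝒮L pL chartL)
  {P : Scheme.{u}} {p : P ⟶ Y}
  {chart : ∀ (U : Y.Opens) (hU : IsAffineOpen U), (((p ⁻¹ᵁ U : P.Opens) : Scheme.{u}) ≅ Proj (𝒮.deg U hU))}
  (hP : IsRelProj 𝒮 p chart)

include hL hj hPL in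
/-- `r_{L,ψ}` is everywhere defined iff the `X_f` cover `X` -/
theorem domQ_eq_top_iff_Xf :
    domQ u pL chartL = ⊤ ↔
      ∀ x : X, ∃ (U : Y.Opens) (hU : IsAffineOpen U) (n : ℕ) (_ : 0 < n) (s : 𝒮.presheaf.obj (op U))
        (_ : s ∈ 𝒮.deg U hU n), x ∈ Xf u U n s := by
  rw [domQ_eq_top_iff_gen hL hj u hPL]
  refine forall_congr' fun x => ?_
  constructor
  · rintro ⟨U, hU, n, hn, s, hs, V, hV, hle, hxV, hg⟩
    exact ⟨U, hU, n, hn, s, hs, (mem_Xf_iff u U n s x).mpr ⟨V, hV, hle, hxV, hg⟩⟩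
  · rintro ⟨U, hU, n, hn, s, hs, hx⟩
    obtain ⟨V, hV, hle, hxV, hg⟩ := (mem_Xf_iff u U n s x).mp hx
    exact ⟨U, hU, n, hn, s, hs, V, hV, hle, hxV, hg⟩

include hL hj hPL hP in
/-- membership in `r⁻¹(D₊(s))` -/
theorem mem_preimage_iff (r : ((domQ u pL chartL : PL.Opens) : Scheme.{u}) ⟶ P)
    (hr : IsProjQMapOn u p chart pL chartL (domQ u pL chartL) r)
    (U : Y.Opens) (hU : IsAffineOpen U) {d : ℕ} (hd : 0 < d) (f : 𝒮.presheaf.obj (op U)) (hf : f ∈ 𝒮.deg U hU d)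
    (w : ((domQ u pL chartL : PL.Opens) : Scheme.{u})) :
    r.base w ∈ (emb p chart U hU) ''ᵁ Proj.basicOpen (𝒮.deg U hU) f ↔
      pL.base ((domQ u pL chartL).ι.base w) ∈ Xf u U d f := by
  have h3 := image_preimage_eq hL hj u hPL hP r hr U hU hd f hf
  have h4 : w ∈ r ⁻¹ᵁ ((emb p chart U hU) ''ᵁ Proj.basicOpen (𝒮.deg U hU) f) ↔
      (domQ u pL chartL).ι.base w ∈ (domQ u pL chartL).ι ''ᵁ
        (r ⁻¹ᵁ ((emb p chart U hU) ''ᵁ Proj.basicOpen (𝒮.deg U hU) f)) := by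
    constructor
    · intro hw
      exact ⟨w, hw, rfl⟩
    · rintro ⟨w', hw', hww'⟩
      have := (domQ u pL chartL).ι.isOpenEmbedding.injective hww'
      exact this ▸ hw'
  refine Iff.trans (Iff.trans ?_ h4) ?_
  · rfl
  · rw [h3]
    rfl

include hP hPL in
omit [L.IsQuasicoherent] in
theorem p_r_apply (r : ((domQ u pL chartL : PL.Opens) : Scheme.{u}) ⟶ P)
    (hr : IsProjQMapOn u p chart pL chartL (domQ u pL chartL) r)
    (w : ((domQ u pL chartL : PL.Opens) : Scheme.{u})) :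
    p.base (r.base w) = q.base (pL.base ((domQ u pL chartL).ι.base w)) := by
  have h := comp_eq_of_isProjQMapOn_domQ hP hPL r hr
  have h2 := congrArg (fun m : _ ⟶ Y => m.base w) h
  simpa only [Scheme.Hom.comp_apply] using h2

theorem respectsRight_isImmersion :
    MorphismProperty.RespectsRight (@IsImmersion : MorphismProperty Scheme.{u}) @IsOpenImmersion :=
  ⟨fun i hi f hf => by
    have : IsOpenImmersion i := hi
    have : IsImmersion f := hf
    exact (inferInstance : IsImmersion (f ≫ i))⟩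

include hL hj hPL hP in
/-- an immersion `r_{L,ψ}` is locally described by (ii), (iii) -/
theorem exists_of_isImmersion (r : ((domQ u pL chartL : PL.Opens) : Scheme.{u}) ⟶ P)
    (hr : IsProjQMapOn u p chart pL chartL (domQ u pL chartL) r) [IsImmersion r]
    (w : ((domQ u pL chartL : PL.Opens) : Scheme.{u})) (U : Y.Opens) (hU : IsAffineOpen U)
    (hwU : q.base (pL.base ((domQ u pL chartL).ι.base w)) ∈ U) :
    ∃ (n : ℕ) (_ : 0 < n) (s : 𝒮.presheaf.obj (op U)) (_ : s ∈ 𝒮.deg U hU n),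
      pL.base ((domQ u pL chartL).ι.base w) ∈ Xf u U n s ∧ IsAffineOpen (Xf u U n s) ∧ CondIII u U hU n s := by
  have hz : r.base w ∈ r.coborderRange := subset_coborder ⟨w, rfl⟩
  obtain ⟨n, hn, s, hs, hzD, hDle⟩ := exists_basicOpen_mem_le (chart := chart) U hU (r.base w)
    (by rw [p_r_apply u hPL hP r hr]; exact hwU) r.coborderRange hz
  have hcl := Restr.isClosedImmersion_restrict_of_le_coborderRange r _ hDle
  obtain ⟨haff, h3⟩ := (isClosedImmersion_restrict_iff hL hj u hPL hP r hr U hU hn s hs).mp hcl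
  exact ⟨n, hn, s, hs, (mem_preimage_iff hL hj u hPL hP r hr U hU hn s hs w).mp hzD, haff, h3⟩

include hL hj hPL hP in
/-- `r_{L,ψ}` is an immersion if it is locally described by (ii), (iii) -/
theorem isImmersion_of_forall (r : ((domQ u pL chartL : PL.Opens) : Scheme.{u}) ⟶ P)
    (hr : IsProjQMapOn u p chart pL chartL (domQ u pL chartL) r)
    (H : ∀ w : ((domQ u pL chartL : PL.Opens) : Scheme.{u}), ∃ (U : Y.Opens) (hU : IsAffineOpen U) (n : ℕ)
      (_ : 0 < n) (s : 𝒮.presheaf.obj (op U)) (_ : s ∈ 𝒮.deg U hU n),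
      pL.base ((domQ u pL chartL).ι.base w) ∈ Xf u U n s ∧ IsAffineOpen (Xf u U n s) ∧ CondIII u U hU n s) :
    IsImmersion r := by
  choose U hU n hn s hs hx haff h3 using H
  have := respectsRight_isImmersion.{u}
  refine IsZariskiLocalAtTarget.of_range_subset_iSup (P := @IsImmersion)
    (fun w => (emb p chart (U w) (hU w)) ''ᵁ Proj.basicOpen (𝒮.deg (U w) (hU w)) (s w)) ?_ ?_
  · rintro _ ⟨w, rfl⟩
    exact Opens.mem_iSup.mpr ⟨w, (mem_preimage_iff hL hj u hPL hP r hr _ (hU w) (hn w) (s w) (hs w) w).mpr (hx w)⟩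
  · intro w
    have := (isClosedImmersion_restrict_iff hL hj u hPL hP r hr _ (hU w) (hn w) (s w) (hs w)).mpr ⟨haff w, h3 w⟩
    infer_instance

include hL hj hPL hP in
/-- an open immersion `r_{L,ψ}` is locally described by (ii), (iii), (iv) -/
theorem exists_of_isOpenImmersion (r : ((domQ u pL chartL : PL.Opens) : Scheme.{u}) ⟶ P)
    (hr : IsProjQMapOn u p chart pL chartL (domQ u pL chartL) r) [IsOpenImmersion r]
    (w : ((domQ u pL chartL : PL.Opens) : Scheme.{u})) (U : Y.Opens) (hU : IsAffineOpen U)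
    (hwU : q.base (pL.base ((domQ u pL chartL).ι.base w)) ∈ U) :
    ∃ (n : ℕ) (_ : 0 < n) (s : 𝒮.presheaf.obj (op U)) (_ : s ∈ 𝒮.deg U hU n),
      pL.base ((domQ u pL chartL).ι.base w) ∈ Xf u U n s ∧ IsAffineOpen (Xf u U n s) ∧ CondIII u U hU n s ∧
        CondIV u U hU n s := by
  have hz : r.base w ∈ r.opensRange := ⟨w, rfl⟩
  obtain ⟨n, hn, s, hs, hzD, hDle⟩ := exists_basicOpen_mem_le (chart := chart) U hU (r.base w)
    (by rw [p_r_apply u hPL hP r hr]; exact hwU) r.opensRange hz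
  have hiso := Restr.isIso_restrict_of_le_opensRange r _ hDle
  obtain ⟨haff, h3, h4⟩ := (isIso_restrict_iff hL hj u hPL hP r hr U hU hn s hs).mp hiso
  exact ⟨n, hn, s, hs, (mem_preimage_iff hL hj u hPL hP r hr U hU hn s hs w).mp hzD, haff, h3, h4⟩

include hL hj hPL hP in
/-- `r_{L,ψ}` is an open immersion if it is locally described by (ii), (iii), (iv) -/
theorem isOpenImmersion_of_forall (r : ((domQ u pL chartL : PL.Opens) : Scheme.{u}) ⟶ P)
    (hr : IsProjQMapOn u p chart pL chartL (domQ u pL chartL) r)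
    (H : ∀ w : ((domQ u pL chartL : PL.Opens) : Scheme.{u}), ∃ (U : Y.Opens) (hU : IsAffineOpen U) (n : ℕ)
      (_ : 0 < n) (s : 𝒮.presheaf.obj (op U)) (_ : s ∈ 𝒮.deg U hU n),
      pL.base ((domQ u pL chartL).ι.base w) ∈ Xf u U n s ∧ IsAffineOpen (Xf u U n s) ∧ CondIII u U hU n s ∧
        CondIV u U hU n s) :
    IsOpenImmersion r := by
  choose U hU n hn s hs hx haff h3 h4 using H
  refine IsZariskiLocalAtTarget.of_range_subset_iSup (P := @IsOpenImmersion)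
    (fun w => (emb p chart (U w) (hU w)) ''ᵁ Proj.basicOpen (𝒮.deg (U w) (hU w)) (s w)) ?_ ?_
  · rintro _ ⟨w, rfl⟩
    exact Opens.mem_iSup.mpr ⟨w, (mem_preimage_iff hL hj u hPL hP r hr _ (hU w) (hn w) (s w) (hs w) w).mpr (hx w)⟩
  · intro w
    have := (isIso_restrict_iff hL hj u hPL hP r hr _ (hU w) (hn w) (s w) (hs w)).mpr ⟨haff w, h3 w, h4 w⟩
    infer_instance

include hL hj hPL hP in
/-- a closed immersion `r_{L,ψ}` is described by (ii), (iii) over every standard open -/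
theorem of_isClosedImmersion (r : ((domQ u pL chartL : PL.Opens) : Scheme.{u}) ⟶ P)
    (hr : IsProjQMapOn u p chart pL chartL (domQ u pL chartL) r) [IsClosedImmersion r]
    (U : Y.Opens) (hU : IsAffineOpen U) {n : ℕ} (hn : 0 < n) (s : 𝒮.presheaf.obj (op U)) (hs : s ∈ 𝒮.deg U hU n) :
    IsAffineOpen (Xf u U n s) ∧ CondIII u U hU n s :=
  (isClosedImmersion_restrict_iff hL hj u hPL hP r hr U hU hn s hs).mp inferInstance

include hL hj hPL hP in
/-- `r_{L,ψ}` is a closed immersion if it is described by (ii), (iii) over a cover by standard opens -/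
theorem isClosedImmersion_of_forall (r : ((domQ u pL chartL : PL.Opens) : Scheme.{u}) ⟶ P)
    (hr : IsProjQMapOn u p chart pL chartL (domQ u pL chartL) r)
    (H : ∀ z : P, ∃ (U : Y.Opens) (hU : IsAffineOpen U) (n : ℕ)
      (_ : 0 < n) (s : 𝒮.presheaf.obj (op U)) (_ : s ∈ 𝒮.deg U hU n),
      z ∈ (emb p chart U hU) ''ᵁ Proj.basicOpen (𝒮.deg U hU) s ∧ IsAffineOpen (Xf u U n s) ∧ CondIII u U hU n s) :
    IsClosedImmersion r := by
  choose U hU n hn s hs hz haff h3 using H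
  refine IsZariskiLocalAtTarget.of_iSup_eq_top (P := @IsClosedImmersion)
    (fun z => (emb p chart (U z) (hU z)) ''ᵁ Proj.basicOpen (𝒮.deg (U z) (hU z)) (s z)) ?_ ?_
  · rw [eq_top_iff]
    intro z _
    exact Opens.mem_iSup.mpr ⟨z, hz z⟩
  · intro z
    exact (isClosedImmersion_restrict_iff hL hj u hPL hP r hr _ (hU z) (hn z) (s z) (hs z)).mpr ⟨haff z, h3 z⟩

omit [L.IsQuasicoherent] in
/-- the open `X_f` over an affine base, as it is written in the statements -/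
theorem iSup_good_eq_Xf (n : ℕ) (s : 𝒮.presheaf.obj (op ⊤)) :
    (⨆ V : {V : X.affineOpens //
      ((𝒮L.deg V.1 V.2 n : AddSubgroup (𝒮L.presheaf.obj (op (V.1 : X.Opens)))) :
        Set (𝒮L.presheaf.obj (op (V.1 : X.Opens)))) ⊆
        (Ideal.span {(u.appLE ⊤ (V.1 : X.Opens) (le_top.trans (Scheme.Hom.preimage_top q).ge)).hom s} :
          Set (𝒮L.presheaf.obj (op (V.1 : X.Opens))))},
      (V.1.1 : X.Opens)) = Xf u ⊤ n s := by
  apply le_antisymm
  · refine iSup_le fun V => ?_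
    exact le_iSup_of_le ⟨V.1, le_top.trans (Scheme.Hom.preimage_top q).ge, V.2⟩ le_rfl
  · refine iSup_le fun V => ?_
    obtain ⟨hle, hg⟩ := V.2
    exact le_iSup_of_le ⟨V.1, hg⟩ le_rfl

end Line

end Groth.Agent.Lib.Helper3.SymLine
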