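import Groth.Agent.Lib.Helper3.SymLine7
/-!
# The morphism `r_{L,ψ}`: composition with a graded homomorphism of the target algebra
-/
universe u
open CategoryTheory CategoryTheory.Limits AlgebraicGeometry Opposite TopologicalSpace
open HomogeneousLocalization
open scoped HomogeneousIdeal
open Groth.Agent.Lib.Helper29.QCoh

namespace Groth.Agent.Lib.Helper3.SymLine
open RelProj RelSpec RelCone Groth.Agent.Lib.Helper3 Groth.Agent.Lib.Helper3.Cone Groth.Agent.Lib.Helper3.QProj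

section Comp
variable {Y X : Scheme.{u}} {q : X ⟶ Y} {𝒮 𝒯 : QCGrAlg Y} {𝒮L : QCGrAlg X}
  (u : QGrHom q 𝒮 𝒮L) (u' : QGrHom q 𝒯 𝒮L) (v : 𝒯.toQCAlg ⟶ 𝒮.toQCAlg)

/-- condition (iii) over an arbitrary open -/
def CondIIIOn (U : Y.Opens) (hU : IsAffineOpen U) (d : ℕ) (f : 𝒮.presheaf.obj (op U)) (W : X.Opens)
    (hW : W ≤ q ⁻¹ᵁ U) : Prop :=
  ∀ t : Γ(X, W), ∃ (m : ℕ) (_ : 0 < m) (s' : 𝒮.presheaf.obj (op U)) (_ : s' ∈ 𝒮.deg U hU (m * d)),
    (𝒮L.str.app (op W)).hom t * ((u.appLE U W hW).hom f) ^ m = (u.appLE U W hW).hom s'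

/-- condition (iv) over an arbitrary open -/
def CondIVOn (U : Y.Opens) (hU : IsAffineOpen U) (d : ℕ) (f : 𝒮.presheaf.obj (op U)) (W : X.Opens)
    (hW : W ≤ q ⁻¹ᵁ U) : Prop :=
  ∀ (m : ℕ), 0 < m → ∀ s' ∈ 𝒮.deg U hU (m * d),
    (u.appLE U W hW).hom s' = 0 → ∃ k : ℕ, 0 < k ∧ f ^ k * s' = 0

theorem condIII_iff (U : Y.Opens) (hU : IsAffineOpen U) (d : ℕ) (f : 𝒮.presheaf.obj (op U)) :
    CondIII u U hU d f ↔ CondIIIOn u U hU d f (Xf u U d f) (Xf_le u U d f) := Iff.rfl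

theorem condIV_iff (U : Y.Opens) (hU : IsAffineOpen U) (d : ℕ) (f : 𝒮.presheaf.obj (op U)) :
    CondIV u U hU d f ↔ CondIVOn u U hU d f (Xf u U d f) (Xf_le u U d f) := Iff.rfl

theorem condIIIOn_congr (U : Y.Opens) (hU : IsAffineOpen U) (d : ℕ) (f : 𝒮.presheaf.obj (op U))
    {W W' : X.Opens} (h : W = W') (hW : W ≤ q ⁻¹ᵁ U) (hW' : W' ≤ q ⁻¹ᵁ U) :
    CondIIIOn u U hU d f W hW ↔ CondIIIOn u U hU d f W' hW' := by
  subst h; rfl

theorem condIVOn_congr (U : Y.Opens) (hU : IsAffineOpen U) (d : ℕ) (f : 𝒮.presheaf.obj (op U))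
    {W W' : X.Opens} (h : W = W') (hW : W ≤ q ⁻¹ᵁ U) (hW' : W' ≤ q ⁻¹ᵁ U) :
    CondIVOn u U hU d f W hW ↔ CondIVOn u U hU d f W' hW' := by
  subst h; rfl

variable (hu' : ∀ U : Y.Opens, u'.app U = v.hom.app (op U) ≫ u.app U)

include hu' in
theorem appLE_comp (U : Y.Opens) (V : X.Opens) (hle : V ≤ q ⁻¹ᵁ U) (t : 𝒯.presheaf.obj (op U)) :
    (u'.appLE U V hle).hom t = (u.appLE U V hle).hom ((v.hom.app (op U)).hom t) := by
  rw [RelSpec.QHom.appLE_eq, RelSpec.QHom.appLE_eq, hu' U]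
  rfl

include hu' in
theorem good_comp_iff (U : Y.Opens) (V : X.Opens) (hV : IsAffineOpen V) (hle : V ≤ q ⁻¹ᵁ U) (d : ℕ)
    (t : 𝒯.presheaf.obj (op U)) :
    Good u' U V hV hle d t ↔ Good u U V hV hle d ((v.hom.app (op U)).hom t) := by
  unfold Good
  rw [appLE_comp u u' v hu']

include hu' in
theorem Xf_comp (U : Y.Opens) (d : ℕ) (t : 𝒯.presheaf.obj (op U)) :
    Xf u' U d t = Xf u U d ((v.hom.app (op U)).hom t) := by
  apply le_antisymm
  · refine iSup_le fun V => ?_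
    obtain ⟨hle, hg⟩ := V.2
    exact le_iSup_of_le ⟨V.1, hle, (good_comp_iff u u' v hu' U _ V.1.2 hle d t).mp hg⟩ le_rfl
  · refine iSup_le fun V => ?_
    obtain ⟨hle, hg⟩ := V.2
    exact le_iSup_of_le ⟨V.1, hle, (good_comp_iff u u' v hu' U _ V.1.2 hle d t).mpr hg⟩ le_rfl

include hu' in
theorem condIIIOn_comp (hv : IsGradedHom v) (U : Y.Opens) (hU : IsAffineOpen U) (d : ℕ) (t : 𝒯.presheaf.obj (op U))
    (W : X.Opens) (hW : W ≤ q ⁻¹ᵁ U) (h : CondIIIOn u' U hU d t W hW) :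
    CondIIIOn u U hU d ((v.hom.app (op U)).hom t) W hW := by
  intro t₀
  obtain ⟨m, hm, t', ht', heq⟩ := h t₀
  refine ⟨m, hm, (v.hom.app (op U)).hom t', hv U hU _ _ ht', ?_⟩
  rw [← appLE_comp u u' v hu', ← appLE_comp u u' v hu']
  exact heq

include hu' in
theorem condIII_comp (hv : IsGradedHom v) (U : Y.Opens) (hU : IsAffineOpen U) (d : ℕ) (t : 𝒯.presheaf.obj (op U))
    (h : CondIII u' U hU d t) : CondIII u U hU d ((v.hom.app (op U)).hom t) := by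
  rw [condIII_iff] at h ⊢
  rw [condIIIOn_congr u' U hU d t (Xf_comp u u' v hu' U d t) _ (Xf_le u U d _)] at h
  exact condIIIOn_comp u u' v hu' hv U hU d t _ _ h

include hu' in
theorem condIVOn_comp (hv : IsGradedHom v) (N : ℕ) (hTN : ∀ k, N ≤ k → ∀ (U : Y.Opens) (hU : IsAffineOpen U),
      ∀ y ∈ 𝒮.deg U hU k, ∃ x ∈ 𝒯.deg U hU k, (v.hom.app (op U)).hom x = y)
    (U : Y.Opens) (hU : IsAffineOpen U) {d : ℕ} (hd : 0 < d) (t : 𝒯.presheaf.obj (op U)) (ht : t ∈ 𝒯.deg U hU d)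
    (W : X.Opens) (hW : W ≤ q ⁻¹ᵁ U) (h : CondIVOn u' U hU d t W hW) :
    CondIVOn u U hU d ((v.hom.app (op U)).hom t) W hW := by
  intro m hm s'' hs'' hzero
  set s := (v.hom.app (op U)).hom t with hs_def
  have hs : s ∈ 𝒮.deg U hU d := hv U hU _ _ ht
  have hmem : s ^ N * s'' ∈ 𝒮.deg U hU ((N + m) * d) := by
    have h1 : s ^ N * s'' ∈ 𝒮.deg U hU (N • d + m * d) :=
      SetLike.mul_mem_graded (SetLike.pow_mem_graded N hs) hs''
    have h2 : N • d + m * d = (N + m) * d := by simp only [smul_eq_mul]; ring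
    exact h2 ▸ h1
  have hle : N ≤ (N + m) * d := by nlinarith
  obtain ⟨t'', ht'', hvt''⟩ := hTN _ hle U hU _ hmem
  have hzero' : (u'.appLE U W hW).hom t'' = 0 := by
    rw [appLE_comp u u' v hu', hvt'', map_mul, hzero, mul_zero]
  obtain ⟨l, hl, hlt⟩ := h (N + m) (by omega) t'' ht'' hzero'
  refine ⟨l + N, by omega, ?_⟩
  have := congrArg (v.hom.app (op U)).hom hlt
  rw [map_mul, map_pow, hvt'', map_zero] at this
  rw [pow_add, mul_assoc]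
  exact this

include hu' in
theorem condIV_comp (hv : IsGradedHom v) (N : ℕ) (hTN : ∀ k, N ≤ k → ∀ (U : Y.Opens) (hU : IsAffineOpen U),
      ∀ y ∈ 𝒮.deg U hU k, ∃ x ∈ 𝒯.deg U hU k, (v.hom.app (op U)).hom x = y)
    (U : Y.Opens) (hU : IsAffineOpen U) {d : ℕ} (hd : 0 < d) (t : 𝒯.presheaf.obj (op U)) (ht : t ∈ 𝒯.deg U hU d)
    (h : CondIV u' U hU d t) : CondIV u U hU d ((v.hom.app (op U)).hom t) := by
  rw [condIV_iff] at h ⊢
  rw [condIVOn_congr u' U hU d t (Xf_comp u u' v hu' U d t) _ (Xf_le u U d _)] at h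
  exact condIVOn_comp u u' v hu' hv N hTN U hU hd t ht _ _ h

end Comp

end Groth.Agent.Lib.Helper3.SymLine
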