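import Groth.Agent.Lib.Helper3.OfAff
import Groth.Agent.Lib.Helper3.SymAlgLoc
import Groth.Agent.Lib.Helper29.QCohBasic
import Groth.Agent.Lib.Helper3.ModHomAff
import Groth.Agent.Lib.Helper3.QCAlgSub
/-!
# The symmetric algebra of a quasi-coherent module, as a quasi-coherent algebra
-/
universe u
open CategoryTheory CategoryTheory.Limits AlgebraicGeometry Opposite TopologicalSpace
open RelSpec AlgebraicGeometry.Scheme.AffineZariskiSite
open Groth.Agent.Lib.Helper29.QCoh Groth.Agent.Lib.Helper3.SymAlg

namespace Groth.Agent.Lib.Helper3.SymQC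

variable {S : Scheme.{u}} (E : S.Modules)

/-- The restriction map between symmetric algebras of sections. -/
noncomputable def symRes {U V : S.Opens} (h : V ≤ U) :
    SymmetricAlgebra Γ(S, U) Γ(E, U) →+* SymmetricAlgebra Γ(S, V) Γ(E, V) :=
  symMap (S.presheaf.map (homOfLE h).op).hom (res E h) (fun r m => res_smul E h r m)

theorem symRes_algebraMap {U V : S.Opens} (h : V ≤ U) (r : Γ(S, U)) :
    symRes E h (algebraMap _ _ r) = algebraMap _ _ (S.presheaf.map (homOfLE h).op r) :=
  symMap_algebraMap _ _ _ r

theorem symRes_ι {U V : S.Opens} (h : V ≤ U) (m : Γ(E, U)) :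
    symRes E h (SymmetricAlgebra.ι _ _ m) = SymmetricAlgebra.ι _ _ (res E h m) :=
  symMap_ι _ _ _ m

theorem symRes_self (U : S.Opens) : symRes E (le_refl U) = RingHom.id _ :=
  ringHom_ext (fun r => by
      rw [symRes_algebraMap, RingHom.id_apply]
      congr 1
      exact congrArg (fun k => k.hom r) (S.presheaf.map_id (op U)))
    (fun m => by rw [symRes_ι, res_self, RingHom.id_apply])

theorem symRes_symRes {U V W : S.Opens} (h : V ≤ U) (h' : W ≤ V) :
    (symRes E h').comp (symRes E h) = symRes E (h'.trans h) :=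
  ringHom_ext (fun r => by
      rw [RingHom.comp_apply, symRes_algebraMap, symRes_algebraMap, symRes_algebraMap,
        map_map_apply])
    (fun m => by rw [RingHom.comp_apply, symRes_ι, symRes_ι, symRes_ι, res_res])

/-- The functor `U ↦ Sym_{O(U)} E(U)` on the affine opens. -/
noncomputable def symF : S.AffineZariskiSiteᵒᵖ ⥤ CommRingCat.{u} where
  obj U := CommRingCat.of (SymmetricAlgebra Γ(S, U.unop.1) Γ(E, U.unop.1))
  map {U V} i := CommRingCat.ofHom (symRes E (toOpens_mono i.unop.le))
  map_id U := by
    rw [← CommRingCat.ofHom_id]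
    exact congrArg CommRingCat.ofHom (symRes_self E U.unop.1)
  map_comp {U V W} i j := by
    rw [← CommRingCat.ofHom_comp]
    exact congrArg CommRingCat.ofHom (symRes_symRes E _ _).symm

/-- The structure map. -/
noncomputable def symα : (toOpensFunctor S).op ⋙ S.presheaf ⟶ symF E where
  app U := CommRingCat.ofHom
    (algebraMap Γ(S, U.unop.1) (SymmetricAlgebra Γ(S, U.unop.1) Γ(E, U.unop.1)))
  naturality {U V} i := by
    ext r
    exact (symRes_algebraMap E (toOpens_mono i.unop.le) r).symm

set_option backward.isDefEq.respectTransparency false in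
theorem symα_coequifibered [E.IsQuasicoherent] : (symα E).Coequifibered := by
  refine coequifibered_iff_forall_isLocalizationAway.mpr fun U f => ?_
  let _ : Algebra Γ(S, U.1) Γ(S, S.basicOpen f) :=
    (S.presheaf.map (homOfLE (S.basicOpen_le f)).op).hom.toAlgebra
  have hloc : IsLocalization.Away f Γ(S, S.basicOpen f) := U.2.isLocalization_basicOpen f
  let _ : Module Γ(S, U.1) Γ(E, S.basicOpen f) := sectionsModule E (S.basicOpen_le f)
  have : IsScalarTower Γ(S, U.1) Γ(S, S.basicOpen f) Γ(E, S.basicOpen f) :=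
    IsScalarTower.of_algebraMap_smul fun r m => rfl
  have hlm : IsLocalizedModule (.powers f) (resₗ E (S.basicOpen_le f)) :=
    isLocalizedModule_res_basicOpen E U.2 f
  exact isLocalization_away_symMapₗ (R' := Γ(S, S.basicOpen f)) f (resₗ E (S.basicOpen_le f))

section qc
variable [E.IsQuasicoherent]

/-- The symmetric algebra of a quasi-coherent module, as a quasi-coherent algebra. -/
noncomputable def symAlg : QCAlg S := OfAff.alg (symα_coequifibered E)

/-- Sections of `symAlg` over an affine open are the symmetric algebra of the sections. -/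
noncomputable def γh (U : S.Opens) (hU : IsAffineOpen U) :
    (symAlg E).presheaf.obj (op U) →+* SymmetricAlgebra Γ(S, U) Γ(E, U) :=
  (OfAff.gammaAff (symα_coequifibered E) U hU).hom

/-- The inverse of `γh`. -/
noncomputable def γi (U : S.Opens) (hU : IsAffineOpen U) :
    SymmetricAlgebra Γ(S, U) Γ(E, U) →+* (symAlg E).presheaf.obj (op U) :=
  haveI := OfAff.isIso_gammaAff (symα_coequifibered E) U hU
  (inv (OfAff.gammaAff (symα_coequifibered E) U hU)).hom

theorem γi_γh (U : S.Opens) (hU : IsAffineOpen U) (a : (symAlg E).presheaf.obj (op U)) :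
    γi E U hU (γh E U hU a) = a := by
  have := OfAff.isIso_gammaAff (symα_coequifibered E) U hU
  exact congrArg (fun k => k.hom a)
    (IsIso.hom_inv_id (OfAff.gammaAff (symα_coequifibered E) U hU))

theorem γh_γi (U : S.Opens) (hU : IsAffineOpen U) (b : SymmetricAlgebra Γ(S, U) Γ(E, U)) :
    γh E U hU (γi E U hU b) = b := by
  have := OfAff.isIso_gammaAff (symα_coequifibered E) U hU
  exact congrArg (fun k => k.hom b)
    (IsIso.inv_hom_id (OfAff.gammaAff (symα_coequifibered E) U hU))

theorem γh_str (U : S.Opens) (hU : IsAffineOpen U) (r : Γ(S, U)) :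
    γh E U hU (strB (symAlg E) U r) = algebraMap _ _ r :=
  congrArg (fun k => k.hom r) (OfAff.π_app_gammaAff (symα_coequifibered E) U hU)

theorem γi_algebraMap (U : S.Opens) (hU : IsAffineOpen U) (r : Γ(S, U)) :
    γi E U hU (algebraMap _ _ r) = strB (symAlg E) U r := by
  rw [← γh_str E U hU r, γi_γh]

theorem γh_res {U : S.Opens} (hU : IsAffineOpen U) (f : Γ(S, U))
    (a : (symAlg E).presheaf.obj (op U)) :
    γh E (S.basicOpen f) (hU.basicOpen f) (resB (symAlg E) (S.basicOpen_le f) a) =
      symRes E (S.basicOpen_le f) (γh E U hU a) :=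
  congrArg (fun k => k.hom a) (OfAff.gammaAff_naturality (symα_coequifibered E)
    (U := OfAff.aff U hU) (V := OfAff.aff (S.basicOpen f) (hU.basicOpen f))
    (homOfLE ((OfAff.aff U hU).basicOpen_le f)))

theorem γi_res {U : S.Opens} (hU : IsAffineOpen U) (f : Γ(S, U))
    (b : SymmetricAlgebra Γ(S, U) Γ(E, U)) :
    resB (symAlg E) (S.basicOpen_le f) (γi E U hU b) =
      γi E (S.basicOpen f) (hU.basicOpen f) (symRes E (S.basicOpen_le f) b) := by
  have h1 := γh_res E hU f (γi E U hU b)
  rw [γh_γi] at h1
  rw [← h1, γi_γh]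

/-- The affine-local data of the canonical map `E ⟶ Sym E`. -/
noncomputable def jData : AffHomData E (symAlg E).toModule where
  t U hU := ((γi E U hU).toAddMonoidHom.comp
    (SymmetricAlgebra.ι Γ(S, U) Γ(E, U)).toAddMonoidHom :
      Γ(E, U) →+ (symAlg E).presheaf.obj (op U))
  res_t U hU f m := by
    refine (res_toModule (symAlg E) _ _).trans ?_
    refine (γi_res E hU f _).trans ?_
    exact congrArg (γi E _ _) (symRes_ι E _ m)
  t_smul U hU r m := by
    refine Eq.trans ?_ (smul_toModule (symAlg E) r _).symm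
    change γi E U hU (SymmetricAlgebra.ι _ _ (r • m)) =
      strB (symAlg E) U r * γi E U hU (SymmetricAlgebra.ι _ _ m)
    rw [map_smul, Algebra.smul_def, map_mul, γi_algebraMap]

/-- The canonical map `E ⟶ Sym E`. -/
noncomputable def j : E ⟶ (symAlg E).toModule := (jData E).hom

theorem j_app (U : S.Opens) (hU : IsAffineOpen U) (m : Γ(E, U)) :
    (show (symAlg E).presheaf.obj (op U) from (j E).app U m) =
      γi E U hU (SymmetricAlgebra.ι _ _ m) :=
  (jData E).hom_app U hU m

end qc

section univ

variable {E} (B : QCAlg S) (φ : E ⟶ B.toModule)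

theorem toModuleMap_app {A B : QCAlg S} (ψ : A ⟶ B) (U : S.Opens) (a : Γ(A.toModule, U)) :
    (show B.presheaf.obj (op U) from (QCAlg.Hom.toModuleMap ψ).app U a) =
      (ψ.hom.app (op U)).hom (show A.presheaf.obj (op U) from a) := rfl

/-- `φ` on sections, with values in the ring `B(U)`. -/
noncomputable def φSec (U : S.Opens) : Γ(E, U) →+ B.presheaf.obj (op U) :=
  ((φ.app U).hom : Γ(E, U) →+ Γ(B.toModule, U))

theorem φSec_apply (U : S.Opens) (m : Γ(E, U)) :
    φSec B φ U m = (show B.presheaf.obj (op U) from φ.app U m) := rfl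

theorem φSec_smul (U : S.Opens) (r : Γ(S, U)) (m : Γ(E, U)) :
    φSec B φ U (r • m) = strB B U r * φSec B φ U m :=
  (φ.app_smul r m).trans (smul_toModule B r _)

theorem φSec_res {U V : S.Opens} (h : V ≤ U) (m : Γ(E, U)) :
    resB B h (φSec B φ U m) = φSec B φ V (res E h m) :=
  (res_toModule B h _).symm.trans (app_res φ h m).symm

/-- The ring map `Sym(E(U)) → B(U)` induced by `φ`. -/
noncomputable def liftSec (U : S.Opens) :
    SymmetricAlgebra Γ(S, U) Γ(E, U) →+* B.presheaf.obj (op U) :=
  liftSemi (strB B U) (φSec B φ U) (φSec_smul B φ U)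

theorem liftSec_algebraMap (U : S.Opens) (r : Γ(S, U)) :
    liftSec B φ U (algebraMap _ _ r) = strB B U r := liftSemi_algebraMap _ _ _ r

theorem liftSec_ι (U : S.Opens) (m : Γ(E, U)) :
    liftSec B φ U (SymmetricAlgebra.ι _ _ m) = φSec B φ U m := liftSemi_ι _ _ _ m

theorem liftSec_res {U V : S.Opens} (h : V ≤ U) (x : SymmetricAlgebra Γ(S, U) Γ(E, U)) :
    resB B h (liftSec B φ U x) = liftSec B φ V (symRes E h x) := by
  have : (resB B h).comp (liftSec B φ U) = (liftSec B φ V).comp (symRes E h) :=
    ringHom_ext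
      (fun r => by
        rw [RingHom.comp_apply, RingHom.comp_apply, liftSec_algebraMap, symRes_algebraMap,
          liftSec_algebraMap, resB_strB])
      (fun m => by
        rw [RingHom.comp_apply, RingHom.comp_apply, liftSec_ι, symRes_ι, liftSec_ι, φSec_res])
  exact congrArg (fun k => k x) this

/-- The natural transformation on the affine site induced by `φ`. -/
noncomputable def liftNat : symF E ⟶ (toOpensFunctor S).op ⋙ B.presheaf where
  app W := CommRingCat.ofHom (liftSec B φ W.unop.1)
  naturality W W' i := by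
    ext x
    exact (liftSec_res B φ (toOpens_mono i.unop.le) x).symm

theorem symα_liftNat : symα E ≫ liftNat B φ = (toOpensFunctor S).op.whiskerLeft B.str := by
  ext W r
  exact liftSec_algebraMap B φ W.unop.1 r

variable [E.IsQuasicoherent]

/-- The algebra homomorphism `Sym E ⟶ B` extending `φ`. -/
noncomputable def liftHom : symAlg E ⟶ B :=
  OfAff.homOf (symα_coequifibered E) (liftNat B φ) (symα_liftNat B φ)

theorem liftHom_app (U : S.Opens) (hU : IsAffineOpen U) (a : (symAlg E).presheaf.obj (op U)) :
    ((liftHom B φ).hom.app (op U)).hom a = liftSec B φ U (γh E U hU a) :=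
  congrArg (fun k => k.hom a)
    (OfAff.homOf_app (symα_coequifibered E) (liftNat B φ) (symα_liftNat B φ)
      (op (OfAff.aff U hU)))

theorem j_liftHom : j E ≫ QCAlg.Hom.toModuleMap (liftHom B φ) = φ := by
  refine modulesHom_ext_aff fun U hU m => ?_
  change (show B.presheaf.obj (op U) from
    (QCAlg.Hom.toModuleMap (liftHom B φ)).app U ((j E).app U m)) = φSec B φ U m
  rw [toModuleMap_app, j_app E U hU, liftHom_app B φ U hU, γh_γi, liftSec_ι]

theorem liftHom_unique (ψ : symAlg E ⟶ B) (h : j E ≫ QCAlg.Hom.toModuleMap ψ = φ) :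
    ψ = liftHom B φ := by
  refine OfAff.hom_ext_aff fun U hU => ?_
  ext a
  have key : (ψ.hom.app (op U)).hom.comp (γi E U hU) =
      ((liftHom B φ).hom.app (op U)).hom.comp (γi E U hU) := by
    refine ringHom_ext (fun r => ?_) (fun m => ?_)
    · rw [RingHom.comp_apply, RingHom.comp_apply, γi_algebraMap]
      have h1 := congrArg (fun k => k.hom r) (NatTrans.congr_app ψ.comm (op U))
      have h2 := congrArg (fun k => k.hom r) (NatTrans.congr_app (liftHom B φ).comm (op U))
      exact h1.trans h2.symm
    · rw [RingHom.comp_apply, RingHom.comp_apply, liftHom_app B φ U hU, γh_γi, liftSec_ι,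
        ← j_app E U hU, ← toModuleMap_app, φSec_apply]
      exact congrArg (fun k => (show B.presheaf.obj (op U) from k.app U m)) h
  have := congrArg (fun k => k (γh E U hU a)) key
  simpa only [RingHom.comp_apply, γi_γh] using this

theorem isSymAlg : RelSpec.IsSymAlg E (symAlg E) (j E) := fun B φ =>
  ⟨liftHom B φ, j_liftHom B φ, fun ψ hψ => liftHom_unique B φ ψ hψ⟩

end univ

end Groth.Agent.Lib.Helper3.SymQC
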