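import Groth.Agent.Lib.Helper3.SymLiftQ
import Groth.Agent.Lib.Helper3.GrSymLift
/-!
# The graded comparison `ψ`-morphism `Sym(E) → ψ_* Sym(ψ^*E)` between arbitrary graded symmetric algebras
-/
set_option autoImplicit false
set_option linter.unusedSectionVars false
universe u
open CategoryTheory CategoryTheory.Limits AlgebraicGeometry Opposite TopologicalSpace
open RelSpec AlgebraicGeometry.Scheme.AffineZariskiSite
open scoped HomogeneousIdeal
open Groth.Agent.Lib.Helper29.QCoh Groth.Agent.Lib.Helper3.SymAlg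

namespace Groth.Agent.Lib.Helper3.SymQC
open Groth.Agent.Lib.Helper3.SymGr Groth.Agent.Lib.Helper3.GrTransport Groth.Agent.Lib.Helper3
open RelProj

section gradedInv
variable {A B σ τ : Type u} [CommRing A] [SetLike σ A] [AddSubgroupClass σ A]
  [CommRing B] [SetLike τ B] [AddSubgroupClass τ B]
  {𝒜 : ℕ → σ} {ℬ : ℕ → τ} [GradedRing 𝒜] [GradedRing ℬ]

/-- A bijective graded ring homomorphism reflects degrees. -/
theorem mem_of_map_mem_of_injective (φ : 𝒜 →+*ᵍ ℬ) (hinj : Function.Injective φ) {d : ℕ} {y : A}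
    (hy : φ y ∈ ℬ d) : y ∈ 𝒜 d := by
  classical
  have key : ∀ k, k ≠ d → (DirectSum.decompose 𝒜 y k : A) = 0 := by
    intro k hk
    apply hinj
    rw [map_zero]
    have h1 := GradedRingHom.map_directSumDecompose (𝒜 := 𝒜) (ℬ := ℬ) φ (x := y) (i := k)
    rw [h1, DirectSum.decompose_of_mem_ne ℬ hy (Ne.symm hk)]
  have hsum := DirectSum.sum_support_decompose 𝒜 y
  rw [← hsum]
  refine sum_mem fun k _ => ?_
  by_cases hk : k = d
  · subst hk; exact SetLike.coe_mem _
  · rw [key k hk]; exact zero_mem _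

end gradedInv

section precomp
variable {S S' : Scheme.{u}} {ψ : S' ⟶ S}

/-- Precomposition of a `ψ`-morphism with a homomorphism of algebras on the target scheme. -/
def QHom.precomp {A A' : QCAlg S} {B : QCAlg S'} (χ : A' ⟶ A) (u : QHom ψ A B) : QHom ψ A' B where
  app U := χ.hom.app (op U) ≫ u.app U
  naturality {U V} i := by
    rw [Category.assoc, u.naturality i, ← Category.assoc, ← Category.assoc]
    congr 1
    exact (χ.hom.naturality (homOfLE i).op).symm
  str_app U := by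
    rw [← Category.assoc]
    have h := NatTrans.congr_app χ.comm (op U)
    rw [NatTrans.comp_app] at h
    rw [h, u.str_app]

end precomp

end Groth.Agent.Lib.Helper3.SymQC

open CategoryTheory CategoryTheory.Limits AlgebraicGeometry Opposite TopologicalSpace
open RelSpec AlgebraicGeometry.Scheme.AffineZariskiSite
open scoped HomogeneousIdeal
open Groth.Agent.Lib.Helper29.QCoh Groth.Agent.Lib.Helper3.SymAlg

namespace Groth.Agent.Lib.Helper3.SymQC
open Groth.Agent.Lib.Helper3.SymGr Groth.Agent.Lib.Helper3.GrTransport Groth.Agent.Lib.Helper3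
open RelProj

variable {S S' : Scheme.{u}} (ψ : S' ⟶ S) {E : S.Modules}

section mem
variable (𝒮' : QCGrAlg S') (φ : E ⟶ (Scheme.Modules.pushforward ψ).obj 𝒮'.toModule)
  (U : S.Opens) (U' : S'.Opens) (hU' : IsAffineOpen U') (hle : U' ≤ ψ ⁻¹ᵁ U)
  (hφ1 : ∀ m : Γ(E, U), resB 𝒮'.toQCAlg hle (φSecQ ψ 𝒮'.toQCAlg φ U m) ∈ 𝒮'.deg U' hU' 1)

include hφ1 in
theorem resB_liftSecQ_mem {n : ℕ}
    {x : SymmetricAlgebra Γ(S, U) Γ(E, U)} (hx : x ∈ symDeg Γ(S, U) Γ(E, U) n) :
    resB 𝒮'.toQCAlg hle (liftSecQ ψ 𝒮'.toQCAlg φ U x) ∈ 𝒮'.deg U' hU' n := by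
  unfold symDeg at hx
  induction hx using Submodule.pow_induction_on_left' with
  | algebraMap r =>
    rw [liftSecQ_algebraMap]
    change resB 𝒮'.toQCAlg hle (strB 𝒮'.toQCAlg _ _) ∈ _
    rw [resB_strB]
    exact 𝒮'.str_mem U' hU' _
  | add x y i hx hy ihx ihy =>
    rw [map_add, map_add]; exact add_mem ihx ihy
  | mem_mul m hm i x hx ih =>
    obtain ⟨m, rfl⟩ := hm
    rw [map_mul, map_mul, liftSecQ_ι]
    have := SetLike.mul_mem_graded (hφ1 m) ih
    rwa [add_comm] at this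

end mem

variable (E) [E.IsQuasicoherent]

/-- **The comparison `ψ`-morphism `Sym(E) → ψ_* Sym(ψ^*E)`**, as a graded `ψ`-morphism between
arbitrary graded symmetric algebras. -/
theorem exists_qgrHom (𝒮 : QCGrAlg S) (j : E ⟶ 𝒮.toModule) (hj : IsGrSymAlg E 𝒮 j)
    (𝒮' : QCGrAlg S') (j' : (Scheme.Modules.pullback ψ).obj E ⟶ 𝒮'.toModule)
    (hj'1 : ∀ (U' : S'.Opens) (hU' : IsAffineOpen U') (x : Γ((Scheme.Modules.pullback ψ).obj E, U')),
      (j'.app U') x ∈ 𝒮'.deg U' hU' 1) :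
    ∃ u : QGrHom ψ 𝒮 𝒮', ∀ (U : S.Opens) (_ : IsAffineOpen U) (x : Γ(E, U)),
      (u.app U).hom ((j.app U) x) =
        (j'.app (ψ ⁻¹ᵁ U)) (((Scheme.Modules.pullbackPushforwardAdjunction ψ).unit.app E).app U x) := by
  let φ : E ⟶ (Scheme.Modules.pushforward ψ).obj 𝒮'.toModule :=
    (Scheme.Modules.pullbackPushforwardAdjunction ψ).unit.app E ≫
      (Scheme.Modules.pushforward ψ).map j'
  obtain ⟨e, he⟩ := exists_iso_of_isSymAlg (isSymAlg (E := E)) hj.1
  have he' : e.hom = liftHom 𝒮.toQCAlg j := liftHom_unique 𝒮.toQCAlg j e.hom he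
  have hgr : IsGradedHom (𝒜 := grSymAlg E) (ℬ := 𝒮) e.hom := by
    rw [he']; exact isGradedHom_liftHom 𝒮 j hj.2
  have hinv : ∀ (U : S.Opens) (a : (symAlg E).presheaf.obj (op U)),
      (e.inv.hom.app (op U)).hom ((e.hom.hom.app (op U)).hom a) = a := fun U a =>
    congrArg (fun k : symAlg E ⟶ symAlg E => (k.hom.app (op U)).hom a) e.hom_inv_id
  have hinv' : ∀ (U : S.Opens) (b : 𝒮.presheaf.obj (op U)),
      (e.hom.hom.app (op U)).hom ((e.inv.hom.app (op U)).hom b) = b := fun U b =>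
    congrArg (fun k : 𝒮.toQCAlg ⟶ 𝒮.toQCAlg => (k.hom.app (op U)).hom b) e.inv_hom_id
  have hje : ∀ (U : S.Opens) (x : Γ(E, U)),
      (e.inv.hom.app (op U)).hom (show 𝒮.presheaf.obj (op U) from j.app U x) =
        (show (symAlg E).presheaf.obj (op U) from (SymQC.j E).app U x) := by
    intro U x
    have h1 := congrArg (fun k : E ⟶ 𝒮.toModule => (show 𝒮.presheaf.obj (op U) from k.app U x)) he
    change (e.hom.hom.app (op U)).hom (show (symAlg E).presheaf.obj (op U) from (SymQC.j E).app U x) =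
      (show 𝒮.presheaf.obj (op U) from j.app U x) at h1
    rw [← h1, hinv]
  let u₀ : QHom ψ (symAlg E) 𝒮'.toQCAlg := liftQHom ψ 𝒮'.toQCAlg φ
  let u₁ : QHom ψ 𝒮.toQCAlg 𝒮'.toQCAlg := QHom.precomp e.inv u₀
  refine ⟨⟨u₁, ?_⟩, ?_⟩
  · intro U hU U' hU' hle d x hx
    change resB 𝒮'.toQCAlg hle ((u₀.app U).hom ((e.inv.hom.app (op U)).hom x)) ∈ 𝒮'.deg U' hU' d
    have hy : (e.inv.hom.app (op U)).hom x ∈ (grSymAlg E).deg U hU d := by
      refine mem_of_map_mem_of_injective (gradedHomAt (𝒜 := grSymAlg E) (ℬ := 𝒮) e.hom hgr U hU) ?_ ?_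
      · intro a b hab
        have := congrArg (e.inv.hom.app (op U)).hom hab
        change (e.inv.hom.app (op U)).hom ((e.hom.hom.app (op U)).hom a) =
          (e.inv.hom.app (op U)).hom ((e.hom.hom.app (op U)).hom b) at this
        rwa [hinv, hinv] at this
      · change (e.hom.hom.app (op U)).hom ((e.inv.hom.app (op U)).hom x) ∈ 𝒮.deg U hU d
        rw [hinv']; exact hx
    rw [liftQHom_app ψ 𝒮'.toQCAlg φ U hU]
    refine resB_liftSecQ_mem ψ 𝒮' φ U U' hU' hle ?_ ((mem_sdeg_iff E U hU d _).mp hy)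
    intro m
    have h2 : resB 𝒮'.toQCAlg hle (φSecQ ψ 𝒮'.toQCAlg φ U m) =
        (show 𝒮'.presheaf.obj (op U') from j'.app U' (res _ hle
          (((Scheme.Modules.pullbackPushforwardAdjunction ψ).unit.app E).app U m))) :=
      (app_res j' hle _).symm
    rw [h2]
    exact hj'1 U' hU' _
  · intro U hU x
    change (u₀.app U).hom ((e.inv.hom.app (op U)).hom (show 𝒮.presheaf.obj (op U) from j.app U x)) = _
    rw [hje U x]
    exact liftQHom_j ψ 𝒮'.toQCAlg φ U hU x

end Groth.Agent.Lib.Helper3.SymQC
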