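import Groth.Agent.Lib.Helper3.SymQGrHom
/-!
# The graded `ψ`-morphism out of a graded symmetric algebra extending a module map into degree one
-/
set_option autoImplicit false
set_option linter.unusedSectionVars false
universe u
open CategoryTheory CategoryTheory.Limits AlgebraicGeometry Opposite TopologicalSpace
open RelSpec AlgebraicGeometry.Scheme.AffineZariskiSite
open scoped HomogeneousIdeal
open Groth.Agent.Lib.Helper29.QCoh Groth.Agent.Lib.Helper3.SymAlg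

namespace Groth.Agent.Lib.Helper3.SymQC
open Groth.Agent.Lib.Helper3.SymGr Groth.Agent.Lib.Helper3.GrTransport Groth.Agent.Lib.Helper3
open RelProj

variable {S S' : Scheme.{u}} (ψ : S' ⟶ S) (E : S.Modules) [E.IsQuasicoherent]

/-- the graded `ψ`-morphism `𝒮 = Sym(E) → ψ_* 𝒮'` extending a module map `φ : E → ψ_* 𝒮'` with values in degree one -/
theorem exists_qgrHom_of_hom (𝒮 : QCGrAlg S) (j : E ⟶ 𝒮.toModule) (hj : IsGrSymAlg E 𝒮 j)
    (𝒮' : QCGrAlg S') (φ : E ⟶ (Scheme.Modules.pushforward ψ).obj 𝒮'.toModule)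
    (hφ1 : ∀ (U : S.Opens) (U' : S'.Opens) (hU' : IsAffineOpen U') (hle : U' ≤ ψ ⁻¹ᵁ U) (m : Γ(E, U)),
      resB 𝒮'.toQCAlg hle (φSecQ ψ 𝒮'.toQCAlg φ U m) ∈ 𝒮'.deg U' hU' 1) :
    ∃ u : QGrHom ψ 𝒮 𝒮', ∀ (U : S.Opens) (_ : IsAffineOpen U) (x : Γ(E, U)),
      (u.app U).hom ((j.app U) x) = φSecQ ψ 𝒮'.toQCAlg φ U x := by
  obtain ⟨e, he⟩ := exists_iso_of_isSymAlg (isSymAlg (E := E)) hj.1
  have he' : e.hom = liftHom 𝒮.toQCAlg j := liftHom_unique 𝒮.toQCAlg j e.hom he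
  have hgr : IsGradedHom (𝒜 := grSymAlg E) (ℬ := 𝒮) e.hom := by
    rw [he']; exact isGradedHom_liftHom 𝒮 j hj.2
  have hinv : ∀ (U : S.Opens) (a : (symAlg E).presheaf.obj (op U)),
      (e.inv.hom.app (op U)).hom ((e.hom.hom.app (op U)).hom a) = a := fun U a =>
    congrArg (fun k : symAlg E ⟶ symAlg E => (k.hom.app (op U)).hom a) e.hom_inv_id
  have hinv' : ∀ (U : S.Opens) (b : 𝒮.presheaf.obj (op U)),
      (e.hom.hom.app (op U)).hom ((e.inv.hom.app (op U)).hom b) = b := fun U b =>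
    congrArg (fun k : 𝒮.toQCAlg ⟶ 𝒮.toQCAlg => (k.hom.app (op U)).hom b) e.inv_hom_id
  have hje : ∀ (U : S.Opens) (x : Γ(E, U)),
      (e.inv.hom.app (op U)).hom (show 𝒮.presheaf.obj (op U) from j.app U x) =
        (show (symAlg E).presheaf.obj (op U) from (SymQC.j E).app U x) := by
    intro U x
    have h1 := congrArg (fun k : E ⟶ 𝒮.toModule => (show 𝒮.presheaf.obj (op U) from k.app U x)) he
    change (e.hom.hom.app (op U)).hom (show (symAlg E).presheaf.obj (op U) from (SymQC.j E).app U x) =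
      (show 𝒮.presheaf.obj (op U) from j.app U x) at h1
    rw [← h1, hinv]
  let u₀ : QHom ψ (symAlg E) 𝒮'.toQCAlg := liftQHom ψ 𝒮'.toQCAlg φ
  let u₁ : QHom ψ 𝒮.toQCAlg 𝒮'.toQCAlg := QHom.precomp e.inv u₀
  refine ⟨⟨u₁, ?_⟩, ?_⟩
  · intro U hU U' hU' hle d x hx
    change resB 𝒮'.toQCAlg hle ((u₀.app U).hom ((e.inv.hom.app (op U)).hom x)) ∈ 𝒮'.deg U' hU' d
    have hy : (e.inv.hom.app (op U)).hom x ∈ (grSymAlg E).deg U hU d := by
      refine mem_of_map_mem_of_injective (gradedHomAt (𝒜 := grSymAlg E) (ℬ := 𝒮) e.hom hgr U hU) ?_ ?_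
      · intro a b hab
        have := congrArg (e.inv.hom.app (op U)).hom hab
        change (e.inv.hom.app (op U)).hom ((e.hom.hom.app (op U)).hom a) =
          (e.inv.hom.app (op U)).hom ((e.hom.hom.app (op U)).hom b) at this
        rwa [hinv, hinv] at this
      · change (e.hom.hom.app (op U)).hom ((e.inv.hom.app (op U)).hom x) ∈ 𝒮.deg U hU d
        rw [hinv']; exact hx
    rw [liftQHom_app ψ 𝒮'.toQCAlg φ U hU]
    exact resB_liftSecQ_mem ψ 𝒮' φ U U' hU' hle (hφ1 U U' hU' hle) ((mem_sdeg_iff E U hU d _).mp hy)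
  · intro U hU x
    change (u₀.app U).hom ((e.inv.hom.app (op U)).hom (show 𝒮.presheaf.obj (op U) from j.app U x)) = _
    rw [hje U x]
    exact liftQHom_j ψ 𝒮'.toQCAlg φ U hU x

end Groth.Agent.Lib.Helper3.SymQC
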