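import Groth.Agent.Lib.Helper3.TildeQC
/-!
# Homogeneous generators under condition (TF), and finite generation of `Γ(D_+(g), M~)`
-/
set_option autoImplicit false
set_option linter.unusedSectionVars false
universe u
open CategoryTheory CategoryTheory.Limits AlgebraicGeometry Opposite TopologicalSpace DirectSum
open Groth.Agent.Lib.Helper29 Groth.Agent.Lib.Helper29.QCoh

namespace Groth.Agent.Lib.Helper3.TFGen
open Groth.Agent.Lib.Helper3.TildeQC

section Alg
variable {A σ : Type u} [CommRing A] [SetLike σ A] [AddSubgroupClass σ A] (𝒜 : ℕ → σ) [GradedRing 𝒜]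
variable {M τ : Type u} [AddCommGroup M] [Module A M] [SetLike τ M] [AddSubgroupClass τ M] (ℳ : ℕ → τ)
  [DirectSum.Decomposition ℳ] [SetLike.GradedSMul 𝒜 ℳ]

/-- The components of `c • m` for homogeneous `m`. -/
theorem decompose_smul_of_mem {i : ℕ} {m : M} (hm : m ∈ ℳ i) (c : A) (k : ℕ) :
    ((decompose ℳ (c • m) (k + i) : ℳ (k + i)) : M) = ((decompose 𝒜 c k : 𝒜 k) : A) • m := by
  classical
  have h1 : c • m = ∑ k' ∈ (decompose 𝒜 c).support, ((decompose 𝒜 c k' : 𝒜 k') : A) • m := by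
    conv_lhs => rw [← DirectSum.sum_support_decompose 𝒜 c]
    rw [Finset.sum_smul]
  have hmem : ∀ k' : ℕ, ((decompose 𝒜 c k' : 𝒜 k') : A) • m ∈ ℳ (k' + i) := fun k' =>
    SetLike.GradedSMul.smul_mem (A := 𝒜) (B := ℳ) (SetLike.coe_mem (decompose 𝒜 c k')) hm
  rw [h1, decompose_sum, DFinsupp.finsetSum_apply, AddSubmonoidClass.coe_finsetSum]
  by_cases hk : k ∈ (decompose 𝒜 c).support
  · rw [Finset.sum_eq_single k]
    · rw [decompose_of_mem_same ℳ (hmem k)]
    · intro k' _ hk'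
      rw [decompose_of_mem_ne ℳ (hmem k') (by omega)]
    · intro h; exact absurd hk h
  · have h0 : ((decompose 𝒜 c k : 𝒜 k) : A) = 0 := by
      rw [DFinsupp.notMem_support_iff] at hk
      rw [hk]; rfl
    rw [h0, zero_smul, Finset.sum_eq_zero]
    intro k' hk'
    have hne : k' ≠ k := fun h => hk (h ▸ hk')
    rw [decompose_of_mem_ne ℳ (hmem k') (by omega)]

include 𝒜 in
theorem decompose_smul_of_mem_of_lt {i : ℕ} {m : M} (hm : m ∈ ℳ i) (c : A) {j : ℕ} (hj : j < i) :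
    ((decompose ℳ (c • m) j : ℳ j) : M) = 0 := by
  classical
  have h1 : c • m = ∑ k' ∈ (decompose 𝒜 c).support, ((decompose 𝒜 c k' : 𝒜 k') : A) • m := by
    conv_lhs => rw [← DirectSum.sum_support_decompose 𝒜 c]
    rw [Finset.sum_smul]
  have hmem : ∀ k' : ℕ, ((decompose 𝒜 c k' : 𝒜 k') : A) • m ∈ ℳ (k' + i) := fun k' =>
    SetLike.GradedSMul.smul_mem (A := 𝒜) (B := ℳ) (SetLike.coe_mem (decompose 𝒜 c k')) hm
  rw [h1, decompose_sum, DFinsupp.finsetSum_apply, AddSubmonoidClass.coe_finsetSum]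
  apply Finset.sum_eq_zero
  intro k' _
  rw [decompose_of_mem_ne ℳ (hmem k') (by omega)]

/-- Under (TF), the part of degree `≥ n₀` is generated by finitely many homogeneous elements, with
homogeneous coefficients. -/
theorem exists_homogeneous_generators (n₀ : ℕ)
    (hfg : (Submodule.span A (⋃ k ∈ Set.Ici n₀, (ℳ k : Set M))).FG) :
    ∃ (T : Finset M) (d : M → ℕ), (∀ t ∈ T, t ∈ ℳ (d t)) ∧
      ∀ k : ℕ, n₀ ≤ k → ∀ m ∈ ℳ k, ∃ a : M → A, (∀ t, a t ∈ 𝒜 (k - d t)) ∧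
        (∀ t, k < d t → a t = 0) ∧ m = ∑ t ∈ T, a t • t := by
  classical
  obtain ⟨T, hTS, hspan⟩ := (Submodule.fg_span_iff_fg_span_finset_subset _).mp hfg
  have hdeg : ∀ t : M, ∃ k : ℕ, t ∈ T → t ∈ ℳ k := by
    intro t
    by_cases ht : t ∈ T
    · have := hTS ht
      simp only [Set.mem_iUnion, Set.mem_Ici, SetLike.mem_coe] at this
      obtain ⟨k, -, hk⟩ := this
      exact ⟨k, fun _ => hk⟩
    · exact ⟨0, fun h => absurd h ht⟩
  choose d hd using hdeg
  refine ⟨T, d, hd, ?_⟩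
  intro k hk m hm
  have hmS : m ∈ Submodule.span A (⋃ k ∈ Set.Ici n₀, (ℳ k : Set M)) := by
    apply Submodule.subset_span
    simp only [Set.mem_iUnion, Set.mem_Ici, SetLike.mem_coe]
    exact ⟨k, hk, hm⟩
  rw [hspan] at hmS
  obtain ⟨c, hc⟩ := (Submodule.mem_span_finset'.mp hmS)
  -- extend c to a function on M
  let c' : M → A := fun t => if h : t ∈ T then c ⟨t, h⟩ else 0
  have hc' : m = ∑ t ∈ T, c' t • t := by
    rw [← hc, ← Finset.sum_attach T (fun t => c' t • t)]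
    apply Finset.sum_congr rfl
    intro t _
    simp only [c', t.2, dif_pos]
  let a : M → A := fun t => if d t ≤ k then ((decompose 𝒜 (c' t) (k - d t) : 𝒜 (k - d t)) : A) else 0
  refine ⟨a, ?_, ?_, ?_⟩
  · intro t
    by_cases h : d t ≤ k
    · simp only [a, h, if_pos]
      exact SetLike.coe_mem _
    · simp only [a, h, if_neg, not_false_eq_true]
      exact zero_mem _
  · intro t ht
    have h : ¬ d t ≤ k := by omega
    simp only [a, h, if_neg, not_false_eq_true]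
  · have h1 : m = ((decompose ℳ m k : ℳ k) : M) := (decompose_of_mem_same ℳ hm).symm
    rw [h1]
    conv_lhs => rw [hc']
    rw [decompose_sum, DFinsupp.finsetSum_apply, AddSubmonoidClass.coe_finsetSum]
    apply Finset.sum_congr rfl
    intro t ht
    by_cases h : d t ≤ k
    · simp only [a, h, if_pos]
      have := decompose_smul_of_mem 𝒜 ℳ (hd t ht) (c' t) (k - d t)
      rw [Nat.sub_add_cancel h] at this
      exact this
    · simp only [a, h, if_neg, not_false_eq_true, zero_smul]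
      exact decompose_smul_of_mem_of_lt 𝒜 ℳ (hd t ht) (c' t) (by omega)

end Alg

end Groth.Agent.Lib.Helper3.TFGen

namespace Groth.Agent.Lib.Helper3.TFGen
open Groth.Agent.Lib.Helper3.TildeQC

section Loc
variable {R : Type*} [CommRing R] {S : Submonoid R} {M : Type*} [AddCommGroup M] [Module R M]

theorem mk_sum {ι : Type*} (T : Finset ι) (f : ι → M) (s : S) :
    LocalizedModule.mk (∑ t ∈ T, f t) s = ∑ t ∈ T, LocalizedModule.mk (f t) s := by
  classical
  induction T using Finset.induction_on with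
  | empty => simp
  | insert t T ht ih =>
    rw [Finset.sum_insert ht, Finset.sum_insert ht, ← ih, IsLocalizedModule.mk_eq_mk',
      IsLocalizedModule.mk_eq_mk', IsLocalizedModule.mk_eq_mk', IsLocalizedModule.mk'_add]

theorem mk_eq_sum_smul {ι : Type*} (T : Finset ι) (x : ι → M) (a : ι → R) (den1 den2 : ι → S)
    (gk : S) (h : ∀ t ∈ T, a t = 0 ∨ den1 t * den2 t = gk) (μ : M) (hμ : μ = ∑ t ∈ T, a t • x t) :
    LocalizedModule.mk μ gk =
      ∑ t ∈ T, (Localization.mk (a t) (den1 t)) • LocalizedModule.mk (x t) (den2 t) := by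
  rw [hμ, mk_sum]
  apply Finset.sum_congr rfl
  intro t ht
  rw [LocalizedModule.mk_smul_mk]
  rcases h t ht with h0 | h1
  · rw [h0, zero_smul, LocalizedModule.zero_mk, LocalizedModule.zero_mk]
  · rw [h1]

end Loc

section Tilde
variable {A σ : Type u} [CommRing A] [SetLike σ A] [AddSubgroupClass σ A] (𝒜 : ℕ → σ) [GradedRing 𝒜]
variable {M τ : Type u} [AddCommGroup M] [Module A M] [SetLike τ M] [AddSubgroupClass τ M] (ℳ : ℕ → τ)
  [DirectSum.Decomposition ℳ] [SetLike.GradedSMul 𝒜 ℳ]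

theorem gfun_sum {n : ℤ} {U : (Proj 𝒜).Opens} {ι : Type*} (T : Finset ι)
    (f : ι → Γ(GrMod.tilde 𝒜 ℳ n, U)) (x : U) :
    gfun 𝒜 ℳ (∑ t ∈ T, f t) x = ∑ t ∈ T, gfun 𝒜 ℳ (f t) x := by
  classical
  induction T using Finset.induction_on with
  | empty => simp [gfun_zero]
  | insert t T' ht ih => rw [Finset.sum_insert ht, Finset.sum_insert ht, gfun_add, ih]

/-- Under (TF), the sections of `M~` over `D_+(g)`, `g` of degree one, form a finitely generated
module. -/
theorem tilde_sections_finite (n₀ : ℕ)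
    (hfg : (Submodule.span A (⋃ k ∈ Set.Ici n₀, (ℳ k : Set M))).FG) (g : 𝒜 1)
    (W : (Proj 𝒜).Opens) (hW : W = Proj.basicOpen 𝒜 g.1) :
    Module.Finite Γ(Proj 𝒜, W) Γ(GrMod.tilde 𝒜 ℳ 0, W) := by
  classical
  subst hW
  obtain ⟨T, d, hd, hgen⟩ := exists_homogeneous_generators 𝒜 ℳ n₀ hfg
  have hs : ∀ (j : ℕ) (x : Proj.basicOpen 𝒜 g.1), g.1 ^ j ∉ x.1.asHomogeneousIdeal :=
    fun j x => pow_not_mem_of_not_mem x.2 j
  have hgpow : ∀ j : ℕ, g.1 ^ j ∈ 𝒜 j := fun j => by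
    have := SetLike.pow_mem_graded j g.2
    rwa [smul_eq_mul, mul_one] at this
  let y : M → Γ(GrMod.tilde 𝒜 ℳ 0, Proj.basicOpen 𝒜 g.1) := fun t =>
    if h : t ∈ T then
      mkG 𝒜 ℳ 0 (Proj.basicOpen 𝒜 g.1) (⟨t, hd t h⟩ : ℳ (d t)) (⟨g.1 ^ d t, hgpow (d t)⟩ : 𝒜 (d t))
        (hs (d t)) (by simp)
    else 0
  refine ⟨⟨T.image y, ?_⟩⟩
  rw [eq_top_iff]
  rintro σ' -
  obtain ⟨k, i, μ, hdeg, hval⟩ := exists_gfun_eq_mk_basicOpen 𝒜 ℳ 0 one_pos g σ'
  have hik : i = k := by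
    have : (i : ℤ) = k := by rw [hdeg]; simp
    exact_mod_cast this
  subst hik
  have hμ' : g.1 ^ n₀ • μ.1 ∈ ℳ (n₀ + i) := SetLike.GradedSMul.smul_mem (hgpow n₀) μ.2
  obtain ⟨a, ha1, ha2, ha3⟩ := hgen (n₀ + i) (Nat.le_add_right _ _) _ hμ'
  let r : M → Γ(Proj 𝒜, Proj.basicOpen 𝒜 g.1) := fun t =>
    mkO 𝒜 (Proj.basicOpen 𝒜 g.1) (⟨a t, ha1 t⟩ : 𝒜 (n₀ + i - d t))
      (⟨g.1 ^ (n₀ + i - d t), hgpow _⟩ : 𝒜 (n₀ + i - d t)) (hs _)
  have hσ : σ' = ∑ t ∈ T, r t • y t := by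
    apply gfun_ext
    intro x
    rw [hval x]
    rw [gfun_sum]
    have h1 : (LocalizedModule.mk μ.1 ⟨g.1 ^ i, pow_not_mem_of_not_mem x.2 i⟩ :
        GrMod.LocMod 𝒜 (M := M) x.1) =
        LocalizedModule.mk (g.1 ^ n₀ • μ.1)
          ((⟨g.1 ^ n₀, hs n₀ x⟩ : x.1.asHomogeneousIdeal.toIdeal.primeCompl) *
            ⟨g.1 ^ i, pow_not_mem_of_not_mem x.2 i⟩) :=
      (LocalizedModule.mk_cancel_common_left
        (⟨g.1 ^ n₀, hs n₀ x⟩ : x.1.asHomogeneousIdeal.toIdeal.primeCompl)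
        ⟨g.1 ^ i, pow_not_mem_of_not_mem x.2 i⟩ μ.1).symm
    rw [h1]
    rw [mk_eq_sum_smul T (fun t => t) a
      (fun t => (⟨g.1 ^ (n₀ + i - d t), hs _ x⟩ : x.1.asHomogeneousIdeal.toIdeal.primeCompl))
      (fun t => (⟨g.1 ^ d t, hs _ x⟩ : x.1.asHomogeneousIdeal.toIdeal.primeCompl))
      _ ?_ _ ha3]
    · apply Finset.sum_congr rfl
      intro t ht
      rw [gfun_smul]
      have hy : y t = mkG 𝒜 ℳ 0 (Proj.basicOpen 𝒜 g.1) (⟨t, hd t ht⟩ : ℳ (d t))
          (⟨g.1 ^ d t, hgpow (d t)⟩ : 𝒜 (d t)) (hs (d t)) (by simp) := by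
        simp only [y, ht, dif_pos]
      rw [hy, gfun_mkG]
      rfl
    · intro t ht
      by_cases hdt : d t ≤ n₀ + i
      · right
        apply Subtype.ext
        change g.1 ^ (n₀ + i - d t) * g.1 ^ d t = g.1 ^ n₀ * g.1 ^ i
        rw [← pow_add, ← pow_add, Nat.sub_add_cancel hdt]
      · left
        exact ha2 t (by omega)
  rw [hσ]
  apply Submodule.sum_mem
  intro t ht
  exact Submodule.smul_mem _ _ (Submodule.subset_span (Finset.mem_image_of_mem y ht))

end Tilde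

end Groth.Agent.Lib.Helper3.TFGen

namespace Groth.Agent.Lib.Helper3.TFGen

theorem finite_of_semilinear_bijective {R R' N N' : Type*} [CommRing R] [CommRing R']
    [AddCommGroup N] [Module R N] [AddCommGroup N'] [Module R' N'] (ρ : R →+* R')
    (hρ : Function.Surjective ρ) (f : N →+ N') (hf : Function.Bijective f)
    (hsl : ∀ (r : R) (n : N), f (r • n) = ρ r • f n) (h : Module.Finite R' N') :
    Module.Finite R N := by
  classical
  obtain ⟨S', hS'⟩ := h.fg_top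
  choose g hg using hf.2
  refine ⟨⟨S'.image g, ?_⟩⟩
  rw [eq_top_iff]
  rintro n -
  have hn : f n ∈ Submodule.span R' (S' : Set N') := by rw [hS']; trivial
  obtain ⟨c, hc⟩ := Submodule.mem_span_finset'.mp hn
  choose c' hc' using fun s => hρ (c s)
  have hn' : n = ∑ s ∈ S'.attach, c' s • g s.1 := by
    apply hf.1
    rw [map_sum, ← hc]
    apply Finset.sum_congr rfl
    intro s _
    rw [hsl, hc', hg]
  rw [hn']
  apply Submodule.sum_mem
  intro s _
  exact Submodule.smul_mem _ _ (Submodule.subset_span (Finset.mem_image_of_mem g s.2))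

end Groth.Agent.Lib.Helper3.TFGen
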