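import Groth.Prelude.Def_RelProj3
import Groth.Agent.Lib.Helper3.ProjLoc
/-!
# `M(n)~` and localization at an element of degree zero (ring level)

If `ψ : 𝒜 →+*ᵍ ℬ` is the localization at `c ∈ 𝒜₀` and `v : M → N` the localization of the graded
module `M` at `c`, then the maps of localized modules `M_{ψ⁻¹ y} → N_y` are bijective and match the
degree-`n` fractions; hence `GrMod.comap` is bijective on sections over opens in the image.
-/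
universe u
set_option linter.unusedSectionVars false
open CategoryTheory CategoryTheory.Limits AlgebraicGeometry Opposite TopologicalSpace
open HomogeneousLocalization DirectSum
open scoped HomogeneousIdeal

namespace Groth.Agent.Lib.Helper3.TildeLoc

variable {A σ : Type u} [CommRing A] [SetLike σ A] [AddSubgroupClass σ A] {𝒜 : ℕ → σ} [GradedRing 𝒜]
variable {M τ : Type u} [AddCommGroup M] [Module A M] [SetLike τ M] [AddSubgroupClass τ M] {ℳ : ℕ → τ}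
  [SetLike.GradedSMul 𝒜 ℳ] [DirectSum.Decomposition ℳ]
variable {B σ' : Type u} [CommRing B] [SetLike σ' B] [AddSubgroupClass σ' B] {ℬ : ℕ → σ'} [GradedRing ℬ]
variable {N τ' : Type u} [AddCommGroup N] [Module B N] [SetLike τ' N] [AddSubgroupClass τ' N] {𝒩 : ℕ → τ'}
  [SetLike.GradedSMul ℬ 𝒩] [DirectSum.Decomposition 𝒩]
variable (ψ : 𝒜 →+*ᵍ ℬ) (hψ : ℬ₊ ≤ (𝒜₊).map ψ) (v : M →ₛₗ[ψ.toRingHom] N)
  (hv : ∀ (i : ℕ) (m : M), m ∈ ℳ i → v m ∈ 𝒩 i) (c : A) (hc : c ∈ 𝒜 0)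

/-- `N` is the localization of `M` at `c`, via `v` (in elementary terms). -/
structure IsLocModAt : Prop where
  surj : ∀ n : N, ∃ (m : M) (k : ℕ), ψ c ^ k • n = v m
  ker : ∀ m : M, v m = 0 → ∃ k : ℕ, c ^ k • m = 0

variable {ψ v c}

include hv in
theorem v_decompose (m : M) (i : ℕ) :
    v ((decompose ℳ m i : ℳ i) : M) = ((decompose 𝒩 (v m) i : 𝒩 i) : N) := by
  classical
  conv_rhs => rw [← sum_support_decompose ℳ m, map_sum, decompose_sum, DFinsupp.finsetSum_apply,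
    AddSubmonoidClass.coe_finsetSum]
  by_cases hi : i ∈ (decompose ℳ m).support
  · rw [Finset.sum_eq_single i]
    · rw [decompose_of_mem_same 𝒩 (hv i _ (SetLike.coe_mem _))]
    · intro j _ hji
      rw [decompose_of_mem_ne 𝒩 (hv j _ (SetLike.coe_mem _)) hji]
    · intro h; exact absurd hi h
  · have h0 : ((decompose ℳ m i : ℳ i) : M) = 0 := by
      rw [DFinsupp.notMem_support_iff] at hi
      rw [hi]; rfl
    rw [h0, map_zero, Finset.sum_eq_zero]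
    intro j hj
    have hji : j ≠ i := fun h => hi (h ▸ hj)
    rw [decompose_of_mem_ne 𝒩 (hv j _ (SetLike.coe_mem _)) hji]

omit [DirectSum.Decomposition 𝒩] in
theorem pow_smul_mem (ψc : B) (hψc : ψc ∈ ℬ 0) (k : ℕ) {i : ℕ} {n : N} (hn : n ∈ 𝒩 i) :
    ψc ^ k • n ∈ 𝒩 i := by
  have h0 : ψc ^ k ∈ ℬ 0 := by
    have := SetLike.pow_mem_graded k hψc
    rwa [smul_zero] at this
  have := SetLike.GradedSMul.smul_mem (A := ℬ) (B := 𝒩) h0 hn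
  rwa [zero_vadd] at this

include hv hc in
/-- homogeneous elements lift to homogeneous elements -/
theorem IsLocModAt.surj_hom (h : IsLocModAt ψ v c) {i : ℕ} {n : N} (hn : n ∈ 𝒩 i) :
    ∃ m ∈ ℳ i, ∃ k : ℕ, ψ c ^ k • n = v m := by
  obtain ⟨m, k, hk⟩ := h.surj n
  refine ⟨(decompose ℳ m i : ℳ i), SetLike.coe_mem _, k, ?_⟩
  rw [v_decompose hv, ← hk, decompose_of_mem_same 𝒩 (pow_smul_mem (ψ c) (ψ.map_mem hc) k hn)]

include hc in
theorem surj_hom_ring (h : ProjLoc.IsLocAt ψ c) {j : ℕ} {t : B} (ht : t ∈ ℬ j) :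
    ∃ a ∈ 𝒜 j, ∃ l : ℕ, t * ψ c ^ l = ψ a := by
  obtain ⟨a, l, hl⟩ := h.surj t
  refine ⟨(decompose 𝒜 a j : 𝒜 j), SetLike.coe_mem _, l, ?_⟩
  rw [GradedRingHom.map_directSumDecompose 𝒜 ℬ ψ, ← hl]
  have h0 : ψ c ^ l ∈ ℬ 0 := by
    have := SetLike.pow_mem_graded l (ψ.map_mem hc)
    rwa [smul_zero] at this
  have := SetLike.mul_mem_graded ht h0
  rw [add_zero] at this
  rw [decompose_of_mem_same ℬ this]

theorem unit_notMem (h : ProjLoc.IsLocAt ψ c) (y : ProjectiveSpectrum ℬ) (k : ℕ) :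
    ψ c ^ k ∉ y.asHomogeneousIdeal := by
  intro hk
  have hu : IsUnit (ψ c ^ k) := h.unit.pow k
  exact y.isPrime.ne_top (Ideal.eq_top_of_isUnit_mem _ hk hu)


/-! ### The maps of localized modules are bijective -/

section Pointwise

theorem notMem_comap_of (h : ProjLoc.IsLocAt ψ c) (y : ProjectiveSpectrum ℬ) {t : B}
    (ht : t ∉ y.asHomogeneousIdeal) {a : A} {l : ℕ} (hl : t * ψ c ^ l = ψ a) (k : ℕ) :
    c ^ k * a ∉ (ProjectiveSpectrum.comap ψ hψ y).asHomogeneousIdeal := by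
  intro hmem
  have hmem' : ψ (c ^ k * a) ∈ y.asHomogeneousIdeal := hmem
  rw [map_mul, map_pow, ← hl] at hmem'
  rcases y.isPrime.mem_or_mem hmem' with h1 | h1
  · exact unit_notMem h y k h1
  · rcases y.isPrime.mem_or_mem h1 with h2 | h2
    · exact ht h2
    · exact unit_notMem h y l h2

theorem locModMap_mk_lift (h : ProjLoc.IsLocAt ψ c) (y : ProjectiveSpectrum ℬ) {t : B}
    (ht : t ∉ y.asHomogeneousIdeal) {a : A} {l : ℕ} (hl : t * ψ c ^ l = ψ a) {n : N} {m : M} {k : ℕ}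
    (hk : ψ c ^ k • n = v m) :
    GrMod.locModMap ψ hψ v y (LocalizedModule.mk (c ^ l • m) ⟨c ^ k * a, notMem_comap_of hψ h y ht hl k⟩) =
      LocalizedModule.mk n ⟨t, ht⟩ := by
  rw [GrMod.locModMap_mk, LocalizedModule.mk_eq]
  refine ⟨1, ?_⟩
  simp only [one_smul, Submonoid.smul_def]
  rw [LinearMap.map_smulₛₗ, ← hk]
  change t • (ψ (c ^ l) • ψ c ^ k • n) = ψ (c ^ k * a) • n
  rw [map_mul, map_pow, map_pow, ← hl, smul_smul, smul_smul]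
  congr 1
  ring

theorem locModMap_injective (hA : ProjLoc.IsLocAt ψ c) (hM : IsLocModAt ψ v c)
    (y : ProjectiveSpectrum ℬ) : Function.Injective (GrMod.locModMap ψ hψ v y) := by
  rw [injective_iff_map_eq_zero]
  intro q hq
  induction q using LocalizedModule.induction_on with
  | h m s =>
    rw [GrMod.locModMap_mk] at hq
    have hq' : LocalizedModule.mk (v m) ⟨ψ (s : A), s.2⟩ =
        (LocalizedModule.mk 0 1 : GrMod.LocMod ℬ (M := N) y) := by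
      rw [hq, LocalizedModule.zero_mk]
    obtain ⟨u, hu⟩ := LocalizedModule.mk_eq.mp hq'
    simp only [one_smul, smul_zero, Submonoid.smul_def] at hu
    obtain ⟨a, l, hl⟩ := hA.surj u.1
    have hu2 : u.1 ∉ y.asHomogeneousIdeal := u.2
    have h1 : v (a • m) = 0 := by
      rw [LinearMap.map_smulₛₗ]
      change ψ a • v m = 0
      rw [← hl, mul_comm, mul_smul, hu, smul_zero]
    obtain ⟨k, hk⟩ := hM.ker _ h1
    have hnm := notMem_comap_of hψ hA y hu2 hl k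
    have : (LocalizedModule.mk m s : GrMod.LocMod 𝒜 (M := M) (ProjectiveSpectrum.comap ψ hψ y)) =
        LocalizedModule.mk 0 1 := by
      rw [LocalizedModule.mk_eq]
      refine ⟨⟨c ^ k * a, hnm⟩, ?_⟩
      simp only [one_smul, smul_zero, Submonoid.smul_def]
      rw [mul_smul]; exact hk
    rw [this, LocalizedModule.zero_mk]

theorem locModMap_surjective (hA : ProjLoc.IsLocAt ψ c) (hM : IsLocModAt ψ v c)
    (y : ProjectiveSpectrum ℬ) : Function.Surjective (GrMod.locModMap ψ hψ v y) := by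
  intro q'
  induction q' using LocalizedModule.induction_on with
  | h n t =>
    obtain ⟨m, k, hk⟩ := hM.surj n
    obtain ⟨a, l, hl⟩ := hA.surj t.1
    exact ⟨_, locModMap_mk_lift hψ hA y t.2 hl hk⟩

theorem locModMap_a0_smul (y : ProjectiveSpectrum ℬ)
    (c' : GrTwist.A0 𝒜 (ProjectiveSpectrum.comap ψ hψ y))
    (q : GrMod.LocMod 𝒜 (M := M) (ProjectiveSpectrum.comap ψ hψ y)) :
    GrMod.locModMap ψ hψ v y (c' • q) =
      (HomogeneousLocalization.localRingHom ψ _ y.asHomogeneousIdeal.toIdeal rfl c') •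
        GrMod.locModMap ψ hψ v y q := by
  rw [GrMod.a0_smul_def, GrMod.locModMap_smul]
  have : GrTwist.locMap ψ hψ y c'.val =
      (HomogeneousLocalization.localRingHom ψ _ y.asHomogeneousIdeal.toIdeal rfl c').val := by
    rw [HomogeneousLocalization.val_localRingHom]; rfl
  rw [this, ← GrMod.a0_smul_def]

include hc in
theorem localRingHom_surjective (hA : ProjLoc.IsLocAt ψ c) (y : ProjectiveSpectrum ℬ) :
    Function.Surjective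
      (HomogeneousLocalization.localRingHom ψ (ProjectiveSpectrum.comap ψ hψ y).asHomogeneousIdeal.toIdeal
        y.asHomogeneousIdeal.toIdeal rfl) := by
  intro c'
  obtain ⟨⟨d, ⟨b, hb⟩, ⟨t, ht⟩, hty⟩, rfl⟩ := HomogeneousLocalization.mk_surjective c'
  obtain ⟨a₁, ha₁, k, hk⟩ := surj_hom_ring hc hA hb
  obtain ⟨a₂, ha₂, l, hl⟩ := surj_hom_ring hc hA ht
  have hck : ∀ (j : ℕ) {a : A}, a ∈ 𝒜 d → c ^ j * a ∈ 𝒜 d := by
    intro j a ha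
    have h0 : c ^ j ∈ 𝒜 0 := by
      have := SetLike.pow_mem_graded j hc
      rwa [smul_zero] at this
    have := SetLike.mul_mem_graded h0 ha
    rwa [zero_add] at this
  have hty' : t ∉ y.asHomogeneousIdeal := hty
  refine ⟨HomogeneousLocalization.mk ⟨d, ⟨c ^ l * a₁, hck l ha₁⟩, ⟨c ^ k * a₂, hck k ha₂⟩,
    notMem_comap_of hψ hA y hty' hl k⟩, ?_⟩
  apply HomogeneousLocalization.val_injective
  rw [HomogeneousLocalization.val_localRingHom, HomogeneousLocalization.val_mk,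
    HomogeneousLocalization.val_mk]
  refine (GrTwist.locMap_mk ψ hψ y _ _).trans ?_
  rw [Localization.mk_eq_mk_iff, Localization.r_iff_exists]
  refine ⟨1, ?_⟩
  simp only [OneMemClass.coe_one, one_mul, map_mul, map_pow]
  rw [← hk, ← hl]
  ring

end Pointwise


section TildeAt

omit [DirectSum.Decomposition ℳ] in
theorem pow_smul_mem' (hc : c ∈ 𝒜 0) (k : ℕ) {i : ℕ} {m : M} (hm : m ∈ ℳ i) : c ^ k • m ∈ ℳ i := by
  have h0 : c ^ k ∈ 𝒜 0 := by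
    have := SetLike.pow_mem_graded k hc
    rwa [smul_zero] at this
  have := SetLike.GradedSMul.smul_mem (A := 𝒜) (B := ℳ) h0 hm
  rwa [zero_vadd] at this

theorem pow_mul_mem (hc : c ∈ 𝒜 0) (k : ℕ) {j : ℕ} {a : A} (ha : a ∈ 𝒜 j) : c ^ k * a ∈ 𝒜 j := by
  have h0 : c ^ k ∈ 𝒜 0 := by
    have := SetLike.pow_mem_graded k hc
    rwa [smul_zero] at this
  have := SetLike.mul_mem_graded h0 ha
  rwa [zero_add] at this

include hv hc in
/-- every degree-`n` fraction of `N_y` comes from a degree-`n` fraction of `M_{ψ⁻¹ y}` -/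
theorem exists_tildeAt_lift (hA : ProjLoc.IsLocAt ψ c) (hM : IsLocModAt ψ v c) (n : ℤ)
    (y : ProjectiveSpectrum ℬ) {q' : GrMod.LocMod ℬ (M := N) y} (hq' : q' ∈ GrMod.tildeAt ℬ 𝒩 n y) :
    ∃ q ∈ GrMod.tildeAt 𝒜 ℳ n (ProjectiveSpectrum.comap ψ hψ y), GrMod.locModMap ψ hψ v y q = q' := by
  induction hq' using Submodule.span_induction with
  | mem q' h =>
    obtain ⟨i, j, ⟨n', hn'⟩, ⟨t', ht'⟩, hty, hij, rfl⟩ := h
    obtain ⟨m, hm, k, hk⟩ := hM.surj_hom hv hc hn'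
    obtain ⟨a, ha, l, hl⟩ := surj_hom_ring hc hA ht'
    have hty' : t' ∉ y.asHomogeneousIdeal := hty
    refine ⟨_, ?_, locModMap_mk_lift hψ hA y hty' hl hk⟩
    exact Submodule.subset_span ⟨i, j, ⟨c ^ l • m, pow_smul_mem' hc l hm⟩,
      ⟨c ^ k * a, pow_mul_mem hc k ha⟩, notMem_comap_of hψ hA y hty' hl k, hij, rfl⟩
  | zero => exact ⟨0, zero_mem _, map_zero _⟩
  | add q₁ q₂ _ _ h₁ h₂ =>
    obtain ⟨p₁, hp₁, e₁⟩ := h₁
    obtain ⟨p₂, hp₂, e₂⟩ := h₂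
    exact ⟨p₁ + p₂, add_mem hp₁ hp₂, by rw [map_add, e₁, e₂]⟩
  | smul c' q₁ _ h₁ =>
    obtain ⟨p₁, hp₁, e₁⟩ := h₁
    obtain ⟨c'', rfl⟩ := localRingHom_surjective hψ hc hA y c'
    exact ⟨c'' • p₁, Submodule.smul_mem _ _ hp₁, by rw [locModMap_a0_smul, e₁]; rfl⟩

include hv hc in
theorem mem_tildeAt_of_locModMap_mem (hA : ProjLoc.IsLocAt ψ c) (hM : IsLocModAt ψ v c) (n : ℤ)
    (y : ProjectiveSpectrum ℬ) {q : GrMod.LocMod 𝒜 (M := M) (ProjectiveSpectrum.comap ψ hψ y)}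
    (hq : GrMod.locModMap ψ hψ v y q ∈ GrMod.tildeAt ℬ 𝒩 n y) :
    q ∈ GrMod.tildeAt 𝒜 ℳ n (ProjectiveSpectrum.comap ψ hψ y) := by
  obtain ⟨q₁, hq₁, e⟩ := exists_tildeAt_lift hψ hv hc hA hM n y hq
  rw [← locModMap_injective hψ hA hM y e]
  exact hq₁

end TildeAt


/-! ### Bijectivity of the comparison map on sections -/

section Sections

variable (n : ℤ) (O : Opens (ProjectiveSpectrum.top 𝒜)) (O' : Opens (ProjectiveSpectrum.top ℬ))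
  (hOO' : O'.1 ⊆ ProjectiveSpectrum.comap ψ hψ ⁻¹' O.1)

theorem comapApp_injective (hA : ProjLoc.IsLocAt ψ c) (hM : IsLocModAt ψ v c)
    (hpts : ∀ x ∈ O, ∃ y ∈ O', ProjectiveSpectrum.comap ψ hψ y = x) :
    Function.Injective (GrMod.comapApp ψ hψ v hv n O O' hOO') := by
  rw [injective_iff_map_eq_zero]
  intro s hs
  refine Subtype.ext (funext fun x => Subtype.ext ?_)
  obtain ⟨x, hx⟩ := x
  obtain ⟨y, hy, rfl⟩ := hpts x hx
  have h1 : GrMod.locModMap ψ hψ v y (s.1 ⟨ProjectiveSpectrum.comap ψ hψ y, hOO' hy⟩).1 = 0 :=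
    congrArg (fun f : GrMod.sect ℬ 𝒩 n (op O') => ((f.1 ⟨y, hy⟩ : GrMod.tildeAt ℬ 𝒩 n y) :
      GrMod.LocMod ℬ (M := N) y)) hs
  exact locModMap_injective hψ hA hM y (h1.trans (map_zero _).symm)

include hc in
theorem comapApp_surjective (hA : ProjLoc.IsLocAt ψ c) (hM : IsLocModAt ψ v c)
    (hinj : Function.Injective (ProjectiveSpectrum.comap ψ hψ))
    (hopen : IsOpenMap (ProjectiveSpectrum.comap ψ hψ))
    (hpts : ∀ x ∈ O, ∃ y ∈ O', ProjectiveSpectrum.comap ψ hψ y = x) :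
    Function.Surjective (GrMod.comapApp ψ hψ v hv n O O' hOO') := by
  intro s'
  have hlift : ∀ y : O', ∃ q : GrMod.tildeAt 𝒜 ℳ n (ProjectiveSpectrum.comap ψ hψ y.1),
      GrMod.locModMap ψ hψ v y.1 q.1 = (s'.1 y).1 := fun y => by
    obtain ⟨q, hq, e⟩ := exists_tildeAt_lift hψ hv hc hA hM n y.1 (s'.1 y).2
    exact ⟨⟨q, hq⟩, e⟩
  choose lift hlift using hlift
  have hpt : ∀ x : O, ∃ y : O', ProjectiveSpectrum.comap ψ hψ y.1 = x.1 := fun x => by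
    obtain ⟨y, hy, e⟩ := hpts x.1 x.2
    exact ⟨⟨y, hy⟩, e⟩
  choose pt hpt using hpt
  let f : ∀ x : O, GrMod.tildeAt 𝒜 ℳ n x.1 := fun x => (hpt x) ▸ lift (pt x)
  have hf : ∀ (y : O'), ((f ⟨ProjectiveSpectrum.comap ψ hψ y.1, hOO' y.2⟩ :
      GrMod.tildeAt 𝒜 ℳ n (ProjectiveSpectrum.comap ψ hψ y.1)) :
        GrMod.LocMod 𝒜 (M := M) (ProjectiveSpectrum.comap ψ hψ y.1)) = (lift y).1 := by
    intro y
    have key : ∀ (y₁ : O') (e : ProjectiveSpectrum.comap ψ hψ y₁.1 = ProjectiveSpectrum.comap ψ hψ y.1),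
        ((e ▸ lift y₁ : GrMod.tildeAt 𝒜 ℳ n (ProjectiveSpectrum.comap ψ hψ y.1)) :
          GrMod.LocMod 𝒜 (M := M) (ProjectiveSpectrum.comap ψ hψ y.1)) = (lift y).1 := by
      intro y₁ e
      have : y₁ = y := Subtype.ext (hinj e)
      subst this
      rfl
    exact key (pt ⟨ProjectiveSpectrum.comap ψ hψ y.1, hOO' y.2⟩) (hpt _)
  have hfval : ∀ (y : O') (q : GrMod.LocMod 𝒜 (M := M) (ProjectiveSpectrum.comap ψ hψ y.1)),
      GrMod.locModMap ψ hψ v y.1 q = (s'.1 y).1 →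
      ((f ⟨ProjectiveSpectrum.comap ψ hψ y.1, hOO' y.2⟩ :
        GrMod.tildeAt 𝒜 ℳ n (ProjectiveSpectrum.comap ψ hψ y.1)) :
          GrMod.LocMod 𝒜 (M := M) (ProjectiveSpectrum.comap ψ hψ y.1)) = q := by
    intro y q hq
    rw [hf y]
    exact locModMap_injective hψ hA hM y.1 ((hlift y).trans hq.symm)
  have hfrac : (GrMod.isLocFrac 𝒜 ℳ n).pred f := by
    rintro ⟨x, hx⟩
    obtain ⟨y, hy, rfl⟩ := hpts x hx
    obtain ⟨V', hyV', iV', i, j, ⟨n', hn'⟩, ⟨t', ht'⟩, hnin, hij, hfr⟩ := s'.2 ⟨y, hy⟩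
    let V : Opens (ProjectiveSpectrum.top 𝒜) :=
      ⟨ProjectiveSpectrum.comap ψ hψ '' V'.1, hopen _ V'.2⟩
    have hVO : V ≤ O := by
      rintro _ ⟨y₁, hy₁, rfl⟩
      exact hOO' (iV' ⟨y₁, hy₁⟩).2
    refine ⟨V, ⟨y, hyV', rfl⟩, homOfLE hVO, ?_⟩
    rcases hij with hij | hn0
    · obtain ⟨m, hm, k, hk⟩ := hM.surj_hom hv hc hn'
      obtain ⟨a, ha, l, hl⟩ := surj_hom_ring hc hA ht'
      have hnin' : ∀ z : V, c ^ k * a ∉ z.1.asHomogeneousIdeal := by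
        rintro ⟨_, ⟨y₁, hy₁, rfl⟩⟩
        exact notMem_comap_of hψ hA y₁ (hnin ⟨y₁, hy₁⟩) hl k
      refine ⟨i, j, ⟨c ^ l • m, pow_smul_mem' hc l hm⟩, ⟨c ^ k * a, pow_mul_mem hc k ha⟩, hnin',
        Or.inl hij, ?_⟩
      rintro ⟨_, ⟨y₁, hy₁, rfl⟩⟩
      refine hfval (iV' ⟨y₁, hy₁⟩) _ ?_
      refine (locModMap_mk_lift hψ hA y₁ (hnin ⟨y₁, hy₁⟩) hl hk).trans ?_
      exact (hfr ⟨y₁, hy₁⟩).symm
    · refine ⟨0, 0, ⟨0, zero_mem _⟩, ⟨1, SetLike.GradedOne.one_mem⟩, fun z => GrMod.one_nin z.1,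
        Or.inr rfl, ?_⟩
      rintro ⟨_, ⟨y₁, hy₁, rfl⟩⟩
      refine hfval (iV' ⟨y₁, hy₁⟩) _ ?_
      rw [LocalizedModule.zero_mk, map_zero]
      refine Eq.trans ?_ (hfr ⟨y₁, hy₁⟩).symm
      have : n' = 0 := hn0
      subst this
      exact (LocalizedModule.zero_mk _).symm
  refine ⟨⟨f, hfrac⟩, ?_⟩
  refine Subtype.ext (funext fun y => Subtype.ext ?_)
  change GrMod.locModMap ψ hψ v y.1 (f ⟨ProjectiveSpectrum.comap ψ hψ y.1, hOO' y.2⟩).1 = (s'.1 y).1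
  rw [hf y, hlift y]

end Sections


/-! ### Values of sections at equal points; composition of the maps of localized modules -/

section Comp

omit [DirectSum.Decomposition ℳ] [SetLike.GradedSMul 𝒜 ℳ] in
theorem exists_mk_eq (n : ℤ) (O : Opens (ProjectiveSpectrum.top 𝒜))
    (s : ∀ x : O, GrMod.tildeAt 𝒜 ℳ n x.1) (x₁ x₂ : O) (h : x₁.1 = x₂.1) :
    ∃ (m : M) (a : A) (h₁ : a ∉ x₁.1.asHomogeneousIdeal) (h₂ : a ∉ x₂.1.asHomogeneousIdeal),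
      (s x₁).1 = LocalizedModule.mk m ⟨a, h₁⟩ ∧ (s x₂).1 = LocalizedModule.mk m ⟨a, h₂⟩ := by
  obtain ⟨x₁, hx₁⟩ := x₁
  obtain ⟨x₂, hx₂⟩ := x₂
  simp only at h
  subst h
  obtain ⟨m, a, e⟩ : ∃ (m : M) (a : x₁.asHomogeneousIdeal.toIdeal.primeCompl),
      (s ⟨x₁, hx₁⟩).1 = LocalizedModule.mk m a := by
    induction (s ⟨x₁, hx₁⟩).1 using LocalizedModule.induction_on with
    | h m a => exact ⟨m, a, rfl⟩
  exact ⟨m, a.1, a.2, a.2, e, e⟩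

variable {C σ'' : Type u} [CommRing C] [SetLike σ'' C] [AddSubgroupClass σ'' C] {𝒞 : ℕ → σ''} [GradedRing 𝒞]
variable {L τ'' : Type u} [AddCommGroup L] [Module C L] [SetLike τ'' L] [AddSubgroupClass τ'' L] {ℒ : ℕ → τ''}
  [SetLike.GradedSMul 𝒞 ℒ]

omit [DirectSum.Decomposition ℳ] [DirectSum.Decomposition 𝒩] in
theorem comap_comp_eq (ψ₂ : ℬ →+*ᵍ 𝒞) (hψ₂ : 𝒞₊ ≤ (ℬ₊).map ψ₂) (ψ₃ : 𝒜 →+*ᵍ 𝒞) (hψ₃ : 𝒞₊ ≤ (𝒜₊).map ψ₃)
    (h3 : ∀ a, ψ₃ a = ψ₂ (ψ a)) (y : ProjectiveSpectrum 𝒞) :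
    ProjectiveSpectrum.comap ψ hψ (ProjectiveSpectrum.comap ψ₂ hψ₂ y) = ProjectiveSpectrum.comap ψ₃ hψ₃ y := by
  apply ProjectiveSpectrum.ext
  apply HomogeneousIdeal.ext
  ext a
  change ψ₂ (ψ a) ∈ y.asHomogeneousIdeal ↔ ψ₃ a ∈ y.asHomogeneousIdeal
  rw [h3]

omit [DirectSum.Decomposition ℳ] [DirectSum.Decomposition 𝒩] in
theorem locModMap_comp (n : ℤ) (ψ₂ : ℬ →+*ᵍ 𝒞) (hψ₂ : 𝒞₊ ≤ (ℬ₊).map ψ₂) (v₂ : N →ₛₗ[ψ₂.toRingHom] L)
    (ψ₃ : 𝒜 →+*ᵍ 𝒞) (hψ₃ : 𝒞₊ ≤ (𝒜₊).map ψ₃) (v₃ : M →ₛₗ[ψ₃.toRingHom] L)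
    (h3 : ∀ a, ψ₃ a = ψ₂ (ψ a)) (hv3 : ∀ m, v₃ m = v₂ (v m))
    (O : Opens (ProjectiveSpectrum.top 𝒜)) (s : ∀ x : O, GrMod.tildeAt 𝒜 ℳ n x.1)
    (y : ProjectiveSpectrum 𝒞)
    (h₁ : ProjectiveSpectrum.comap ψ hψ (ProjectiveSpectrum.comap ψ₂ hψ₂ y) ∈ O)
    (h₃ : ProjectiveSpectrum.comap ψ₃ hψ₃ y ∈ O) :
    GrMod.locModMap ψ₂ hψ₂ v₂ y (GrMod.locModMap ψ hψ v (ProjectiveSpectrum.comap ψ₂ hψ₂ y) (s ⟨_, h₁⟩).1) =
      GrMod.locModMap ψ₃ hψ₃ v₃ y (s ⟨_, h₃⟩).1 := by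
  obtain ⟨m, a, ha₁, ha₃, e₁, e₃⟩ := exists_mk_eq n O s ⟨_, h₁⟩ ⟨_, h₃⟩
    (comap_comp_eq hψ ψ₂ hψ₂ ψ₃ hψ₃ h3 y)
  rw [e₁, e₃, GrMod.locModMap_mk, GrMod.locModMap_mk, GrMod.locModMap_mk]
  have : (⟨ψ₃ a, ha₃⟩ : y.asHomogeneousIdeal.toIdeal.primeCompl) = ⟨ψ₂ (ψ a), ha₁⟩ :=
    Subtype.ext (h3 a)
  rw [this, hv3]

omit [DirectSum.Decomposition ℳ] in
theorem locModMap_id (n : ℤ) (χ : 𝒜 →+*ᵍ 𝒜) (hχ : 𝒜₊ ≤ (𝒜₊).map χ) (w : M →ₛₗ[χ.toRingHom] M)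
    (h1 : ∀ a, χ a = a) (hw : ∀ m, w m = m)
    (O : Opens (ProjectiveSpectrum.top 𝒜)) (s : ∀ x : O, GrMod.tildeAt 𝒜 ℳ n x.1)
    (y : ProjectiveSpectrum 𝒜) (h₁ : ProjectiveSpectrum.comap χ hχ y ∈ O) (h₂ : y ∈ O) :
    GrMod.locModMap χ hχ w y (s ⟨_, h₁⟩).1 = (s ⟨y, h₂⟩).1 := by
  have hpt : ProjectiveSpectrum.comap χ hχ y = y := by
    apply ProjectiveSpectrum.ext
    apply HomogeneousIdeal.ext
    ext a
    change χ a ∈ y.asHomogeneousIdeal ↔ a ∈ y.asHomogeneousIdeal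
    rw [h1]
  obtain ⟨m, a, ha₁, ha₂, e₁, e₂⟩ := exists_mk_eq n O s ⟨_, h₁⟩ ⟨_, h₂⟩ hpt
  rw [e₁, e₂, GrMod.locModMap_mk]
  have : (⟨χ a, ha₁⟩ : y.asHomogeneousIdeal.toIdeal.primeCompl) = ⟨a, ha₂⟩ := Subtype.ext (h1 a)
  rw [this, hw]

end Comp

end Groth.Agent.Lib.Helper3.TildeLoc
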