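import Groth.Agent.Lib.Helper3.TildeSect
import Groth.Agent.Lib.Helper3.TildeExact
import Groth.Agent.Lib.Helper3.TildeLoc
import Groth.Agent.Lib.Helper3.ModCrit
/-!
# `M(n)~ → Φ_* N(n)~` is an isomorphism when `N` is `M` by restriction of scalars (ring level)
-/
universe u
set_option linter.unusedSectionVars false
open CategoryTheory CategoryTheory.Limits AlgebraicGeometry Opposite TopologicalSpace
open HomogeneousLocalization DirectSum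
open scoped HomogeneousIdeal

namespace Groth.Agent.Lib.Helper3.TildeIso

variable {A σ : Type u} [CommRing A] [SetLike σ A] [AddSubgroupClass σ A] {𝒜 : ℕ → σ} [GradedRing 𝒜]
variable {M τ : Type u} [AddCommGroup M] [Module A M] [SetLike τ M] [AddSubgroupClass τ M] {ℳ : ℕ → τ}
  [SetLike.GradedSMul 𝒜 ℳ] [DirectSum.Decomposition ℳ]

/-- Basic opens `D₊(h)` with `h` homogeneous of positive degree form a basis. -/
theorem exists_basicOpen_subset (V : Opens (ProjectiveSpectrum.top 𝒜)) (x : ProjectiveSpectrum 𝒜)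
    (hx : x ∈ V) :
    ∃ (e : ℕ) (h : A), 0 < e ∧ h ∈ 𝒜 e ∧ h ∉ x.asHomogeneousIdeal ∧
      ∀ y : ProjectiveSpectrum 𝒜, h ∉ y.asHomogeneousIdeal → y ∈ V := by
  obtain ⟨_, ⟨a, rfl⟩, hxa, haV⟩ :=
    (ProjectiveSpectrum.isTopologicalBasis_basic_opens 𝒜).exists_subset_of_mem_open hx V.2
  obtain ⟨k, hk⟩ := TildeExact.exists_component_notMem x a hxa
  obtain ⟨d, hd, g, hg, hgx⟩ := TildeExact.exists_pos_notMem x
  refine ⟨k + d, ((decompose 𝒜 a k : 𝒜 k) : A) * g, by omega,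
    SetLike.mul_mem_graded (SetLike.coe_mem _) hg, ?_, ?_⟩
  · intro hmem
    rcases x.isPrime.mem_or_mem hmem with h1 | h1
    · exact hk h1
    · exact hgx h1
  · intro y hy
    apply haV
    intro hay
    apply hy
    exact Ideal.mul_mem_right _ _ (y.asHomogeneousIdeal.isHomogeneous k hay)

omit [SetLike.GradedSMul 𝒜 ℳ] [DirectSum.Decomposition ℳ] [SetLike τ M] [AddSubgroupClass τ M] in
theorem mk_eq_zero_of_mk_eq_zero (x : ProjectiveSpectrum 𝒜) (m : M)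
    (s s' : x.asHomogeneousIdeal.toIdeal.primeCompl)
    (h : (LocalizedModule.mk m s : GrMod.LocMod 𝒜 (M := M) x) = 0) :
    (LocalizedModule.mk m s' : GrMod.LocMod 𝒜 (M := M) x) = 0 := by
  obtain ⟨c, hc, hcm⟩ := TildeExact.exists_smul_eq_zero_of_mk_eq_zero x m s h
  exact TildeExact.mk_eq_zero_of_smul_eq_zero x m s' c hc hcm

variable {B σ' : Type u} [CommRing B] [SetLike σ' B] [AddSubgroupClass σ' B] {ℬ : ℕ → σ'} [GradedRing ℬ]
variable {N τ' : Type u} [AddCommGroup N] [Module B N] [SetLike τ' N] [AddSubgroupClass τ' N] {𝒩 : ℕ → τ'}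
  [SetLike.GradedSMul ℬ 𝒩] [DirectSum.Decomposition 𝒩]
variable (ψ : 𝒜 →+*ᵍ ℬ) (hψ : ℬ₊ ≤ (𝒜₊).map ψ) (v : M →ₛₗ[ψ.toRingHom] N)
  (hv : ∀ (i : ℕ) (m : M), m ∈ ℳ i → v m ∈ 𝒩 i)

theorem comap_app_eq_zero (hinj : Function.Injective v) (n : ℤ) (W : (Proj 𝒜).Opens)
    (s : Γ(GrMod.tilde 𝒜 ℳ n, W)) (hs : (GrMod.comap ψ hψ v hv n).app W s = 0) : s = 0 := by
  let s' : GrMod.sect 𝒜 ℳ n (op W) := s
  refine Subtype.ext (funext fun x => Subtype.ext ?_)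
  change (s'.1 x).1 = 0
  obtain ⟨V, hxV, iV, i, j, m, t, nin, -, w⟩ := s'.2 x
  have hVW : V ≤ W := iV.le
  have w' : ∀ y : V, (s'.1 ⟨y.1, hVW y.2⟩).1 = LocalizedModule.mk (m : M) ⟨(t : A), nin y⟩ := fun y => w y
  obtain ⟨e, h, he, hh, hhx, hhV⟩ := exists_basicOpen_subset V x.1 hxV
  have hψh : ψ h ∈ ℬ e := ψ.map_mem hh
  -- `v m / 1` vanishes on `D₊(ψ h)`
  have hz : ∀ y' : ProjectiveSpectrum.basicOpen ℬ (ψ h),
      (LocalizedModule.mk (v (m : M)) ⟨(ψ h) ^ 0, fun hc =>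
        (ProjectiveSpectrum.mem_basicOpen ℬ (ψ h) y'.1).mp y'.2 (y'.1.isPrime.mem_of_pow_mem 0 hc)⟩ :
          GrMod.LocMod ℬ (M := N) y'.1) = 0 := by
    intro y'
    have hyV : ProjectiveSpectrum.comap ψ hψ y'.1 ∈ V := hhV _ y'.2
    have hyW : y'.1 ∈ (Proj.map ψ hψ ⁻¹ᵁ W : (Proj ℬ).Opens) := hVW hyV
    have h1 : GrMod.locModMap ψ hψ v y'.1 (s'.1 ⟨ProjectiveSpectrum.comap ψ hψ y'.1, hyW⟩).1 = 0 :=
      congrArg (fun f : GrMod.sect ℬ 𝒩 n (op (Proj.map ψ hψ ⁻¹ᵁ W : (Proj ℬ).Opens)) =>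
        (f.1 ⟨y'.1, hyW⟩).1) hs
    rw [w' ⟨_, hyV⟩, GrMod.locModMap_mk] at h1
    exact mk_eq_zero_of_mk_eq_zero y'.1 _ _ _ h1
  obtain ⟨K, hK⟩ := TildeSect.exists_pow_smul_eq_zero ℬ 𝒩 he hψh 0 i ⟨v (m : M), hv i m m.2⟩ hz
  have hK' : v (h ^ K • (m : M)) = 0 := by
    rw [LinearMap.map_smulₛₗ, map_pow]
    exact hK
  have hK'' : h ^ K • (m : M) = 0 := hinj (hK'.trans (map_zero v).symm)
  rw [w' ⟨x.1, hxV⟩]
  exact TildeExact.mk_eq_zero_of_smul_eq_zero x.1 _ _ (h ^ K)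
    (fun hc => hhx (x.1.isPrime.mem_of_pow_mem K hc)) hK''

theorem exists_comap_app_eq (hbij : Function.Bijective v) (n : ℤ) (W : (Proj 𝒜).Opens)
    (s' : Γ((Scheme.Modules.pushforward (Proj.map ψ hψ)).obj (GrMod.tilde ℬ 𝒩 n), W)) (x : Proj 𝒜)
    (hx : x ∈ W) :
    ∃ (W' : (Proj 𝒜).Opens) (hW' : W' ≤ W), x ∈ W' ∧ ∃ t : Γ(GrMod.tilde 𝒜 ℳ n, W'),
      (GrMod.comap ψ hψ v hv n).app W' t =
        Groth.Agent.Lib.Helper29.QCoh.res
          ((Scheme.Modules.pushforward (Proj.map ψ hψ)).obj (GrMod.tilde ℬ 𝒩 n)) hW' s' := by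
  classical
  let s'' : GrMod.sect ℬ 𝒩 n (op (Proj.map ψ hψ ⁻¹ᵁ W : (Proj ℬ).Opens)) := s'
  obtain ⟨e, h, he, hh, hhx, hhW⟩ := exists_basicOpen_subset W x hx
  have hψh : ψ h ∈ ℬ e := ψ.map_mem hh
  have hle : ProjectiveSpectrum.basicOpen ℬ (ψ h) ≤ (Proj.map ψ hψ ⁻¹ᵁ W : (Proj ℬ).Opens) :=
    fun y' hy' => hhW (ProjectiveSpectrum.comap ψ hψ y') hy'
  obtain ⟨k, i, n', hi, hval⟩ := TildeSect.exists_eq_mk_basicOpen ℬ 𝒩 n he hψh
    (GrMod.res ℬ 𝒩 n (homOfLE hle).op s'')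
  obtain ⟨m, hm⟩ := hbij.2 (n' : N)
  let mi : ℳ i := decompose ℳ m i
  have hmi : v (mi : M) = (n' : N) := by
    rw [TildeLoc.v_decompose hv m i, hm]
    exact decompose_of_mem_same 𝒩 n'.2
  have hW' : Proj.basicOpen 𝒜 h ≤ W := fun y hy => hhW y hy
  have hdeg : (i : ℤ) = ((k • e : ℕ) : ℤ) + n := by
    rw [smul_eq_mul]; push_cast; exact hi
  have hO : ∀ y : ProjectiveSpectrum.basicOpen 𝒜 h, h ^ k ∉ y.1.asHomogeneousIdeal :=
    fun y hc => (ProjectiveSpectrum.mem_basicOpen 𝒜 h y.1).mp y.2 (y.1.isPrime.mem_of_pow_mem _ hc)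
  let t : GrMod.sect 𝒜 ℳ n (op (ProjectiveSpectrum.basicOpen 𝒜 h)) :=
    TildeExact.fracSect n hdeg mi ⟨h ^ k, SetLike.pow_mem_graded k hh⟩ (ProjectiveSpectrum.basicOpen 𝒜 h) hO
  refine ⟨Proj.basicOpen 𝒜 h, hW', hhx, t, ?_⟩
  refine Subtype.ext (funext fun y' => Subtype.ext ?_)
  have hy' : y'.1 ∈ ProjectiveSpectrum.basicOpen ℬ (ψ h) := y'.2
  change GrMod.locModMap ψ hψ v y'.1 (t.1 ⟨ProjectiveSpectrum.comap ψ hψ y'.1, y'.2⟩).1 =
    (s''.1 ⟨y'.1, hle hy'⟩).1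
  have h2 : (s''.1 ⟨y'.1, hle hy'⟩).1 = _ := hval ⟨y'.1, hy'⟩
  rw [h2, TildeExact.fracSect_val, GrMod.locModMap_mk, hmi]
  congr 1
  exact Subtype.ext (map_pow ψ h k)

theorem isIso_comap (hbij : Function.Bijective v) (n : ℤ) : IsIso (GrMod.comap ψ hψ v hv n) := by
  have hmono : Mono (GrMod.comap ψ hψ v hv n) :=
    ModGlue.mono_of_local _ (fun _ => True) (fun _ _ _ _ => trivial) (fun w => ⟨⊤, trivial, trivial⟩)
      (fun W _ s hs => comap_app_eq_zero ψ hψ v hv hbij.1 n W s hs)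
  have hepi : Epi (GrMod.comap ψ hψ v hv n) :=
    ModGlue.epi_of_local _ (fun _ => True) (fun _ _ _ _ => trivial) (fun w => ⟨⊤, trivial, trivial⟩)
      (fun W _ s' x hx => exists_comap_app_eq ψ hψ v hv hbij n W s' x hx)
  exact isIso_of_mono_of_epi _

end Groth.Agent.Lib.Helper3.TildeIso
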