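import Groth.Agent.Lib.Helper3.TildeSect
import Groth.Agent.Lib.Helper3.TildeExact
import Groth.Agent.Lib.Helper29.QCohCrit
import Groth.Agent.Lib.Helper29.GenLocus
/-!
# `M(n)~` on `Proj` is quasi-coherent (gradings by additive subgroups)

A port to the frozen `GrMod` / `GrTwist` (gradings by additive subgroups) of the Helper29 development for
`GrTilde` / `Twist` (gradings by submodules).
-/
set_option autoImplicit false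
set_option linter.unusedSectionVars false
universe u
open CategoryTheory CategoryTheory.Limits AlgebraicGeometry Opposite TopologicalSpace DirectSum
open Groth.Agent.Lib.Helper29 Groth.Agent.Lib.Helper29.QCoh

namespace Groth.Agent.Lib.Helper3.TildeQC

section O1
variable {A σ : Type u} [CommRing A] [SetLike σ A] [AddSubgroupClass σ A] (𝒜 : ℕ → σ) [GradedRing 𝒜]

/-- view a section of the structure sheaf as a dependent function into the localizations -/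
def ofun {U : (Proj 𝒜).Opens} (r : Γ(Proj 𝒜, U)) :
    ∀ x : U, GrTwist.Loc 𝒜 x.1 := fun x => ((show GrTwist.O (𝒜 := 𝒜) (op U) from r).1 x).val


theorem ofun_res {U V : (Proj 𝒜).Opens} (h : V ≤ U) (r : Γ(Proj 𝒜, U)) (x : V) :
    ofun 𝒜 (rres (Proj 𝒜) h r) x = ofun 𝒜 r ⟨x.1, h x.2⟩ := rfl


theorem ofun_mul {U : (Proj 𝒜).Opens} (r s : Γ(Proj 𝒜, U)) (x : U) :
    ofun 𝒜 (r * s) x = ofun 𝒜 r x * ofun 𝒜 s x :=
  HomogeneousLocalization.val_mul _ _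

theorem ofun_one {U : (Proj 𝒜).Opens} (x : U) :
    ofun 𝒜 (1 : Γ(Proj 𝒜, U)) x = 1 :=
  HomogeneousLocalization.val_one


theorem ofun_ext {U : (Proj 𝒜).Opens} (r s : Γ(Proj 𝒜, U))
    (h : ∀ x, ofun 𝒜 r x = ofun 𝒜 s x) : r = s := by
  apply Subtype.ext
  funext x
  exact HomogeneousLocalization.val_injective _ (h x)


/-- The section `a / s` of the structure sheaf over an open where `s` does not vanish. -/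
def mkO (U : (Proj 𝒜).Opens) {i : ℕ} (a s : 𝒜 i)
    (hs : ∀ x : U, s.1 ∉ x.1.asHomogeneousIdeal) : Γ(Proj 𝒜, U) :=
  (⟨fun x => HomogeneousLocalization.mk ⟨i, a, s, hs x⟩,
    fun x => ⟨U, x.2, 𝟙 _, i, a, s, hs, fun _ => rfl⟩⟩ : GrTwist.O (𝒜 := 𝒜) (op U))

theorem ofun_mkO (U : (Proj 𝒜).Opens) {i : ℕ} (a s : 𝒜 i)
    (hs : ∀ x : U, s.1 ∉ x.1.asHomogeneousIdeal) (x : U) :
    ofun 𝒜 (mkO 𝒜 U a s hs) x = Localization.mk a.1 ⟨s.1, hs x⟩ := rfl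


end O1

section O2
variable {A σ : Type u} [CommRing A] [SetLike σ A] [AddSubgroupClass σ A] {𝒜 : ℕ → σ} [GradedRing 𝒜]

theorem pow_not_mem_of_not_mem {x : ProjectiveSpectrum 𝒜} {f : A}
    (hf : f ∉ x.asHomogeneousIdeal) (k : ℕ) : f ^ k ∉ x.asHomogeneousIdeal := fun h =>
  hf (x.isPrime.mem_of_pow_mem k h)


theorem mk_eq_mk_of_mul_eq {S : Submonoid A} (a b : A) (s t : S) (h : (t : A) * a = s * b) :
    Localization.mk a s = Localization.mk b t :=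
  Localization.mk_eq_mk_iff.mpr (Localization.r_iff_exists.mpr ⟨1, by simp only [h]⟩)

theorem ofun_pow {U : (Proj 𝒜).Opens} (r : Γ(Proj 𝒜, U)) (n : ℕ) (x : U) :
    ofun 𝒜 (r ^ n) x = ofun 𝒜 r x ^ n :=
  HomogeneousLocalization.val_pow _ _


theorem one_not_mem (x : ProjectiveSpectrum 𝒜) : (1 : A) ∉ x.asHomogeneousIdeal := fun h =>
  x.isPrime.ne_top ((Ideal.eq_top_iff_one _).mpr h)


theorem isUnit_mk_iff (x : ProjectiveSpectrum 𝒜) (a s : A) (hs : s ∉ x.asHomogeneousIdeal) :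
    IsUnit (Localization.mk a ⟨s, hs⟩ : GrTwist.Loc 𝒜 x) ↔ a ∉ x.asHomogeneousIdeal := by
  rw [Localization.mk_eq_mk'_apply]
  exact IsLocalization.AtPrime.isUnit_mk'_iff _ x.asHomogeneousIdeal.toIdeal a _


end O2

section O3
variable {A σ : Type u} [CommRing A] [SetLike σ A] [AddSubgroupClass σ A] (𝒜 : ℕ → σ) [GradedRing 𝒜]

theorem ofun_add {U : (Proj 𝒜).Opens} (r s : Γ(Proj 𝒜, U)) (x : U) :
    ofun 𝒜 (r + s) x = ofun 𝒜 r x + ofun 𝒜 s x :=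
  HomogeneousLocalization.val_add _ _

theorem ofun_zero {U : (Proj 𝒜).Opens} (x : U) :
    ofun 𝒜 (0 : Γ(Proj 𝒜, U)) x = 0 :=
  HomogeneousLocalization.val_zero

/-- Two fractions with cross-multiplied numerators equal are equal sections. -/
theorem mkO_eq_mkO (U : (Proj 𝒜).Opens) {i j : ℕ} (a s : 𝒜 i) (b t : 𝒜 j)
    (hs : ∀ x : U, s.1 ∉ x.1.asHomogeneousIdeal) (ht : ∀ x : U, t.1 ∉ x.1.asHomogeneousIdeal)
    (h : t.1 * a.1 = s.1 * b.1) : mkO 𝒜 U a s hs = mkO 𝒜 U b t ht := by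
  apply ofun_ext
  intro x
  rw [ofun_mkO, ofun_mkO]
  exact mk_eq_mk_of_mul_eq _ _ _ _ h

theorem mkO_mul (U : (Proj 𝒜).Opens) {i j : ℕ} (a s : 𝒜 i) (b t : 𝒜 j)
    (hs : ∀ x : U, s.1 ∉ x.1.asHomogeneousIdeal) (ht : ∀ x : U, t.1 ∉ x.1.asHomogeneousIdeal) :
    mkO 𝒜 U a s hs * mkO 𝒜 U b t ht =
      mkO 𝒜 U (⟨a.1 * b.1, SetLike.mul_mem_graded a.2 b.2⟩ : 𝒜 (i + j))
        ⟨s.1 * t.1, SetLike.mul_mem_graded s.2 t.2⟩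
        (fun x h => (x.1.isPrime.mem_or_mem h).elim (hs x) (ht x)) := by
  apply ofun_ext
  intro x
  rw [ofun_mul, ofun_mkO, ofun_mkO, ofun_mkO, Localization.mk_mul]
  rfl

theorem mkO_add (U : (Proj 𝒜).Opens) {i : ℕ} (a b s : 𝒜 i)
    (hs : ∀ x : U, s.1 ∉ x.1.asHomogeneousIdeal) :
    mkO 𝒜 U (a + b) s hs = mkO 𝒜 U a s hs + mkO 𝒜 U b s hs := by
  apply ofun_ext
  intro x
  rw [ofun_add, ofun_mkO, ofun_mkO, ofun_mkO, Localization.add_mk_self]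
  rfl

theorem mkO_zero (U : (Proj 𝒜).Opens) {i : ℕ} (s : 𝒜 i)
    (hs : ∀ x : U, s.1 ∉ x.1.asHomogeneousIdeal) :
    mkO 𝒜 U (0 : 𝒜 i) s hs = 0 := by
  apply ofun_ext
  intro x
  rw [ofun_zero, ofun_mkO]
  exact Localization.mk_zero _

theorem mkO_self (U : (Proj 𝒜).Opens) {i : ℕ} (s : 𝒜 i)
    (hs : ∀ x : U, s.1 ∉ x.1.asHomogeneousIdeal) :
    mkO 𝒜 U s s hs = 1 := by
  apply ofun_ext
  intro x
  rw [ofun_one, ofun_mkO]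
  exact Localization.mk_self (⟨s.1, hs x⟩ : x.1.asHomogeneousIdeal.toIdeal.primeCompl)

theorem rres_mkO {U V : (Proj 𝒜).Opens} (h : V ≤ U) {i : ℕ} (a s : 𝒜 i)
    (hs : ∀ x : U, s.1 ∉ x.1.asHomogeneousIdeal) :
    rres (Proj 𝒜) h (mkO 𝒜 U a s hs) = mkO 𝒜 V a s (fun x => hs ⟨x.1, h x.2⟩) := rfl

/-- The nonvanishing locus of the function `a / s` on `U` is `U ⊓ D_+(a)`. -/
theorem basicOpen_mkO (U : (Proj 𝒜).Opens) {i : ℕ} (a s : 𝒜 i)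
    (hs : ∀ x : U, s.1 ∉ x.1.asHomogeneousIdeal) :
    (Proj 𝒜).basicOpen (mkO 𝒜 U a s hs) = U ⊓ Proj.basicOpen 𝒜 a.1 := by
  apply le_antisymm
  · intro x hx
    have hxU : x ∈ U := (Proj 𝒜).basicOpen_le _ hx
    refine ⟨hxU, ?_⟩
    have hu : IsUnit (rres (Proj 𝒜) ((Proj 𝒜).basicOpen_le (mkO 𝒜 U a s hs))
        (mkO 𝒜 U a s hs)) := RingedSpace.isUnit_res_basicOpen _ _
    obtain ⟨r', hr'⟩ := hu.exists_right_inv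
    have h1 := congrArg (fun r => ofun 𝒜 r ⟨x, hx⟩) hr'
    simp only [ofun_mul, ofun_one] at h1
    rw [rres_mkO, ofun_mkO] at h1
    have hu2 : IsUnit (Localization.mk a.1 ⟨s.1, hs ⟨x, hxU⟩⟩ : GrTwist.Loc 𝒜 x) :=
      IsUnit.of_mul_eq_one _ h1
    rw [isUnit_mk_iff] at hu2
    exact hu2
  · rw [← isUnit_rres_iff (inf_le_left : U ⊓ Proj.basicOpen 𝒜 a.1 ≤ U)]
    rw [rres_mkO]
    have ha : ∀ x : (U ⊓ Proj.basicOpen 𝒜 a.1 : (Proj 𝒜).Opens), a.1 ∉ x.1.asHomogeneousIdeal :=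
      fun x => x.2.2
    refine IsUnit.of_mul_eq_one (mkO 𝒜 _ s a ha) ?_
    rw [mkO_mul]
    have := mkO_eq_mkO 𝒜 (U ⊓ Proj.basicOpen 𝒜 a.1)
      (⟨a.1 * s.1, SetLike.mul_mem_graded a.2 s.2⟩ : 𝒜 (i + i))
      ⟨s.1 * a.1, SetLike.mul_mem_graded s.2 a.2⟩
      (⟨s.1 * a.1, SetLike.mul_mem_graded s.2 a.2⟩ : 𝒜 (i + i))
      ⟨s.1 * a.1, SetLike.mul_mem_graded s.2 a.2⟩
      (fun x h => (x.1.isPrime.mem_or_mem h).elim (hs ⟨x.1, x.2.1⟩) (ha x))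
      (fun x h => (x.1.isPrime.mem_or_mem h).elim (hs ⟨x.1, x.2.1⟩) (ha x))
      (by simp only; ring)
    rw [this, mkO_self]


end O3

section O4
variable {A σ : Type u} [CommRing A] [SetLike σ A] [AddSubgroupClass σ A] {𝒜 : ℕ → σ} [GradedRing 𝒜]

/-- Every function on `D_+(f)` (`deg f > 0`) is a global fraction `a / f^j`. -/
theorem exists_ofun_eq_mk {m : ℕ} (hm : 0 < m) (f : 𝒜 m)
    (r : Γ(Proj 𝒜, Proj.basicOpen 𝒜 f.1)) :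
    ∃ (i : ℕ) (a : 𝒜 i) (j : ℕ) (_ : f.1 ^ j ∈ 𝒜 i), ∀ x : Proj.basicOpen 𝒜 f.1,
      ofun 𝒜 r x = Localization.mk a.1 ⟨f.1 ^ j, pow_not_mem_of_not_mem x.2 j⟩ := by
  have hbij : Function.Bijective (Proj.awayToSection 𝒜 f.1).hom :=
    ConcreteCategory.bijective_of_isIso (Proj.basicOpenIsoAway 𝒜 f.1 f.2 hm).hom
  obtain ⟨s, rfl⟩ := hbij.2 r
  obtain ⟨⟨i, a, b, hb⟩, rfl⟩ := HomogeneousLocalization.mk_surjective s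
  have hb' : ∃ j, f.1 ^ j = b.1 := hb
  obtain ⟨j, hj'⟩ := hb'
  refine ⟨i, a, j, hj' ▸ b.2, fun x => ?_⟩
  change (HomogeneousLocalization.mapId 𝒜 _ (HomogeneousLocalization.mk ⟨i, a, b, hb⟩)).val = _
  change Localization.mk a.1 ⟨b.1, _⟩ = _
  congr 1
  exact Subtype.ext hj'.symm


end O4

section G1
variable {A σ : Type u} [CommRing A] [SetLike σ A] [AddSubgroupClass σ A] (𝒜 : ℕ → σ) [GradedRing 𝒜]
variable {M τ : Type u} [AddCommGroup M] [Module A M] [SetLike τ M] [AddSubgroupClass τ M] (ℳ : ℕ → τ)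
  [SetLike.GradedSMul 𝒜 ℳ]

/-- view a section of `M(n)~` as a dependent function into the localized modules -/
def gfun {n : ℤ} {U : (Proj 𝒜).Opens} (σ : Γ(GrMod.tilde 𝒜 ℳ n, U)) :
    ∀ x : U, GrMod.LocMod 𝒜 (M := M) x.1 :=
  fun x => ((show GrMod.sect 𝒜 ℳ n (op U) from σ).1 x).1

theorem gfun_ext {n : ℤ} {U : (Proj 𝒜).Opens} (σ τ : Γ(GrMod.tilde 𝒜 ℳ n, U))
    (h : ∀ x, gfun 𝒜 ℳ σ x = gfun 𝒜 ℳ τ x) : σ = τ := by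
  apply Subtype.ext
  funext x
  exact Subtype.ext (h x)

theorem gfun_res {n : ℤ} {U V : (Proj 𝒜).Opens} (h : V ≤ U) (σ : Γ(GrMod.tilde 𝒜 ℳ n, U))
    (x : V) :
    gfun 𝒜 ℳ (QCoh.res (GrMod.tilde 𝒜 ℳ n) h σ) x = gfun 𝒜 ℳ σ ⟨x.1, h x.2⟩ := rfl

theorem gfun_add {n : ℤ} {U : (Proj 𝒜).Opens} (σ τ : Γ(GrMod.tilde 𝒜 ℳ n, U)) (x : U) :
    gfun 𝒜 ℳ (σ + τ) x = gfun 𝒜 ℳ σ x + gfun 𝒜 ℳ τ x := rfl

theorem gfun_zero {n : ℤ} {U : (Proj 𝒜).Opens} (x : U) :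
    gfun 𝒜 ℳ (0 : Γ(GrMod.tilde 𝒜 ℳ n, U)) x = 0 := rfl

theorem gfun_smul {n : ℤ} {U : (Proj 𝒜).Opens} (r : Γ(Proj 𝒜, U))
    (σ : Γ(GrMod.tilde 𝒜 ℳ n, U)) (x : U) :
    gfun 𝒜 ℳ (r • σ) x = ofun 𝒜 r x • gfun 𝒜 ℳ σ x :=
  GrMod.coe_smul_val n x.1 _ _

/-- The section `m / s` of `M(n)~` over an open where `s` does not vanish. -/
def mkG (n : ℤ) (U : (Proj 𝒜).Opens) {i j : ℕ} (m : ℳ i) (s : 𝒜 j)
    (hs : ∀ x : U, s.1 ∉ x.1.asHomogeneousIdeal) (hdeg : (i : ℤ) = j + n) :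
    Γ(GrMod.tilde 𝒜 ℳ n, U) :=
  (⟨fun x => ⟨LocalizedModule.mk m.1 ⟨s.1, hs x⟩,
      Submodule.subset_span ⟨i, j, m, s, hs x, hdeg, rfl⟩⟩,
    fun x => ⟨U, x.2, 𝟙 _, i, j, m, s, hs, Or.inl hdeg, fun _ => rfl⟩⟩ :
    GrMod.sect 𝒜 ℳ n (op U))

theorem gfun_mkG (n : ℤ) (U : (Proj 𝒜).Opens) {i j : ℕ} (m : ℳ i) (s : 𝒜 j)
    (hs : ∀ x : U, s.1 ∉ x.1.asHomogeneousIdeal) (hdeg : (i : ℤ) = j + n) (x : U) :
    gfun 𝒜 ℳ (mkG 𝒜 ℳ n U m s hs hdeg) x = LocalizedModule.mk m.1 ⟨s.1, hs x⟩ := rfl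

/-- Sections are locally fractions. -/
theorem exists_gfun_eq_mk {n : ℤ} {U : (Proj 𝒜).Opens} (σ : Γ(GrMod.tilde 𝒜 ℳ n, U)) (x : U) :
    ∃ (V : (Proj 𝒜).Opens) (_ : x.1 ∈ V) (hVU : V ≤ U) (i j : ℕ) (m : ℳ i) (s : 𝒜 j)
      (hs : ∀ y : V, s.1 ∉ y.1.asHomogeneousIdeal), ((i : ℤ) = j + n ∨ m.1 = 0) ∧
      ∀ y : V, gfun 𝒜 ℳ σ ⟨y.1, hVU y.2⟩ = LocalizedModule.mk m.1 ⟨s.1, hs y⟩ := by
  obtain ⟨V, hxV, ι, i, j, m, s, hs, hdeg, hw⟩ := (show GrMod.sect 𝒜 ℳ n (op U) from σ).2 x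
  exact ⟨V, hxV, leOfHom ι, i, j, m, s, hs, hdeg, fun y => hw y⟩


end G1

section G2
variable {A σ : Type u} [CommRing A] [SetLike σ A] [AddSubgroupClass σ A] (𝒜 : ℕ → σ) [GradedRing 𝒜]
variable {M τ : Type u} [AddCommGroup M] [Module A M] [SetLike τ M] [AddSubgroupClass τ M] (ℳ : ℕ → τ)
  [DirectSum.Decomposition ℳ] [SetLike.GradedSMul 𝒜 ℳ]

theorem locMod_mk_eq_zero_iff (x : ProjectiveSpectrum 𝒜) (μ : M)
    (s : x.asHomogeneousIdeal.toIdeal.primeCompl) :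
    (LocalizedModule.mk μ s : GrMod.LocMod 𝒜 (M := M) x) = 0 ↔
      ∃ u : x.asHomogeneousIdeal.toIdeal.primeCompl, u • μ = 0 := by
  rw [← LocalizedModule.zero_mk (1 : x.asHomogeneousIdeal.toIdeal.primeCompl),
    LocalizedModule.mk_eq]
  constructor
  · rintro ⟨u, hu⟩
    refine ⟨u, ?_⟩
    rw [one_smul, smul_zero, smul_zero] at hu
    exact hu
  · rintro ⟨u, hu⟩
    exact ⟨u, by rw [one_smul, smul_zero, smul_zero, hu]⟩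

/-- Every section of `M(n)~` over `D_+(g)`, `deg g > 0`, is one fraction `μ / g^k`. -/
theorem exists_gfun_eq_mk_basicOpen (n : ℤ) {d : ℕ} (hd : 0 < d) (g : 𝒜 d)
    (σ : Γ(GrMod.tilde 𝒜 ℳ n, Proj.basicOpen 𝒜 g.1)) :
    ∃ (k i : ℕ) (μ : ℳ i), (i : ℤ) = k * d + n ∧ ∀ x : Proj.basicOpen 𝒜 g.1,
      gfun 𝒜 ℳ σ x = LocalizedModule.mk μ.1 ⟨g.1 ^ k, pow_not_mem_of_not_mem x.2 k⟩ :=
  TildeSect.exists_eq_mk_basicOpen 𝒜 ℳ n hd g.2 σ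

theorem exists_pow_smul_eq_zero_of_mk_eq_zero {d : ℕ} (hd : 0 < d) (g : 𝒜 d) {i : ℕ} (μ : ℳ i)
    (h : ∀ x : Proj.basicOpen 𝒜 g.1, ∃ u : x.1.asHomogeneousIdeal.toIdeal.primeCompl,
      u • μ.1 = 0) :
    ∃ N : ℕ, g.1 ^ N • μ.1 = 0 := by
  apply TildeSect.exists_pow_smul_eq_zero 𝒜 ℳ hd g.2 0 i μ
  intro x
  rw [locMod_mk_eq_zero_iff]
  exact h x


end G2

section G3
variable {A σ : Type u} [CommRing A] [SetLike σ A] [AddSubgroupClass σ A] (𝒜 : ℕ → σ) [GradedRing 𝒜]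
variable {M τ : Type u} [AddCommGroup M] [Module A M] [SetLike τ M] [AddSubgroupClass τ M] (ℳ : ℕ → τ)
  [DirectSum.Decomposition ℳ] [SetLike.GradedSMul 𝒜 ℳ]

/-- Functions on `D_+(g)` are fractions `a / g^j`. -/
theorem exists_eq_mkO {d : ℕ} (hd : 0 < d) (g : 𝒜 d) (φ : Γ(Proj 𝒜, Proj.basicOpen 𝒜 g.1)) :
    ∃ (i : ℕ) (a : 𝒜 i) (j : ℕ) (hb : g.1 ^ j ∈ 𝒜 i),
      φ = mkO 𝒜 (Proj.basicOpen 𝒜 g.1) a ⟨g.1 ^ j, hb⟩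
        (fun x => pow_not_mem_of_not_mem x.2 j) := by
  obtain ⟨i, a, j, hb, h⟩ := exists_ofun_eq_mk hd g φ
  exact ⟨i, a, j, hb, ofun_ext 𝒜 _ _ fun x => by rw [h x, ofun_mkO]⟩

theorem gfun_pow_smul {n : ℤ} {U : (Proj 𝒜).Opens} (r : Γ(Proj 𝒜, U)) (k : ℕ)
    (σ : Γ(GrMod.tilde 𝒜 ℳ n, U)) (x : U) :
    gfun 𝒜 ℳ (r ^ k • σ) x = (ofun 𝒜 r x) ^ k • gfun 𝒜 ℳ σ x := by
  rw [gfun_smul, ofun_pow]

/-- The function `a / g^j` on `D_+(g)`. -/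
noncomputable abbrev phiO {d : ℕ} (g : 𝒜 d) {i : ℕ} (a : 𝒜 i) (j : ℕ) (hb : g.1 ^ j ∈ 𝒜 i) :
    Γ(Proj 𝒜, Proj.basicOpen 𝒜 g.1) :=
  mkO 𝒜 (Proj.basicOpen 𝒜 g.1) a ⟨g.1 ^ j, hb⟩ (fun x => pow_not_mem_of_not_mem x.2 j)

theorem tilde_localizing_surj (n : ℤ) {d : ℕ} (hd : 0 < d) (g : 𝒜 d) {i : ℕ} (a : 𝒜 i) (j : ℕ)
    (hb : g.1 ^ j ∈ 𝒜 i)
    (s : Γ(GrMod.tilde 𝒜 ℳ n, (Proj 𝒜).basicOpen (phiO 𝒜 g a j hb))) :
    ∃ (k : ℕ) (m' : Γ(GrMod.tilde 𝒜 ℳ n, Proj.basicOpen 𝒜 g.1)),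
      (rres (Proj 𝒜) ((Proj 𝒜).basicOpen_le (phiO 𝒜 g a j hb)) (phiO 𝒜 g a j hb)) ^ k • s =
        QCoh.res (GrMod.tilde 𝒜 ℳ n) ((Proj 𝒜).basicOpen_le (phiO 𝒜 g a j hb)) m' := by
  have hW : (Proj 𝒜).basicOpen (phiO 𝒜 g a j hb) = Proj.basicOpen 𝒜 (g.1 * a.1) := by
    rw [basicOpen_mkO, Proj.basicOpen_mul]
  by_cases hg0 : g.1 ^ j = 0
  · refine ⟨0, 0, gfun_ext 𝒜 ℳ _ _ fun x => ?_⟩
    exfalso
    have hx : x.1 ∈ Proj.basicOpen 𝒜 g.1 := (Proj 𝒜).basicOpen_le _ x.2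
    have h0 : g.1 ^ j ∈ x.1.asHomogeneousIdeal.toIdeal := by
      have h00 := Ideal.zero_mem x.1.asHomogeneousIdeal.toIdeal
      rwa [← hg0] at h00
    exact hx (x.1.isPrime.mem_of_pow_mem j h0)
  · have hij : i = j • d :=
      DirectSum.degree_eq_of_mem_mem 𝒜 hb (SetLike.pow_mem_graded j g.2) hg0
    have hdi : 0 < d + i := by omega
    obtain ⟨k, i₂, μ, hdeg, hval⟩ := exists_gfun_eq_mk_basicOpen 𝒜 ℳ n hdi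
      (⟨g.1 * a.1, SetLike.mul_mem_graded g.2 a.2⟩ : 𝒜 (d + i))
      (QCoh.res (GrMod.tilde 𝒜 ℳ n) hW.ge s)
    have hdeg' : (i₂ : ℤ) = ((j * k + k) • d : ℕ) + n := by
      rw [hdeg, hij]
      push_cast [smul_eq_mul]
      ring
    refine ⟨k, mkG 𝒜 ℳ n (Proj.basicOpen 𝒜 g.1) μ
      ⟨g.1 ^ (j * k + k), SetLike.pow_mem_graded _ g.2⟩
      (fun x => pow_not_mem_of_not_mem x.2 _) hdeg', gfun_ext 𝒜 ℳ _ _ fun x => ?_⟩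
    have hxh : x.1 ∈ Proj.basicOpen 𝒜 (g.1 * a.1) := hW.le x.2
    have hsx : gfun 𝒜 ℳ s x =
        gfun 𝒜 ℳ (QCoh.res (GrMod.tilde 𝒜 ℳ n) hW.ge s) ⟨x.1, hxh⟩ := rfl
    rw [gfun_pow_smul, gfun_res, gfun_mkG, hsx, hval ⟨x.1, hxh⟩, ofun_res, ofun_mkO,
      Localization.mk_pow, LocalizedModule.mk_smul_mk, LocalizedModule.mk_eq]
    refine ⟨1, ?_⟩
    simp only [one_smul, Submonoid.smul_def, Submonoid.coe_mul, SubmonoidClass.coe_pow,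
      smul_smul]
    congr 1
    ring

theorem tilde_localizing_inj (n : ℤ) {d : ℕ} (hd : 0 < d) (g : 𝒜 d) {i : ℕ} (a : 𝒜 i) (j : ℕ)
    (hb : g.1 ^ j ∈ 𝒜 i) (m₀ : Γ(GrMod.tilde 𝒜 ℳ n, Proj.basicOpen 𝒜 g.1))
    (hm₀ : QCoh.res (GrMod.tilde 𝒜 ℳ n) ((Proj 𝒜).basicOpen_le
      (phiO 𝒜 g a j hb)) m₀ = 0) :
    ∃ N : ℕ, (phiO 𝒜 g a j hb) ^ N • m₀ = 0 := by
  have hW : (Proj 𝒜).basicOpen (phiO 𝒜 g a j hb) = Proj.basicOpen 𝒜 (g.1 * a.1) := by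
    rw [basicOpen_mkO, Proj.basicOpen_mul]
  obtain ⟨k, i₂, μ, hdeg, hval⟩ := exists_gfun_eq_mk_basicOpen 𝒜 ℳ n hd g m₀
  have hdi : 0 < d + i := by omega
  obtain ⟨N, hN⟩ := exists_pow_smul_eq_zero_of_mk_eq_zero 𝒜 ℳ hdi
    (⟨g.1 * a.1, SetLike.mul_mem_graded g.2 a.2⟩ : 𝒜 (d + i)) μ (by
      intro x
      have hxW : x.1 ∈ (Proj 𝒜).basicOpen (phiO 𝒜 g a j hb) := hW.ge x.2
      have hxg : x.1 ∈ Proj.basicOpen 𝒜 g.1 := (Proj 𝒜).basicOpen_le _ hxW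
      have h0 := congrArg (fun σ => gfun 𝒜 ℳ σ ⟨x.1, hxW⟩) hm₀
      simp only [gfun_res, gfun_zero] at h0
      rw [hval ⟨x.1, hxg⟩, locMod_mk_eq_zero_iff] at h0
      exact h0)
  refine ⟨N, gfun_ext 𝒜 ℳ _ _ fun x => ?_⟩
  rw [gfun_pow_smul, gfun_zero, hval x, ofun_mkO, Localization.mk_pow,
    LocalizedModule.mk_smul_mk, locMod_mk_eq_zero_iff]
  refine ⟨⟨g.1 ^ N, pow_not_mem_of_not_mem x.2 N⟩, ?_⟩
  change g.1 ^ N • (a.1 ^ N • μ.1) = 0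
  rw [smul_smul, ← mul_pow]
  exact hN

omit [DirectSum.Decomposition ℳ] [SetLike.GradedSMul 𝒜 ℳ] in
theorem exists_pos_mem_basicOpen (x : Proj 𝒜) :
    ∃ (m : ℕ) (_ : 0 < m) (f : 𝒜 m), x ∈ Proj.basicOpen 𝒜 f.1 := by
  obtain ⟨d, hd, g, hg, hgx⟩ := TildeExact.exists_pos_notMem (𝒜 := 𝒜) x
  exact ⟨d, hd, ⟨g, hg⟩, hgx⟩

/-- **`M(n)~` is quasi-coherent.** -/
theorem tilde_isQuasicoherent (n : ℤ) : (GrMod.tilde 𝒜 ℳ n).IsQuasicoherent := by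
  let ι : Type u := {p : Σ m : ℕ, 𝒜 m // 0 < p.1}
  refine isQuasicoherent_of_localizing (GrMod.tilde 𝒜 ℳ n)
    (fun p : ι => Proj.basicOpen 𝒜 p.1.2.1) ?_ (fun p => Proj.isAffineOpen_basicOpen 𝒜 _ p.1.2.2 p.2)
    ?_ ?_
  · rw [IsOpenCover, eq_top_iff]
    intro x _
    obtain ⟨m, hm, g, hx⟩ := exists_pos_mem_basicOpen 𝒜 x
    exact Opens.mem_iSup.mpr ⟨⟨⟨m, g⟩, hm⟩, hx⟩
  · rintro ⟨⟨d, g⟩, hd⟩ φ s
    change 0 < d at hd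
    change Γ(Proj 𝒜, Proj.basicOpen 𝒜 g.1) at φ
    obtain ⟨i, a, j, hb, rfl⟩ := exists_eq_mkO 𝒜 hd g φ
    exact tilde_localizing_surj 𝒜 ℳ n hd g a j hb s
  · rintro ⟨⟨d, g⟩, hd⟩ φ m₀ hm₀
    change 0 < d at hd
    change Γ(Proj 𝒜, Proj.basicOpen 𝒜 g.1) at φ
    obtain ⟨i, a, j, hb, rfl⟩ := exists_eq_mkO 𝒜 hd g φ
    exact tilde_localizing_inj 𝒜 ℳ n hd g a j hb m₀ hm₀


end G3

end Groth.Agent.Lib.Helper3.TildeQC
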