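import Groth.Agent.Lib.Helper3.TildeQC
/-!
# Sections `toSpecZero.appTop r` of `Proj` as functions into the homogeneous localizations
-/
set_option autoImplicit false
set_option linter.unusedSectionVars false
universe u
open CategoryTheory CategoryTheory.Limits AlgebraicGeometry Opposite TopologicalSpace DirectSum

namespace Groth.Agent.Lib.Helper3.TildeQC

section ToSpecZero
variable {A σ : Type u} [CommRing A] [SetLike σ A] [AddSubgroupClass σ A] (𝒜 : ℕ → σ) [GradedRing 𝒜]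

theorem toSpecZero_appTop_res {m : ℕ} (f : A) (f_deg : f ∈ 𝒜 m) (hm : 0 < m) :
    (Scheme.ΓSpecIso (CommRingCat.of (𝒜 0))).inv ≫ (Proj.toSpecZero 𝒜).appTop ≫
      (Proj 𝒜).presheaf.map (homOfLE (le_top : Proj.basicOpen 𝒜 f ≤ ⊤)).op =
    CommRingCat.ofHom (HomogeneousLocalization.fromZeroRingHom 𝒜 _) ≫ Proj.awayToSection 𝒜 f := by
  have h := Proj.awayι_toSpecZero 𝒜 f f_deg hm
  rw [Proj.awayι, Category.assoc, Iso.inv_comp_eq, Proj.basicOpenIsoSpec_hom, Proj.basicOpenToSpec] at h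
  have h2 := congrArg Scheme.Hom.appTop h
  simp only [Scheme.Hom.comp_appTop, Scheme.Opens.toSpecΓ_appTop] at h2
  have h3 : (Proj 𝒜).presheaf.map (homOfLE (le_top : Proj.basicOpen 𝒜 f ≤ ⊤)).op =
      (Proj.basicOpen 𝒜 f).ι.appTop ≫ (Proj.basicOpen 𝒜 f).topIso.hom := by
    rw [Scheme.Opens.ι_appTop, Scheme.Opens.topIso]
    simp only [Functor.mapIso_hom, Iso.op_hom, eqToIso.hom]
    rfl
  rw [h3, reassoc_of% h2]
  simp only [Iso.inv_hom_id, Category.comp_id]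
  rw [← Scheme.ΓSpecIso_inv_naturality_assoc, ← Scheme.ΓSpecIso_inv_naturality_assoc,
    Iso.inv_hom_id, Category.comp_id]

/-- The structure map `Proj 𝒜 ⟶ Spec 𝒜₀` sends `a` to the constant function `a / 1`. -/
theorem ofun_toSpecZero_appTop (a : 𝒜 0) (x : (⊤ : (Proj 𝒜).Opens)) :
    ofun 𝒜 ((Proj.toSpecZero 𝒜).appTop.hom
      ((Scheme.ΓSpecIso (CommRingCat.of (𝒜 0))).inv.hom a)) x =
      Localization.mk a.1 ⟨1, one_not_mem x.1⟩ := by
  obtain ⟨m, hm, f, hx⟩ := exists_pos_mem_basicOpen 𝒜 x.1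
  have h := toSpecZero_appTop_res 𝒜 f.1 f.2 hm
  have h2 := congrArg (fun φ => φ.hom a) h
  simp only [CommRingCat.hom_comp, RingHom.coe_comp, Function.comp_apply, CommRingCat.hom_ofHom] at h2
  have h3 : ofun 𝒜 ((Proj.toSpecZero 𝒜).appTop.hom
      ((Scheme.ΓSpecIso (CommRingCat.of (𝒜 0))).inv.hom a)) x =
      ofun 𝒜 (((Proj 𝒜).presheaf.map (homOfLE (le_top : Proj.basicOpen 𝒜 f.1 ≤ ⊤)).op).hom
        ((Proj.toSpecZero 𝒜).appTop.hom
      ((Scheme.ΓSpecIso (CommRingCat.of (𝒜 0))).inv.hom a))) ⟨x.1, hx⟩ := rfl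
  rw [h3, h2]
  rfl

end ToSpecZero

end Groth.Agent.Lib.Helper3.TildeQC
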