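import Groth.Agent.Lib.Helper21.TorBridge
import Groth.Agent.Lib.Helper3.DeltaNat

/-!
# Relative `Tor₁`-vanishing

If a morphism of short exact sequences `(X₁ → X₂ → X₃) ⟶ (Y₁ → Y₂ → Y₃)` of modules induces the
zero map `Tor₁(X₃, S) → Tor₁(Y₃, S)`, then `X₁ ⊗ S → Y₁ ⊗ S` kills `ker (X₁ ⊗ S → X₂ ⊗ S)`.
-/

set_option autoImplicit false
universe u

open CategoryTheory MonoidalCategory Limits

namespace Groth.Agent.Lib.Helper3.TorRel

open Groth.Agent.Lib.Helper4 Groth.Agent.Lib.Helper21 Groth.Agent.Lib.Helper3.DeltaNat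

variable {R : Type u} [CommRing R]

/-- The morphism of short complexes of complexes `T₁ ⊗ Q ⟶ T₂ ⊗ Q`. -/
noncomputable def tensorSCMap {T₁ T₂ : ShortComplex (ModuleCat.{u} R)} (φ : T₁ ⟶ T₂)
    (Q : ChainComplex (ModuleCat.{u} R) ℕ) : tensorSC T₁ Q ⟶ tensorSC T₂ Q where
  τ₁ := (NatTrans.mapHomologicalComplex ((tensoringLeft (ModuleCat.{u} R)).map φ.τ₁)
      (ComplexShape.down ℕ)).app Q
  τ₂ := (NatTrans.mapHomologicalComplex ((tensoringLeft (ModuleCat.{u} R)).map φ.τ₂)
      (ComplexShape.down ℕ)).app Q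
  τ₃ := (NatTrans.mapHomologicalComplex ((tensoringLeft (ModuleCat.{u} R)).map φ.τ₃)
      (ComplexShape.down ℕ)).app Q
  comm₁₂ := by
    ext n : 1
    simp only [tensorSC, HomologicalComplex.comp_f, NatTrans.mapHomologicalComplex_app_f]
    change φ.τ₁ ▷ Q.X n ≫ T₂.f ▷ Q.X n = T₁.f ▷ Q.X n ≫ φ.τ₂ ▷ Q.X n
    rw [← MonoidalCategory.comp_whiskerRight, ← MonoidalCategory.comp_whiskerRight, φ.comm₁₂]
  comm₂₃ := by
    ext n : 1
    simp only [tensorSC, HomologicalComplex.comp_f, NatTrans.mapHomologicalComplex_app_f]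
    change φ.τ₂ ▷ Q.X n ≫ T₂.g ▷ Q.X n = T₁.g ▷ Q.X n ≫ φ.τ₃ ▷ Q.X n
    rw [← MonoidalCategory.comp_whiskerRight, ← MonoidalCategory.comp_whiskerRight, φ.comm₂₃]

theorem homologyMap_eq_zero_of_tor_map_eq_zero {X Y : ModuleCat.{u} R} (f : X ⟶ Y)
    (S : ModuleCat.{u} R) (n : ℕ)
    (h : ((Tor (ModuleCat.{u} R) n).map f).app S = 0) :
    HomologicalComplex.homologyMap
      ((NatTrans.mapHomologicalComplex ((tensoringLeft (ModuleCat.{u} R)).map f)
        (ComplexShape.down ℕ)).app (projectiveResolution S).complex) n = 0 := by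
  have h1 := ProjectiveResolution.leftDerived_app_eq ((tensoringLeft (ModuleCat.{u} R)).map f)
    (projectiveResolution S) n
  replace h : (NatTrans.leftDerived ((tensoringLeft (ModuleCat.{u} R)).map f) n).app S = 0 := h
  rw [h1] at h
  have h3 := congrArg (fun t => ((projectiveResolution S).isoLeftDerivedObj
    ((tensoringLeft (ModuleCat.{u} R)).obj X) n).inv ≫ t ≫ ((projectiveResolution S).isoLeftDerivedObj
    ((tensoringLeft (ModuleCat.{u} R)).obj Y) n).hom) h
  simp only [Category.assoc, Iso.inv_hom_id, Category.comp_id, Iso.inv_hom_id_assoc] at h3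
  rw [zero_comp, comp_zero] at h3
  exact h3

theorem rTensor_eq_zero_of_tor_map_eq_zero (T₁ T₂ : ShortComplex (ModuleCat.{u} R))
    (hT₁ : T₁.ShortExact) (hT₂ : T₂.ShortExact) (φ : T₁ ⟶ T₂) (S : ModuleCat.{u} R)
    (h : ((Tor (ModuleCat.{u} R) 1).map φ.τ₃).app S = 0)
    (z : TensorProduct R T₁.X₁ S) (hz : T₁.f.hom.rTensor S z = 0) :
    φ.τ₁.hom.rTensor S z = 0 := by
  set Q := projectiveResolution S with hQ
  have hS₁ := tensorSC_shortExact T₁ hT₁ Q.complex (fun n => Q.projective n)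
  have hS₂ := tensorSC_shortExact T₂ hT₂ Q.complex (fun n => Q.projective n)
  have hnat := δ_naturality (tensorSCMap φ Q.complex) hS₁ hS₂ 1 0 (by simp)
  have hzero : HomologicalComplex.homologyMap (tensorSCMap φ Q.complex).τ₃ 1 = 0 :=
    homologyMap_eq_zero_of_tor_map_eq_zero φ.τ₃ S 1 h
  rw [hzero, zero_comp] at hnat
  have hex := hS₁.homology_exact₁ 1 0 (by simp)
  -- transport `z` to `H₀`
  have hsq₁ := h0Iso_naturality T₁.f Q
  have hsq₂ := h0Iso_naturality φ.τ₁ Q
  set z' := (h0Iso Q T₁.X₁).inv z with hz'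
  have hz1 : (h0Iso Q T₁.X₁).hom z' = z := by
    rw [hz']
    exact congrArg (fun t => t.hom z) (h0Iso Q T₁.X₁).inv_hom_id
  have hz2 : HomologicalComplex.homologyMap (tensorSC T₁ Q.complex).f 0 z' = 0 := by
    have : (h0Iso Q T₁.X₂).hom (HomologicalComplex.homologyMap (tensorSC T₁ Q.complex).f 0 z') = 0 := by
      have := congrArg (fun t => t.hom z') hsq₁
      simp only [ModuleCat.hom_comp, LinearMap.comp_apply] at this
      rw [hz1] at this
      refine this.trans ?_
      exact hz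
    have hinj : Function.Injective (h0Iso Q T₁.X₂).hom :=
      (ModuleCat.mono_iff_injective _).1 inferInstance
    exact hinj (this.trans (map_zero (h0Iso Q T₁.X₂).hom.hom).symm)
  rw [ShortComplex.moduleCat_exact_iff] at hex
  obtain ⟨t, ht⟩ := hex z' hz2
  have hz3 : HomologicalComplex.homologyMap (tensorSCMap φ Q.complex).τ₁ 0 z' = 0 := by
    rw [← ht]
    exact congrArg (fun t' => t'.hom t) hnat
  have := congrArg (fun t => t.hom z') hsq₂
  simp only [ModuleCat.hom_comp, LinearMap.comp_apply] at this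
  rw [hz1] at this
  refine this.symm.trans ?_
  change (h0Iso Q T₂.X₁).hom (HomologicalComplex.homologyMap (tensorSCMap φ Q.complex).τ₁ 0 z') = 0
  exact (congrArg (h0Iso Q T₂.X₁).hom hz3).trans (map_zero (h0Iso Q T₂.X₁).hom.hom)

end Groth.Agent.Lib.Helper3.TorRel
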