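import Groth.Agent.Lib.Helper3.ChartInv
import Groth.Agent.Lib.Helper29.ProjAmple2
/-!
# `O(1)` is ample on `Proj A` for `A` generated in degree one (additive-subgroup gradings)
-/
set_option autoImplicit false
set_option linter.unusedSectionVars false
universe u
open CategoryTheory CategoryTheory.Limits AlgebraicGeometry Opposite TopologicalSpace DirectSum
open Groth.Agent.Lib.Helper29
open Groth.Agent.Lib.Helper29.QCoh (homOfSection sval_homOfSection le_genLocus_of_isTriv_sval isTriv_sval_of_le_genLocus genLocus_comp_iso tensorPowOne IsTriv)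

namespace Groth.Agent.Lib.Helper3.TwistAmple
open Groth.Agent.Lib.Helper3.TildeQC Groth.Agent.Lib.Helper3.TwistTriv

section
variable {A σ : Type u} [CommRing A] [SetLike σ A] [AddSubgroupClass σ A] (𝒜 : ℕ → σ) [GradedRing 𝒜]

/-- The global section `f / 1` of `O(1)`. -/
def gSec1 (f : 𝒜 1) : Γ(GrTwist.twist 𝒜 1, ⊤) :=
  mkSec 𝒜 1 ⊤ f (⟨1, SetLike.GradedOne.one_mem⟩ : 𝒜 0) (fun x => one_not_mem x.1) (by simp)

theorem tfun_gSec1 (f : 𝒜 1) (x : (⊤ : (Proj 𝒜).Opens)) :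
    tfun 𝒜 (gSec1 𝒜 f) x = Localization.mk f.1 ⟨1, one_not_mem x.1⟩ := rfl

theorem res_gSec1 (f : 𝒜 1) (U : (Proj 𝒜).Opens) (hU : U ≤ Proj.basicOpen 𝒜 f.1) :
    QCoh.res (GrTwist.twist 𝒜 1) le_top (gSec1 𝒜 f) = eSec 1 f 1 0 (by simp) U hU := by
  apply tfun_ext
  intro x
  rw [tfun_res, tfun_eSec]
  change Localization.mk f.1 _ = _
  apply mk_eq_mk_of_mul_eq
  simp

theorem basicOpen_le_genLocus (f : 𝒜 1) :
    Proj.basicOpen 𝒜 f.1 ≤
      CohB1.genLocus (GrTwist.twist 𝒜 1) (homOfSection _ (gSec1 𝒜 f)) := by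
  apply le_genLocus_of_isTriv_sval
  rw [sval_homOfSection, res_gSec1 𝒜 f _ le_rfl]
  exact isTriv_eSec 1 f 1 0 _ _ le_rfl

theorem mem_genLocus_gSec1_iff (f : 𝒜 1) (x : Proj 𝒜) (g : 𝒜 1)
    (hg : x ∈ Proj.basicOpen 𝒜 g.1) :
    x ∈ CohB1.genLocus (GrTwist.twist 𝒜 1) (homOfSection _ (gSec1 𝒜 f)) ↔
      x ∈ Proj.basicOpen 𝒜 f.1 := by
  have hm' : (1 : ℤ) = (((1 : ℕ) : ℤ) - (0 : ℕ)) * (1 : ℕ) := by simp
  constructor
  · intro hx
    by_contra hxf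
    have hfx : f.1 ∈ x.asHomogeneousIdeal := by
      by_contra h; exact hxf h
    have hT1 := isTriv_sval_of_le_genLocus (homOfSection _ (gSec1 𝒜 f))
      (inf_le_left : CohB1.genLocus (GrTwist.twist 𝒜 1) (homOfSection _ (gSec1 𝒜 f)) ⊓
        Proj.basicOpen 𝒜 g.1 ≤ _)
    obtain ⟨b, hb⟩ := hT1.exists_eq_smul (eSec 1 g 1 0 hm' _ inf_le_right)
    rw [sval_homOfSection] at hb
    have hxU : x ∈ CohB1.genLocus (GrTwist.twist 𝒜 1) (homOfSection _ (gSec1 𝒜 f)) ⊓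
        Proj.basicOpen 𝒜 g.1 := ⟨hx, hg⟩
    have h1 := congrArg (fun σ' => tfun 𝒜 σ' ⟨x, hxU⟩) hb
    simp only [tfun_smul, tfun_eSec, tfun_res] at h1
    have h2 : tfun 𝒜 (gSec1 𝒜 f) ⟨x, trivial⟩ =
        Localization.mk f.1 ⟨1, one_not_mem x⟩ := rfl
    have hu : IsUnit (Localization.mk (g.1 ^ 1) ⟨g.1 ^ 0, pow_not_mem_of_not_mem hg 0⟩ :
        GrTwist.Loc 𝒜 x) :=
      (isUnit_mk_iff x _ _ _).mpr (pow_not_mem_of_not_mem hg 1)
    rw [h1] at hu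
    have hu2 := isUnit_of_mul_isUnit_right hu
    erw [h2, isUnit_mk_iff] at hu2
    exact hu2 hfx
  · intro hx
    exact basicOpen_le_genLocus 𝒜 f hx

theorem genLocus_gSec1 (hgen : Subring.closure ((𝒜 0 : Set A) ∪ (𝒜 1 : Set A)) = ⊤) (f : 𝒜 1) :
    CohB1.genLocus (GrTwist.twist 𝒜 1) (homOfSection _ (gSec1 𝒜 f)) = Proj.basicOpen 𝒜 f.1 := by
  ext x
  obtain ⟨g, hg⟩ := ChartInv.exists_deg_one_notMem 𝒜 hgen x
  exact mem_genLocus_gSec1_iff 𝒜 f x g hg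

/-- `O(1)` is ample on a quasi-compact `Proj A`, `A` generated by `A₀` and `A₁`. -/
theorem isAmple_twist_one (hgen : Subring.closure ((𝒜 0 : Set A) ∪ (𝒜 1 : Set A)) = ⊤)
    [CompactSpace (Proj 𝒜)] : CohB1.IsAmple (GrTwist.twist 𝒜 1) := by
  refine ⟨ChartInv.twist_isInvertible 𝒜 hgen 1, inferInstance, fun x => ?_⟩
  obtain ⟨g, hg⟩ := ChartInv.exists_deg_one_notMem 𝒜 hgen x
  have hg2 := genLocus_comp_iso (homOfSection _ (gSec1 𝒜 g))
    (tensorPowOne (GrTwist.twist 𝒜 1)).symm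
  refine ⟨0, homOfSection _ (gSec1 𝒜 g) ≫ (tensorPowOne _).inv, ?_, ?_⟩
  · erw [hg2, genLocus_gSec1 𝒜 hgen g]; exact hg
  · erw [hg2, genLocus_gSec1 𝒜 hgen g]
    exact Proj.isAffineOpen_basicOpen 𝒜 g.1 g.2 one_pos

/-- `Proj A` is quasi-compact when `A₁` is finitely generated and generates `A` over `A₀`. -/
theorem compactSpace_proj (hgen : Subring.closure ((𝒜 0 : Set A) ∪ (𝒜 1 : Set A)) = ⊤)
    (T' : Finset A) (hT' : (T' : Set A) ⊆ (𝒜 1 : Set A))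
    (hspan : ∀ x ∈ 𝒜 1, x ∈ Ideal.span (T' : Set A)) : CompactSpace (Proj 𝒜) := by
  rw [← isCompact_univ_iff]
  have hcov : (Set.univ : Set (Proj 𝒜)) = ⋃ t ∈ T', ((Proj.basicOpen 𝒜 t : (Proj 𝒜).Opens) : Set (Proj 𝒜)) := by
    apply Set.eq_of_subset_of_subset
    · intro x _
      obtain ⟨g, hg⟩ := ChartInv.exists_deg_one_notMem 𝒜 hgen x
      by_contra hcon
      simp only [Set.mem_iUnion, not_exists] at hcon
      apply hg
      have hle : Ideal.span (T' : Set A) ≤ x.asHomogeneousIdeal.toIdeal := by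
        rw [Ideal.span_le]
        intro t ht
        by_contra htx
        exact hcon t ht htx
      exact hle (hspan g.1 g.2)
    · exact Set.subset_univ _
  rw [hcov]
  apply T'.finite_toSet.isCompact_biUnion
  intro t ht
  exact (Proj.isAffineOpen_basicOpen 𝒜 t (hT' ht) one_pos).isCompact

end

end Groth.Agent.Lib.Helper3.TwistAmple
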