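import Groth.Agent.Lib.Helper3.TwistAmple
/-!
# `O(d)` is ample on a quasi-compact `Proj A` with period `d` (additive-subgroup gradings)
-/
set_option autoImplicit false
set_option linter.unusedSectionVars false
universe u
open CategoryTheory CategoryTheory.Limits AlgebraicGeometry Opposite TopologicalSpace DirectSum
open Groth.Agent.Lib.Helper29
open Groth.Agent.Lib.Helper29.QCoh (homOfSection sval_homOfSection le_genLocus_of_isTriv_sval isTriv_sval_of_le_genLocus genLocus_comp_iso tensorPowOne IsTriv)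

namespace Groth.Agent.Lib.Helper3.TwistAmple
open Groth.Agent.Lib.Helper3.TildeQC Groth.Agent.Lib.Helper3.TwistTriv

section
variable {A σ : Type u} [CommRing A] [SetLike σ A] [AddSubgroupClass σ A] (𝒜 : ℕ → σ) [GradedRing 𝒜]

/-- The global section `f / 1` of `O(d)`, `f` of degree `d`. -/
def gSecD {d : ℕ} (f : 𝒜 d) : Γ(GrTwist.twist 𝒜 (d : ℤ), ⊤) :=
  mkSec 𝒜 (d : ℤ) ⊤ f (⟨1, SetLike.GradedOne.one_mem⟩ : 𝒜 0) (fun x => one_not_mem x.1) (by simp)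

theorem hD (d : ℕ) : (d : ℤ) = (((1 : ℕ) : ℤ) - (0 : ℕ)) * (d : ℕ) := by simp

theorem res_gSecD {d : ℕ} (f : 𝒜 d) (U : (Proj 𝒜).Opens) (hU : U ≤ Proj.basicOpen 𝒜 f.1) :
    QCoh.res (GrTwist.twist 𝒜 (d : ℤ)) le_top (gSecD 𝒜 f) = eSec (d : ℤ) f 1 0 (hD d) U hU := by
  apply tfun_ext
  intro x
  rw [tfun_res, tfun_eSec]
  change Localization.mk f.1 _ = _
  apply mk_eq_mk_of_mul_eq
  simp

theorem basicOpen_le_genLocusD {d : ℕ} (f : 𝒜 d) :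
    Proj.basicOpen 𝒜 f.1 ≤
      CohB1.genLocus (GrTwist.twist 𝒜 (d : ℤ)) (homOfSection _ (gSecD 𝒜 f)) := by
  apply le_genLocus_of_isTriv_sval
  rw [sval_homOfSection, res_gSecD 𝒜 f _ le_rfl]
  exact isTriv_eSec (d : ℤ) f 1 0 _ _ le_rfl

theorem mem_genLocus_gSecD_iff {d : ℕ} (hd : 0 < d) (f : 𝒜 d) (x : Proj 𝒜) (g : 𝒜 d)
    (hg : x ∈ Proj.basicOpen 𝒜 g.1) :
    x ∈ CohB1.genLocus (GrTwist.twist 𝒜 (d : ℤ)) (homOfSection _ (gSecD 𝒜 f)) ↔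
      x ∈ Proj.basicOpen 𝒜 f.1 := by
  constructor
  · intro hx
    by_contra hxf
    have hfx : f.1 ∈ x.asHomogeneousIdeal := by
      by_contra h; exact hxf h
    have hT1 := isTriv_sval_of_le_genLocus (homOfSection _ (gSecD 𝒜 f))
      (inf_le_left : CohB1.genLocus (GrTwist.twist 𝒜 (d : ℤ)) (homOfSection _ (gSecD 𝒜 f)) ⊓
        Proj.basicOpen 𝒜 g.1 ≤ _)
    obtain ⟨b, hb⟩ := hT1.exists_eq_smul (eSec (d : ℤ) g 1 0 (hD d) _ inf_le_right)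
    rw [sval_homOfSection] at hb
    have hxU : x ∈ CohB1.genLocus (GrTwist.twist 𝒜 (d : ℤ)) (homOfSection _ (gSecD 𝒜 f)) ⊓
        Proj.basicOpen 𝒜 g.1 := ⟨hx, hg⟩
    have h1 := congrArg (fun σ' => tfun 𝒜 σ' ⟨x, hxU⟩) hb
    simp only [tfun_smul, tfun_eSec, tfun_res] at h1
    have h2 : tfun 𝒜 (gSecD 𝒜 f) ⟨x, trivial⟩ =
        Localization.mk f.1 ⟨1, one_not_mem x⟩ := rfl
    have hu : IsUnit (Localization.mk (g.1 ^ 1) ⟨g.1 ^ 0, pow_not_mem_of_not_mem hg 0⟩ :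
        GrTwist.Loc 𝒜 x) :=
      (isUnit_mk_iff x _ _ _).mpr (pow_not_mem_of_not_mem hg 1)
    rw [h1] at hu
    have hu2 := isUnit_of_mul_isUnit_right hu
    erw [h2, isUnit_mk_iff] at hu2
    exact hu2 hfx
  · intro hx
    exact basicOpen_le_genLocusD 𝒜 f hx

theorem genLocus_gSecD {d : ℕ} (hd : 0 < d)
    (hcov : ∀ y : Proj 𝒜, ∃ g : 𝒜 d, y ∈ Proj.basicOpen 𝒜 g.1) (f : 𝒜 d) :
    CohB1.genLocus (GrTwist.twist 𝒜 (d : ℤ)) (homOfSection _ (gSecD 𝒜 f)) =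
      Proj.basicOpen 𝒜 f.1 := by
  ext x
  obtain ⟨g, hg⟩ := hcov x
  exact mem_genLocus_gSecD_iff 𝒜 hd f x g hg

theorem twist_isInvertible_of_period {d : ℕ}
    (hcov : ∀ y : Proj 𝒜, ∃ g : 𝒜 d, y ∈ Proj.basicOpen 𝒜 g.1) :
    PicF.IsInvertible (GrTwist.twist 𝒜 (d : ℤ)) := by
  refine QCoh.isInvertible_of_isTriv' fun x => ?_
  obtain ⟨f, hf⟩ := hcov x
  exact ⟨Proj.basicOpen 𝒜 f.1, _, hf, TwistTriv.isTriv_eSec (d : ℤ) f 1 0 (hD d) _ le_rfl⟩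

/-- `O(d)` is ample on a quasi-compact `Proj A` covered by the `D_+(g)`, `g` of degree `d > 0`. -/
theorem isAmple_twist_of_period {d : ℕ} (hd : 0 < d)
    (hcov : ∀ y : Proj 𝒜, ∃ g : 𝒜 d, y ∈ Proj.basicOpen 𝒜 g.1)
    [CompactSpace (Proj 𝒜)] : CohB1.IsAmple (GrTwist.twist 𝒜 (d : ℤ)) := by
  refine ⟨twist_isInvertible_of_period 𝒜 hcov, inferInstance, fun x => ?_⟩
  obtain ⟨g, hg⟩ := hcov x
  have hg2 := genLocus_comp_iso (homOfSection _ (gSecD 𝒜 g))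
    (tensorPowOne (GrTwist.twist 𝒜 (d : ℤ))).symm
  refine ⟨0, homOfSection _ (gSecD 𝒜 g) ≫ (tensorPowOne _).inv, ?_, ?_⟩
  · erw [hg2, genLocus_gSecD 𝒜 hd hcov g]; exact hg
  · erw [hg2, genLocus_gSecD 𝒜 hd hcov g]
    exact Proj.isAffineOpen_basicOpen 𝒜 g.1 g.2 hd

/-- multiples of a period are periods -/
theorem period_mul {d : ℕ} (hcov : ∀ y : Proj 𝒜, ∃ g : 𝒜 d, y ∈ Proj.basicOpen 𝒜 g.1)
    (k : ℕ) (hk : 0 < k) : ∀ y : Proj 𝒜, ∃ g : 𝒜 (d * k), y ∈ Proj.basicOpen 𝒜 g.1 := by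
  intro y
  obtain ⟨g, hg⟩ := hcov y
  have hmem : g.1 ^ k ∈ 𝒜 (d * k) := by
    have := SetLike.pow_mem_graded k g.2
    rwa [smul_eq_mul, mul_comm] at this
  refine ⟨⟨_, hmem⟩, ?_⟩
  change y ∈ Proj.basicOpen 𝒜 (g.1 ^ k)
  rw [Proj.basicOpen_pow 𝒜 _ k hk]
  exact hg

end

end Groth.Agent.Lib.Helper3.TwistAmple
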