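import Groth.Agent.Lib.Helper3.TwistAmpleD
/-!
# `O(d)` restricted to a quasi-compact union of `D_+(g)`, `deg g = d`, is ample
-/
set_option autoImplicit false
set_option linter.unusedSectionVars false
universe u
open CategoryTheory CategoryTheory.Limits AlgebraicGeometry Opposite TopologicalSpace DirectSum
open Groth.Agent.Lib.Helper29
open Groth.Agent.Lib.Helper29.QCoh (homOfSection sval_homOfSection le_genLocus_of_isTriv_sval isTriv_sval_of_le_genLocus genLocus_comp_iso tensorPowOne IsTriv restrictHom genLocus_restrictHom')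

namespace Groth.Agent.Lib.Helper3.TwistAmple
open Groth.Agent.Lib.Helper3.TildeQC Groth.Agent.Lib.Helper3.TwistTriv

section
variable {A σ : Type u} [CommRing A] [SetLike σ A] [AddSubgroupClass σ A] (𝒜 : ℕ → σ) [GradedRing 𝒜]

/-- `O(d)` restricted to a quasi-compact open covered by `D_+(g)`'s, `g` of degree `d > 0`, is ample. -/
theorem isAmple_twist_restrict_of_period (Y : (Proj 𝒜).Opens)
    (hY : IsCompact (Y : Set (Proj 𝒜))) {d : ℕ} (hd : 0 < d)
    (hcov : ∀ y ∈ Y, ∃ g : 𝒜 d, y ∈ Proj.basicOpen 𝒜 g.1 ∧ Proj.basicOpen 𝒜 g.1 ≤ Y) :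
    CohB1.IsAmple ((GrTwist.twist 𝒜 (d : ℤ)).restrict Y.ι) := by
  refine ⟨?_, isCompact_iff_compactSpace.mp hY, fun x => ?_⟩
  · apply isInvertible_restrict_of_isTriv'
    intro x hx
    obtain ⟨g, hg, hgY⟩ := hcov x hx
    exact ⟨Proj.basicOpen 𝒜 g.1, eSec (d : ℤ) g 1 0 (hD d) _ le_rfl, hg, hgY,
      isTriv_eSec (d : ℤ) g 1 0 (hD d) _ le_rfl⟩
  · obtain ⟨g, hg, hgY⟩ := hcov x.1 x.2
    have hgl : CohB1.genLocus _ (restrictHom Y.ι (homOfSection (GrTwist.twist 𝒜 (d : ℤ)) (gSecD 𝒜 g))) =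
        Y.ι ⁻¹ᵁ Proj.basicOpen 𝒜 g.1 := by
      rw [genLocus_restrictHom']
      ext z
      change z.1 ∈ CohB1.genLocus _ (homOfSection (GrTwist.twist 𝒜 (d : ℤ)) (gSecD 𝒜 g)) ↔
        z.1 ∈ Proj.basicOpen 𝒜 g.1
      obtain ⟨g', hg', -⟩ := hcov z.1 z.2
      exact mem_genLocus_gSecD_iff 𝒜 hd g z.1 g' hg'
    have hg2 := genLocus_comp_iso
      (restrictHom Y.ι (homOfSection (GrTwist.twist 𝒜 (d : ℤ)) (gSecD 𝒜 g)))
      (tensorPowOne ((GrTwist.twist 𝒜 (d : ℤ)).restrict Y.ι)).symm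
    refine ⟨0, restrictHom Y.ι (homOfSection (GrTwist.twist 𝒜 (d : ℤ)) (gSecD 𝒜 g)) ≫
      (tensorPowOne _).inv, ?_, ?_⟩
    · erw [hg2, hgl]; exact hg
    · erw [hg2, hgl]
      apply (Proj.isAffineOpen_basicOpen 𝒜 g.1 g.2 hd).preimage_of_isOpenImmersion
      rw [Scheme.Opens.opensRange_ι]
      exact hgY

end

end Groth.Agent.Lib.Helper3.TwistAmple
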