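import Groth.Agent.Lib.Helper3.TwistBC
/-! # Twisting sheaves and base change: versions over opens equal to basic opens -/ 
set_option autoImplicit false
set_option linter.unusedSectionVars false
universe u
open CategoryTheory CategoryTheory.Limits AlgebraicGeometry Opposite TopologicalSpace
open HomogeneousLocalization TensorProduct DirectSum
open scoped HomogeneousIdeal
open Groth.Agent.Lib.Helper29 Groth.Agent.Lib.Helper29.QCoh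
open Groth.Agent.Lib.Helper3.TildeQC Groth.Agent.Lib.Helper3.TwistTriv

namespace Groth.Agent.Lib.Helper3.TwistBC

section W
variable {A σ : Type u} [CommRing A] [SetLike σ A] [AddSubgroupClass σ A]
  (𝒜 : ℕ → σ) [GradedRing 𝒜] {d : ℕ} (hd : 0 < d) {f : A} (hf : f ∈ 𝒜 d) (n : ℤ)

include hd in
theorem exists_eq_res_Lsec (W : (Proj 𝒜).Opens) (hW : W = Proj.basicOpen 𝒜 f)
    (s : Γ(GrTwist.twist 𝒜 n, W)) :
    ∃ k a, a ∈ 𝒜 (n0 n d + k * d) ∧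
      s = res (GrTwist.twist 𝒜 n) (le_of_eq hW) (Lsec 𝒜 hd hf n k a) := by
  subst hW
  obtain ⟨k, a, ha, rfl⟩ := exists_eq_Lsec 𝒜 hd hf n s
  exact ⟨k, a, ha, (res_self _ _).symm⟩

theorem exists_mul_pow_eq_zero_of_res (W : (Proj 𝒜).Opens) (hW : W = Proj.basicOpen 𝒜 f)
    (k : ℕ) (a : A) (ha : a ∈ 𝒜 (n0 n d + k * d))
    (h0 : res (GrTwist.twist 𝒜 n) (le_of_eq hW) (Lsec 𝒜 hd hf n k a) = 0) : ∃ m, a * f ^ m = 0 := by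
  subst hW
  rw [res_self] at h0
  exact exists_mul_pow_eq_zero 𝒜 hd hf n k a ha h0

end W

section Loc
variable {A B : Type u} [CommRing A] [CommRing B]
  {σ τ : Type u} [SetLike σ A] [AddSubgroupClass σ A] {𝒜 : ℕ → σ} [GradedRing 𝒜]
  [SetLike τ B] [AddSubgroupClass τ B] {ℬ : ℕ → τ} [GradedRing ℬ]
  (ψ : 𝒜 →+*ᵍ ℬ) (hirr : ℬ₊ ≤ (𝒜₊).map ψ)
  {d : ℕ} (hd : 0 < d) {f : A} (hf : f ∈ 𝒜 d) (n : ℤ)

theorem locMap_tfun_Lsec (k : ℕ) (a : A) (y : ProjectiveSpectrum ℬ)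
    (hy : y ∈ Proj.basicOpen ℬ (ψ f)) :
    GrTwist.locMap ψ hirr y (tfun 𝒜 (Lsec 𝒜 hd hf n k a) ⟨ProjectiveSpectrum.comap ψ hirr y, hy⟩) =
      tfun ℬ (Lsec ℬ hd (ψ.map_mem hf) n k (ψ a)) ⟨y, hy⟩ := by
  rw [tfun_Lsec, tfun_Lsec, GrTwist.locMap_mk]
  apply mk_eq_mk_of_mul_eq
  change (ψ f) ^ (k0 n + k) * ψ (decompose 𝒜 a (n0 n d + k * d) : A) =
    ψ (f ^ (k0 n + k)) * (decompose ℬ (ψ a) (n0 n d + k * d) : B)
  rw [GradedRingHom.map_directSumDecompose, map_pow]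

end Loc

section AbsW
variable {R R' A B : Type u} [CommRing R] [CommRing R'] [CommRing A] [CommRing B]
  [Algebra R R'] [Algebra R A] [Algebra R' B] [Algebra A B] [Algebra R B]
  [IsScalarTower R R' B] [IsScalarTower R A B] [Algebra.IsPushout R R' A B]
  {σ τ : Type u} [SetLike σ A] [AddSubgroupClass σ A] (𝒜 : ℕ → σ) [GradedRing 𝒜]
  [SetLike τ B] [AddSubgroupClass τ B] (ℬ : ℕ → τ) [GradedRing ℬ]
  (ρ₀ : R →+* 𝒜 0) (hρ₀ : ∀ r, (ρ₀ r : A) = algebraMap R A r)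
  (ρ₀' : R' →+* ℬ 0) (hρ₀' : ∀ r, (ρ₀' r : B) = algebraMap R' B r)
  (ψ : 𝒜 →+*ᵍ ℬ) (hψ : ∀ a, ψ a = algebraMap A B a)
  (hirr : ℬ₊ ≤ (𝒜₊).map ψ)
  {d : ℕ} (hd : 0 < d) {f : A} (hf : f ∈ 𝒜 d)

include hρ₀ hρ₀' hψ hd hf in
theorem isPushout_sectionsW (W : (Proj 𝒜).Opens) (hW : W = Proj.basicOpen 𝒜 f)
    (W' : (Proj ℬ).Opens) (hW' : W' = Proj.basicOpen ℬ (ψ f))
    (e : W' ≤ Proj.map ψ hirr ⁻¹ᵁ W) :
    IsPushout (CommRingCat.ofHom (algebraMap R R'))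
      (CommRingCat.ofHom (rhoS 𝒜 ρ₀ f) ≫ (Proj 𝒜).presheaf.map (homOfLE (le_of_eq hW)).op)
      (CommRingCat.ofHom (rhoS ℬ ρ₀' (ψ f)) ≫ (Proj ℬ).presheaf.map (homOfLE (le_of_eq hW')).op)
      ((Proj.map ψ hirr).appLE W W' e) := by
  subst hW hW'
  have h1 : (Proj 𝒜).presheaf.map (homOfLE (le_of_eq (rfl : Proj.basicOpen 𝒜 f = _))).op = 𝟙 _ :=
    (Proj 𝒜).presheaf.map_id _
  have h2 : (Proj ℬ).presheaf.map (homOfLE (le_of_eq (rfl : Proj.basicOpen ℬ (ψ f) = _))).op = 𝟙 _ :=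
    (Proj ℬ).presheaf.map_id _
  have h3 : CommRingCat.ofHom (rhoS 𝒜 ρ₀ f) ≫ 𝟙 Γ(Proj 𝒜, Proj.basicOpen 𝒜 f) =
      CommRingCat.ofHom (rhoS 𝒜 ρ₀ f) := Category.comp_id _
  have h4 : CommRingCat.ofHom (rhoS ℬ ρ₀' (ψ f)) ≫ 𝟙 Γ(Proj ℬ, Proj.basicOpen ℬ (ψ f)) =
      CommRingCat.ofHom (rhoS ℬ ρ₀' (ψ f)) := Category.comp_id _
  rw [h1, h2, h3, h4]
  exact isPushout_sections 𝒜 ℬ ρ₀ hρ₀ ρ₀' hρ₀' ψ hψ hirr hd hf

end AbsW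

end Groth.Agent.Lib.Helper3.TwistBC
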