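import Groth.Agent.Lib.Helper3.FTRed2
import Groth.Agent.Lib.Helper29.ProjF2
import Groth.Agent.Lib.Helper29.Sky
import Groth.Agent.Lib.Helper29.GStar7
/-!
# A module generated by its direct image is generated by a finite-type submodule of the direct image
-/
set_option autoImplicit false
set_option linter.unusedSectionVars false
universe u
open CategoryTheory CategoryTheory.Limits AlgebraicGeometry Opposite TopologicalSpace
open Groth.Agent.Lib.Helper29 Groth.Agent.Lib.Helper29.QCoh

namespace Groth.Agent.Lib.Helper3.TwistQuot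
open Groth.Agent.Lib.Helper3

variable {X Y : Scheme.{u}} (f : X ⟶ Y)

/-- near every point, finitely many sections of `f_* M` generate `M` over an affine open -/
theorem exists_local_gens (M : X.Modules) [M.IsQuasicoherent] [M.IsFiniteType]
    [((Scheme.Modules.pushforward f).obj M).IsQuasicoherent]
    [Epi ((Scheme.Modules.pullbackPushforwardAdjunction f).counit.app M)] (x : X) :
    ∃ (V : Y.Opens) (_ : IsAffineOpen V) (W : X.Opens) (_ : IsAffineOpen W) (hWV : W ≤ f ⁻¹ᵁ V)
      (T : Finset Γ(M, f ⁻¹ᵁ V)), x ∈ W ∧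
      Submodule.span Γ(X, W) ((fun h : Γ(M, f ⁻¹ᵁ V) => res M hWV h) '' (T : Set Γ(M, f ⁻¹ᵁ V))) = ⊤ := by
  classical
  obtain ⟨V, hV, hxV, -⟩ := exists_isAffineOpen_mem_and_subset (x := f x) (U := ⊤) trivial
  obtain ⟨W, hW, hxW, hWV⟩ := exists_isAffineOpen_mem_and_subset (x := x) (U := f ⁻¹ᵁ V) hxV
  set H := (Scheme.Modules.pushforward f).obj M with hH
  set ε := (Scheme.Modules.pullbackPushforwardAdjunction f).counit.app M with hε
  haveI : ((Scheme.Modules.pullback f).obj H).IsQuasicoherent := inferInstance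
  have hsurj : Function.Surjective (ε.app W) :=
    app_surjective_of_epi (M := (Scheme.Modules.pullback f).obj H) (N := M) ε hW
  have hspan := ProjF.span_pullSect_eq_top f H hV hW hWV
  let g : Γ(M, f ⁻¹ᵁ V) → Γ(M, W) := fun h => res M hWV h
  have key : ∀ t ∈ Submodule.span Γ(X, W) (Set.range fun s : Γ(H, V) =>
      res ((Scheme.Modules.pullback f).obj H) hWV (pullSect f H V s)),
      ε.app W t ∈ Submodule.span Γ(X, W) (Set.range g) := by
    intro t ht
    induction ht using Submodule.span_induction with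
    | mem t ht =>
      obtain ⟨s, rfl⟩ := ht
      refine Submodule.subset_span ⟨s, ?_⟩
      change res M hWV s = ε.app W (res _ hWV (pullSect f H V s))
      rw [app_res, counit_app_pullSect]
      rfl
    | zero => rw [map_zero]; exact zero_mem _
    | add a b _ _ ha hb => rw [map_add]; exact add_mem ha hb
    | smul r a _ ha => rw [Scheme.Modules.Hom.app_smul]; exact Submodule.smul_mem _ _ ha
  have htop : Submodule.span Γ(X, W) (Set.range g) = ⊤ := by
    rw [eq_top_iff]
    rintro m -
    obtain ⟨t, rfl⟩ := hsurj m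
    exact key t (by rw [hspan]; trivial)
  have hfin : Module.Finite Γ(X, W) Γ(M, W) := module_finite_of_isFiniteType M hW
  have hfg : (Submodule.span Γ(X, W) (Set.range g)).FG := by rw [htop]; exact hfin.1
  obtain ⟨s', hs', hs'eq⟩ := (Submodule.fg_span_iff_fg_span_finset_subset _).mp hfg
  rw [← Set.image_univ] at hs'
  obtain ⟨T, -, hT⟩ := Finset.subset_set_image_iff.mp hs'
  refine ⟨V, hV, W, hW, hWV, T, hxW, ?_⟩
  rw [← htop, hs'eq, ← hT, Finset.coe_image]

/-- if `f^* f_* M → M` is an epimorphism, `M` of finite type and `X` quasi-compact, then some quasi-coherent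
submodule of finite type `K ⊆ f_* M` already has `f^* K → M` an epimorphism -/
theorem exists_ft_subSh_epi [CompactSpace X] (hFT : HasFTThrough Y) (M : X.Modules) [M.IsQuasicoherent]
    [M.IsFiniteType] [((Scheme.Modules.pushforward f).obj M).IsQuasicoherent]
    [Epi ((Scheme.Modules.pullbackPushforwardAdjunction f).counit.app M)] :
    ∃ K : SubSh ((Scheme.Modules.pushforward f).obj M), K.toModules.IsQuasicoherent ∧
      K.toModules.IsFiniteType ∧
      Epi ((Scheme.Modules.pullback f).map K.ι ≫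
        (Scheme.Modules.pullbackPushforwardAdjunction f).counit.app M) := by
  classical
  choose V hV W hW hWV T hxW hspan using exists_local_gens f M
  obtain ⟨t, ht⟩ := isCompact_univ.elim_finite_subcover (fun x => ((W x : X.Opens) : Set X))
    (fun x => (W x).isOpen) (fun x _ => Set.mem_iUnion.mpr ⟨x, hxW x⟩)
  set H := (Scheme.Modules.pushforward f).obj M with hH
  obtain ⟨K, hKq, hKft, hKmem⟩ := FTRed.exists_finiteType_subSh_through hFT H
    (κ := Σ x : t, ↥(T x.1)) (fun k => V k.1.1) (fun k => hV k.1.1) (fun k => (k.2.1 : Γ(M, f ⁻¹ᵁ V k.1.1)))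
  refine ⟨K, hKq, hKft, ?_⟩
  set ε := (Scheme.Modules.pullbackPushforwardAdjunction f).counit.app M with hε
  apply epi_of_forall_stalkMapRange_eq_top
  intro x
  have hx := ht (Set.mem_univ x)
  simp only [Set.mem_iUnion] at hx
  obtain ⟨x₀, hx₀, hxW₀⟩ := hx
  have hsp := hspan x₀
  rw [Set.image_eq_range] at hsp
  have h1 := span_germ_eq_top_of_span_eq_top M (hW x₀)
    (fun h : ↥((T x₀ : Set Γ(M, f ⁻¹ᵁ V x₀))) => res M (hWV x₀) h.1) hsp x hxW₀
  rw [eq_top_iff, ← h1, Submodule.span_le]
  rintro _ ⟨h, rfl⟩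
  have hmem : (h.1 : Γ(M, f ⁻¹ᵁ V x₀)) ∈ K.carrier (V x₀) := hKmem ⟨⟨x₀, hx₀⟩, ⟨h.1, h.2⟩⟩
  refine ⟨((Scheme.Modules.pullback f).obj K.toModules).presheaf.germ (f ⁻¹ᵁ V x₀) x (hWV x₀ hxW₀)
    (pullSect f K.toModules (V x₀) (K.mkSec (V x₀) h.1 hmem)), ?_⟩
  rw [stalkMap_germ]
  change M.presheaf.germ _ x _ (ε.app _ (((Scheme.Modules.pullback f).map K.ι).app _ _)) = _
  rw [pullSect_naturality, counit_app_pullSect, SubSh.ι_app_mkSec]
  exact (germ_res M (hWV x₀) x hxW₀ h.1).symm

end Groth.Agent.Lib.Helper3.TwistQuot
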