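import Groth.Agent.Lib.Helper3.TwistQuot1
import Groth.Agent.Lib.Helper3.RelTensorU
import Groth.Agent.Lib.Helper3.RelTwistAmple
import Groth.Agent.Lib.Helper3.VAProper
import Groth.Agent.Lib.Helper29.TensorInv
import Groth.Agent.Lib.Helper29.TensorIso
import Groth.Agent.Lib.Helper29.Res2
import Groth.Agent.Lib.Helper29.SerreA
import Groth.Agent.Lib.Helper29.QCohQcqs
/-!
# Quasi-coherent modules of finite type on a relative `Proj` are quotients of `p^*G ⊗ O(-n)`
-/
set_option autoImplicit false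
set_option linter.unusedSectionVars false
universe u
open CategoryTheory CategoryTheory.Limits AlgebraicGeometry Opposite TopologicalSpace
open AlgebraicGeometry.Scheme.AffineZariskiSite
open scoped HomogeneousIdeal
open Groth.Agent.Lib.Helper29 Groth.Agent.Lib.Helper29.QCoh

namespace Groth.Agent.Lib.Helper3.TrivLocal

variable {Y : Scheme.{u}}

/-- If a global section `e` of `A` trivialises `A` near every point, then `A` is isomorphic to the structure
sheaf. -/
theorem nonempty_iso_of_local_isTriv {A : Y.Modules} (e : Γ(A, ⊤))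
    (h : ∀ x : Y, ∃ (W : Y.Opens), x ∈ W ∧ IsTriv A W (QCoh.res A le_top e)) :
    Nonempty (unitM Y ≅ A) := by
  let σ₀ : unitM Y ⟶ A := homOfSection A e
  have hiso : IsIso σ₀ := by
    apply ModGlue.isIso_of_bijective_on_basis σ₀
      (fun T => ∃ (W : Y.Opens), T ≤ W ∧ IsTriv A W (QCoh.res A le_top e))
    · rintro T T' hTT' ⟨W, hTW, hT⟩
      exact ⟨W, hTT'.trans hTW, hT⟩
    · intro w
      obtain ⟨W, hwW, hT⟩ := h w
      exact ⟨W, ⟨W, le_rfl, hT⟩, hwW⟩
    · rintro T ⟨W, hTW, hT⟩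
      have hb := hT T hTW
      have hfun : (fun s => σ₀.app T s) =
          (fun r : Γ(Y, T) => r • QCoh.res A hTW (QCoh.res A le_top e)) ∘ fromUnit := by
        funext s
        obtain ⟨r', rfl⟩ := toUnit_surjective s
        simp only [Function.comp_apply, fromUnit_toUnit]
        rw [app_eq_smul_sval, sval_homOfSection, res_res]
      change Function.Bijective (fun s => σ₀.app T s)
      rw [hfun]
      exact hb.comp ⟨fun a b h => h, fun a => ⟨toUnit a, rfl⟩⟩
  exact ⟨asIso σ₀⟩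

end Groth.Agent.Lib.Helper3.TrivLocal

namespace Groth.Agent.Lib.Helper3.RelGlued
open RelProj Groth.Agent.Lib.Helper3 Groth.Agent.Lib.Helper3.GluedPairing
open Groth.Agent.Lib.Helper3.RelTilde (e comap_mem range_e e_mem_R ψ)

variable {Y P : Scheme.{u}} {𝒮 : QCGrAlg Y} (p : P ⟶ Y)
  (chart : ∀ (U : Y.Opens) (hU : IsAffineOpen U), (((p ⁻¹ᵁ U : P.Opens) : Scheme.{u}) ≅ Proj (𝒮.deg U hU)))
  (hP : IsRelProj 𝒮 p chart)

include hP in
/-- `O_P(0)` is trivial. -/
theorem nonempty_iso_unit_zero {L0 : P.Modules}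
    {lam0 : ∀ (U : Y.Opens) (hU : IsAffineOpen U),
      L0 ⟶ (Scheme.Modules.pushforward (emb p chart U hU)).obj (GrTwist.twist (𝒮.deg U hU) 0)}
    (hL0 : IsRelTwist 𝒮 p chart 0 L0 lam0) : Nonempty (unitM P ≅ L0) := by
  obtain ⟨s, hs⟩ := RelTwist.exists_section p chart hP 0 hL0 ⊤ (fun V => τ0 p chart V ⊤)
    (fun U V h => τ0_compat p chart hP h ⊤)
  apply TrivLocal.nonempty_iso_of_local_isTriv s
  intro x
  obtain ⟨V, hV, hxV, -⟩ := exists_isAffineOpen_mem_and_subset (x := p.base x) (U := ⊤) trivial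
  obtain ⟨y, hy⟩ := RelTilde.exists_of_mem_R p chart ⟨V, hV⟩ x hxV
  obtain ⟨sV, hsV1, hsV2⟩ := exists_triv_section p chart 0 hL0 ⟨V, hV⟩ (one0 ⟨V, hV⟩) 0 0 h00
  have hxstd : x ∈ stdOpen p chart ⟨V, hV⟩ (one0 ⟨V, hV⟩) := by
    rw [← hy, mem_stdOpen]
    exact TildeQC.one_not_mem y
  have hsv : QCoh.res L0 (le_top : stdOpen p chart ⟨V, hV⟩ (one0 ⟨V, hV⟩) ≤ ⊤) s = sV := by
    apply (hL0.bijective V hV _ (stdOpen_le p chart ⟨V, hV⟩ (one0 ⟨V, hV⟩))).1
    rw [QCoh.app_res, hs ⟨V, hV⟩, hsV2]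
    rfl
  exact ⟨stdOpen p chart ⟨V, hV⟩ (one0 ⟨V, hV⟩), hxstd, hsv ▸ hsV1⟩

include hP in
theorem exists_relTwist_unit (j : ℤ) (hj : j = 0) :
    ∃ (L0 : P.Modules) (lam0 : ∀ (U : Y.Opens) (hU : IsAffineOpen U),
      L0 ⟶ (Scheme.Modules.pushforward (emb p chart U hU)).obj (GrTwist.twist (𝒮.deg U hU) j)),
      IsRelTwist 𝒮 p chart j L0 lam0 ∧ Nonempty (unitM P ≅ L0) := by
  subst hj
  exact ⟨_, _, RelTwist.isRelTwist p chart hP 0,
    nonempty_iso_unit_zero p chart hP (RelTwist.isRelTwist p chart hP 0)⟩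

include hP in
/-- `O_P(n) ⊗ O_P(-n) ≅ O_P` when `𝒮` is generated in degree one. -/
theorem nonempty_tensor_neg_iso_global (hgen : 𝒮.IsGenDegOne) (n : ℤ) {L L' : P.Modules}
    {lam : ∀ (U : Y.Opens) (hU : IsAffineOpen U),
      L ⟶ (Scheme.Modules.pushforward (emb p chart U hU)).obj (GrTwist.twist (𝒮.deg U hU) n)}
    {lam' : ∀ (U : Y.Opens) (hU : IsAffineOpen U),
      L' ⟶ (Scheme.Modules.pushforward (emb p chart U hU)).obj (GrTwist.twist (𝒮.deg U hU) (-n))}
    (hL : IsRelTwist 𝒮 p chart n L lam) (hL' : IsRelTwist 𝒮 p chart (-n) L' lam') :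
    Nonempty (CohB1.tensorMod L L' ≅ unitM P) := by
  obtain ⟨L0, lam0, hL0, ⟨ε⟩⟩ := exists_relTwist_unit p chart hP (n + -n) (by ring)
  obtain ⟨φ⟩ := nonempty_iso_twist p chart hP n (-n) hgen hL hL' hL0
  exact ⟨φ ≪≫ ε.symm⟩

include hP in
/-- **Quotients of `p^*G(-n)`.** -/
theorem exists_quotient_pullback_twist (hFT : HasFTThrough Y) [CompactSpace Y] (hgen : 𝒮.IsGenDegOne)
    (hft : 𝒮.IsFTDeg 1) (F : P.Modules) [F.IsQuasicoherent] [F.IsFiniteType] :
    ∃ n₀ : ℤ, ∀ (n : ℤ), n₀ ≤ n → ∀ (L : P.Modules)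
      (lam : ∀ (U : Y.Opens) (hU : IsAffineOpen U),
      L ⟶ (Scheme.Modules.pushforward (emb p chart U hU)).obj (GrTwist.twist (𝒮.deg U hU) (-n))),
      IsRelTwist 𝒮 p chart (-n) L lam →
        ∃ (G : Y.Modules) (π : CohB1.tensorMod ((Scheme.Modules.pullback p).obj G) L ⟶ F),
          G.IsQuasicoherent ∧ G.IsFiniteType ∧ Epi π := by
  obtain ⟨n₀, hn₀⟩ := counit_twist_eventually_epi p chart hP hgen hft F
  refine ⟨n₀, fun n hn L lam hL => ?_⟩
  have hOn := RelTwist.isRelTwist p chart hP n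
  set On := RelTwist.relTwist p chart hP n with hOndef
  haveI hepi : Epi ((Scheme.Modules.pullbackPushforwardAdjunction p).counit.app (CohB1.tensorMod F On)) :=
    hn₀ n hn On _ hOn
  obtain ⟨e1⟩ := nonempty_tensor_neg_iso_global p chart hP hgen n hOn hL
  have hLinv : PicF.IsInvertible L := isInvertible_of_tensor_iso L On (tensorBraid L On ≪≫ e1)
  have hOninv : PicF.IsInvertible On := isInvertible_of_tensor_iso On L e1
  haveI : On.IsQuasicoherent := isQuasicoherent_of_isInvertible hOninv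
  haveI : On.IsFiniteType := isFiniteType_of_isInvertible hOninv
  haveI : QuasiCompact p := quasiCompact_of_genDegOne p chart hgen hft
  haveI : IsSeparated p := VAF.isSeparated_of_isRelProj chart
  haveI : CompactSpace P := QuasiCompact.compactSpace_of_compactSpace p
  haveI : ((Scheme.Modules.pushforward p).obj (CohB1.tensorMod F On)).IsQuasicoherent :=
    isQuasicoherent_pushforward_of_qcqs p _
  obtain ⟨K, hKq, hKft, hKepi⟩ := TwistQuot.exists_ft_subSh_epi p hFT (CohB1.tensorMod F On)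
  refine ⟨K.toModules, Res.tensorMapRight ((Scheme.Modules.pullback p).map K.ι ≫
      (Scheme.Modules.pullbackPushforwardAdjunction p).counit.app (CohB1.tensorMod F On)) L ≫
    (tensorAssoc F On L).hom ≫ (tensorCongr (Iso.refl F) e1).hom ≫ (tensorUnitR F).hom, hKq, hKft, ?_⟩
  haveI := Res.epi_tensorMapRight (A := (Scheme.Modules.pullback p).obj K.toModules)
    (B := CohB1.tensorMod F On) ((Scheme.Modules.pullback p).map K.ι ≫
      (Scheme.Modules.pullbackPushforwardAdjunction p).counit.app (CohB1.tensorMod F On)) hLinv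
  exact epi_comp _ _

end Groth.Agent.Lib.Helper3.RelGlued
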