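import Groth.Agent.Lib.Helper3.VASec
import Groth.Agent.Lib.Helper29.QCohPush
/-!
# Very ample modules: the functions `a / t^k` pulled back along the immersion, and the degree one identity
-/
set_option autoImplicit false
set_option linter.unusedSectionVars false
universe u
open CategoryTheory CategoryTheory.Limits AlgebraicGeometry Opposite TopologicalSpace
open AlgebraicGeometry.Scheme.AffineZariskiSite
open scoped HomogeneousIdeal
open Groth.Agent.Lib.Helper29

namespace Groth.Agent.Lib.Helper3.VAF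
open RelProj Groth.Agent.Lib.Helper3 Groth.Agent.Lib.Helper3.RelGlued Groth.Agent.Lib.Helper3.VASec
open Groth.Agent.Lib.Helper3.RelTilde (e)
open Groth.Agent.Lib.Helper29.QCoh (res IsTriv)
open Groth.Agent.Lib.Helper3.TildeQC

variable {X Y P : Scheme.{u}} {𝒮 : QCGrAlg Y} (p : P ⟶ Y)
  (chart : ∀ (U : Y.Opens) (hU : IsAffineOpen U), (((p ⁻¹ᵁ U : P.Opens) : Scheme.{u}) ≅ Proj (𝒮.deg U hU)))

section Frac
variable (V : Y.AffineZariskiSite) (t : 𝒮.deg V.1 V.2 1)

theorem pow_mem_deg {A σ : Type u} [CommRing A] [SetLike σ A] [AddSubgroupClass σ A] (𝒜 : ℕ → σ) [GradedRing 𝒜]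
    {t : A} (ht : t ∈ 𝒜 1) (k : ℕ) : t ^ k ∈ 𝒜 k := by
  have := SetLike.pow_mem_graded k ht
  rwa [smul_eq_mul, mul_one] at this

theorem pow_notMem (k : ℕ) (y : ↥(e p chart V ⁻¹ᵁ stdOpen p chart V t)) :
    t.1 ^ k ∉ y.1.asHomogeneousIdeal := by
  have hy : t.1 ∉ y.1.asHomogeneousIdeal := (mem_stdOpen p chart V t y.1).mp y.2
  exact pow_not_mem_of_not_mem hy k

/-- the function `a / t^k` on the standard open `D_+(t)`, read in the chart -/
noncomputable def frac (k : ℕ) (a : 𝒮.deg V.1 V.2 k) :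
    Γ(Proj (𝒮.deg V.1 V.2), e p chart V ⁻¹ᵁ stdOpen p chart V t) :=
  mkO (𝒮.deg V.1 V.2) (e p chart V ⁻¹ᵁ stdOpen p chart V t) a
    ⟨t.1 ^ k, pow_mem_deg (𝒮.deg V.1 V.2) t.2 k⟩ (pow_notMem p chart V t k)

theorem ofun_frac (k : ℕ) (a : 𝒮.deg V.1 V.2 k) (y : ↥(e p chart V ⁻¹ᵁ stdOpen p chart V t)) :
    ofun (𝒮.deg V.1 V.2) (frac p chart V t k a) y =
      Localization.mk a.1 ⟨t.1 ^ k, pow_notMem p chart V t k y⟩ := rfl

instance isIso_e_app : IsIso ((e p chart V).app (stdOpen p chart V t)) :=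
  Scheme.Hom.isIso_app _ _ (stdOpen_le_range p chart V t)

variable (i : X ⟶ P)

/-- pull back of functions on the standard open `D_+(t)` (read in the chart) along `i` -/
noncomputable def pb (W : X.Opens) (hW : W ≤ i ⁻¹ᵁ stdOpen p chart V t) :
    Γ(Proj (𝒮.deg V.1 V.2), e p chart V ⁻¹ᵁ stdOpen p chart V t) →+* Γ(X, W) :=
  (i.appLE (stdOpen p chart V t) W hW).hom.comp (inv ((e p chart V).app (stdOpen p chart V t))).hom

theorem pb_res {W W' : X.Opens} (hW : W ≤ i ⁻¹ᵁ stdOpen p chart V t) (h : W' ≤ W)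
    (g : Γ(Proj (𝒮.deg V.1 V.2), e p chart V ⁻¹ᵁ stdOpen p chart V t)) :
    (X.presheaf.map (homOfLE h).op).hom (pb p chart V t i W hW g) = pb p chart V t i W' (h.trans hW) g := by
  unfold pb
  simp only [RingHom.comp_apply]
  exact congrArg (fun m : Γ(P, stdOpen p chart V t) ⟶ Γ(X, W') => m.hom
    ((inv ((e p chart V).app (stdOpen p chart V t))).hom g)) (i.appLE_map hW (homOfLE h).op)

end Frac

end Groth.Agent.Lib.Helper3.VAF
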