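import Groth.Agent.Lib.Helper3.VAF7
set_option autoImplicit false
set_option linter.unusedSectionVars false
universe u
open CategoryTheory CategoryTheory.Limits AlgebraicGeometry Opposite TopologicalSpace
open AlgebraicGeometry.Scheme.AffineZariskiSite
open scoped HomogeneousIdeal
open Groth.Agent.Lib.Helper29

namespace Groth.Agent.Lib.Helper3.VAF
open RelProj RelSpec Groth.Agent.Lib.Helper3 Groth.Agent.Lib.Helper3.RelGlued Groth.Agent.Lib.Helper3.VASec
open Groth.Agent.Lib.Helper3.RelTilde (e)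
open Groth.Agent.Lib.Helper29.QCoh (res IsTriv rres)
open Groth.Agent.Lib.Helper3.TildeQC

variable {X Y P : Scheme.{u}} {𝒮 : QCGrAlg Y} (p : P ⟶ Y)
  (chart : ∀ (U : Y.Opens) (hU : IsAffineOpen U), (((p ⁻¹ᵁ U : P.Opens) : Scheme.{u}) ≅ Proj (𝒮.deg U hU)))
  (i : X ⟶ P) (V : Y.AffineZariskiSite)

/-- pull back of functions on an open of the chart range (read in the chart) along `i` -/
noncomputable def pbG (D : P.Opens) (hD : D ≤ (e p chart V).opensRange) (W : X.Opens) (hW : W ≤ i ⁻¹ᵁ D) :
    Γ(Proj (𝒮.deg V.1 V.2), e p chart V ⁻¹ᵁ D) →+* Γ(X, W) :=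
  haveI := Scheme.Hom.isIso_app (e p chart V) D hD
  (i.appLE D W hW).hom.comp (inv ((e p chart V).app D)).hom

theorem pb_eq_pbG (t : 𝒮.deg V.1 V.2 1) (W : X.Opens) (hW : W ≤ i ⁻¹ᵁ stdOpen p chart V t) :
    pb p chart V t i W hW = pbG p chart i V (stdOpen p chart V t) (stdOpen_le_range p chart V t) W hW := rfl

theorem pbG_app (D : P.Opens) (hD : D ≤ (e p chart V).opensRange) (f : Γ(P, D)) :
    pbG p chart i V D hD (i ⁻¹ᵁ D) le_rfl ((e p chart V).app D f) = (i.app D) f := by
  haveI := Scheme.Hom.isIso_app (e p chart V) D hD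
  unfold pbG
  simp only [RingHom.comp_apply]
  have h1 : (inv ((e p chart V).app D)).hom (((e p chart V).app D) f) = f := by
    change (((e p chart V).app D) ≫ inv ((e p chart V).app D)).hom f = f
    rw [IsIso.hom_inv_id]; rfl
  rw [h1]
  exact congrArg (fun m => m.hom f) (Scheme.Hom.app_eq_appLE i (U := D)).symm

theorem pbG_res {D D' : P.Opens} (hD : D ≤ (e p chart V).opensRange) (h : D' ≤ D) (W : X.Opens)
    (hW' : W ≤ i ⁻¹ᵁ D') (g : Γ(Proj (𝒮.deg V.1 V.2), e p chart V ⁻¹ᵁ D)) :
    pbG p chart i V D' (h.trans hD) W hW' (rres (Proj (𝒮.deg V.1 V.2)) ((e p chart V).preimage_mono h) g) =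
      pbG p chart i V D hD W (hW'.trans (i.preimage_mono h)) g := by
  haveI := Scheme.Hom.isIso_app (e p chart V) D hD
  haveI := Scheme.Hom.isIso_app (e p chart V) D' (h.trans hD)
  unfold pbG
  simp only [RingHom.comp_apply]
  set f : Γ(P, D) := (inv ((e p chart V).app D)).hom g with hf
  have hfg : (e p chart V).app D f = g := by
    change ((inv ((e p chart V).app D)) ≫ ((e p chart V).app D)).hom g = g
    rw [IsIso.inv_hom_id]; rfl
  have h1 : rres (Proj (𝒮.deg V.1 V.2)) ((e p chart V).preimage_mono h) g =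
      (e p chart V).app D' ((P.presheaf.map (homOfLE h).op).hom f) := by
    rw [← hfg]
    exact (congrArg (fun m => m.hom f) ((e p chart V).naturality (homOfLE h).op)).symm
  rw [h1]
  have h2 : (inv ((e p chart V).app D')).hom ((e p chart V).app D' ((P.presheaf.map (homOfLE h).op).hom f)) =
      (P.presheaf.map (homOfLE h).op).hom f := by
    change (((e p chart V).app D') ≫ inv ((e p chart V).app D')).hom _ = _
    rw [IsIso.hom_inv_id]; rfl
  rw [h2]
  exact congrArg (fun m => m.hom f) (Scheme.Hom.map_appLE i hW' (homOfLE h).op)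

end Groth.Agent.Lib.Helper3.VAF
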