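import Groth.Agent.Lib.Helper3.SymLine6
set_option autoImplicit false
universe u
open CategoryTheory CategoryTheory.Limits AlgebraicGeometry Opposite TopologicalSpace

namespace Groth.Agent.Lib.Helper3.Restr

variable {X Y : Scheme.{u}}

theorem bijective_map_of_eq (X : Scheme.{u}) {U U' : X.Opens} (h : U = U') :
    Function.Bijective (X.presheaf.map (homOfLE h.ge).op).hom := by
  subst h
  have : (homOfLE (le_refl U)).op = 𝟙 (op U) := rfl
  rw [this, X.presheaf.map_id]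
  exact Function.bijective_id

/-- a closed immersion over an affine open of the target: the preimage is affine and the map on functions is
surjective -/
theorem affine_surjective_of_isClosedImmersion_restrict (f : X ⟶ Y) (D : Y.Opens) (hD : IsAffineOpen D)
    [IsClosedImmersion (f ∣_ D)] :
    IsAffineOpen (f ⁻¹ᵁ D) ∧ Function.Surjective (f.app D).hom := by
  haveI : IsAffine (D : Scheme.{u}) := hD
  obtain ⟨haff, hsurj⟩ := IsClosedImmersion.isAffine_surjective_of_isAffine (f ∣_ D)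
  refine ⟨haff, ?_⟩
  have h1 : D.ι ''ᵁ ⊤ = D := D.ι_image_top
  have h2 : (f ⁻¹ᵁ D).ι ''ᵁ ⊤ = f ⁻¹ᵁ D := (f ⁻¹ᵁ D).ι_image_top
  have hle : (f ⁻¹ᵁ D).ι ''ᵁ ⊤ ≤ f ⁻¹ᵁ (D.ι ''ᵁ ⊤) := by rw [h1, h2]
  have e1 : (f ∣_ D).appTop = f.appLE (D.ι ''ᵁ ⊤) ((f ⁻¹ᵁ D).ι ''ᵁ ⊤) hle := by
    rw [morphismRestrict_appTop]
    rfl
  have e2 : f.app D = Y.presheaf.map (homOfLE h1.le).op ≫
      f.appLE (D.ι ''ᵁ ⊤) ((f ⁻¹ᵁ D).ι ''ᵁ ⊤) hle ≫ X.presheaf.map (homOfLE h2.ge).op := by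
    rw [Scheme.Hom.appLE_map, Scheme.Hom.map_appLE, Scheme.Hom.app_eq_appLE]
  rw [e2, ← e1]
  simp only [CommRingCat.hom_comp]
  refine (bijective_map_of_eq X h2).2.comp (Function.Surjective.comp hsurj ?_)
  exact (bijective_map_of_eq Y h1.symm).2

end Groth.Agent.Lib.Helper3.Restr
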