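import Groth.Agent.Lib.Helper3.SymLine8
set_option autoImplicit false
set_option linter.unusedSectionVars false
universe u
open CategoryTheory CategoryTheory.Limits AlgebraicGeometry Opposite TopologicalSpace
open HomogeneousLocalization
open scoped HomogeneousIdeal
open Groth.Agent.Lib.Helper29.QCoh

namespace Groth.Agent.Lib.Helper3.SymLine
open RelProj RelSpec RelCone Groth.Agent.Lib.Helper3 Groth.Agent.Lib.Helper3.Cone Groth.Agent.Lib.Helper3.QProj

variable {Y X : Scheme.{u}} {q : X ⟶ Y} {L : X.Modules} [L.IsQuasicoherent]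
  {𝒮 : QCGrAlg Y} {𝒮L : QCGrAlg X} {j : L ⟶ 𝒮L.toModule}
  (hj : IsGrSymAlg L 𝒮L j) (u : QGrHom q 𝒮 𝒮L)

include hj in
/-- over a trivialising basic open of a good affine open, the coefficient of `u f` is a unit -/
theorem isUnit_coeff_of_good (U : Y.Opens) {d : ℕ} (f : 𝒮.presheaf.obj (op U))
    (W : X.Opens) (hW : IsAffineOpen W) (hle : W ≤ q ⁻¹ᵁ U) (hgood : Good u U W hW hle d f)
    (g : Γ(X, W)) (e : Γ(L, X.basicOpen g)) (hT : IsTriv L (X.basicOpen g) e) (a : Γ(X, X.basicOpen g))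
    (ha' : (u.appLE U (X.basicOpen g) ((X.basicOpen_le g).trans hle)).hom f =
      (𝒮L.str.app (op (X.basicOpen g))).hom a * tt j e ^ d) : IsUnit a := by
  have hV := hW.basicOpen g
  let ψ := 𝒮L.res hW hV (X.basicOpen_le g)
  let c := (𝒮L.str.app (op W)).hom g
  let _inst := (𝒮L.presheaf.map (homOfLE (X.basicOpen_le g)).op).hom.toAlgebra
  have hloc : IsLocalization.Away c (𝒮L.presheaf.obj (op (X.basicOpen g))) := 𝒮L.isQC W hW g
  obtain ⟨⟨b', s, hs⟩, hb's⟩ := IsLocalization.surj (Submonoid.powers c) (tt j e ^ d)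
  obtain ⟨k, rfl⟩ := (Submonoid.mem_powers_iff _ _).mp hs
  change tt j e ^ d * ψ (c ^ k) = ψ b' at hb's
  have hmem : tt j e ^ d * ψ (c ^ k) ∈ 𝒮L.deg (X.basicOpen g) hV d := by
    have h1 : tt j e ^ d ∈ 𝒮L.deg (X.basicOpen g) hV d := by
      have := SetLike.pow_mem_graded d (tt_mem hV hj (e := e))
      simpa using this
    have h2 : ψ (c ^ k) ∈ 𝒮L.deg (X.basicOpen g) hV 0 := by
      rw [map_pow]
      have := SetLike.pow_mem_graded k (ψ.map_mem (𝒮L.str_mem W hW g))
      simpa using this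
    simpa only [add_zero] using SetLike.mul_mem_graded h1 h2
  have hψ : ψ (DirectSum.decompose (𝒮L.deg W hW) b' d : 𝒮L.presheaf.obj (op W)) =
      tt j e ^ d * ψ (c ^ k) := by
    rw [GradedRingHom.map_directSumDecompose, ← hb's, DirectSum.decompose_of_mem_same _ hmem]
  obtain ⟨m, hm⟩ := Ideal.mem_span_singleton'.mp
    (hgood (SetLike.coe_mem (DirectSum.decompose (𝒮L.deg W hW) b' d)))
  have hψf : ψ ((u.appLE U W hle).hom f) =
      (u.appLE U (X.basicOpen g) ((X.basicOpen_le g).trans hle)).hom f :=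
    congrArg (fun m => m.hom f) (u.toQHom.appLE_map hle (X.basicOpen_le g))
  have h3 : ψ m * ((𝒮L.str.app (op (X.basicOpen g))).hom a * tt j e ^ d) =
      tt j e ^ d * ψ (c ^ k) := by
    rw [← ha', ← hψf, ← map_mul, hm, hψ]
  have h4 := congrArg (ev1 hV hj hT) h3
  have hψc : ψ c = strG 𝒮L _ hV ((X.presheaf.map (homOfLE (X.basicOpen_le g)).op).hom g) :=
    str_res (X.basicOpen_le g) g
  rw [map_mul, map_mul, map_mul, map_pow, map_pow, map_pow, ev1_tt, one_pow, mul_one, one_mul, hψc, ev1_str,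
    ← strG_apply 𝒮L _ hV, ev1_str] at h4
  have hgU : IsUnit ((X.presheaf.map (homOfLE (X.basicOpen_le g)).op).hom g) :=
    X.toRingedSpace.isUnit_res_basicOpen g
  have : IsUnit (ev1 hV hj hT (ψ m) * a) := h4 ▸ hgU.pow k
  exact isUnit_of_mul_isUnit_right this

end Groth.Agent.Lib.Helper3.SymLine
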