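import Groth.Agent.Lib.Helper3.VAF6
import Groth.Agent.Lib.Helper3.VAF8
import Groth.Agent.Lib.Helper3.VAF9
import Groth.Agent.Lib.Helper3.VAF10
set_option autoImplicit false
set_option linter.unusedSectionVars false
universe u
open CategoryTheory CategoryTheory.Limits AlgebraicGeometry Opposite TopologicalSpace
open AlgebraicGeometry.Scheme.AffineZariskiSite
open scoped HomogeneousIdeal
open Groth.Agent.Lib.Helper29

namespace Groth.Agent.Lib.Helper3.VAF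
open RelProj RelSpec Groth.Agent.Lib.Helper3 Groth.Agent.Lib.Helper3.RelGlued Groth.Agent.Lib.Helper3.VASec
open Groth.Agent.Lib.Helper3.RelTilde (e)
open Groth.Agent.Lib.Helper29.QCoh (res IsTriv rres)
open Groth.Agent.Lib.Helper3.TildeQC Groth.Agent.Lib.Helper3.SymLine

variable {X Y P : Scheme.{u}} {𝒮 : QCGrAlg Y} (p : P ⟶ Y)
  (chart : ∀ (U : Y.Opens) (hU : IsAffineOpen U), (((p ⁻¹ᵁ U : P.Opens) : Scheme.{u}) ≅ Proj (𝒮.deg U hU)))
  {O1 : P.Modules}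
  {lam : ∀ (U : Y.Opens) (hU : IsAffineOpen U),
      O1 ⟶ (Scheme.Modules.pushforward (emb p chart U hU)).obj (GrTwist.twist (𝒮.deg U hU) 1)}
  (hO1 : IsRelTwist 𝒮 p chart 1 O1 lam) (hP : IsRelProj 𝒮 p chart) (i : X ⟶ P) {A : X.Modules}
  (eA : A ≅ (Scheme.Modules.pullback i).obj O1)
  (hgen : 𝒮.IsGenDegOne)
  {𝒮L : QCGrAlg X} (jL : A ⟶ 𝒮L.toModule) [A.IsQuasicoherent] (hjL : IsGrSymAlg A 𝒮L jL)
  {𝒜 : QCGrAlg Y} (u : QGrHom (i ≫ p) 𝒜 𝒮L)
  (V : Y.AffineZariskiSite)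

include hgen in
/-- every point of `P` over `U` lies in a standard open of degree one -/
theorem exists_deg_one_stdOpen (w : P) (hw : p.base w ∈ V.1) :
    ∃ t : 𝒮.deg V.1 V.2 1, w ∈ stdOpen p chart V t := by
  obtain ⟨y, hy⟩ := RelTilde.exists_of_mem_R p chart V w hw
  obtain ⟨t, ht⟩ := ChartInv.exists_deg_one_notMem (𝒮.deg V.1 V.2) (hgen V.1 V.2) y
  refine ⟨t, ?_⟩
  unfold stdOpen
  exact ⟨y, ht, hy⟩

theorem isTriv_res_vaSec' (t : 𝒮.deg V.1 V.2 1) (W : X.Opens) (hW : W ≤ i ⁻¹ᵁ stdOpen p chart V t) :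
    IsTriv A W (res A (le_q p chart i V t hW) (vaSec p chart hO1 i eA V.1 V.2 t)) := by
  have h := (isTriv_res_vaSec p chart hO1 i eA V.1 V.2 t).restrict hW
  rwa [QCoh.res_res] at h

include hgen hjL in
theorem Xf_eq_preimage (n : ℕ) (a : 𝒮.deg V.1 V.2 n) (s : 𝒜.presheaf.obj (op V.1))
    (hrel : ∀ (t : 𝒮.deg V.1 V.2 1) (W : X.Opens) (hW : W ≤ i ⁻¹ᵁ stdOpen p chart V t),
      (u.appLE V.1 W (le_q p chart i V t hW)).hom s =
        (𝒮L.str.app (op W)).hom (pb p chart V t i W hW (frac p chart V t n a)) *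
          ttσ p chart hO1 i eA jL V t W hW ^ n) :
    Xf u V.1 n s = i ⁻¹ᵁ stdOpen p chart V a := by
  apply le_antisymm
  · intro z hz
    obtain ⟨V₀, hV₀, hle₀, hzV₀, hgood⟩ := (mem_Xf_iff u V.1 n s z).mp hz
    have hzU : p.base (i.base z) ∈ V.1 := hle₀ hzV₀
    obtain ⟨t, hzt⟩ := exists_deg_one_stdOpen p chart hgen V (i.base z) hzU
    obtain ⟨g, hgle, hzg⟩ := hV₀.exists_basicOpen_le (V := V₀ ⊓ i ⁻¹ᵁ stdOpen p chart V t)
      ⟨z, ⟨hzV₀, hzt⟩⟩ hzV₀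
    have hV₁t : X.basicOpen g ≤ i ⁻¹ᵁ stdOpen p chart V t := hgle.trans inf_le_right
    have hT := isTriv_res_vaSec' p chart hO1 i eA V t (X.basicOpen g) hV₁t
    have hu1 : IsUnit (pb p chart V t i (X.basicOpen g) hV₁t (frac p chart V t n a)) :=
      isUnit_coeff_of_good hjL u V.1 s V₀ hV₀ hle₀ hgood g _ hT _ (hrel t (X.basicOpen g) hV₁t)
    have hz2 : z ∈ X.basicOpen (pb p chart V t i (X.basicOpen g) hV₁t (frac p chart V t n a)) := by
      rw [X.basicOpen_of_isUnit hu1]; exact hzg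
    exact (mem_basicOpen_pb_frac_iff p chart i V t _ hV₁t n a z hzg).mp hz2
  · intro z hz
    have hzU : p.base (i.base z) ∈ V.1 := stdOpen_le p chart V a hz
    obtain ⟨t, hzt⟩ := exists_deg_one_stdOpen p chart hgen V (i.base z) hzU
    obtain ⟨V₁, hV₁, hzV₁, hV₁le⟩ := exists_isAffineOpen_mem_and_subset (x := z)
      (U := i ⁻¹ᵁ stdOpen p chart V a ⊓ i ⁻¹ᵁ stdOpen p chart V t) ⟨hz, hzt⟩
    have hV₁t : V₁ ≤ i ⁻¹ᵁ stdOpen p chart V t := hV₁le.trans inf_le_right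
    have hV₁a : V₁ ≤ i ⁻¹ᵁ stdOpen p chart V a := hV₁le.trans inf_le_left
    have hT := isTriv_res_vaSec' p chart hO1 i eA V t V₁ hV₁t
    have hgood : Good u V.1 V₁ hV₁ (le_q p chart i V t hV₁t) n s :=
      good_of_isUnit hjL u hV₁ (le_q p chart i V t hV₁t) hT s _ n (hrel t V₁ hV₁t)
        (isUnit_pb_frac p chart i V t V₁ hV₁t n a hV₁a)
    exact (mem_Xf_iff u V.1 n s z).mpr ⟨V₁, hV₁, le_q p chart i V t hV₁t, hzV₁, hgood⟩

end Groth.Agent.Lib.Helper3.VAF
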