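import Groth.Agent.Lib.Helper3.VAF1
set_option autoImplicit false
set_option linter.unusedSectionVars false
universe u
open CategoryTheory CategoryTheory.Limits AlgebraicGeometry Opposite TopologicalSpace
open scoped HomogeneousIdeal

namespace Groth.Agent.Lib.Helper3.VAF
open Groth.Agent.Lib.Helper3.TildeQC

variable {A σ : Type u} [CommRing A] [SetLike σ A] [AddSubgroupClass σ A] (𝒜 : ℕ → σ) [GradedRing 𝒜]

theorem mkO_comp (U' : (Proj 𝒜).Opens) {n k : ℕ} (a : 𝒜 n) (t : 𝒜 1) (b : 𝒜 (k * n))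
    (hak : a.1 ^ k ∈ 𝒜 (k * n)) (ha : ∀ x : U', a.1 ∉ x.1.asHomogeneousIdeal)
    (ht : ∀ x : U', t.1 ∉ x.1.asHomogeneousIdeal) (hba : b.1 * a.1 ∈ 𝒜 ((k + 1) * n)) :
    mkO 𝒜 U' b ⟨a.1 ^ k, hak⟩ (fun x => pow_not_mem_of_not_mem (ha x) k) *
        (mkO 𝒜 U' a ⟨t.1 ^ n, pow_mem_deg 𝒜 t.2 n⟩ (fun x => pow_not_mem_of_not_mem (ht x) n)) ^ (k + 1) =
      mkO 𝒜 U' ⟨b.1 * a.1, hba⟩ ⟨t.1 ^ ((k + 1) * n), pow_mem_deg 𝒜 t.2 _⟩
        (fun x => pow_not_mem_of_not_mem (ht x) _) := by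
  apply ofun_ext
  intro x
  rw [ofun_mul, ofun_pow, ofun_mkO, ofun_mkO, ofun_mkO, Localization.mk_pow, Localization.mk_mul,
    Localization.mk_eq_mk_iff, Localization.r_iff_exists]
  refine ⟨1, ?_⟩
  simp only [OneMemClass.coe_one, one_mul, Submonoid.coe_mul, SubmonoidClass.coe_pow]
  ring

end Groth.Agent.Lib.Helper3.VAF
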