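import Groth.Agent.Lib.Helper3.VAF10
import Groth.Agent.Lib.Helper3.VAF12
set_option autoImplicit false
set_option linter.unusedSectionVars false
universe u
open CategoryTheory CategoryTheory.Limits AlgebraicGeometry Opposite TopologicalSpace
open AlgebraicGeometry.Scheme.AffineZariskiSite
open scoped HomogeneousIdeal
open Groth.Agent.Lib.Helper29

namespace Groth.Agent.Lib.Helper3.VAF
open RelProj RelSpec Groth.Agent.Lib.Helper3 Groth.Agent.Lib.Helper3.RelGlued Groth.Agent.Lib.Helper3.VASec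
open Groth.Agent.Lib.Helper3.RelTilde (e)
open Groth.Agent.Lib.Helper29.QCoh (res IsTriv rres)
open Groth.Agent.Lib.Helper3.TildeQC

variable {X Y P : Scheme.{u}} {𝒮 : QCGrAlg Y} (p : P ⟶ Y)
  (chart : ∀ (U : Y.Opens) (hU : IsAffineOpen U), (((p ⁻¹ᵁ U : P.Opens) : Scheme.{u}) ≅ Proj (𝒮.deg U hU)))
  (i : X ⟶ P) (V : Y.AffineZariskiSite)

theorem notMem_of_mem_preimage_stdOpen {d : ℕ} (a : 𝒮.deg V.1 V.2 d)
    (x : ↥(e p chart V ⁻¹ᵁ stdOpen p chart V a)) : a.1 ∉ x.1.asHomogeneousIdeal :=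
  (mem_stdOpen p chart V a x.1).mp x.2

/-- the local identity behind condition (iii) -/
theorem pbG_mul_pb_pow {n k : ℕ} (a : 𝒮.deg V.1 V.2 n) (t : 𝒮.deg V.1 V.2 1) (b : 𝒮.deg V.1 V.2 (k * n))
    (hak : a.1 ^ k ∈ 𝒮.deg V.1 V.2 (k * n)) (hba : b.1 * a.1 ∈ 𝒮.deg V.1 V.2 ((k + 1) * n))
    (W : X.Opens) (hWa : W ≤ i ⁻¹ᵁ stdOpen p chart V a) (hWt : W ≤ i ⁻¹ᵁ stdOpen p chart V t) :
    pbG p chart i V (stdOpen p chart V a) (stdOpen_le_range p chart V a) W hWa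
        (mkO (𝒮.deg V.1 V.2) (e p chart V ⁻¹ᵁ stdOpen p chart V a) b ⟨a.1 ^ k, hak⟩
          (fun x => pow_not_mem_of_not_mem (notMem_of_mem_preimage_stdOpen p chart V a x) k)) *
      (pb p chart V t i W hWt (frac p chart V t n a)) ^ (k + 1) =
    pb p chart V t i W hWt (frac p chart V t ((k + 1) * n) ⟨b.1 * a.1, hba⟩) := by
  have hDt : stdOpen p chart V a ⊓ stdOpen p chart V t ≤ (e p chart V).opensRange :=
    inf_le_left.trans (stdOpen_le_range p chart V a)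
  have hW : W ≤ i ⁻¹ᵁ (stdOpen p chart V a ⊓ stdOpen p chart V t) := fun z hz => ⟨hWa hz, hWt hz⟩
  rw [pb_eq_pbG,
    ← pbG_res p chart i V (stdOpen_le_range p chart V a) inf_le_left W hW,
    ← pbG_res p chart i V (stdOpen_le_range p chart V t) inf_le_right W hW,
    ← pbG_res p chart i V (stdOpen_le_range p chart V t) inf_le_right W hW, ← map_pow, ← map_mul]
  congr 1
  exact mkO_comp (𝒮.deg V.1 V.2) _ a t b hak
    (fun x => notMem_of_mem_preimage_stdOpen p chart V a ⟨x.1, (Opens.mem_inf.mp x.2).1⟩)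
    (fun x => notMem_of_mem_preimage_stdOpen p chart V t ⟨x.1, (Opens.mem_inf.mp x.2).2⟩) hba

end Groth.Agent.Lib.Helper3.VAF
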