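import Groth.Agent.Lib.Helper3.VAF11
import Groth.Agent.Lib.Helper3.VAF13
import Groth.Agent.Lib.Helper3.ModGlue
set_option autoImplicit false
set_option linter.unusedSectionVars false
universe u
open CategoryTheory CategoryTheory.Limits AlgebraicGeometry Opposite TopologicalSpace
open AlgebraicGeometry.Scheme.AffineZariskiSite
open scoped HomogeneousIdeal
open Groth.Agent.Lib.Helper29

namespace Groth.Agent.Lib.Helper3.VAF
open RelProj RelSpec Groth.Agent.Lib.Helper3 Groth.Agent.Lib.Helper3.RelGlued Groth.Agent.Lib.Helper3.VASec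
open Groth.Agent.Lib.Helper3.RelTilde (e)
open Groth.Agent.Lib.Helper29.QCoh (res IsTriv rres)
open Groth.Agent.Lib.Helper3.TildeQC Groth.Agent.Lib.Helper3.SymLine

variable {X Y P : Scheme.{u}} {𝒮 : QCGrAlg Y} (p : P ⟶ Y)
  (chart : ∀ (U : Y.Opens) (hU : IsAffineOpen U), (((p ⁻¹ᵁ U : P.Opens) : Scheme.{u}) ≅ Proj (𝒮.deg U hU)))
  {O1 : P.Modules}
  {lam : ∀ (U : Y.Opens) (hU : IsAffineOpen U),
      O1 ⟶ (Scheme.Modules.pushforward (emb p chart U hU)).obj (GrTwist.twist (𝒮.deg U hU) 1)}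
  (hO1 : IsRelTwist 𝒮 p chart 1 O1 lam) (hP : IsRelProj 𝒮 p chart) (i : X ⟶ P) {A : X.Modules}
  (eA : A ≅ (Scheme.Modules.pullback i).obj O1)
  (hgen : 𝒮.IsGenDegOne)
  {𝒮L : QCGrAlg X} (jL : A ⟶ 𝒮L.toModule) [A.IsQuasicoherent] (hjL : IsGrSymAlg A 𝒮L jL)
  {𝒜 : QCGrAlg Y} (u : QGrHom (i ≫ p) 𝒜 𝒮L)
  (V : Y.AffineZariskiSite)

theorem pbG_resW (D : P.Opens) (hD : D ≤ (e p chart V).opensRange) {W W' : X.Opens} (hW : W ≤ i ⁻¹ᵁ D)
    (h : W' ≤ W) (g : Γ(Proj (𝒮.deg V.1 V.2), e p chart V ⁻¹ᵁ D)) :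
    (X.presheaf.map (homOfLE h).op).hom (pbG p chart i V D hD W hW g) =
      pbG p chart i V D hD W' (h.trans hW) g := by
  haveI := Scheme.Hom.isIso_app (e p chart V) D hD
  unfold pbG
  simp only [RingHom.comp_apply]
  exact congrArg (fun m : Γ(P, D) ⟶ Γ(X, W') => m.hom
    ((inv ((e p chart V).app D)).hom g)) (i.appLE_map hW (homOfLE h).op)

include hgen in
theorem condIIIOn_preimage (n : ℕ) (hn : 0 < n) (a : 𝒮.deg V.1 V.2 n) (s : 𝒜.presheaf.obj (op V.1))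
    (hrel : ∀ (t : 𝒮.deg V.1 V.2 1) (W : X.Opens) (hW : W ≤ i ⁻¹ᵁ stdOpen p chart V t),
      (u.appLE V.1 W (le_q p chart i V t hW)).hom s =
        (𝒮L.str.app (op W)).hom (pb p chart V t i W hW (frac p chart V t n a)) *
          ttσ p chart hO1 i eA jL V t W hW ^ n)
    (hR : ∀ m b, b ∈ 𝒮.deg V.1 V.2 m → Rel p chart hO1 i eA jL u V m b)
    (hsurj : Function.Surjective (i.app (stdOpen p chart V a)).hom) :
    CondIIIOn u V.1 V.2 n s (i ⁻¹ᵁ stdOpen p chart V a) (i.preimage_mono (stdOpen_le p chart V a)) := by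
  intro τ
  obtain ⟨f, rfl⟩ := hsurj τ
  have hDeq : e p chart V ⁻¹ᵁ stdOpen p chart V a = Proj.basicOpen (𝒮.deg V.1 V.2) a.1 :=
    preimage_stdOpen p chart V a
  obtain ⟨l, b, k, hb, hφ⟩ := exists_eq_mkO (𝒮.deg V.1 V.2) hn a
    (rres (Proj (𝒮.deg V.1 V.2)) hDeq.ge ((e p chart V).app (stdOpen p chart V a) f))
  have hg : (e p chart V).app (stdOpen p chart V a) f =
      mkO (𝒮.deg V.1 V.2) (e p chart V ⁻¹ᵁ stdOpen p chart V a) b ⟨a.1 ^ k, hb⟩
        (fun x => pow_not_mem_of_not_mem (notMem_of_mem_preimage_stdOpen p chart V a x) k) := by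
    apply ofun_ext
    intro x
    have h1 := congrArg (fun r => ofun (𝒮.deg V.1 V.2) r ⟨x.1, hDeq.le x.2⟩) hφ
    exact h1
  by_cases h0 : a.1 ^ k = 0
  · have hempty : ∀ z : X, z ∉ i ⁻¹ᵁ stdOpen p chart V a := by
      intro z hz
      have hz' : i.base z ∈ (e p chart V) ''ᵁ Proj.basicOpen (𝒮.deg V.1 V.2) a.1 := by
        unfold stdOpen at hz; exact hz
      obtain ⟨y, hy, -⟩ := hz'
      apply hy
      have : a.1 ^ k ∈ y.asHomogeneousIdeal := h0 ▸ Ideal.zero_mem _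
      exact y.isPrime.mem_of_pow_mem k this
    refine ⟨1, one_pos, 0, zero_mem _, ?_⟩
    exact ModGlue.ext_of_cover 𝒮L.toModule (fun _ : {z // z ∈ i ⁻¹ᵁ stdOpen p chart V a} => ⊥) _
      (fun _ => bot_le) (fun z hz => (hempty z hz).elim) _ _ (fun z => (hempty z.1 z.2).elim)
  · have hl : l = k * n := by
      refine DirectSum.degree_eq_of_mem_mem (𝒮.deg V.1 V.2) hb ?_ h0
      have := SetLike.pow_mem_graded k a.2
      rwa [smul_eq_mul] at this
    subst hl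
    have hba : b.1 * a.1 ∈ 𝒮.deg V.1 V.2 ((k + 1) * n) := by
      have := SetLike.mul_mem_graded b.2 a.2
      rwa [show k * n + n = (k + 1) * n by ring] at this
    obtain ⟨hba', s'', hs'', hrel''⟩ := hR ((k + 1) * n) (b.1 * a.1) hba
    refine ⟨k + 1, Nat.succ_pos k, s'', hs'', ?_⟩
    have hex : ∀ z : {z // z ∈ i ⁻¹ᵁ stdOpen p chart V a}, ∃ t : 𝒮.deg V.1 V.2 1,
        i.base z.1 ∈ stdOpen p chart V t := fun z =>
      exists_deg_one_stdOpen p chart hgen V _ (stdOpen_le p chart V a z.2)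
    choose tz htz using hex
    refine ModGlue.ext_of_cover 𝒮L.toModule
      (fun z => i ⁻¹ᵁ stdOpen p chart V a ⊓ i ⁻¹ᵁ stdOpen p chart V (tz z)) _ (fun _ => inf_le_left)
      (fun z hz => Opens.mem_iSup.mpr ⟨⟨z, hz⟩, ⟨hz, htz ⟨z, hz⟩⟩⟩) _ _ (fun z => ?_)
    have hWa : i ⁻¹ᵁ stdOpen p chart V a ⊓ i ⁻¹ᵁ stdOpen p chart V (tz z) ≤ i ⁻¹ᵁ stdOpen p chart V a :=
      inf_le_left
    have hWt : i ⁻¹ᵁ stdOpen p chart V a ⊓ i ⁻¹ᵁ stdOpen p chart V (tz z) ≤ i ⁻¹ᵁ stdOpen p chart V (tz z) :=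
      inf_le_right
    change (𝒮L.presheaf.map (homOfLE hWa).op).hom (_ * _ ^ (k + 1)) =
      (𝒮L.presheaf.map (homOfLE hWa).op).hom _
    rw [map_mul, map_pow, str_res hWa]
    have e1 : ∀ x, (𝒮L.presheaf.map (homOfLE hWa).op).hom
        ((u.appLE V.1 (i ⁻¹ᵁ stdOpen p chart V a) (i.preimage_mono (stdOpen_le p chart V a))).hom x) =
        (u.appLE V.1 _ (le_q p chart i V (tz z) hWt)).hom x := fun x =>
      congrArg (fun m => m.hom x) (u.toQHom.appLE_map _ hWa)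
    rw [e1, e1, hrel (tz z) _ hWt, hrel'' (tz z) _ hWt]
    have key := pbG_mul_pb_pow p chart i V a (tz z) b hb hba _ hWa hWt
    have hτ : (X.presheaf.map (homOfLE hWa).op).hom ((i.app (stdOpen p chart V a)).hom f) =
        pbG p chart i V (stdOpen p chart V a) (stdOpen_le_range p chart V a) _ hWa
          (mkO (𝒮.deg V.1 V.2) (e p chart V ⁻¹ᵁ stdOpen p chart V a) b ⟨a.1 ^ k, hb⟩
            (fun x => pow_not_mem_of_not_mem (notMem_of_mem_preimage_stdOpen p chart V a x) k)) := by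
      rw [← hg, ← pbG_resW p chart i V _ (stdOpen_le_range p chart V a) le_rfl hWa,
        pbG_app p chart i V _ (stdOpen_le_range p chart V a) f]
    rw [hτ, ← key, map_mul, map_pow, mul_pow, ← pow_mul]
    ring

end Groth.Agent.Lib.Helper3.VAF
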