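import Groth.Agent.Lib.Helper3.VAF14
import Groth.Agent.Lib.Helper3.SymLine7
set_option autoImplicit false
set_option linter.unusedSectionVars false
universe u
open CategoryTheory CategoryTheory.Limits AlgebraicGeometry Opposite TopologicalSpace
open AlgebraicGeometry.Scheme.AffineZariskiSite
open scoped HomogeneousIdeal
open Groth.Agent.Lib.Helper29

namespace Groth.Agent.Lib.Helper3.VAF
open RelProj RelSpec Groth.Agent.Lib.Helper3 Groth.Agent.Lib.Helper3.RelGlued Groth.Agent.Lib.Helper3.VASec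
open Groth.Agent.Lib.Helper3.RelTilde (e)
open Groth.Agent.Lib.Helper29.QCoh (res IsTriv rres)
open Groth.Agent.Lib.Helper3.TildeQC Groth.Agent.Lib.Helper3.SymLine

variable {X Y P : Scheme.{u}} {𝒮 : QCGrAlg Y} (p : P ⟶ Y)
  (chart : ∀ (U : Y.Opens) (hU : IsAffineOpen U), (((p ⁻¹ᵁ U : P.Opens) : Scheme.{u}) ≅ Proj (𝒮.deg U hU)))
  {O1 : P.Modules}
  {lam : ∀ (U : Y.Opens) (hU : IsAffineOpen U),
      O1 ⟶ (Scheme.Modules.pushforward (emb p chart U hU)).obj (GrTwist.twist (𝒮.deg U hU) 1)}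
  (hO1 : IsRelTwist 𝒮 p chart 1 O1 lam) (hP : IsRelProj 𝒮 p chart) (i : X ⟶ P) {A : X.Modules}
  (eA : A ≅ (Scheme.Modules.pullback i).obj O1)
  {E' : Y.Modules} [E'.IsQuasicoherent] {j' : E' ⟶ 𝒮.toModule} (hj' : IsGrSymAlg E' 𝒮 j')
  {𝒮L : QCGrAlg X} (jL : A ⟶ 𝒮L.toModule) [A.IsQuasicoherent] (hjL : IsGrSymAlg A 𝒮L jL)
  {𝒜 : QCGrAlg Y} (jE : (Scheme.Modules.pushforward (i ≫ p)).obj A ⟶ 𝒜.toModule)
  (hjE1 : ∀ (U : Y.Opens) (hU : IsAffineOpen U) (x : Γ((Scheme.Modules.pushforward (i ≫ p)).obj A, U)),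
    (jE.app U) x ∈ 𝒜.deg U hU 1)
  (u : QGrHom (i ≫ p) 𝒜 𝒮L)
  (hu : ∀ (U : Y.Opens) (_ : IsAffineOpen U) (x : Γ((Scheme.Modules.pushforward (i ≫ p)).obj A, U)),
    (u.app U).hom ((jE.app U) x) = (jL.app ((i ≫ p) ⁻¹ᵁ U)) x)

include hO1 hP eA hj' hjL hjE1 hu in
/-- **the local data (ii), (iii) for `r_{L,σ}` of a very ample module** -/
theorem exists_data [IsImmersion i] (x : X) (V : Y.AffineZariskiSite) (hxV : p.base (i.base x) ∈ V.1) :
    ∃ (n : ℕ) (_ : 0 < n) (s : 𝒜.presheaf.obj (op V.1)) (_ : s ∈ 𝒜.deg V.1 V.2 n),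
      x ∈ Xf u V.1 n s ∧ IsAffineOpen (Xf u V.1 n s) ∧ CondIII u V.1 V.2 n s := by
  have hgen : 𝒮.IsGenDegOne := RelGlued.isGenDegOne_of_isGrSymAlg E' 𝒮 j' hj'
  obtain ⟨n, hn, s', hs', hxD, hDle⟩ := exists_basicOpen_mem_le (chart := chart) V.1 V.2 (i.base x) hxV
    i.coborderRange (subset_coborder ⟨x, rfl⟩)
  let a : 𝒮.deg V.1 V.2 n := ⟨s', hs'⟩
  have hDle' : stdOpen p chart V a ≤ i.coborderRange := by
    unfold stdOpen RelTilde.e; exact hDle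
  have hxD' : i.base x ∈ stdOpen p chart V a := by
    unfold stdOpen RelTilde.e; exact hxD
  haveI hcl : IsClosedImmersion (i ∣_ stdOpen p chart V a) :=
    Restr.isClosedImmersion_restrict_of_le_coborderRange i _ hDle'
  obtain ⟨hWaff, hsurj⟩ := Restr.affine_surjective_of_isClosedImmersion_restrict i _
    (isAffineOpen_stdOpen p chart hn V a)
  have hR := fun m b hb => rel_of_mem p chart hO1 hP i eA hj' jL jE hjE1 u hu V m b hb
  obtain ⟨ha, s, hs, hrel⟩ := hR n s' hs'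
  have hXf := Xf_eq_preimage p chart hO1 i eA hgen jL hjL u V n a s hrel
  refine ⟨n, hn, s, hs, ?_, ?_, ?_⟩
  · rw [hXf]; exact hxD'
  · rw [hXf]; exact hWaff
  · rw [condIII_iff]
    exact (condIIIOn_congr u V.1 V.2 n s hXf _ _).mpr
      (condIIIOn_preimage p chart hO1 i eA hgen jL u V n hn a s hrel hR hsurj)

end Groth.Agent.Lib.Helper3.VAF
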