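import Groth.Agent.Lib.Helper3.VAF15
set_option autoImplicit false
set_option linter.unusedSectionVars false
universe u
open CategoryTheory CategoryTheory.Limits AlgebraicGeometry Opposite TopologicalSpace
open AlgebraicGeometry.Scheme.AffineZariskiSite
open scoped HomogeneousIdeal
open Groth.Agent.Lib.Helper29

namespace Groth.Agent.Lib.Helper3.VAF
open RelProj RelSpec Groth.Agent.Lib.Helper3 Groth.Agent.Lib.Helper3.RelGlued Groth.Agent.Lib.Helper3.VASec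
open Groth.Agent.Lib.Helper3.SymLine

/-- **EGA II 4.4.4 (a) ⇒ (b)**: for a very ample `L` (given by an immersion `i` into `P(E')` with `L ≅ i^*O(1)`),
the morphism `r_{L,σ}` into `P(q_*L)` is everywhere defined and an immersion. -/
theorem domQ_eq_top_and_isImmersion {X Y P' : Scheme.{u}} {𝒮' : QCGrAlg Y} (p' : P' ⟶ Y)
    (chart' : ∀ (U : Y.Opens) (hU : IsAffineOpen U), (((p' ⁻¹ᵁ U : P'.Opens) : Scheme.{u}) ≅ Proj (𝒮'.deg U hU)))
    {O1 : P'.Modules}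
    {lam : ∀ (U : Y.Opens) (hU : IsAffineOpen U),
      O1 ⟶ (Scheme.Modules.pushforward (emb p' chart' U hU)).obj (GrTwist.twist (𝒮'.deg U hU) 1)}
    (hO1 : IsRelTwist 𝒮' p' chart' 1 O1 lam) (hP' : IsRelProj 𝒮' p' chart') (i : X ⟶ P') [IsImmersion i]
    {L : X.Modules} (eL : L ≅ (Scheme.Modules.pullback i).obj O1)
    {E' : Y.Modules} [E'.IsQuasicoherent] {j' : E' ⟶ 𝒮'.toModule} (hj' : IsGrSymAlg E' 𝒮' j')
    (hL : PicF.IsInvertible L) [L.IsQuasicoherent]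
    {𝒮L : QCGrAlg X} (jL : L ⟶ 𝒮L.toModule) (hjL : IsGrSymAlg L 𝒮L jL)
    {PL : Scheme.{u}} {pL : PL ⟶ X}
    {chartL : ∀ (U : X.Opens) (hU : IsAffineOpen U), (((pL ⁻¹ᵁ U : PL.Opens) : Scheme.{u}) ≅ Proj (𝒮L.deg U hU))}
    (hPL : IsRelProj 𝒮L pL chartL)
    {𝒜 : QCGrAlg Y} (jE : (Scheme.Modules.pushforward (i ≫ p')).obj L ⟶ 𝒜.toModule)
    (hjE1 : ∀ (U : Y.Opens) (hU : IsAffineOpen U) (x : Γ((Scheme.Modules.pushforward (i ≫ p')).obj L, U)),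
      (jE.app U) x ∈ 𝒜.deg U hU 1)
    (u : QGrHom (i ≫ p') 𝒜 𝒮L)
    (hu : ∀ (U : Y.Opens) (_ : IsAffineOpen U) (x : Γ((Scheme.Modules.pushforward (i ≫ p')).obj L, U)),
      (u.app U).hom ((jE.app U) x) = (jL.app ((i ≫ p') ⁻¹ᵁ U)) x)
    {P : Scheme.{u}} {p : P ⟶ Y}
    {chart : ∀ (U : Y.Opens) (hU : IsAffineOpen U), (((p ⁻¹ᵁ U : P.Opens) : Scheme.{u}) ≅ Proj (𝒜.deg U hU))}
    (hP : IsRelProj 𝒜 p chart)
    (r : ((domQ u pL chartL : PL.Opens) : Scheme.{u}) ⟶ P)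
    (hr : IsProjQMapOn u p chart pL chartL (domQ u pL chartL) r) :
    domQ u pL chartL = ⊤ ∧ IsImmersion r := by
  have H : ∀ x : X, ∃ (U : Y.Opens) (hU : IsAffineOpen U) (n : ℕ) (_ : 0 < n) (s : 𝒜.presheaf.obj (op U))
      (_ : s ∈ 𝒜.deg U hU n), x ∈ Xf u U n s ∧ IsAffineOpen (Xf u U n s) ∧ CondIII u U hU n s := by
    intro x
    obtain ⟨U, hU, hxU, -⟩ := exists_isAffineOpen_mem_and_subset (x := p'.base (i.base x)) (U := ⊤) trivial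
    obtain ⟨n, hn, s, hs, h1, h2, h3⟩ := exists_data p' chart' hO1 hP' i eL hj' jL hjL jE hjE1 u hu x
      ⟨U, hU⟩ hxU
    exact ⟨U, hU, n, hn, s, hs, h1, h2, h3⟩
  refine ⟨(domQ_eq_top_iff_Xf hL hjL u hPL).mpr fun x => ?_, isImmersion_of_forall hL hjL u hPL hP r hr fun w => H _⟩
  obtain ⟨U, hU, n, hn, s, hs, h1, -, -⟩ := H x
  exact ⟨U, hU, n, hn, s, hs, h1⟩

end Groth.Agent.Lib.Helper3.VAF
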