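import Groth.Agent.Lib.Helper3.VAF1
set_option autoImplicit false
set_option linter.unusedSectionVars false
universe u
open CategoryTheory CategoryTheory.Limits AlgebraicGeometry Opposite TopologicalSpace
open AlgebraicGeometry.Scheme.AffineZariskiSite
open scoped HomogeneousIdeal
open Groth.Agent.Lib.Helper29

namespace Groth.Agent.Lib.Helper3.VAF
open RelProj Groth.Agent.Lib.Helper3 Groth.Agent.Lib.Helper3.RelGlued Groth.Agent.Lib.Helper3.VASec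
open Groth.Agent.Lib.Helper3.RelTilde (e)
open Groth.Agent.Lib.Helper29.QCoh (res IsTriv)
open Groth.Agent.Lib.Helper3.TildeQC

variable {X Y P : Scheme.{u}} {𝒮 : QCGrAlg Y} (p : P ⟶ Y)
  (chart : ∀ (U : Y.Opens) (hU : IsAffineOpen U), (((p ⁻¹ᵁ U : P.Opens) : Scheme.{u}) ≅ Proj (𝒮.deg U hU)))
  {O1 : P.Modules}
  {lam : ∀ (U : Y.Opens) (hU : IsAffineOpen U),
      O1 ⟶ (Scheme.Modules.pushforward (emb p chart U hU)).obj (GrTwist.twist (𝒮.deg U hU) 1)}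
  (hO1 : IsRelTwist 𝒮 p chart 1 O1 lam)

/-- `α(a) = (a/t) • α(t)` on `D_+(t)` -/
theorem res_alpha_eq (U : Y.Opens) (hU : IsAffineOpen U) (a t : 𝒮.deg U hU 1) :
    haveI := isIso_e_app p chart ⟨U, hU⟩ t
    res O1 (stdOpen_le p chart ⟨U, hU⟩ t) (alpha p chart hO1 U hU a) =
      ((inv ((e p chart ⟨U, hU⟩).app (stdOpen p chart ⟨U, hU⟩ t))).hom (frac p chart ⟨U, hU⟩ t 1 a)) •
        res O1 (stdOpen_le p chart ⟨U, hU⟩ t) (alpha p chart hO1 U hU t) := by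
  haveI := isIso_e_app p chart ⟨U, hU⟩ t
  have hle := stdOpen_le p chart ⟨U, hU⟩ t
  apply (hO1.bijective U hU _ hle).1
  rw [Scheme.Modules.Hom.app_smul]
  refine (QCoh.app_res (lam U hU) hle _).trans ?_
  rw [lam_alpha]
  have h2 := QCoh.app_res (lam U hU) hle (alpha p chart hO1 U hU t)
  rw [lam_alpha] at h2
  rw [h2, QCoh.pushforward_smul]
  have h3 : ((emb p chart U hU).app (stdOpen p chart ⟨U, hU⟩ t))
      ((inv ((e p chart ⟨U, hU⟩).app (stdOpen p chart ⟨U, hU⟩ t))).hom (frac p chart ⟨U, hU⟩ t 1 a)) =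
      frac p chart ⟨U, hU⟩ t 1 a := by
    change ((inv ((e p chart ⟨U, hU⟩).app (stdOpen p chart ⟨U, hU⟩ t))) ≫
      ((e p chart ⟨U, hU⟩).app (stdOpen p chart ⟨U, hU⟩ t))).hom _ = _
    rw [IsIso.inv_hom_id]
    rfl
  rw [h3]
  apply TwistTriv.tfun_ext
  intro w
  refine Eq.trans (b := (Localization.mk (a : 𝒮.presheaf.obj (op U))
    ⟨(1 : 𝒮.presheaf.obj (op U)), TildeQC.one_not_mem w.1⟩ : GrTwist.Loc (𝒮.deg U hU) w.1)) rfl ?_
  refine Eq.trans ?_ (TwistTriv.tfun_smul (𝒮.deg U hU) (frac p chart ⟨U, hU⟩ t 1 a)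
    (res (GrTwist.twist (𝒮.deg U hU) 1) ((emb p chart U hU).preimage_mono hle)
      (oneSec U hU ((emb p chart U hU) ⁻¹ᵁ (p ⁻¹ᵁ U)) t)) w).symm
  change _ = (Localization.mk a.1 ⟨t.1 ^ 1, pow_notMem p chart ⟨U, hU⟩ t 1 w⟩ : GrTwist.Loc (𝒮.deg U hU) w.1) *
    (Localization.mk (t : 𝒮.presheaf.obj (op U))
      ⟨(1 : 𝒮.presheaf.obj (op U)), TildeQC.one_not_mem w.1⟩ : GrTwist.Loc (𝒮.deg U hU) w.1)
  rw [Localization.mk_mul, Localization.mk_eq_mk_iff, Localization.r_iff_exists]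
  refine ⟨1, ?_⟩
  simp only [OneMemClass.coe_one, one_mul, pow_one, mul_one, Submonoid.coe_mul]
  ring

end Groth.Agent.Lib.Helper3.VAF

namespace Groth.Agent.Lib.Helper3.VAF
open RelProj Groth.Agent.Lib.Helper3 Groth.Agent.Lib.Helper3.RelGlued Groth.Agent.Lib.Helper3.VASec
open Groth.Agent.Lib.Helper3.RelTilde (e)
open Groth.Agent.Lib.Helper29.QCoh (res IsTriv)
open Groth.Agent.Lib.Helper3.TildeQC

variable {X Y P : Scheme.{u}} {𝒮 : QCGrAlg Y} (p : P ⟶ Y)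
  (chart : ∀ (U : Y.Opens) (hU : IsAffineOpen U), (((p ⁻¹ᵁ U : P.Opens) : Scheme.{u}) ≅ Proj (𝒮.deg U hU)))
  {O1 : P.Modules}
  {lam : ∀ (U : Y.Opens) (hU : IsAffineOpen U),
      O1 ⟶ (Scheme.Modules.pushforward (emb p chart U hU)).obj (GrTwist.twist (𝒮.deg U hU) 1)}
  (hO1 : IsRelTwist 𝒮 p chart 1 O1 lam) (i : X ⟶ P) {A : X.Modules}
  (eA : A ≅ (Scheme.Modules.pullback i).obj O1)

/-- the degree one identity `σ(a) = i^♯(a/t) • σ(t)` over `i⁻¹ D_+(t)` -/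
theorem res_vaSec_eq (U : Y.Opens) (hU : IsAffineOpen U) (a t : 𝒮.deg U hU 1) (W : X.Opens)
    (hW : W ≤ i ⁻¹ᵁ stdOpen p chart ⟨U, hU⟩ t) :
    res A (hW.trans (i.preimage_mono (stdOpen_le p chart ⟨U, hU⟩ t))) (vaSec p chart hO1 i eA U hU a) =
      pb p chart ⟨U, hU⟩ t i W hW (frac p chart ⟨U, hU⟩ t 1 a) •
        res A (hW.trans (i.preimage_mono (stdOpen_le p chart ⟨U, hU⟩ t))) (vaSec p chart hO1 i eA U hU t) := by
  have := isIso_e_app p chart ⟨U, hU⟩ t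
  have hle := stdOpen_le p chart ⟨U, hU⟩ t
  have key : ∀ b : 𝒮.deg U hU 1, res A (hW.trans (i.preimage_mono hle)) (vaSec p chart hO1 i eA U hU b) =
      eA.inv.app W (res _ hW (QCoh.pullSect i O1 _ (res O1 hle (alpha p chart hO1 U hU b)))) := by
    intro b
    unfold vaSec
    rw [← QCoh.app_res eA.inv, QCoh.pullSect_res, QCoh.res_res]
  rw [key a, key t, res_alpha_eq p chart hO1 U hU a t, QCoh.pullSect_smul, QCoh.res_smul,
    QCoh.app_smul']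
  rfl

end Groth.Agent.Lib.Helper3.VAF
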