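import Groth.Agent.Lib.Helper3.VAF2
import Groth.Agent.Lib.Helper3.VAF3
import Groth.Agent.Lib.Helper3.RelTwistBCa
import Groth.Agent.Lib.Helper3.SymLine8
set_option autoImplicit false
set_option linter.unusedSectionVars false
universe u
open CategoryTheory CategoryTheory.Limits AlgebraicGeometry Opposite TopologicalSpace
open AlgebraicGeometry.Scheme.AffineZariskiSite
open scoped HomogeneousIdeal
open Groth.Agent.Lib.Helper29

namespace Groth.Agent.Lib.Helper3.VAF
open RelProj RelSpec Groth.Agent.Lib.Helper3 Groth.Agent.Lib.Helper3.RelGlued Groth.Agent.Lib.Helper3.VASec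
open Groth.Agent.Lib.Helper3.RelTilde (e)
open Groth.Agent.Lib.Helper29.QCoh (res IsTriv)
open Groth.Agent.Lib.Helper3.TildeQC Groth.Agent.Lib.Helper3.SymLine

variable {X Y P : Scheme.{u}} {𝒮 : QCGrAlg Y} (p : P ⟶ Y)
  (chart : ∀ (U : Y.Opens) (hU : IsAffineOpen U), (((p ⁻¹ᵁ U : P.Opens) : Scheme.{u}) ≅ Proj (𝒮.deg U hU)))
  {O1 : P.Modules}
  {lam : ∀ (U : Y.Opens) (hU : IsAffineOpen U),
      O1 ⟶ (Scheme.Modules.pushforward (emb p chart U hU)).obj (GrTwist.twist (𝒮.deg U hU) 1)}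
  (hO1 : IsRelTwist 𝒮 p chart 1 O1 lam) (hP : IsRelProj 𝒮 p chart) (i : X ⟶ P) {A : X.Modules}
  (eA : A ≅ (Scheme.Modules.pullback i).obj O1)

section fracs
variable (V : Y.AffineZariskiSite) (t : 𝒮.deg V.1 V.2 1)

theorem frac_add (n : ℕ) (a b : 𝒮.deg V.1 V.2 n) :
    frac p chart V t n (a + b) = frac p chart V t n a + frac p chart V t n b :=
  mkO_add _ _ a b _ _

theorem frac_mul (k n m : ℕ) (a : 𝒮.deg V.1 V.2 k) (b : 𝒮.deg V.1 V.2 n) (c : 𝒮.deg V.1 V.2 m)
    (h : c.1 = a.1 * b.1) (hm : m = k + n) :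
    frac p chart V t k a * frac p chart V t n b = frac p chart V t m c := by
  subst hm
  unfold frac
  rw [mkO_mul]
  refine mkO_eq_mkO _ _ _ _ _ _ _ _ ?_
  change t.1 ^ (k + n) * (a.1 * b.1) = (t.1 ^ k * t.1 ^ n) * c.1
  rw [h, pow_add]

include hP in
theorem frac_zero_str (r : Γ(Y, V.1)) :
    frac p chart V t 0 ⟨(𝒮.str.app (op V.1)).hom r, 𝒮.str_mem V.1 V.2 r⟩ =
      (e p chart V).app (stdOpen p chart V t)
        ((p.appLE V.1 (stdOpen p chart V t) (stdOpen_le p chart V t)).hom r) := by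
  apply ofun_ext
  intro y
  rw [RelTwistQ.ofun_e_app_appLE p chart hP V t r y, ofun_frac]
  exact congrArg (Localization.mk _) (Subtype.ext (pow_zero _))

include hP in
theorem pb_frac_zero_str (r : Γ(Y, V.1)) (W : X.Opens) (hW : W ≤ i ⁻¹ᵁ stdOpen p chart V t) :
    pb p chart V t i W hW (frac p chart V t 0 ⟨(𝒮.str.app (op V.1)).hom r, 𝒮.str_mem V.1 V.2 r⟩) =
      ((i ≫ p).appLE V.1 W (hW.trans (i.preimage_mono (stdOpen_le p chart V t)))).hom r := by
  rw [frac_zero_str p chart hP V t r]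
  unfold pb
  simp only [RingHom.comp_apply]
  have h1 : (inv ((e p chart V).app (stdOpen p chart V t))).hom
      (((e p chart V).app (stdOpen p chart V t))
        ((p.appLE V.1 (stdOpen p chart V t) (stdOpen_le p chart V t)).hom r)) =
      (p.appLE V.1 (stdOpen p chart V t) (stdOpen_le p chart V t)).hom r := by
    change (((e p chart V).app (stdOpen p chart V t)) ≫ inv ((e p chart V).app (stdOpen p chart V t))).hom _ = _
    rw [IsIso.hom_inv_id]; rfl
  rw [h1]
  exact congrArg (fun m => m.hom r) (Scheme.Hom.appLE_comp_appLE i p V.1 (stdOpen p chart V t) W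
    (stdOpen_le p chart V t) hW)

end fracs

end Groth.Agent.Lib.Helper3.VAF
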