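import Groth.Agent.Lib.Helper3.VAF4
set_option autoImplicit false
set_option linter.unusedSectionVars false
universe u
open CategoryTheory CategoryTheory.Limits AlgebraicGeometry Opposite TopologicalSpace
open AlgebraicGeometry.Scheme.AffineZariskiSite
open scoped HomogeneousIdeal
open Groth.Agent.Lib.Helper29

namespace Groth.Agent.Lib.Helper3.VAF
open RelProj RelSpec Groth.Agent.Lib.Helper3 Groth.Agent.Lib.Helper3.RelGlued Groth.Agent.Lib.Helper3.VASec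
open Groth.Agent.Lib.Helper3.RelTilde (e)
open Groth.Agent.Lib.Helper29.QCoh (res IsTriv)
open Groth.Agent.Lib.Helper3.TildeQC Groth.Agent.Lib.Helper3.SymLine

variable {X Y P : Scheme.{u}} {𝒮 : QCGrAlg Y} (p : P ⟶ Y)
  (chart : ∀ (U : Y.Opens) (hU : IsAffineOpen U), (((p ⁻¹ᵁ U : P.Opens) : Scheme.{u}) ≅ Proj (𝒮.deg U hU)))
  {O1 : P.Modules}
  {lam : ∀ (U : Y.Opens) (hU : IsAffineOpen U),
      O1 ⟶ (Scheme.Modules.pushforward (emb p chart U hU)).obj (GrTwist.twist (𝒮.deg U hU) 1)}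
  (hO1 : IsRelTwist 𝒮 p chart 1 O1 lam) (hP : IsRelProj 𝒮 p chart) (i : X ⟶ P) {A : X.Modules}
  (eA : A ≅ (Scheme.Modules.pullback i).obj O1)
  {E' : Y.Modules} [E'.IsQuasicoherent] {j' : E' ⟶ 𝒮.toModule} (hj' : IsGrSymAlg E' 𝒮 j')
  {𝒮L : QCGrAlg X} (jL : A ⟶ 𝒮L.toModule)
  {𝒜 : QCGrAlg Y} (jE : (Scheme.Modules.pushforward (i ≫ p)).obj A ⟶ 𝒜.toModule)
  (hjE1 : ∀ (U : Y.Opens) (hU : IsAffineOpen U) (x : Γ((Scheme.Modules.pushforward (i ≫ p)).obj A, U)),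
    (jE.app U) x ∈ 𝒜.deg U hU 1)
  (u : QGrHom (i ≫ p) 𝒜 𝒮L)
  (hu : ∀ (U : Y.Opens) (_ : IsAffineOpen U) (x : Γ((Scheme.Modules.pushforward (i ≫ p)).obj A, U)),
    (u.app U).hom ((jE.app U) x) = (jL.app ((i ≫ p) ⁻¹ᵁ U)) x)
  (V : Y.AffineZariskiSite)

theorem le_q (t : 𝒮.deg V.1 V.2 1) {W : X.Opens} (hW : W ≤ i ⁻¹ᵁ stdOpen p chart V t) :
    W ≤ (i ≫ p) ⁻¹ᵁ V.1 := hW.trans (i.preimage_mono (stdOpen_le p chart V t))

/-- the trivialising section `σ(t)` restricted to `W ⊆ i⁻¹D_+(t)`, in degree one of `𝒮L` -/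
noncomputable def ttσ (t : 𝒮.deg V.1 V.2 1) (W : X.Opens) (hW : W ≤ i ⁻¹ᵁ stdOpen p chart V t) :
    𝒮L.presheaf.obj (op W) :=
  jL.app W (res A (le_q p chart i V t hW) (vaSec p chart hO1 i eA V.1 V.2 t))

/-- `b ∈ 𝒜(U)_n` is related to `a ∈ 𝒮(U)_n`: `u(b) = i^♯(a/t^n) σ(t)^n` over `i⁻¹D_+(t)` for all `t` of degree one -/
def Rel (n : ℕ) (a : 𝒮.presheaf.obj (op V.1)) : Prop :=
  ∃ (ha : a ∈ 𝒮.deg V.1 V.2 n) (b : 𝒜.presheaf.obj (op V.1)) (_ : b ∈ 𝒜.deg V.1 V.2 n),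
    ∀ (t : 𝒮.deg V.1 V.2 1) (W : X.Opens) (hW : W ≤ i ⁻¹ᵁ stdOpen p chart V t),
      (u.appLE V.1 W (le_q p chart i V t hW)).hom b =
        (𝒮L.str.app (op W)).hom (pb p chart V t i W hW (frac p chart V t n ⟨a, ha⟩)) *
          ttσ p chart hO1 i eA jL V t W hW ^ n

include hP in
theorem rel_zero (r : Γ(Y, V.1)) : Rel p chart hO1 i eA jL u V 0 ((𝒮.str.app (op V.1)).hom r) := by
  refine ⟨𝒮.str_mem V.1 V.2 r, (𝒜.str.app (op V.1)).hom r, 𝒜.str_mem V.1 V.2 r, fun t W hW => ?_⟩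
  rw [pb_frac_zero_str p chart hP i V t r W hW, pow_zero, mul_one]
  exact congrArg (fun m => m.hom r) (u.toQHom.str_appLE V.1 W (le_q p chart i V t hW))

theorem rel_add (n : ℕ) (a b : 𝒮.presheaf.obj (op V.1))
    (ha : Rel p chart hO1 i eA jL u V n a) (hb : Rel p chart hO1 i eA jL u V n b) :
    Rel p chart hO1 i eA jL u V n (a + b) := by
  obtain ⟨ha, a', ha', h1⟩ := ha
  obtain ⟨hb, b', hb', h2⟩ := hb
  refine ⟨add_mem ha hb, a' + b', add_mem ha' hb', fun t W hW => ?_⟩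
  rw [map_add, h1 t W hW, h2 t W hW]
  have : frac p chart V t n ⟨a + b, add_mem ha hb⟩ =
      frac p chart V t n ⟨a, ha⟩ + frac p chart V t n ⟨b, hb⟩ := frac_add p chart V t n ⟨a, ha⟩ ⟨b, hb⟩
  rw [this, map_add, map_add, add_mul]

end Groth.Agent.Lib.Helper3.VAF
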