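import Groth.Agent.Lib.Helper3.VAF5
set_option autoImplicit false
set_option linter.unusedSectionVars false
universe u
open CategoryTheory CategoryTheory.Limits AlgebraicGeometry Opposite TopologicalSpace
open AlgebraicGeometry.Scheme.AffineZariskiSite
open scoped HomogeneousIdeal
open Groth.Agent.Lib.Helper29

namespace Groth.Agent.Lib.Helper3.VAF
open RelProj RelSpec Groth.Agent.Lib.Helper3 Groth.Agent.Lib.Helper3.RelGlued Groth.Agent.Lib.Helper3.VASec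
open Groth.Agent.Lib.Helper3.RelTilde (e)
open Groth.Agent.Lib.Helper29.QCoh (res IsTriv)
open Groth.Agent.Lib.Helper3.TildeQC Groth.Agent.Lib.Helper3.SymLine

variable {X Y P : Scheme.{u}} {𝒮 : QCGrAlg Y} (p : P ⟶ Y)
  (chart : ∀ (U : Y.Opens) (hU : IsAffineOpen U), (((p ⁻¹ᵁ U : P.Opens) : Scheme.{u}) ≅ Proj (𝒮.deg U hU)))
  {O1 : P.Modules}
  {lam : ∀ (U : Y.Opens) (hU : IsAffineOpen U),
      O1 ⟶ (Scheme.Modules.pushforward (emb p chart U hU)).obj (GrTwist.twist (𝒮.deg U hU) 1)}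
  (hO1 : IsRelTwist 𝒮 p chart 1 O1 lam) (hP : IsRelProj 𝒮 p chart) (i : X ⟶ P) {A : X.Modules}
  (eA : A ≅ (Scheme.Modules.pullback i).obj O1)
  {E' : Y.Modules} [E'.IsQuasicoherent] {j' : E' ⟶ 𝒮.toModule} (hj' : IsGrSymAlg E' 𝒮 j')
  {𝒮L : QCGrAlg X} (jL : A ⟶ 𝒮L.toModule)
  {𝒜 : QCGrAlg Y} (jE : (Scheme.Modules.pushforward (i ≫ p)).obj A ⟶ 𝒜.toModule)
  (hjE1 : ∀ (U : Y.Opens) (hU : IsAffineOpen U) (x : Γ((Scheme.Modules.pushforward (i ≫ p)).obj A, U)),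
    (jE.app U) x ∈ 𝒜.deg U hU 1)
  (u : QGrHom (i ≫ p) 𝒜 𝒮L)
  (hu : ∀ (U : Y.Opens) (_ : IsAffineOpen U) (x : Γ((Scheme.Modules.pushforward (i ≫ p)).obj A, U)),
    (u.app U).hom ((jE.app U) x) = (jL.app ((i ≫ p) ⁻¹ᵁ U)) x)
  (V : Y.AffineZariskiSite)

include hu in
/-- `u(jE σ(c)) = i^♯(c/t) σ(t)` -/
theorem appLE_jE_vaSec (c t : 𝒮.deg V.1 V.2 1) (W : X.Opens) (hW : W ≤ i ⁻¹ᵁ stdOpen p chart V t) :
    (u.appLE V.1 W (le_q p chart i V t hW)).hom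
        ((jE.app V.1) (show Γ((Scheme.Modules.pushforward (i ≫ p)).obj A, V.1) from
          vaSec p chart hO1 i eA V.1 V.2 c)) =
      (𝒮L.str.app (op W)).hom (pb p chart V t i W hW (frac p chart V t 1 c)) *
        ttσ p chart hO1 i eA jL V t W hW := by
  rw [QHom.appLE_eq]
  change (𝒮L.presheaf.map (homOfLE (le_q p chart i V t hW)).op).hom ((u.app V.1).hom _) = _
  rw [hu V.1 V.2]
  have h1 := (QCoh.app_res jL (le_q p chart i V t hW) (vaSec p chart hO1 i eA V.1 V.2 c)).symm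
  refine h1.trans ?_
  have h2 : res A (le_q p chart i V t hW) (vaSec p chart hO1 i eA V.1 V.2 c) =
      pb p chart V t i W hW (frac p chart V t 1 c) •
        res A (le_q p chart i V t hW) (vaSec p chart hO1 i eA V.1 V.2 t) :=
    res_vaSec_eq p chart hO1 i eA V.1 V.2 c t W hW
  rw [h2]
  exact Scheme.Modules.Hom.app_smul jL _ _

include hjE1 hu hj' in
theorem rel_mul (n : ℕ) (m : Γ(E', V.1)) (a : 𝒮.presheaf.obj (op V.1))
    (ha : Rel p chart hO1 i eA jL u V n a) :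
    Rel p chart hO1 i eA jL u V (n + 1) ((show 𝒮.presheaf.obj (op V.1) from j'.app V.1 m) * a) := by
  obtain ⟨ha, b, hb, h1⟩ := ha
  let c : 𝒮.deg V.1 V.2 1 := ⟨j'.app V.1 m, hj'.2 V.1 V.2 m⟩
  let x : Γ((Scheme.Modules.pushforward (i ≫ p)).obj A, V.1) := vaSec p chart hO1 i eA V.1 V.2 c
  have hmem : c.1 * a ∈ 𝒮.deg V.1 V.2 (n + 1) := by
    have := SetLike.mul_mem_graded c.2 ha
    rwa [add_comm] at this
  have hmem' : (show 𝒜.presheaf.obj (op V.1) from jE.app V.1 x) * b ∈ 𝒜.deg V.1 V.2 (n + 1) := by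
    have := SetLike.mul_mem_graded
      (show (show 𝒜.presheaf.obj (op V.1) from jE.app V.1 x) ∈ 𝒜.deg V.1 V.2 1 from hjE1 V.1 V.2 x) hb
    rwa [add_comm] at this
  refine ⟨hmem, (show 𝒜.presheaf.obj (op V.1) from jE.app V.1 x) * b, hmem', fun t W hW => ?_⟩
  rw [map_mul, h1 t W hW, appLE_jE_vaSec p chart hO1 i eA jL jE u hu V c t W hW]
  have h3 := frac_mul p chart V t 1 n (n + 1) c ⟨a, ha⟩ ⟨c.1 * a, hmem⟩ rfl (add_comm n 1)
  rw [← h3, map_mul, map_mul, pow_succ]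
  ring

include hP hjE1 hu hj' in
/-- **every homogeneous element of `𝒮(U)` has a related element of `𝒜(U)` of the same degree** -/
theorem rel_of_mem (n : ℕ) (a : 𝒮.presheaf.obj (op V.1)) (ha : a ∈ 𝒮.deg V.1 V.2 n) :
    Rel p chart hO1 i eA jL u V n a :=
  SymQC.homog_induction hj' V.1 V.2 (fun n a => Rel p chart hO1 i eA jL u V n a)
    (rel_zero p chart hO1 hP i eA jL u V)
    (rel_add p chart hO1 i eA jL u V)
    (rel_mul p chart hO1 i eA hj' jL jE hjE1 u hu V) n a ha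

end Groth.Agent.Lib.Helper3.VAF
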