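import Groth.Agent.Lib.Helper3.VAF1
set_option autoImplicit false
set_option linter.unusedSectionVars false
universe u
open CategoryTheory CategoryTheory.Limits AlgebraicGeometry Opposite TopologicalSpace
open AlgebraicGeometry.Scheme.AffineZariskiSite
open scoped HomogeneousIdeal
open Groth.Agent.Lib.Helper29

namespace Groth.Agent.Lib.Helper3.VAF
open RelProj RelSpec Groth.Agent.Lib.Helper3 Groth.Agent.Lib.Helper3.RelGlued Groth.Agent.Lib.Helper3.VASec
open Groth.Agent.Lib.Helper3.RelTilde (e)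
open Groth.Agent.Lib.Helper29.QCoh (res IsTriv)
open Groth.Agent.Lib.Helper3.TildeQC

variable {X Y P : Scheme.{u}} {𝒮 : QCGrAlg Y} (p : P ⟶ Y)
  (chart : ∀ (U : Y.Opens) (hU : IsAffineOpen U), (((p ⁻¹ᵁ U : P.Opens) : Scheme.{u}) ≅ Proj (𝒮.deg U hU)))
  (i : X ⟶ P) (V : Y.AffineZariskiSite) (t : 𝒮.deg V.1 V.2 1)

theorem mem_basicOpen_pb_iff (W : X.Opens) (hW : W ≤ i ⁻¹ᵁ stdOpen p chart V t)
    (g : Γ(Proj (𝒮.deg V.1 V.2), e p chart V ⁻¹ᵁ stdOpen p chart V t)) (z : X) (hz : z ∈ W) :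
    z ∈ X.basicOpen (pb p chart V t i W hW g) ↔
      ∃ y : Proj (𝒮.deg V.1 V.2), y ∈ (Proj (𝒮.deg V.1 V.2)).basicOpen g ∧ (e p chart V).base y = i.base z := by
  set f : Γ(P, stdOpen p chart V t) := (inv ((e p chart V).app (stdOpen p chart V t))).hom g with hf
  have hfg : (e p chart V).app (stdOpen p chart V t) f = g := by
    change ((inv ((e p chart V).app (stdOpen p chart V t))) ≫ ((e p chart V).app (stdOpen p chart V t))).hom g = g
    rw [IsIso.inv_hom_id]; rfl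
  have h1 : X.basicOpen (pb p chart V t i W hW g) = W ⊓ i ⁻¹ᵁ (P.basicOpen f) :=
    Scheme.basicOpen_appLE i W (stdOpen p chart V t) hW f
  have h2 : (e p chart V) ⁻¹ᵁ P.basicOpen f = (Proj (𝒮.deg V.1 V.2)).basicOpen g := by
    rw [Scheme.preimage_basicOpen, hfg]
  rw [h1]
  constructor
  · rintro ⟨-, hz2⟩
    have hz3 : i.base z ∈ stdOpen p chart V t := P.basicOpen_le f hz2
    have hz3' : i.base z ∈ (e p chart V) ''ᵁ Proj.basicOpen (𝒮.deg V.1 V.2) t.1 := by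
      unfold stdOpen at hz3; exact hz3
    obtain ⟨y, -, hy⟩ := hz3'
    refine ⟨y, ?_, hy⟩
    rw [← h2]
    exact Set.mem_of_eq_of_mem (s := (P.basicOpen f : Set P)) hy hz2
  · rintro ⟨y, hy, hyz⟩
    refine ⟨hz, ?_⟩
    rw [← h2] at hy
    exact Set.mem_of_eq_of_mem (s := (P.basicOpen f : Set P)) hyz.symm hy

/-- `i^♯(a/t^n)` is invertible exactly over `i⁻¹ D_+(a)` -/
theorem mem_basicOpen_pb_frac_iff (W : X.Opens) (hW : W ≤ i ⁻¹ᵁ stdOpen p chart V t) (n : ℕ)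
    (a : 𝒮.deg V.1 V.2 n) (z : X) (hz : z ∈ W) :
    z ∈ X.basicOpen (pb p chart V t i W hW (frac p chart V t n a)) ↔ i.base z ∈ stdOpen p chart V a := by
  rw [mem_basicOpen_pb_iff p chart i V t W hW _ z hz]
  unfold frac
  rw [basicOpen_mkO]
  constructor
  · rintro ⟨y, ⟨-, hy⟩, hyz⟩
    unfold stdOpen
    exact ⟨y, hy, hyz⟩
  · intro hza
    have hza' : i.base z ∈ (e p chart V) ''ᵁ Proj.basicOpen (𝒮.deg V.1 V.2) a.1 := by
      unfold stdOpen at hza; exact hza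
    obtain ⟨y, hy, hyz⟩ := hza'
    refine ⟨y, ⟨?_, hy⟩, hyz⟩
    exact Set.mem_of_eq_of_mem (s := (stdOpen p chart V t : Set P)) hyz (hW hz)

theorem isUnit_pb_frac (W : X.Opens) (hW : W ≤ i ⁻¹ᵁ stdOpen p chart V t) (n : ℕ)
    (a : 𝒮.deg V.1 V.2 n) (hWa : W ≤ i ⁻¹ᵁ stdOpen p chart V a) :
    IsUnit (pb p chart V t i W hW (frac p chart V t n a)) := by
  have h := (QCoh.isUnit_rres_iff (le_refl W) (pb p chart V t i W hW (frac p chart V t n a))).mpr
    (fun z hz => (mem_basicOpen_pb_frac_iff p chart i V t W hW n a z hz).mpr (hWa hz))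
  have h2 : QCoh.rres X (le_refl W) (pb p chart V t i W hW (frac p chart V t n a)) =
      pb p chart V t i W hW (frac p chart V t n a) := by
    change (X.presheaf.map (𝟙 _)).hom _ = _
    rw [X.presheaf.map_id]; rfl
  rwa [h2] at h

end Groth.Agent.Lib.Helper3.VAF
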