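import Groth.Agent.Lib.Helper3.CanMapIso
import Groth.Agent.Lib.Helper3.ProjBundleEpi
import Groth.Agent.Lib.Helper29.PullSect
import Groth.Agent.Lib.Helper29.Twist3
import Mathlib.GroupTheory.CosetCover
/-!
# Sections of a very ample module attached to degree one elements; a section generating at finitely many points over an infinite field
-/
set_option autoImplicit false
set_option linter.unusedSectionVars false
universe u
open CategoryTheory CategoryTheory.Limits AlgebraicGeometry Opposite TopologicalSpace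
open AlgebraicGeometry.Scheme.AffineZariskiSite
open scoped HomogeneousIdeal
open Groth.Agent.Lib.Helper29

namespace Groth.Agent.Lib.Helper3.VASec
open RelProj Groth.Agent.Lib.Helper3 Groth.Agent.Lib.Helper3.RelGlued
open Groth.Agent.Lib.Helper29.QCoh (res IsTriv)

variable {X Y P : Scheme.{u}} {𝒮 : QCGrAlg Y} (p : P ⟶ Y)
  (chart : ∀ (U : Y.Opens) (hU : IsAffineOpen U), (((p ⁻¹ᵁ U : P.Opens) : Scheme.{u}) ≅ Proj (𝒮.deg U hU)))
  {O1 : P.Modules}
  {lam : ∀ (U : Y.Opens) (hU : IsAffineOpen U),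
      O1 ⟶ (Scheme.Modules.pushforward (emb p chart U hU)).obj (GrTwist.twist (𝒮.deg U hU) 1)}
  (hO1 : IsRelTwist 𝒮 p chart 1 O1 lam) (i : X ⟶ P) {A : X.Modules}
  (eA : A ≅ (Scheme.Modules.pullback i).obj O1)

/-- the section of `A ≅ i^*O(1)` over `i⁻¹p⁻¹U` attached to a degree one element of `𝒮(U)` -/
noncomputable def vaSec (U : Y.Opens) (hU : IsAffineOpen U) (t : 𝒮.deg U hU 1) : Γ(A, i ⁻¹ᵁ (p ⁻¹ᵁ U)) :=
  eA.inv.app _ (QCoh.pullSect i O1 (p ⁻¹ᵁ U) (alpha p chart hO1 U hU t))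

/-- it trivialises `A` over the preimage of the standard open `D_+(t)` -/
theorem isTriv_res_vaSec (U : Y.Opens) (hU : IsAffineOpen U) (t : 𝒮.deg U hU 1) :
    IsTriv A (i ⁻¹ᵁ stdOpen p chart ⟨U, hU⟩ t)
      (res A (i.preimage_mono (stdOpen_le p chart ⟨U, hU⟩ t)) (vaSec p chart hO1 i eA U hU t)) := by
  have h1 := isTriv_res_alpha p chart hO1 U hU t
  have h2 := QCoh.IsTriv.pullSect i h1
  rw [QCoh.pullSect_res] at h2
  have h3 := h2.of_iso eA.symm
  have h4 := QCoh.app_res eA.inv (i.preimage_mono (stdOpen_le p chart ⟨U, hU⟩ t))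
    (QCoh.pullSect i O1 (p ⁻¹ᵁ U) (alpha p chart hO1 U hU t))
  unfold vaSec
  rw [← h4]
  exact h3

end Groth.Agent.Lib.Helper3.VASec

open CategoryTheory CategoryTheory.Limits AlgebraicGeometry Opposite TopologicalSpace
open AlgebraicGeometry.Scheme.AffineZariskiSite
open scoped HomogeneousIdeal
open Groth.Agent.Lib.Helper29

namespace Groth.Agent.Lib.Helper3.VASec
open RelProj Groth.Agent.Lib.Helper3 Groth.Agent.Lib.Helper3.RelGlued
open Groth.Agent.Lib.Helper29.QCoh (res IsTriv)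

theorem exists_section_genLocus
    (k : Type u) [Field k] [Infinite k] (Y : Scheme.{u}) (f : Y ⟶ Spec (CommRingCat.of k))
    (A : Y.Modules) (hA : RelProj.IsRelVeryAmple f A)
    (ι : Type) [Finite ι] (y : ι → ↥Y) :
    ∃ s : Coh.structureModule Y ⟶ A, ∀ i : ι, y i ∈ CohB1.genLocus A s := by
  classical
  obtain ⟨E, hE, 𝒮, j, hj, P, p, chart, hP, O1, lam, hO1, i, hi, hip, ⟨eA⟩⟩ := hA
  have : E.IsQuasicoherent := hE
  have htop : IsAffineOpen (⊤ : (Spec (CommRingCat.of k)).Opens) := isAffineOpen_top _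
  -- the points in the chart
  have hy : ∀ n : ι, ∃ yy : Proj (𝒮.deg ⊤ htop), (RelTilde.e p chart ⟨⊤, htop⟩).base yy = i.base (y n) := fun n =>
    RelTilde.exists_of_mem_R p chart ⟨⊤, htop⟩ (i.base (y n)) trivial
  choose yy hyy using hy
  -- vector space structure
  let ρ : k →+* Γ(Spec (CommRingCat.of k), ⊤) := (Scheme.ΓSpecIso (CommRingCat.of k)).inv.hom
  let _ : Module k Γ(E, ⊤) := Module.compHom _ ρ
  let tt : Γ(E, ⊤) → 𝒮.presheaf.obj (op ⊤) := fun e => (j.app ⊤ e : 𝒮.presheaf.obj (op ⊤))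
  have htt : ∀ e, tt e ∈ 𝒮.deg ⊤ htop 1 := fun e => hj.2 ⊤ htop e
  let W : ι → Submodule k Γ(E, ⊤) := fun n =>
    { carrier := {e | tt e ∈ (yy n).asHomogeneousIdeal}
      add_mem' := fun {a b} ha hb => by
        change tt (a + b) ∈ (yy n).asHomogeneousIdeal
        have : tt (a + b) = tt a + tt b := map_add (j.app ⊤).hom a b
        rw [this]
        exact Ideal.add_mem _ ha hb
      zero_mem' := by
        change tt 0 ∈ (yy n).asHomogeneousIdeal
        have : tt 0 = 0 := map_zero (j.app ⊤).hom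
        rw [this]
        exact Ideal.zero_mem _
      smul_mem' := fun c {a} ha => by
        change tt (ρ c • a) ∈ (yy n).asHomogeneousIdeal
        have : tt (ρ c • a) = (𝒮.str.app (op ⊤)).hom (ρ c) * tt a :=
          Scheme.Modules.Hom.app_smul j (ρ c) a
        rw [this]
        exact Ideal.mul_mem_left _ _ ha }
  have hne : ∀ n, W n ≠ ⊤ := by
    intro n hn
    obtain ⟨g, ⟨e, rfl⟩, hg⟩ := ChartInv.exists_notMem_of_closure (𝒮.deg ⊤ htop)
      (Set.range (fun m : Γ(E, ⊤) => (show 𝒮.presheaf.obj (op ⊤) from (j.app ⊤) m)))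
      (by rintro _ ⟨m, rfl⟩; exact hj.2 ⊤ htop m)
      (RelGlued.closure_range_of_isGrSymAlg E 𝒮 j hj ⊤ htop) (yy n)
    have : e ∈ W n := hn ▸ Submodule.mem_top
    exact hg this
  have hcov : ⋃ n, (W n : Set Γ(E, ⊤)) ≠ Set.univ := by
    intro hc
    obtain ⟨n, hn⟩ := Subspace.exists_eq_top_of_iUnion_eq_univ hc
    exact hne n hn
  obtain ⟨e₀, he₀⟩ := (Set.ne_univ_iff_exists_notMem _).mp hcov
  have he₀' : ∀ n, tt e₀ ∉ (yy n).asHomogeneousIdeal := fun n hn =>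
    he₀ (Set.mem_iUnion.mpr ⟨n, hn⟩)
  let t₀ : 𝒮.deg ⊤ htop 1 := ⟨tt e₀, htt e₀⟩
  let σ : Γ(A, ⊤) := res A (show (⊤ : Y.Opens) ≤ i ⁻¹ᵁ (p ⁻¹ᵁ ⊤) from fun _ _ => trivial)
    (vaSec p chart hO1 i eA ⊤ htop t₀)
  refine ⟨QCoh.homOfSection A σ, fun n => ?_⟩
  have hT := isTriv_res_vaSec p chart hO1 i eA ⊤ htop t₀
  have hmem : y n ∈ i ⁻¹ᵁ stdOpen p chart ⟨⊤, htop⟩ t₀ := by
    change i.base (y n) ∈ stdOpen p chart ⟨⊤, htop⟩ t₀
    rw [← hyy n]
    exact (mem_stdOpen p chart ⟨⊤, htop⟩ t₀ (yy n)).mpr (he₀' n)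
  refine QCoh.le_genLocus_of_isTriv_sval (QCoh.homOfSection A σ) ?_ hmem
  rw [QCoh.sval_homOfSection]
  have : res A (le_top : i ⁻¹ᵁ stdOpen p chart ⟨⊤, htop⟩ t₀ ≤ ⊤) σ =
      res A (i.preimage_mono (stdOpen_le p chart ⟨⊤, htop⟩ t₀)) (vaSec p chart hO1 i eA ⊤ htop t₀) :=
    QCoh.res_res A _ _ _
  rw [this]
  exact hT

end Groth.Agent.Lib.Helper3.VASec
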