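import Groth.Agent.Lib.Helper3.ZMTFinite
/-!
# Factorisation of a quasi-compact open immersion into an affine scheme over `S`
through an affine scheme of finite type over `S` (EGA II 5.1.9)
-/
universe u
open CategoryTheory CategoryTheory.Limits AlgebraicGeometry Opposite TopologicalSpace
open Groth.Agent.Lib.Helper29.QCoh RelSpec

namespace Groth.Agent.Lib.Helper3

set_option backward.isDefEq.respectTransparency false in
theorem QCAlg.locallyOfFiniteType_π {S : Scheme.{u}} (C : QCAlg S)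
    (hC : ∀ U : S.affineOpens, (C.str.app (op U.1)).hom.FiniteType) :
    LocallyOfFiniteType C.π := by
  rw [IsZariskiLocalAtTarget.iff_of_iSup_eq_top (P := @LocallyOfFiniteType) _
    (iSup_affineOpens_eq_top _)]
  intro U
  let e := IsOpenImmersion.isoOfRangeEq (C.π ⁻¹ᵁ U).ι (C.ι U.1 U.2)
      (by simpa using congr($(C.π_preimage U.1 U.2).1))
  rw [← MorphismProperty.cancel_left_of_respectsIso @LocallyOfFiniteType e.inv,
    ← MorphismProperty.cancel_right_of_respectsIso @LocallyOfFiniteType _ U.2.isoSpec.hom]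
  convert! (HasRingHomProperty.Spec_iff (P := @LocallyOfFiniteType)).mpr (hC U)
  rw [← cancel_mono U.2.fromSpec]
  simp [IsAffineOpen.isoSpec_hom, e, C.ι_π]

set_option backward.isDefEq.respectTransparency false in
theorem exists_finiteType_factorization_of_openImmersion {S N X : Scheme.{u}} [CompactSpace S]
    [QuasiSeparatedSpace S] (g₀ : N ⟶ S) [IsAffineHom g₀] (j : X ⟶ N) [IsOpenImmersion j]
    [QuasiCompact (j ≫ g₀)] [LocallyOfFiniteType (j ≫ g₀)] :
    ∃ (T : Scheme.{u}) (h : N ⟶ T) (π : T ⟶ S), IsAffineHom π ∧ LocallyOfFiniteType π ∧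
      h ≫ π = g₀ ∧ IsOpenImmersion (j ≫ h) := by
  classical
  set B := QCAlg.directImage g₀ with hB
  obtain ⟨n, V, hV, -, hcov⟩ := exists_finite_affine_cover
    (X := S) (U := ⊤) (by simpa using (CompactSpace.isCompact_univ : IsCompact (Set.univ : Set S)))
  have hNk : ∀ k, IsAffineOpen (g₀ ⁻¹ᵁ V k) := fun k => (hV k).preimage g₀
  -- Step 2
  have h2 : ∀ k, ∃ F : Finset Γ(N, g₀ ⁻¹ᵁ V k),
      (∀ c ∈ F, N.basicOpen c ≤ j.opensRange ⊓ g₀ ⁻¹ᵁ V k) ∧
        j.opensRange ⊓ g₀ ⁻¹ᵁ V k ≤ ⨆ c ∈ F, N.basicOpen c := by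
    intro k
    refine exists_finset_basicOpen_cover (hNk k) _ inf_le_right ?_
    have h1 : IsCompact (((j ≫ g₀) ⁻¹ᵁ V k : X.Opens) : Set X) :=
      (j ≫ g₀).isCompact_preimage (hV k).isCompact
    have h3 : (j.opensRange ⊓ g₀ ⁻¹ᵁ V k : N.Opens) = j ''ᵁ ((j ≫ g₀) ⁻¹ᵁ V k) := by
      rw [Scheme.Hom.comp_preimage, Scheme.Hom.image_preimage_eq_opensRange_inf]
    rw [h3]
    exact h1.image j.continuous
  choose F hF1 hF2 using h2
  -- Step 3
  have h3 : ∀ k (c : Γ(N, g₀ ⁻¹ᵁ V k)), ∃ D : Finset Γ(N, g₀ ⁻¹ᵁ V k),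
      N.basicOpen c ≤ j.opensRange → ∀ s : Γ(N, g₀ ⁻¹ᵁ V k), ∃ e : ℕ,
        c ^ e * s ∈ Subring.closure (Set.range (g₀.app (V k)).hom ∪
          insert c (D : Set Γ(N, g₀ ⁻¹ᵁ V k))) := by
    intro k c
    by_cases hc : N.basicOpen c ≤ j.opensRange
    · obtain ⟨-, hs, hk⟩ := basicOpen_loc_aux (hNk k) c rfl (N.basicOpen_le c)
      have hft : ((N.presheaf.map (homOfLE (N.basicOpen_le c)).op).hom.comp
          (g₀.app (V k)).hom).FiniteType :=
        finiteType_appLE_of_openImmersion g₀ j (hV k) ((hNk k).basicOpen c) hc (N.basicOpen_le c)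
      obtain ⟨D, hD⟩ := exists_finset_forall_pow_mul_mem_closure (g₀.app (V k)).hom
        (N.presheaf.map (homOfLE (N.basicOpen_le c)).op).hom c hs hk hft
      exact ⟨D, fun _ => hD⟩
    · exact ⟨∅, fun h => absurd h hc⟩
  choose D hD using h3
  -- Step 4: the finite family of sections
  let G : ∀ k, Finset Γ(N, g₀ ⁻¹ᵁ V k) := fun k => F k ∪ (F k).biUnion (D k)
  obtain ⟨A, hAqc, hAfin, hAb⟩ := exists_finiteType_subAlgSh_through_sections (X := S)
    hasFTThrough_of_qcqs B (ι := Σ k : Fin n, {b // b ∈ G k}) (fun i => V i.1)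
    (fun i => hV i.1) (fun i => i.2.1)
  have hAF : ∀ k, ∀ c ∈ F k, (show B.presheaf.obj (op (V k)) from c) ∈ A.carrier (V k) :=
    fun k c hc => hAb ⟨k, ⟨c, Finset.mem_union_left _ hc⟩⟩
  have hAD : ∀ k, ∀ c ∈ F k, ∀ d ∈ D k c,
      (show B.presheaf.obj (op (V k)) from d) ∈ A.carrier (V k) := fun k c hc d hd =>
    hAb ⟨k, ⟨d, Finset.mem_union_right _ (Finset.mem_biUnion.mpr ⟨c, hc, hd⟩)⟩⟩
  set C' := A.toQCAlg hAqc with hC'
  set ω : C'.presheaf ⟶ g₀.base _* N.presheaf := (A.incl hAqc).hom with hω'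
  have hω : C'.str ≫ ω = g₀.c := (A.incl hAqc).comm
  set h := QCAlg.lift C' g₀ ω with hh
  have hπ : h ≫ C'.π = g₀ := QCAlg.lift_π C' g₀ ω hω
  refine ⟨C'.spec, h, C'.π, inferInstance, ?_, hπ, ?_⟩
  · -- finite type
    refine QCAlg.locallyOfFiniteType_π C' (fun U => ?_)
    obtain ⟨Sfin, hS⟩ := hAfin U.1 U.2
    exact finiteType_codRestrict_closure (strB B U.1) (A.carrier U.1) _ Sfin hS
  · have hAff : IsAffineHom h := by
      apply MorphismProperty.of_postcomp (W := @IsAffineHom) (W' := @IsSeparated) _ C'.π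
      · infer_instance
      · rw [hπ]; infer_instance
    have hTk : ∀ k, IsAffineOpen (C'.π ⁻¹ᵁ V k) := fun k => (hV k).preimage C'.π
    have hN : ∀ k, g₀ ⁻¹ᵁ V k = h ⁻¹ᵁ (C'.π ⁻¹ᵁ V k) := fun k => by
      rw [← Scheme.Hom.comp_preimage, hπ]
    have happ : ∀ k, h.appLE (C'.π ⁻¹ᵁ V k) (g₀ ⁻¹ᵁ V k) (hN k).le =
        C'.gammaAff (V k) (hV k) ≫ ω.app (op (V k)) :=
      fun k => QCAlg.lift_appLE C' g₀ ω hω (V k) (hV k)
    have hγ : ∀ k, Function.Bijective (C'.gammaAff (V k) (hV k)).hom := fun k => by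
      have := isIso_gammaAff C' (V k) (hV k)
      exact ConcreteCategory.bijective_of_isIso _
    have hsec : ∀ k (a : Γ(N, g₀ ⁻¹ᵁ V k)),
        (show B.presheaf.obj (op (V k)) from a) ∈ A.carrier (V k) →
        ∃ τ : Γ(C'.spec, C'.π ⁻¹ᵁ V k),
          (h.appLE (C'.π ⁻¹ᵁ V k) (g₀ ⁻¹ᵁ V k) (hN k).le).hom τ = a := by
      intro k a ha
      obtain ⟨τ, hτ⟩ := (hγ k).2 ⟨a, ha⟩
      refine ⟨τ, ?_⟩
      rw [happ k, CommRingCat.hom_comp, RingHom.comp_apply, hτ]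
      rfl
    have hinj : ∀ k, Function.Injective
        (h.appLE (C'.π ⁻¹ᵁ V k) (g₀ ⁻¹ᵁ V k) (hN k).le).hom := by
      intro k
      rw [happ k, CommRingCat.hom_comp, RingHom.coe_comp]
      exact (A.inclHom_injective (V k)).comp (hγ k).1
    choose! t ht using fun (k : Fin n) (c : Γ(N, g₀ ⁻¹ᵁ V k)) (hc : c ∈ F k) =>
      hsec k c (hAF k c hc)
    have hiso : ∀ k, ∀ c ∈ F k, IsIso (h ∣_ C'.spec.basicOpen (t k c)) := by
      intro k c hc
      refine isIso_morphismRestrict_basicOpen_of_appLE h (hTk k) (hN k) (t k c) (hinj k)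
        (fun s => ?_)
      rw [ht k c hc]
      obtain ⟨e, he⟩ := hD k c ((hF1 k c hc).trans inf_le_left) s
      have hle : Subring.closure (Set.range (g₀.app (V k)).hom ∪
          insert c (D k c : Set Γ(N, g₀ ⁻¹ᵁ V k))) ≤ A.carrier (V k) := by
        rw [Subring.closure_le]
        rintro x (⟨r, rfl⟩ | hx)
        · exact A.str_mem (V k) r
        · rcases hx with rfl | hx
          · exact hAF k _ hc
          · exact hAD k c hc x hx
      obtain ⟨τ, hτ⟩ := hsec k _ (hle he)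
      exact ⟨e, τ, hτ.symm⟩
    have hpre : ∀ k, ∀ c ∈ F k, h ⁻¹ᵁ (C'.spec.basicOpen (t k c)) = N.basicOpen c := by
      intro k c hc
      have h5 := Scheme.basicOpen_appLE h (g₀ ⁻¹ᵁ V k) (C'.π ⁻¹ᵁ V k) (hN k).le (t k c)
      have h6 : (h.appLE (C'.π ⁻¹ᵁ V k) (g₀ ⁻¹ᵁ V k) (hN k).le) (t k c) = c := ht k c hc
      rw [h6] at h5
      rw [h5, eq_comm, inf_eq_right]
      exact (h.preimage_mono (C'.spec.basicOpen_le _)).trans (hN k).ge
    let W : C'.spec.Opens :=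
      ⨆ i : (Σ k : Fin n, {c // c ∈ F k}), C'.spec.basicOpen (t i.1 i.2.1)
    have hWiso : IsIso (h ∣_ W) :=
      isIso_morphismRestrict_iSup h _ (fun i => hiso i.1 i.2.1 i.2.2)
    have hWpre : h ⁻¹ᵁ W = j.opensRange := by
      apply le_antisymm
      · intro x hx
        obtain ⟨i, hi⟩ := Opens.mem_iSup.mp (show h x ∈ W from hx)
        have h7 : x ∈ h ⁻¹ᵁ (C'.spec.basicOpen (t i.1 i.2.1)) := hi
        rw [hpre i.1 i.2.1 i.2.2] at h7
        exact (hF1 i.1 i.2.1 i.2.2 h7).1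
      · intro x hx
        have hx' : g₀ x ∈ iSup V := hcov trivial
        obtain ⟨k, hk⟩ := Opens.mem_iSup.mp hx'
        have h8 := hF2 k ⟨hx, hk⟩
        simp only [Opens.mem_iSup] at h8
        obtain ⟨c, hc, hxc⟩ := h8
        have h9 : x ∈ h ⁻¹ᵁ (C'.spec.basicOpen (t k c)) := by rw [hpre k c hc]; exact hxc
        exact Opens.mem_iSup.mpr ⟨⟨k, ⟨c, hc⟩⟩, h9⟩
    let e := IsOpenImmersion.isoOfRangeEq j (h ⁻¹ᵁ W).ι
      (by rw [Scheme.Opens.range_ι, hWpre]; rfl)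
    have hfac : j ≫ h = e.hom ≫ (h ∣_ W) ≫ W.ι := by
      rw [morphismRestrict_ι, ← Category.assoc, IsOpenImmersion.isoOfRangeEq_hom_fac]
    rw [hfac]
    infer_instance



end Groth.Agent.Lib.Helper3
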