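import Mathlib.RingTheory.FiniteType
import Mathlib.RingTheory.RingHom.FiniteType
import Mathlib.RingTheory.RingHom.Integral
import Mathlib.RingTheory.RingHom.Finite
import Mathlib.RingTheory.Localization.Away.Basic
/-!
# Algebraic lemmas for the finite form of Zariski's main theorem
-/

namespace Groth.Agent.Lib.Helper3

theorem exists_finset_closure_eq_top' {R A : Type*} [CommRing R] [CommRing A] (φ : R →+* A)
    (h : φ.FiniteType) : ∃ S : Finset A, Subring.closure (Set.range φ ∪ (S : Set A)) = ⊤ := by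
  let _ := φ.toAlgebra
  have h' : Algebra.FiniteType R A := h
  obtain ⟨S, hS⟩ := h'.out
  refine ⟨S, ?_⟩
  have := congrArg Subalgebra.toSubring hS
  rw [Algebra.adjoin_eq_ring_closure] at this
  exact this

/-- If a "localization" `L` of `A` at `c` is of finite type over `R`, there is a finite subset
`D` of `A` such that every element of `A` is, up to a power of `c`, in the subring generated by
`R`, `D` and `c`. -/
theorem exists_finset_forall_pow_mul_mem_closure {R A L : Type*} [CommRing R] [CommRing A]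
    [CommRing L] (φ : R →+* A) (ρ : A →+* L) (c : A)
    (hs : ∀ y : L, ∃ (n : ℕ) (a : A), y * ρ c ^ n = ρ a)
    (hk : ∀ a : A, ρ a = 0 → ∃ m : ℕ, c ^ m * a = 0)
    (hft : (ρ.comp φ).FiniteType) :
    ∃ D : Finset A, ∀ s : A, ∃ e : ℕ,
      c ^ e * s ∈ Subring.closure (Set.range φ ∪ insert c (D : Set A)) := by
  classical
  obtain ⟨G, hG⟩ := exists_finset_closure_eq_top' _ hft
  choose n a hna using hs
  refine ⟨G.image a, fun s => ?_⟩
  set B₀ := Subring.closure (Set.range φ ∪ insert c ((G.image a : Finset A) : Set A)) with hB₀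
  have hc : c ∈ B₀ := Subring.subset_closure (Or.inr (Set.mem_insert _ _))
  have key : ∀ y : L, ∃ (k : ℕ) (b : A), b ∈ B₀ ∧ y * ρ c ^ k = ρ b := by
    intro y
    have hy : y ∈ Subring.closure (Set.range (ρ.comp φ) ∪ (G : Set L)) := by rw [hG]; trivial
    induction hy using Subring.closure_induction with
    | mem x hx =>
      rcases hx with ⟨r, rfl⟩ | hx
      · exact ⟨0, φ r, Subring.subset_closure (Or.inl ⟨r, rfl⟩), by simp⟩
      · refine ⟨n x, a x, Subring.subset_closure (Or.inr ?_), hna x⟩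
        refine Set.mem_insert_of_mem _ ?_
        simp only [Finset.coe_image, Set.mem_image, Finset.mem_coe]
        exact ⟨x, hx, rfl⟩
    | zero => exact ⟨0, 0, Subring.zero_mem _, by simp⟩
    | one => exact ⟨0, 1, Subring.one_mem _, by simp⟩
    | add x y _ _ hx hy =>
      obtain ⟨k₁, b₁, hb₁, e₁⟩ := hx
      obtain ⟨k₂, b₂, hb₂, e₂⟩ := hy
      refine ⟨k₁ + k₂, b₁ * c ^ k₂ + b₂ * c ^ k₁, Subring.add_mem _
        (Subring.mul_mem _ hb₁ (Subring.pow_mem _ hc _))
        (Subring.mul_mem _ hb₂ (Subring.pow_mem _ hc _)), ?_⟩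
      rw [map_add, map_mul, map_mul, map_pow, map_pow, ← e₁, ← e₂, pow_add]
      ring
    | neg x _ hx =>
      obtain ⟨k, b, hb, e⟩ := hx
      exact ⟨k, -b, Subring.neg_mem _ hb, by rw [neg_mul, e, map_neg]⟩
    | mul x y _ _ hx hy =>
      obtain ⟨k₁, b₁, hb₁, e₁⟩ := hx
      obtain ⟨k₂, b₂, hb₂, e₂⟩ := hy
      refine ⟨k₁ + k₂, b₁ * b₂, Subring.mul_mem _ hb₁ hb₂, ?_⟩
      rw [map_mul, ← e₁, ← e₂, pow_add]
      ring
  obtain ⟨k, b, hb, e⟩ := key (ρ s)
  have h0 : ρ (s * c ^ k - b) = 0 := by rw [map_sub, map_mul, map_pow, e, sub_self]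
  obtain ⟨m, hm⟩ := hk _ h0
  refine ⟨m + k, ?_⟩
  have : c ^ (m + k) * s = c ^ m * b := by
    rw [mul_sub, sub_eq_zero] at hm
    rw [← hm, pow_add]
    ring
  rw [this]
  exact Subring.mul_mem _ (Subring.pow_mem _ hc _) hb

/-- A criterion for the map induced on "localizations" to be bijective. -/
theorem bijective_of_localization_aux {A₁ A₂ L₁ L₂ : Type*} [CommRing A₁] [CommRing A₂]
    [CommRing L₁] [CommRing L₂] (φ : A₁ →+* A₂) (ρ₁ : A₁ →+* L₁) (ρ₂ : A₂ →+* L₂)
    (Φ : L₁ →+* L₂) (hcomm : ∀ a, Φ (ρ₁ a) = ρ₂ (φ a)) (t : A₁)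
    (hu₁ : IsUnit (ρ₁ t)) (hs₁ : ∀ x : L₁, ∃ (n : ℕ) (a : A₁), x * ρ₁ t ^ n = ρ₁ a)
    (hs₂ : ∀ y : L₂, ∃ (n : ℕ) (s : A₂), y * ρ₂ (φ t) ^ n = ρ₂ s)
    (hk₂ : ∀ s : A₂, ρ₂ s = 0 → ∃ m : ℕ, φ t ^ m * s = 0)
    (hφ : Function.Injective φ) (hgen : ∀ s : A₂, ∃ (e : ℕ) (a : A₁), φ t ^ e * s = φ a) :
    Function.Bijective Φ := by
  constructor
  · rw [injective_iff_map_eq_zero]
    intro x hx
    obtain ⟨n, a, hxa⟩ := hs₁ x
    have h1 : ρ₂ (φ a) = 0 := by
      rw [← hcomm, ← hxa, map_mul, hx, zero_mul]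
    obtain ⟨m, hm⟩ := hk₂ _ h1
    have h2 : t ^ m * a = 0 := by
      apply hφ
      rw [map_mul, map_pow, hm, map_zero]
    have h3 : ρ₁ a = 0 := by
      have := congrArg ρ₁ h2
      rw [map_mul, map_pow, map_zero] at this
      exact ((hu₁.pow m).mul_right_eq_zero).mp this
    rw [h3] at hxa
    exact ((hu₁.pow n).mul_left_eq_zero).mp hxa
  · intro y
    obtain ⟨n, s, hys⟩ := hs₂ y
    obtain ⟨e, a, hsa⟩ := hgen s
    obtain ⟨u, hu⟩ := (hu₁.pow (n + e)).exists_right_inv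
    refine ⟨ρ₁ a * u, ?_⟩
    have hu' : ρ₂ (φ t) ^ (n + e) * Φ u = 1 := by
      rw [← hcomm, ← map_pow, ← map_mul, hu, map_one]
    have h1 : y * ρ₂ (φ t) ^ (n + e) = ρ₂ (φ a) := by
      rw [← hsa, map_mul, map_pow, ← hys, pow_add]
      ring
    rw [map_mul, hcomm, ← h1, mul_assoc, hu', mul_one]

/-- A subring of an integral extension, containing the base and finitely generated over it, is
finite. -/
theorem finite_codRestrict_closure {R A : Type*} [CommRing R] [CommRing A] (φ : R →+* A)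
    (hφi : φ.IsIntegral) (C : Subring A) (hφ : ∀ r, φ r ∈ C)
    (hft : (φ.codRestrict C hφ).FiniteType) : (φ.codRestrict C hφ).Finite := by
  refine RingHom.IsIntegral.to_finite ?_ hft
  intro x
  obtain ⟨p, hp, hpx⟩ := hφi x.1
  refine ⟨p, hp, ?_⟩
  apply Subtype.ext
  have : (C.subtype.comp (φ.codRestrict C hφ)) = φ := RingHom.ext fun r => rfl
  have h2 := Polynomial.hom_eval₂ p (φ.codRestrict C hφ) C.subtype x
  rw [this] at h2
  exact h2.trans hpx

end Groth.Agent.Lib.Helper3
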