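import Groth.Agent.Lib.Helper3.ZMTFinite
/-!
# Finite form of ZMT: immersion version (EGA IV 8.12.3-ish)
-/
universe u
open CategoryTheory CategoryTheory.Limits AlgebraicGeometry Opposite TopologicalSpace

namespace Groth.Agent.Lib.Helper3

/-- Finite form of ZMT for immersions into integral schemes over a qcqs base. -/
theorem exists_finite_factorization_of_immersion {S N X : Scheme.{u}} [CompactSpace S]
    [QuasiSeparatedSpace S] (g₀ : N ⟶ S) [IsIntegralHom g₀] (j : X ⟶ N) [IsImmersion j]
    [QuasiCompact j] [QuasiCompact (j ≫ g₀)] [LocallyOfFiniteType (j ≫ g₀)] :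
    ∃ (T : Scheme.{u}) (j' : X ⟶ T) (π : T ⟶ S), IsFinite π ∧ j' ≫ π = j ≫ g₀ ∧
      IsOpenImmersion j' := by
  have e : j.toImage ≫ j.imageι ≫ g₀ = j ≫ g₀ := by rw [Scheme.Hom.toImage_imageι_assoc]
  have h1 : QuasiCompact (j.toImage ≫ j.imageι ≫ g₀) := by rw [e]; infer_instance
  have h2 : LocallyOfFiniteType (j.toImage ≫ j.imageι ≫ g₀) := by rw [e]; infer_instance
  obtain ⟨T, h, π, hfin, hπ, hopen⟩ :=
    exists_finite_factorization_of_openImmersion (j.imageι ≫ g₀) j.toImage
  exact ⟨T, j.toImage ≫ h, π, hfin, by rw [Category.assoc, hπ, e], hopen⟩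

theorem exists_immersion_finite_fac_iff {X Y : Scheme.{u}} (f : X ⟶ Y)
    [CompactSpace Y] [QuasiSeparatedSpace Y] [IsSeparated f] [LocallyOfFiniteType f]
    [QuasiCompact f] :
    (∃ (Y' : Scheme.{u}) (f' : X ⟶ Y') (u : Y' ⟶ Y), IsImmersion f' ∧ IsFinite u ∧ f' ≫ u = f) ↔
      IsImmersion f.toNormalization := by
  constructor
  · rintro ⟨Y', f', u, hf', hu, rfl⟩
    have : IsImmersion ((f' ≫ u).toNormalization ≫ (f' ≫ u).normalizationDesc f' u rfl) := by
      rw [Scheme.Hom.toNormalization_normalizationDesc]; exact hf'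
    exact IsImmersion.of_comp _ ((f' ≫ u).normalizationDesc f' u rfl)
  · intro hj
    have e : f.toNormalization ≫ f.fromNormalization = f := f.toNormalization_fromNormalization
    have h1 : QuasiCompact (f.toNormalization ≫ f.fromNormalization) := by rw [e]; infer_instance
    have h2 : LocallyOfFiniteType (f.toNormalization ≫ f.fromNormalization) := by
      rw [e]; infer_instance
    obtain ⟨T, j', π, hfin, hπ, hopen⟩ :=
      exists_finite_factorization_of_immersion f.fromNormalization f.toNormalization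
    exact ⟨T, j', π, inferInstance, hfin, by rw [hπ, e]⟩

end Groth.Agent.Lib.Helper3
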